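import Cfsg.Agent.Lib.Helper28.S1687.Certs

set_option autoImplicit false
set_option maxRecDepth 100000

namespace Cfsg.Agent.Helper28.S1687

open Cfsg.Agent.Helper28
open Cfsg.Spor.Fi22 (Gen)

noncomputable section

def hw_0 : HWord rels S := ⟨subW_0, subH_0⟩
def hwi_0 : HWord rels S := ⟨[(Gen.a, false)], hword_inv rels S subW_0 subH_0⟩
def hw_1 : HWord rels S := ⟨subW_1, subH_1⟩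
def hwi_1 : HWord rels S := ⟨[(Gen.c, false)], hword_inv rels S subW_1 subH_1⟩
def hw_2 : HWord rels S := ⟨subW_2, subH_2⟩
def hwi_2 : HWord rels S := ⟨[(Gen.d, false)], hword_inv rels S subW_2 subH_2⟩
def hw_3 : HWord rels S := ⟨subW_3, subH_3⟩
def hwi_3 : HWord rels S := ⟨[(Gen.e, false)], hword_inv rels S subW_3 subH_3⟩
def hw_4 : HWord rels S := ⟨subW_4, subH_4⟩
def hwi_4 : HWord rels S := ⟨[(Gen.f, false)], hword_inv rels S subW_4 subH_4⟩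
def hw_5 : HWord rels S := ⟨subW_5, subH_5⟩
def hwi_5 : HWord rels S := ⟨[(Gen.g, false)], hword_inv rels S subW_5 subH_5⟩
def hw_6 : HWord rels S := ⟨subW_6, subH_6⟩
def hwi_6 : HWord rels S := ⟨[(Gen.h, false)], hword_inv rels S subW_6 subH_6⟩
def hw_7 : HWord rels S := ⟨subW_7, subH_7⟩
def hwi_7 : HWord rels S := ⟨[(Gen.i, false)], hword_inv rels S subW_7 subH_7⟩
def hw_8 : HWord rels S := ⟨subW_8, subH_8⟩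
def hwi_8 : HWord rels S := ⟨[(Gen.h, false), (Gen.e, false), (Gen.d, false), (Gen.c, false), (Gen.b, false), (Gen.a, false), (Gen.h, false), (Gen.e, false), (Gen.d, false), (Gen.c, false), (Gen.b, false), (Gen.a, false), (Gen.h, false), (Gen.e, false), (Gen.d, false), (Gen.c, false), (Gen.b, false), (Gen.a, false), (Gen.h, false), (Gen.e, false), (Gen.d, false), (Gen.c, false), (Gen.b, false), (Gen.a, false), (Gen.h, false), (Gen.e, false), (Gen.d, false), (Gen.c, false), (Gen.b, false), (Gen.a, false)], hword_inv rels S subW_8 subH_8⟩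
def lab_0 : D2 → D3 → Nat := @D2.rec (fun _ => D3 → Nat) (@D3.rec (fun _ => Nat) 0 1 1 1 1 1 2 1 1 1 2 1 1 1 1 1 2 2) (@D3.rec (fun _ => Nat) 2 1 1 1 1 1 1 1 2 2 2 2 2 1 1 1 1 1) (@D3.rec (fun _ => Nat) 1 1 1 1 2 2 2 2 2 2 2 2 2 1 1 1 1 1) (@D3.rec (fun _ => Nat) 1 1 1 1 1 2 1 1 2 2 2 2 2 2 2 2 2 1) (@D3.rec (fun _ => Nat) 1 1 1 1 1 1 1 1 1 2 1 1 1 1 2 1 2 2) (@D3.rec (fun _ => Nat) 2 2 2 2 2 2 2 2 1 1 1 1 1 1 1 1 2 1) (@D3.rec (fun _ => Nat) 1 1 1 1 2 2 1 1 1 1 2 1 2 2 2 2 2 2) (@D3.rec (fun _ => Nat) 1 1 1 1 1 1 1 1 1 1 2 2 1 1 1 1 1 1) (@D3.rec (fun _ => Nat) 2 2 2 1 1 1 1 1 2 1 2 2 2 2 2 1 1 1) (@D3.rec (fun _ => Nat) 1 1 1 1 1 1 1 1 1 2 2 2 2 1 1 1 1 1) (@D3.rec (fun _ => Nat) 1 1 1 2 2 2 2 2 1 1 1 1 1 2 2 1 2 2) (@D3.rec (fun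 _ => Nat) 2 1 1 1 1 1 1 1 1 1 1 1 1 1 1 2 2 2) (@D3.rec (fun _ => Nat) 2 2 2 2 1 1 1 1 1 1 1 1 1 1 2 2 2 2) (@D3.rec (fun _ => Nat) 2 2 2 1 1 1 1 1 1 2 2 1 2 2 2 1 1 1) (@D3.rec (fun _ => Nat) 1 1 1 1 1 1 1 1 1 1 1 1 1 1 2 2 2 2)
def lab_1 : D2 → D3 → Nat := @D2.rec (fun _ => D3 → Nat) (@D3.rec (fun _ => Nat) 2 2 2 2 2 2 2 2 1 1 1 1 1 1 1 1 1 1) (@D3.rec (fun _ => Nat) 1 1 1 2 2 2 2 2 2 2 2 2 1 1 1 1 1 1) (@D3.rec (fun _ => Nat) 1 1 2 2 2 2 2 1 1 1 1 1 1 1 1 1 1 1) (@D3.rec (fun _ => Nat) 1 1 1 1 1 1 1 1 1 1 1 2 2 2 2 2 2 2) (@D3.rec (fun _ => Nat) 2 2 2 2 2 2 2 2 2 2 1 1 1 1 1 1 1 1) (@D3.rec (fun _ => Nat) 1 1 1 1 1 1 1 1 1 2 2 2 2 2 2 2 1 2) (@D3.rec (fun _ => Nat) 2 2 2 2 1 1 1 1 1 1 1 1 1 2 2 2 2 2) (@D3.rec (fun _ => Nat) 1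 1 1 1 1 1 1 1 1 1 1 1 1 1 1 1 1 1) (@D3.rec (fun _ => Nat) 1 1 1 1 1 1 1 1 1 1 2 2 2 2 2 2 2 2) (@D3.rec (fun _ => Nat) 2 2 2 2 2 2 2 2 2 2 2 2 1 2 2 2 2 2) (@D3.rec (fun _ => Nat) 1 1 1 1 1 1 1 1 1 1 1 1 1 1 1 1 1 1) (@D3.rec (fun _ => Nat) 1 1 1 1 2 2 2 2 2 2 2 2 1 2 2 1 1 2) (@D3.rec (fun _ => Nat) 2 2 2 2 2 1 1 1 1 1 1 1 1 1 1 1 2 1) (@D3.rec (fun _ => Nat) 2 1 1 1 1 1 1 1 1 1 1 1 1 1 1 1 1 1) (@D3.rec (fun _ => Nat) 1 1 1 1 1 1 1 1 1 1 1 1 1 1 1 1 1 2)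
def lab_2 : D2 → D3 → Nat := @D2.rec (fun _ => D3 → Nat) (@D3.rec (fun _ => Nat) 2 2 2 2 2 2 2 2 2 2 2 2 2 2 2 2 2 2) (@D3.rec (fun _ => Nat) 1 2 2 1 2 2 1 1 2 2 2 2 2 2 1 1 1 1) (@D3.rec (fun _ => Nat) 1 1 1 1 1 1 1 1 1 1 1 1 1 1 1 1 1 1) (@D3.rec (fun _ => Nat) 1 1 1 1 1 1 1 2 2 2 1 2 2 1 2 2 1 1) (@D3.rec (fun _ => Nat) 2 2 2 1 1 1 2 2 2 2 1 1 1 1 1 1 1 1) (@D3.rec (fun _ => Nat) 1 1 1 1 1 1 2 2 1 1 1 1 1 1 1 1 1 1) (@D3.rec (fun _ => Nat) 1 1 1 1 1 1 1 1 1 1 1 1 1 1 1 1 1 1) (@D3.rec (fun _ => Nat) 1 1 1 1 1 1 1 1 1 1 2 2 2 2 2 2 2 2) (@D3.rec (fun _ => Nat) 2 2 1 2 2 2 2 2 2 2 2 1 2 2 1 2 2 1) (@D3.rec (fun _ => Nat) 1 2 2 2 1 1 2 2 2 1 1 1 2 2 2 2 2 2) (@D3.rec (fun _ => Nat) 2 1 1 1 1 1 1 1 1 1 1 1 1 1 1 1 1 1) (@D3.rec (fun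 _ => Nat) 1 1 1 1 1 1 1 1 1 1 1 1 1 1 1 1 1 1) (@D3.rec (fun _ => Nat) 1 1 2 1 2 1 1 2 2 1 1 2 2 2 1 1 1 2) (@D3.rec (fun _ => Nat) 2 2 1 1 1 1 1 2 1 1 1 1 1 1 1 1 1 1) (@D3.rec (fun _ => Nat) 2 1 1 1 1 1 1 1 1 1 1 1 1 1 1 1 1 1)
def lab_3 : D2 → D3 → Nat := @D2.rec (fun _ => D3 → Nat) (@D3.rec (fun _ => Nat) 1 1 1 1 1 1 1 1 1 1 1 1 1 1 1 1 1 2) (@D3.rec (fun _ => Nat) 2 2 2 2 2 2 1 2 2 2 1 2 2 1 1 2 2 2) (@D3.rec (fun _ => Nat) 2 2 2 1 2 2 1 2 2 1 1 2 2 2 1 1 2 2) (@D3.rec (fun _ => Nat) 2 1 1 1 2 2 2 1 1 1 2 2 2 1 1 1 1 1) (@D3.rec (fun _ => Nat) 2 2 2 2 2 2 1 1 1 1 1 1 1 1 1 1 1 1) (@D3.rec (fun _ => Nat) 1 1 1 1 1 1 1 1 1 1 1 1 1 1 1 1 1 1) (@D3.rec (fun _ => Nat) 1 1 1 1 1 1 1 1 1 1 1 1 1 1 1 1 1 2) (@D3.rec (fun _ => Nat) 1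 1 1 2 2 1 1 1 2 2 2 1 1 1 1 1 1 2) (@D3.rec (fun _ => Nat) 1 1 1 1 1 1 1 1 1 1 1 1 1 1 1 1 1 1) (@D3.rec (fun _ => Nat) 1 1 1 1 1 1 1 1 1 1 1 1 1 1 1 1 2 2) (@D3.rec (fun _ => Nat) 2 2 1 2 2 2 2 1 2 2 1 1 2 2 2 1 1 1) (@D3.rec (fun _ => Nat) 2 2 1 1 1 2 2 2 2 2 1 2 2 1 1 2 2 2) (@D3.rec (fun _ => Nat) 1 1 2 2 2 1 1 1 2 2 2 1 1 1 2 2 2 1) (@D3.rec (fun _ => Nat) 1 1 1 1 1 2 2 2 2 1 1 1 1 1 1 2 2 2) (@D3.rec (fun _ => Nat) 2 1 1 1 1 1 1 1 2 2 2 1 1 1 1 1 1 1)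
def lab_4 : D2 → D3 → Nat := @D2.rec (fun _ => D3 → Nat) (@D3.rec (fun _ => Nat) 1 1 1 1 1 1 1 1 1 1 1 1 1 1 1 1 1 1) (@D3.rec (fun _ => Nat) 1 1 1 1 1 1 1 1 1 1 1 1 1 1 1 1 1 1) (@D3.rec (fun _ => Nat) 1 1 1 1 1 1 1 1 1 1 1 2 2 1 1 1 1 2) (@D3.rec (fun _ => Nat) 1 1 1 1 1 1 1 1 1 1 1 1 1 1 1 1 1 1) (@D3.rec (fun _ => Nat) 1 1 1 1 1 1 1 1 1 1 1 1 1 2 2 1 2 2) (@D3.rec (fun _ => Nat) 1 1 2 2 2 1 2 1 1 2 2 1 1 1 2 2 2 1) (@D3.rec (fun _ => Nat) 1 1 1 2 1 1 1 1 1 1 2 2 2 2 2 2 1 2) (@D3.rec (fun _ => Nat) 2 2 1 1 1 2 2 2 1 1 1 2 2 2 1 1 1 1) (@D3.rec (fun _ => Nat) 1 1 2 2 2 2 1 1 1 1 1 1 2 2 2 2 1 1) (@D3.rec (fun _ => Nat) 1 1 1 1 1 1 1 1 2 2 1 1 1 1 1 1 1 1) (@D3.rec (fun _ => Nat) 1 1 2 2 2 2 1 1 1 1 1 1 2 2 1 1 1 1) (@D3.rec (fun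 _ => Nat) 1 1 1 1 1 1 1 1 1 1 1 1 1 1 1 1 1 1) (@D3.rec (fun _ => Nat) 1 1 1 1 1 1 1 1 1 1 1 1 1 1 1 1 1 1) (@D3.rec (fun _ => Nat) 1 1 1 1 1 1 1 1 1 1 1 1 1 1 1 1 1 1) (@D3.rec (fun _ => Nat) 1 1 1 1 1 1 1 1 1 1 1 1 1 1 1 2 2 2)
def lab_5 : D2 → D3 → Nat := @D2.rec (fun _ => D3 → Nat) (@D3.rec (fun _ => Nat) 1 2 2 1 1 1 2 2 2 1 1 2 1 1 1 2 2 1) (@D3.rec (fun _ => Nat) 1 1 1 1 1 2 2 2 2 1 1 1 1 2 1 1 1 1) (@D3.rec (fun _ => Nat) 1 1 1 1 1 1 2 2 2 2 2 2 2 1 1 2 2 2) (@D3.rec (fun _ => Nat) 1 1 1 1 1 1 2 2 2 2 1 1 1 1 1 1 2 2) (@D3.rec (fun _ => Nat) 2 2 1 1 1 1 1 1 1 1 1 1 2 2 2 2 1 1) (@D3.rec (fun _ => Nat) 1 1 1 2 2 1 1 1 1 1 1 2 1 1 1 1 1 1) (@D3.rec (fun _ => Nat) 1 1 1 1 1 1 1 1 1 2 2 2 2 1 1 1 2 1) (@D3.rec (fun _ => Nat) 1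 1 1 1 1 1 1 1 1 1 1 1 1 1 1 1 1 1) (@D3.rec (fun _ => Nat) 1 1 1 1 1 1 1 1 1 1 1 1 1 1 1 1 1 1) (@D3.rec (fun _ => Nat) 1 1 1 1 1 1 1 1 1 1 1 1 2 2 2 1 1 2) (@D3.rec (fun _ => Nat) 2 1 1 1 1 1 1 2 2 2 2 1 1 2 1 1 1 1) (@D3.rec (fun _ => Nat) 1 2 2 2 1 1 1 1 1 1 1 1 1 1 2 2 2 2) (@D3.rec (fun _ => Nat) 1 1 1 1 1 1 1 1 1 1 1 2 2 2 2 2 2 1) (@D3.rec (fun _ => Nat) 1 1 1 2 2 2 2 1 1 1 1 1 1 1 1 1 1 2) (@D3.rec (fun _ => Nat) 2 2 2 1 1 1 1 1 1 1 1 1 2 2 2 2 1 1)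
def lab_6 : D2 → D3 → Nat := @D2.rec (fun _ => D3 → Nat) (@D3.rec (fun _ => Nat) 1 1 1 1 1 1 1 1 1 1 1 1 1 1 2 2 2 2) (@D3.rec (fun _ => Nat) 2 1 1 1 1 1 1 1 1 2 1 1 1 1 1 1 1 1) (@D3.rec (fun _ => Nat) 1 1 1 1 1 1 1 1 1 1 1 2 2 2 1 1 1 1) (@D3.rec (fun _ => Nat) 1 1 1 1 1 1 1 1 1 1 1 1 1 1 1 1 1 1) (@D3.rec (fun _ => Nat) 1 1 1 1 1 1 1 1 1 1 1 1 1 1 1 2 2 2) (@D3.rec (fun _ => Nat) 2 1 1 1 2 2 2 1 1 1 1 1 1 1 1 1 1 2) (@D3.rec (fun _ => Nat) 2 2 2 1 1 1 2 1 1 1 1 1 1 1 1 2 2 1) (@D3.rec (fun _ => Nat) 1 1 1 1 1 1 1 1 1 1 1 1 1 1 1 2 2 2) (@D3.rec (fun _ => Nat) 2 2 1 1 1 1 1 1 1 1 2 2 2 2 2 2 1 1) (@D3.rec (fun _ => Nat) 1 1 1 1 2 2 2 2 1 1 1 1 1 1 1 1 1 1) (@D3.rec (fun _ => Nat) 1 1 1 1 1 1 2 2 2 2 2 1 1 1 1 1 1 1) (@D3.rec (fun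 _ => Nat) 1 1 1 1 1 1 1 1 2 2 2 2 1 1 1 1 1 1) (@D3.rec (fun _ => Nat) 1 1 1 1 1 1 1 1 1 1 1 1 1 1 1 1 2 2) (@D3.rec (fun _ => Nat) 2 1 1 1 1 1 1 1 1 1 1 1 1 1 1 1 1 1) (@D3.rec (fun _ => Nat) 1 1 1 1 1 1 1 1 1 2 1 1 1 1 1 1 1 1)
def lab_7 : D2 → D3 → Nat := @D2.rec (fun _ => D3 → Nat) (@D3.rec (fun _ => Nat) 1 1 1 1 1 1 1 1 1 1 1 1 1 1 1 1 1 1) (@D3.rec (fun _ => Nat) 1 1 1 1 2 2 2 2 1 1 1 1 1 2 2 1 1 1) (@D3.rec (fun _ => Nat) 1 1 1 1 1 1 1 1 1 1 1 1 1 2 2 2 2 2) (@D3.rec (fun _ => Nat) 1 1 1 1 1 1 1 1 1 1 1 1 1 1 1 1 2 1) (@D3.rec (fun _ => Nat) 1 1 1 1 1 1 1 1 1 1 1 1 1 1 1 1 1 1) (@D3.rec (fun _ => Nat) 1 1 1 1 1 2 2 2 2 2 1 1 1 1 1 2 1 2) (@D3.rec (fun _ => Nat) 2 2 2 1 1 1 1 1 1 1 1 2 2 2 2 1 1 1) (@D3.rec (fun _ => Nat) 1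 1 1 1 1 1 1 1 1 1 1 1 1 1 1 1 1 1) (@D3.rec (fun _ => Nat) 1 1 1 2 2 2 2 2 1 1 1 1 1 1 1 1 1 1) (@D3.rec (fun _ => Nat) 1 1 1 1 1 1 1 2 2 1 1 1 1 1 1 1 1 1) (@D3.rec (fun _ => Nat) 1 1 1 1 1 1 1 1 1 1 1 1 1 1 1 2 1 1) (@D3.rec (fun _ => Nat) 1 1 1 1 1 1 1 1 1 1 1 1 1 1 1 1 1 1) (@D3.rec (fun _ => Nat) 1 1 1 1 1 1 1 1 1 1 1 1 1 1 1 1 1 1) (@D3.rec (fun _ => Nat) 1 2 1 1 1 1 1 1 1 1 1 1 1 1 2 2 2 2) (@D3.rec (fun _ => Nat) 1 1 1 1 1 1 2 2 1 1 1 1 1 1 1 1 1 1)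
def lab_8 : D2 → D3 → Nat := @D2.rec (fun _ => D3 → Nat) (@D3.rec (fun _ => Nat) 1 1 1 1 1 1 1 1 1 1 1 1 1 1 2 2 2 2) (@D3.rec (fun _ => Nat) 2 2 1 1 1 1 1 1 1 1 1 1 1 1 1 1 1 1) (@D3.rec (fun _ => Nat) 1 1 1 1 1 1 1 1 1 1 1 1 1 1 1 1 1 1) (@D3.rec (fun _ => Nat) 1 1 1 1 1 1 1 1 1 1 1 1 1 1 1 1 1 1) (@D3.rec (fun _ => Nat) 2 2 2 1 2 1 1 1 1 1 2 2 2 2 1 1 1 1) (@D3.rec (fun _ => Nat) 1 1 1 1 1 2 2 2 2 1 1 1 1 1 1 1 1 1) (@D3.rec (fun _ => Nat) 1 1 1 1 1 1 1 1 1 1 1 1 1 1 1 1 1 1) (@D3.rec (fun _ => Nat) 1 1 1 1 1 2 2 1 2 2 1 1 1 1 1 1 1 1) (@D3.rec (fun _ => Nat) 1 1 1 1 1 1 1 1 1 1 1 1 1 1 1 1 1 1) (@D3.rec (fun _ => Nat) 1 1 1 1 1 1 1 1 1 1 1 1 1 1 1 1 1 1) (@D3.rec (fun _ => Nat) 1 1 1 1 1 1 1 1 1 1 1 1 1 1 1 1 1 1) (@D3.rec (fun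 _ => Nat) 1 1 1 1 1 1 2 1 1 1 1 1 1 1 1 1 1 1) (@D3.rec (fun _ => Nat) 1 1 2 2 2 2 1 1 1 1 1 1 1 2 1 1 1 1) (@D3.rec (fun _ => Nat) 1 1 1 1 1 1 1 1 1 1 1 1 1 1 1 1 1 1) (@D3.rec (fun _ => Nat) 1 1 1 1 1 1 1 1 1 1 1 1 1 1 2 2 2 2)
def lab_9 : D2 → D3 → Nat := @D2.rec (fun _ => D3 → Nat) (@D3.rec (fun _ => Nat) 1 2 2 2 1 1 1 1 1 1 1 1 1 1 1 1 1 1) (@D3.rec (fun _ => Nat) 1 1 1 1 1 1 1 1 1 1 1 1 1 1 1 1 1 1) (@D3.rec (fun _ => Nat) 1 1 1 1 1 1 1 1 1 1 1 1 1 1 1 1 1 1) (@D3.rec (fun _ => Nat) 1 1 1 1 1 1 1 1 2 1 1 1 1 2 2 2 2 1) (@D3.rec (fun _ => Nat) 1 1 1 1 1 1 1 1 2 1 2 2 1 1 1 1 1 1) (@D3.rec (fun _ => Nat) 1 1 1 1 1 1 1 1 1 1 1 1 1 1 1 1 1 1) (@D3.rec (fun _ => Nat) 1 1 1 1 1 1 1 1 1 1 2 1 1 2 1 1 1 1) (@D3.rec (fun _ => Nat) 1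 1 1 1 1 1 1 1 1 1 1 1 1 1 1 1 1 1) (@D3.rec (fun _ => Nat) 1 1 1 1 1 1 1 1 1 1 1 1 1 1 1 1 1 1) (@D3.rec (fun _ => Nat) 1 1 1 1 1 1 1 1 1 1 1 1 1 1 1 1 2 2) (@D3.rec (fun _ => Nat) 1 1 1 1 1 1 1 1 1 1 1 1 1 1 2 2 1 2) (@D3.rec (fun _ => Nat) 2 1 1 1 1 1 1 1 1 2 1 1 1 1 1 1 1 1) (@D3.rec (fun _ => Nat) 1 1 1 1 1 1 1 1 1 1 1 1 1 1 1 1 1 1) (@D3.rec (fun _ => Nat) 1 1 1 1 1 1 1 1 1 1 1 1 1 1 1 1 1 1) (@D3.rec (fun _ => Nat) 1 2 2 1 2 2 1 1 2 2 2 1 1 1 1 1 1 1)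
def lab_10 : D2 → D3 → Nat := @D2.rec (fun _ => D3 → Nat) (@D3.rec (fun _ => Nat) 1 1 1 1 1 1 1 1 1 1 1 1 1 1 1 1 1 1) (@D3.rec (fun _ => Nat) 1 1 1 1 1 1 1 1 1 1 1 1 1 1 1 1 1 1) (@D3.rec (fun _ => Nat) 1 1 1 1 1 1 1 1 1 1 1 1 1 1 1 1 1 1) (@D3.rec (fun _ => Nat) 1 2 1 2 2 1 1 1 1 1 1 1 1 1 1 2 1 1) (@D3.rec (fun _ => Nat) 2 1 1 1 1 1 1 1 1 1 1 1 1 1 1 1 1 1) (@D3.rec (fun _ => Nat) 1 1 1 1 1 1 1 1 1 1 1 1 1 1 1 1 1 1) (@D3.rec (fun _ => Nat) 1 1 1 1 1 1 1 1 1 1 1 1 1 1 1 1 1 1) (@D3.rec (fun _ => Nat) 1 1 1 1 1 1 1 1 1 1 1 1 1 1 1 1 1 1) (@D3.rec (fun _ => Nat) 1 1 1 1 1 1 1 1 1 1 1 2 2 2 1 1 1 1) (@D3.rec (fun _ => Nat) 1 1 1 1 1 1 1 1 1 1 1 2 2 1 1 2 1 1) (@D3.rec (fun _ => Nat) 1 1 1 1 1 1 1 1 1 1 1 1 1 1 1 1 1 1) (@D3.rec (fun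 _ => Nat) 1 1 1 1 1 1 1 1 1 1 1 1 1 1 1 1 1 1) (@D3.rec (fun _ => Nat) 1 1 1 1 1 1 1 1 1 1 1 1 1 1 1 1 1 1) (@D3.rec (fun _ => Nat) 1 1 2 2 1 2 1 1 2 1 1 1 1 1 1 1 1 1) (@D3.rec (fun _ => Nat) 1 1 1 1 1 1 1 1 1 1 1 1 1 1 1 1 1 1)
def lab_11 : D2 → D3 → Nat := @D2.rec (fun _ => D3 → Nat) (@D3.rec (fun _ => Nat) 1 1 1 1 1 1 1 1 1 1 1 1 1 1 1 1 1 1) (@D3.rec (fun _ => Nat) 1 1 1 1 1 1 1 1 1 1 1 1 1 1 1 1 2 1) (@D3.rec (fun _ => Nat) 2 1 1 1 1 1 1 1 1 1 1 1 1 1 1 1 1 1) (@D3.rec (fun _ => Nat) 1 1 1 1 1 1 1 1 1 1 1 1 1 1 1 1 1 1) (@D3.rec (fun _ => Nat) 1 1 1 1 1 1 1 1 1 1 1 1 1 1 1 1 1 1) (@D3.rec (fun _ => Nat) 1 1 1 1 1 1 1 1 1 1 1 1 1 1 1 1 1 1) (@D3.rec (fun _ => Nat) 1 1 1 1 1 1 1 2 2 2 1 1 1 1 1 1 1 1) (@D3.rec (fun _ => Nat)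 1 1 1 1 2 1 1 2 1 1 1 1 1 1 1 1 1 1) (@D3.rec (fun _ => Nat) 1 1 1 1 1 1 1 1 1 1 1 1 1 1 1 1 1 1) (@D3.rec (fun _ => Nat) 1 1 1 1 1 1 1 1 1 1 1 1 1 1 1 1 1 1) (@D3.rec (fun _ => Nat) 1 1 1 1 1 1 1 1 1 1 2 1 1 2 1 1 1 1) (@D3.rec (fun _ => Nat) 1 1 1 1 1 1 1 1 1 1 1 1 1 1 1 1 1 1) (@D3.rec (fun _ => Nat) 1 1 1 1 1 1 1 1 1 1 1 1 1 1 1 1 1 1) (@D3.rec (fun _ => Nat) 1 1 1 1 1 1 1 1 1 1 1 1 1 2 1 1 1 1) (@D3.rec (fun _ => Nat) 1 1 1 1 1 1 1 1 1 1 1 1 1 1 1 1 1 1)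
def lab_12 : D2 → D3 → Nat := @D2.rec (fun _ => D3 → Nat) (@D3.rec (fun _ => Nat) 1 1 1 1 1 1 1 1 1 1 1 1 1 1 1 1 1 1) (@D3.rec (fun _ => Nat) 1 1 1 1 1 1 1 1 1 1 1 1 2 2 1 1 1 1) (@D3.rec (fun _ => Nat) 1 1 1 1 2 1 1 2 1 1 1 1 1 1 1 1 1 1) (@D3.rec (fun _ => Nat) 1 1 1 1 1 1 1 1 1 1 1 1 1 1 1 1 1 1) (@D3.rec (fun _ => Nat) 1 1 1 1 1 1 1 1 1 1 1 1 1 1 1 1 1 1) (@D3.rec (fun _ => Nat) 1 1 1 1 1 1 1 1 1 1 1 1 1 1 1 1 1 1) (@D3.rec (fun _ => Nat) 1 1 1 1 1 1 1 1 1 1 1 1 1 1 1 1 1 1) (@D3.rec (fun _ => Nat) 1 1 1 1 1 1 1 1 1 1 1 1 1 1 1 1 1 1) (@D3.rec (fun _ => Nat) 1 1 1 1 1 1 1 1 1 1 1 1 1 1 1 2 2 1) (@D3.rec (fun _ => Nat) 1 1 1 1 1 1 1 1 1 1 1 1 1 1 1 1 1 1) (@D3.rec (fun _ => Nat) 1 1 1 1 1 1 1 1 1 1 1 1 1 1 1 1 1 1) (@D3.rec (fun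 _ => Nat) 1 1 1 1 1 1 1 1 1 1 1 1 1 1 1 1 1 1) (@D3.rec (fun _ => Nat) 1 1 1 1 1 1 1 1 1 1 1 1 1 1 1 1 1 1) (@D3.rec (fun _ => Nat) 1 1 1 1 1 1 1 1 1 1 1 1 1 1 1 1 1 1) (@D3.rec (fun _ => Nat) 1 1 1 1 1 1 1 1 1 1 1 1 1 1 1 1 1 1)
def lab : Pt → Nat := @Pt.rec (fun _ => Nat) (@D1.rec (fun _ => D2 → D3 → Nat) lab_0 lab_1 lab_2 lab_3 lab_4 lab_5 lab_6 lab_7 lab_8 lab_9 lab_10 lab_11 lab_12)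
def odep_0 : D2 → D3 → Nat := @D2.rec (fun _ => D3 → Nat) (@D3.rec (fun _ => Nat) 0 0 1 1 2 2 0 3 3 3 1 4 4 4 4 4 2 2) (@D3.rec (fun _ => Nat) 2 5 5 5 5 5 5 5 3 3 3 3 3 6 6 6 6 6) (@D3.rec (fun _ => Nat) 6 6 6 6 4 4 4 4 4 4 4 4 4 7 7 7 7 7) (@D3.rec (fun _ => Nat) 7 7 7 7 7 8 7 7 5 5 5 5 5 5 5 5 5 8) (@D3.rec (fun _ => Nat) 8 8 8 8 8 8 8 8 8 7 8 8 8 8 7 8 6 6) (@D3.rec (fun _ => Nat) 6 6 6 6 6 6 6 6 9 9 9 7 9 9 9 7 8 9) (@D3.rec (fun _ => Nat) 9 9 9 9 6 8 7 9 9 9 6 7 7 7 7 7 7 7) (@D3.rec (fun _ => Nat) 8 10 10 10 10 6 8 8 10 6 7 9 8 10 10 10 10 10) (@D3.rec (fun _ => Nat) 5 7 7 6 8 10 8 10 5 6 8 8 8 8 8 7 9 9) (@D3.rec (fun _ => Nat) 9 11 11 5 7 9 7 11 5 6 8 8 8 9 7 9 11 11) (@D3.rec (fun _ => Nat) 9 11 11 6 4 6 8 6 7 9 11 9 11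 6 4 7 9 9) (@D3.rec (fun _ => Nat) 9 8 6 8 10 10 8 12 12 6 8 10 8 12 6 7 7 5) (@D3.rec (fun _ => Nat) 7 9 9 7 10 8 10 8 10 12 12 10 12 12 5 7 5 7) (@D3.rec (fun _ => Nat) 9 7 7 8 10 12 10 8 14 5 5 8 10 10 10 9 7 9) (@D3.rec (fun _ => Nat) 7 9 11 11 9 13 13 7 9 11 9 7 13 7 8 6 8 8)
def odep_1 : D2 → D3 → Nat := @D2.rec (fun _ => D3 → Nat) (@D3.rec (fun _ => Nat) 6 8 6 8 10 10 8 8 9 11 9 11 9 11 13 13 11 11) (@D3.rec (fun _ => Nat) 13 13 15 6 6 8 6 8 10 8 8 6 9 11 11 13 11 9) (@D3.rec (fun _ => Nat) 9 13 6 6 6 11 11 12 8 10 8 10 8 10 12 12 10 10) (@D3.rec (fun _ => Nat) 14 14 14 8 10 10 14 10 8 8 12 9 7 9 7 7 9 7) (@D3.rec (fun _ => Nat) 9 7 9 7 9 11 11 9 9 9 10 10 12 10 12 10 12 12) (@D3.rec (fun _ => Nat) 14 14 14 12 12 10 16 14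 14 7 7 7 9 7 9 9 12 9) (@D3.rec (fun _ => Nat) 7 9 7 7 10 10 12 12 10 12 12 10 10 7 7 7 12 12) (@D3.rec (fun _ => Nat) 13 11 9 9 11 9 11 9 11 11 13 13 15 11 11 9 15 15) (@D3.rec (fun _ => Nat) 13 9 9 13 11 9 13 13 9 9 10 8 10 8 8 10 8 8) (@D3.rec (fun _ => Nat) 8 10 8 8 10 8 10 8 10 10 12 12 13 10 10 10 10 8) (@D3.rec (fun _ => Nat) 11 11 11 13 11 13 13 11 11 13 13 13 15 15 13 13 13 13) (@D3.rec (fun _ => Nat) 11 15 15 15 8 8 8 8 8 8 8 8 11 10 8 11 11 8) (@D3.rec (fun _ => Nat) 8 8 8 8 8 13 11 11 11 13 13 11 11 11 13 11 8 14) (@D3.rec (fun _ => Nat) 13 12 10 10 10 12 10 12 12 10 10 14 12 12 16 14 12 14) (@D3.rec (fun _ => Nat) 14 12 10 14 14 16 12 10 10 14 12 12 10 10 14 12 10 11)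
def odep_2 : D2 → D3 → Nat := @D2.rec (fun _ => D3 → Nat) (@D3.rec (fun _ => Nat) 9 11 9 9 11 9 9 9 9 9 9 9 11 9 11 11 9 9) (@D3.rec (fun _ => Nat) 12 11 11 14 13 11 12 12 9 11 9 11 9 9 12 12 12 14) (@D3.rec (fun _ => Nat) 14 12 12 14 14 14 14 12 12 12 14 14 14 12 14 16 16 14) (@D3.rec (fun _ => Nat) 12 12 14 12 16 14 16 9 9 9 10 7 7 12 9 9 10 12) (@D3.rec (fun _ => Nat) 9 9 9 10 10 12 9 7 9 9 12 14 12 12 12 12 12 14) (@D3.rec (fun _ => Nat) 12 12 12 14 13 13 14 16 11 11 11 13 13 11 11 15 13 13) (@D3.rec (fun _ => Nat) 13 11 11 15 13 13 13 11 15 15 15 13 11 15 15 11 15 13) (@D3.rec (fun _ => Nat) 17 13 11 11 11 11 13 11 13 13 10 10 10 10 10 10 12 10) (@D3.rec (fun _ => Nat) 10 10 11 8 10 10 10 10 12 10 10 13 12 12 13 10 10 11) (@D3.rec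 (fun _ => Nat) 13 10 12 10 13 15 14 12 10 11 11 13 10 8 10 12 10 10) (@D3.rec (fun _ => Nat) 8 13 13 13 13 13 15 15 15 13 13 13 15 15 15 13 13 15) (@D3.rec (fun _ => Nat) 13 13 13 13 13 15 15 13 15 15 15 15 17 13 13 15 15 13) (@D3.rec (fun _ => Nat) 13 15 10 11 8 9 9 8 6 11 13 10 10 10 11 11 13 10) (@D3.rec (fun _ => Nat) 8 10 9 11 11 9 13 10 13 13 13 13 11 15 13 13 14 12) (@D3.rec (fun _ => Nat) 15 12 12 12 16 14 14 14 12 12 16 16 14 14 12 14 12 12)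
def odep_3 : D2 → D3 → Nat := @D2.rec (fun _ => D3 → Nat) (@D3.rec (fun _ => Nat) 12 12 14 12 14 14 12 16 14 16 14 16 12 16 14 14 14 9) (@D3.rec (fun _ => Nat) 11 9 11 11 11 11 12 11 11 11 12 9 11 10 10 9 9 9) (@D3.rec (fun _ => Nat) 11 11 11 12 11 13 14 11 11 12 14 13 13 11 12 14 11 11) (@D3.rec (fun _ => Nat) 11 12 12 14 11 9 11 14 16 14 13 15 11 10 12 12 10 14) (@D3.rec (fun _ => Nat) 11 11 9 7 11 11 14 14 14 14 12 14 16 16 14 14 16 14) (@D3.rec (fun _ => Nat) 14 14 14 16 16 16 16 14 14 14 16 14 14 14 14 12 14 16) (@D3.rec (fun _ => Nat) 16 14 16 14 14 16 14 16 14 16 16 14 14 12 12 10 10 9) (@D3.rec (fun _ => Nat) 8 10 8 7 9 12 12 12 9 9 11 10 12 10 12 10 14 11) (@D3.rec (fun _ => Nat) 10 8 12 12 13 13 13 17 15 15 13 15 15 13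 13 13 17 15) (@D3.rec (fun _ => Nat) 15 15 15 13 13 13 13 15 15 15 17 15 15 13 15 15 8 10) (@D3.rec (fun _ => Nat) 10 12 11 10 12 10 10 13 10 12 11 13 12 10 10 13 11 11) (@D3.rec (fun _ => Nat) 10 10 9 11 11 10 10 8 12 12 13 12 12 11 13 12 12 12) (@D3.rec (fun _ => Nat) 13 15 12 12 12 13 15 15 14 14 12 13 13 15 12 10 12 11) (@D3.rec (fun _ => Nat) 13 11 13 11 15 12 12 10 8 15 13 15 15 17 15 12 12 14) (@D3.rec (fun _ => Nat) 16 11 9 13 13 13 11 9 10 10 10 15 15 15 15 15 13 15)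
def odep_4 : D2 → D3 → Nat := @D2.rec (fun _ => D3 → Nat) (@D3.rec (fun _ => Nat) 15 17 17 15 15 17 17 15 15 15 15 15 17 17 15 17 17 15) (@D3.rec (fun _ => Nat) 17 17 15 13 15 15 15 13 13 15 15 15 15 15 15 13 15 15) (@D3.rec (fun _ => Nat) 15 17 11 11 9 11 9 7 9 9 9 8 8 11 11 11 11 10) (@D3.rec (fun _ => Nat) 9 9 13 11 14 14 14 14 16 16 16 16 14 16 16 14 14 14) (@D3.rec (fun _ => Nat) 14 16 16 16 14 16 14 16 16 16 16 14 10 9 11 12 11 11) (@D3.rec (fun _ => Nat) 10 12 11 11 11 12 9 12 12 11 11 12 14 12 11 13 9 12) (@D3.rec (fun _ => Nat) 10 12 12 11 10 10 10 12 10 10 11 9 11 9 13 13 14 13) (@D3.rec (fun _ => Nat) 13 13 12 14 14 13 13 13 14 14 16 13 13 13 14 14 16 16) (@D3.rec (fun _ => Nat) 16 16 13 13 15 15 12 14 12 14 12 14 13 11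 11 9 12 12) (@D3.rec (fun _ => Nat) 10 14 12 10 14 14 12 10 13 11 16 14 16 14 14 16 14 14) (@D3.rec (fun _ => Nat) 16 18 11 13 13 15 12 12 10 8 12 12 11 9 16 16 16 16) (@D3.rec (fun _ => Nat) 16 14 14 16 16 16 16 18 16 18 16 16 16 16 18 16 16 16) (@D3.rec (fun _ => Nat) 16 16 16 16 16 16 18 16 16 18 16 16 18 16 18 14 16 16) (@D3.rec (fun _ => Nat) 14 14 14 16 16 12 10 10 10 8 10 10 15 15 15 17 17 15) (@D3.rec (fun _ => Nat) 15 17 15 17 17 15 15 15 15 17 17 15 17 9 11 10 10 12)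
def odep_5 : D2 → D3 → Nat := @D2.rec (fun _ => D3 → Nat) (@D3.rec (fun _ => Nat) 13 12 10 11 13 13 12 12 10 11 11 10 11 13 13 12 12 13) (@D3.rec (fun _ => Nat) 11 15 13 15 11 12 10 12 14 11 11 11 13 12 11 11 11 9) (@D3.rec (fun _ => Nat) 11 9 13 11 11 11 10 12 10 10 14 14 14 15 15 14 14 14) (@D3.rec (fun _ => Nat) 13 13 15 15 15 15 14 14 14 14 13 15 15 15 15 15 14 14) (@D3.rec (fun _ => Nat) 14 14 15 15 15 15 17 17 15 17 17 17 14 14 14 16 13 13) (@D3.rec (fun _ => Nat) 15 13 13 12 12 13 11 13 11 15 13 12 15 17 13 13 15 17) (@D3.rec (fun _ => Nat) 13 13 15 15 17 13 15 15 17 12 12 14 14 11 11 13 10 11) (@D3.rec (fun _ => Nat) 17 17 17 17 17 15 15 15 15 17 17 17 17 17 17 17 17 17) (@D3.rec (fun _ => Nat) 17 15 17 17 17 17 17 17 17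 17 17 17 15 17 17 15 15 15) (@D3.rec (fun _ => Nat) 15 13 11 16 16 16 16 16 16 10 12 12 11 11 11 14 12 11) (@D3.rec (fun _ => Nat) 13 12 12 14 14 14 12 13 11 13 13 10 12 11 12 12 14 14) (@D3.rec (fun _ => Nat) 14 13 13 13 14 12 14 10 14 16 14 12 14 16 11 13 11 13) (@D3.rec (fun _ => Nat) 12 12 14 12 12 10 12 12 12 12 12 11 11 13 13 15 13 16) (@D3.rec (fun _ => Nat) 16 16 16 13 15 15 15 14 14 14 14 16 16 16 16 16 16 15) (@D3.rec (fun _ => Nat) 15 15 15 14 14 14 16 16 16 16 16 16 13 15 15 15 18 16)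
def odep_6 : D2 → D3 → Nat := @D2.rec (fun _ => D3 → Nat) (@D3.rec (fun _ => Nat) 16 14 16 16 16 16 18 18 16 18 16 16 16 18 13 15 13 15) (@D3.rec (fun _ => Nat) 15 14 14 14 14 12 14 12 14 11 14 14 16 18 12 14 14 16) (@D3.rec (fun _ => Nat) 12 14 14 16 16 14 16 14 14 16 16 13 11 13 12 14 12 10) (@D3.rec (fun _ => Nat) 18 18 18 16 16 16 16 16 16 18 18 18 18 18 16 18 18 18) (@D3.rec (fun _ => Nat) 16 18 18 16 14 16 16 14 12 11 11 13 13 13 13 12 12 12) (@D3.rec (fun _ => Nat) 12 15 13 15 12 12 14 13 13 13 11 15 15 15 13 15 15 12) (@D3.rec (fun _ => Nat) 14 12 14 11 11 13 12 13 13 13 15 15 15 15 15 14 14 17) (@D3.rec (fun _ => Nat) 13 15 13 11 13 15 15 13 15 17 17 13 15 13 15 12 12 14) (@D3.rec (fun _ => Nat) 14 12 13 13 13 11 13 13 13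 13 12 12 12 12 14 16 17 17) (@D3.rec (fun _ => Nat) 15 17 17 17 14 14 14 16 17 15 15 15 15 15 15 17 17 17) (@D3.rec (fun _ => Nat) 17 17 17 17 17 17 14 14 14 16 16 17 15 15 15 15 15 17) (@D3.rec (fun _ => Nat) 17 17 17 17 15 17 17 17 14 14 16 16 19 15 17 17 17 15) (@D3.rec (fun _ => Nat) 15 15 17 15 17 17 17 17 19 15 17 15 17 15 17 17 16 12) (@D3.rec (fun _ => Nat) 14 13 15 13 15 13 13 15 15 17 13 13 15 15 13 15 15 15) (@D3.rec (fun _ => Nat) 15 15 17 13 15 15 15 15 13 12 13 13 11 19 19 17 17 17)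
def odep_7 : D2 → D3 → Nat := @D2.rec (fun _ => D3 → Nat) (@D3.rec (fun _ => Nat) 17 19 19 17 17 17 17 15 13 17 15 13 12 12 12 12 14 14) (@D3.rec (fun _ => Nat) 14 14 14 14 13 13 13 13 14 16 14 14 16 13 13 18 14 14) (@D3.rec (fun _ => Nat) 14 12 14 14 16 14 16 16 16 14 16 14 16 13 13 15 15 13) (@D3.rec (fun _ => Nat) 12 12 12 14 16 14 14 14 14 14 16 16 14 16 16 16 15 18) (@D3.rec (fun _ => Nat) 16 14 12 14 16 16 12 14 12 14 14 14 16 14 16 16 16 18) (@D3.rec (fun _ => Nat) 14 14 14 16 14 13 13 13 13 15 14 14 14 14 14 13 14 11) (@D3.rec (fun _ => Nat) 13 13 15 16 18 18 18 16 16 16 18 15 13 15 15 18 16 16) (@D3.rec (fun _ => Nat) 16 16 16 16 16 16 16 16 18 18 18 18 18 18 16 18 16 16) (@D3.rec (fun _ => Nat) 16 18 18 13 13 15 13 15 18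 16 16 16 16 16 16 16 18 18) (@D3.rec (fun _ => Nat) 18 18 18 16 16 18 18 15 15 18 18 16 16 18 16 14 16 16) (@D3.rec (fun _ => Nat) 16 16 18 18 18 16 18 16 18 14 16 18 16 16 14 13 14 14) (@D3.rec (fun _ => Nat) 16 14 14 12 14 16 16 16 14 14 14 14 14 16 16 16 16 16) (@D3.rec (fun _ => Nat) 14 16 12 14 14 16 14 16 12 18 18 18 16 18 18 16 16 14) (@D3.rec (fun _ => Nat) 14 14 13 13 13 13 13 13 15 15 15 15 15 15 14 14 14 14) (@D3.rec (fun _ => Nat) 15 15 17 17 15 15 14 14 17 17 15 13 15 15 15 13 15 13)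
def odep_8 : D2 → D3 → Nat := @D2.rec (fun _ => D3 → Nat) (@D3.rec (fun _ => Nat) 15 17 15 17 15 17 17 15 17 15 15 17 17 15 14 14 14 14) (@D3.rec (fun _ => Nat) 16 10 13 13 13 13 17 17 15 15 15 15 15 15 15 17 15 17) (@D3.rec (fun _ => Nat) 15 15 17 17 17 17 17 15 13 15 13 15 15 17 13 15 15 13) (@D3.rec (fun _ => Nat) 15 15 15 15 17 17 15 15 17 17 15 17 17 15 15 15 15 15) (@D3.rec (fun _ => Nat) 14 14 14 15 14 15 15 15 15 13 12 12 14 14 17 17 17 17) (@D3.rec (fun _ => Nat) 19 17 17 17 17 14 16 12 14 17 17 17 17 17 17 17 17 17) (@D3.rec (fun _ => Nat) 17 15 15 15 17 17 19 19 17 17 19 19 19 19 17 19 15 17) (@D3.rec (fun _ => Nat) 15 15 17 17 17 14 14 15 14 16 17 17 17 17 17 19 19 19) (@D3.rec (fun _ => Nat) 19 19 19 17 17 17 17 17 17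 17 15 15 17 17 19 19 17 17) (@D3.rec (fun _ => Nat) 19 17 17 15 17 13 15 15 17 13 15 17 15 15 15 13 15 15) (@D3.rec (fun _ => Nat) 15 17 15 15 15 15 15 17 17 15 17 15 15 17 15 13 15 15) (@D3.rec (fun _ => Nat) 19 17 17 19 15 15 15 14 14 14 14 14 14 16 16 14 16 16) (@D3.rec (fun _ => Nat) 16 16 15 15 15 15 16 16 16 16 18 16 16 15 16 16 18 16) (@D3.rec (fun _ => Nat) 18 16 14 16 14 16 16 16 16 14 14 16 16 14 16 18 16 16) (@D3.rec (fun _ => Nat) 18 18 16 16 16 18 14 16 18 16 16 16 16 18 13 15 15 15)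
def odep_9 : D2 → D3 → Nat := @D2.rec (fun _ => D3 → Nat) (@D3.rec (fun _ => Nat) 16 15 17 11 14 14 14 14 18 16 18 16 16 16 16 16 16 18) (@D3.rec (fun _ => Nat) 18 16 16 16 16 16 16 16 18 18 18 16 14 16 16 14 14 16) (@D3.rec (fun _ => Nat) 16 18 14 16 16 16 16 16 16 16 16 18 18 16 16 16 18 16) (@D3.rec (fun _ => Nat) 14 16 18 16 16 16 16 16 15 14 16 16 14 13 13 11 13 18) (@D3.rec (fun _ => Nat) 18 18 18 18 16 18 16 18 15 14 13 15 18 18 18 16 16 18) (@D3.rec (fun _ => Nat) 18 18 18 18 14 14 16 16 16 18 20 16 18 18 18 18 20 20) (@D3.rec (fun _ => Nat) 16 18 14 16 16 16 16 16 18 16 15 14 16 15 18 18 18 18) (@D3.rec (fun _ => Nat) 18 18 18 20 20 20 20 18 16 18 16 16 16 18 18 18 20 16) (@D3.rec (fun _ => Nat) 18 18 16 18 20 16 18 14 16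 14 16 14 16 16 16 14 16 14) (@D3.rec (fun _ => Nat) 16 16 16 16 16 14 16 16 16 18 16 16 16 16 16 18 14 16) (@D3.rec (fun _ => Nat) 15 15 15 15 15 15 15 15 17 13 15 17 15 17 14 16 17 16) (@D3.rec (fun _ => Nat) 16 17 17 17 17 17 19 17 17 16 15 17 17 17 17 15 17 15) (@D3.rec (fun _ => Nat) 17 15 15 17 17 15 17 17 15 17 17 15 15 17 17 17 19 19) (@D3.rec (fun _ => Nat) 17 17 17 17 17 19 17 15 17 19 13 15 17 15 17 17 17 17) (@D3.rec (fun _ => Nat) 17 12 14 17 16 16 15 17 16 12 12 15 15 15 15 17 17 17)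
def odep_10 : D2 → D3 → Nat := @D2.rec (fun _ => D3 → Nat) (@D3.rec (fun _ => Nat) 17 17 17 17 17 17 17 19 17 17 15 17 17 17 17 17 19 19) (@D3.rec (fun _ => Nat) 17 17 17 15 15 17 17 17 15 15 17 17 17 17 17 17 17 17) (@D3.rec (fun _ => Nat) 17 17 17 17 17 19 19 17 17 17 15 17 17 15 17 15 17 17) (@D3.rec (fun _ => Nat) 15 14 13 12 14 19 19 19 19 17 19 17 15 17 17 14 13 15) (@D3.rec (fun _ => Nat) 14 19 19 19 19 15 17 17 17 19 19 19 15 15 15 17 17 17) (@D3.rec (fun _ => Nat) 19 17 17 17 19 17 17 19 17 19 21 15 17 15 17 17 15 17) (@D3.rec (fun _ => Nat) 17 15 17 19 19 19 19 19 21 21 17 17 19 17 17 17 17 17) (@D3.rec (fun _ => Nat) 19 19 17 19 21 15 17 17 17 19 19 17 19 17 15 15 17 15) (@D3.rec (fun _ => Nat) 15 17 17 15 17 17 17 17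 17 17 17 13 13 15 16 14 16 16) (@D3.rec (fun _ => Nat) 16 14 16 18 12 14 16 18 16 18 16 15 17 16 18 17 18 18) (@D3.rec (fun _ => Nat) 18 18 18 18 18 18 18 16 18 18 16 18 18 16 18 16 18 18) (@D3.rec (fun _ => Nat) 16 16 16 18 18 18 16 18 18 16 18 16 18 18 18 18 18 18) (@D3.rec (fun _ => Nat) 20 18 18 18 18 18 16 18 20 18 14 16 18 14 16 16 18 16) (@D3.rec (fun _ => Nat) 18 18 13 15 18 15 16 18 13 16 16 16 18 18 18 18 18 16) (@D3.rec (fun _ => Nat) 18 18 18 18 20 18 16 18 18 18 18 18 18 18 20 18 18 16)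
def odep_11 : D2 → D3 → Nat := @D2.rec (fun _ => D3 → Nat) (@D3.rec (fun _ => Nat) 16 18 18 18 18 16 16 16 18 18 18 18 18 18 18 18 18 16) (@D3.rec (fun _ => Nat) 18 18 18 18 18 16 18 20 16 18 18 16 18 18 16 16 13 14) (@D3.rec (fun _ => Nat) 13 20 20 16 18 20 16 16 18 14 16 20 18 20 16 16 16 18) (@D3.rec (fun _ => Nat) 18 18 20 20 16 16 18 18 18 20 18 18 18 20 16 18 18 16) (@D3.rec (fun _ => Nat) 18 20 16 18 20 16 18 16 18 18 16 20 20 20 20 20 22 18) (@D3.rec (fun _ => Nat) 18 16 18 18 18 18 18 18 20 18 20 16 18 18 18 18 20 18) (@D3.rec (fun _ => Nat) 16 16 16 18 18 18 18 14 14 16 17 15 17 17 15 17 13 15) (@D3.rec (fun _ => Nat) 17 17 17 17 16 17 17 16 19 19 19 19 19 19 19 19 19 17) (@D3.rec (fun _ => Nat) 17 19 19 19 19 17 17 17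 17 19 19 19 17 17 17 19 17 19) (@D3.rec (fun _ => Nat) 19 17 19 17 19 19 17 19 17 19 21 17 19 19 17 19 19 15) (@D3.rec (fun _ => Nat) 17 19 15 17 19 15 17 17 17 19 14 17 17 14 17 17 19 19) (@D3.rec (fun _ => Nat) 19 17 19 19 19 19 17 17 17 19 19 19 21 19 19 17 17 17) (@D3.rec (fun _ => Nat) 19 19 19 17 17 19 17 19 19 19 19 17 19 19 17 17 19 19) (@D3.rec (fun _ => Nat) 17 19 19 17 19 19 17 19 19 17 19 19 15 14 21 21 17 19) (@D3.rec (fun _ => Nat) 17 19 15 21 19 21 17 17 19 19 19 21 17 19 19 19 19 19)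
def odep_12 : D2 → D3 → Nat := @D2.rec (fun _ => D3 → Nat) (@D3.rec (fun _ => Nat) 19 17 19 19 17 19 19 17 19 19 17 19 19 21 19 17 19 19) (@D3.rec (fun _ => Nat) 19 19 19 19 17 19 19 19 19 19 19 19 15 15 16 18 16 14) (@D3.rec (fun _ => Nat) 16 18 16 18 15 18 16 15 20 20 20 20 20 20 20 20 18 20) (@D3.rec (fun _ => Nat) 20 20 18 18 20 20 20 18 18 20 18 20 18 20 20 20 18 20) (@D3.rec (fun _ => Nat) 18 20 18 20 18 20 20 16 18 20 16 18 18 18 18 18 16 20) (@D3.rec (fun _ => Nat) 20 18 20 20 18 18 18 20 20 20 20 18 18 20 20 18 18 20) (@D3.rec (fun _ => Nat) 18 20 20 20 18 20 20 18 18 20 18 20 20 18 20 20 18 20) (@D3.rec (fun _ => Nat) 20 20 20 16 18 20 18 20 18 18 20 20 20 20 20 20 18 20) (@D3.rec (fun _ => Nat) 20 18 20 20 18 20 18 20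 20 20 20 20 20 20 20 16 16 17) (@D3.rec (fun _ => Nat) 15 17 17 21 21 21 21 21 19 19 19 21 21 19 19 21 21 19) (@D3.rec (fun _ => Nat) 21 19 21 19 19 21 19 21 19 19 19 19 17 19 19 17 19 19) (@D3.rec (fun _ => Nat) 19 19 19 19 19 21 21 19 19 21 21 19 21 21 21 19 21 21) (@D3.rec (fun _ => Nat) 19 21 19 21 21 21 21 21 21 19 21 21 21 21 21 19 21 21) (@D3.rec (fun _ => Nat) 21 21 22 22 22 20 20 20 20 20 22 22 20 20 20 20 20 20) (@D3.rec (fun _ => Nat) 20 18 20 20 22 22 22 22 22 22 20 22 22 21 21 21 21 21)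
def odep : Pt → Nat := @Pt.rec (fun _ => Nat) (@D1.rec (fun _ => D2 → D3 → Nat) odep_0 odep_1 odep_2 odep_3 odep_4 odep_5 odep_6 odep_7 odep_8 odep_9 odep_10 odep_11 odep_12)
def ow_0 : D2 → D3 → (HWord rels S) := @D2.rec (fun _ => D3 → (HWord rels S)) (@D3.rec (fun _ => (HWord rels S)) hw_0 hw_0 hw_0 hw_1 hw_1 hw_2 hw_0 hw_2 hw_3 hw_6 hw_2 hw_3 hw_6 hw_4 hw_6 hw_7 hw_1 hw_3) (@D3.rec (fun _ => (HWord rels S)) hw_6 hw_4 hw_6 hw_7 hw_5 hw_6 hw_2 hw_7 hw_3 hw_6 hw_4 hw_6 hw_7 hw_5 hw_6 hw_2 hw_7 hw_6) (@D3.rec (fun _ => (HWord rels S)) hw_2 hw_7 hw_1 hw_7 hw_2 hw_4 hw_6 hw_2 hw_7 hw_5 hw_6 hw_2 hw_7 hw_6 hw_2 hw_7 hw_1 hw_7) (@D3.rec (fun _ => (HWord rels S)) hw_2 hw_7 hw_1 hw_3 hw_7 hw_4 hw_7 hw_6 hw_4 hw_5 hw_6 hw_7 hw_7 hw_6 hw_2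 hw_7 hw_7 hw_2) (@D3.rec (fun _ => (HWord rels S)) hw_7 hw_1 hw_3 hw_7 hw_7 hw_6 hw_1 hw_3 hw_7 hw_8 hw_8 hw_7 hw_7 hw_6 hw_8 hw_8 hw_3 hw_5) (@D3.rec (fun _ => (HWord rels S)) hw_6 hw_7 hw_6 hw_2 hw_7 hw_3 hw_7 hw_6 hw_1 hw_3 hw_7 hw_8 hw_7 hw_7 hw_6 hw_8 hw_8 hw_8) (@D3.rec (fun _ => (HWord rels S)) hw_7 hw_4 hw_7 hw_6 hw_8 hw_7 hw_8 hw_7 hw_4 hw_6 hw_8 hw_8 hw_5 hw_7 hw_3 hw_7 hw_7 hw_6) (@D3.rec (fun _ => (HWord rels S)) hw_8 hw_7 hw_4 hw_7 hw_6 hw_8 hw_7 hw_4 hw_6 hw_8 hw_8 hw_7 hw_8 hw_4 hw_7 hw_5 hw_7 hw_6) (@D3.rec (fun _ => (HWord rels S)) hw_8 hw_7 hw_4 hw_8 hw_7 hw_6 hw_4 hw_2 hw_8 hw_8 hw_4 hw_4 hw_7 hw_6 hw_6 hw_8 hw_4 hw_7) (@D3.rec (fun _ => (HWord rels S)) hw_5 hw_7 hw_6 hw_8 hw_7 hw_6 hw_4 hw_2 hw_8 hw_8 hw_4 hw_7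 hw_5 hw_4 hw_8 hw_7 hw_7 hw_6) (@D3.rec (fun _ => (HWord rels S)) hw_5 hw_6 hw_2 hw_8 hw_8 hw_7 hw_6 hw_4 hw_7 hw_6 hw_2 hw_3 hw_1 hw_8 hw_8 hw_4 hw_7 hw_6) (@D3.rec (fun _ => (HWord rels S)) hw_2 hw_4 hw_8 hw_7 hw_7 hw_6 hw_5 hw_6 hw_2 hw_7 hw_6 hw_2 hw_3 hw_1 hw_4 hw_8 hw_4 hw_8) (@D3.rec (fun _ => (HWord rels S)) hw_7 hw_7 hw_6 hw_5 hw_3 hw_4 hw_7 hw_7 hw_6 hw_6 hw_2 hw_5 hw_2 hw_1 hw_8 hw_7 hw_7 hw_6) (@D3.rec (fun _ => (HWord rels S)) hw_2 hw_4 hw_3 hw_6 hw_2 hw_1 hw_2 hw_3 hw_2 hw_8 hw_4 hw_5 hw_6 hw_2 hw_1 hw_3 hw_4 hw_7) (@D3.rec (fun _ => (HWord rels S)) hw_7 hw_6 hw_6 hw_2 hw_5 hw_2 hw_1 hw_6 hw_2 hw_1 hw_2 hw_3 hw_8 hw_5 hw_4 hw_8 hw_7 hw_3)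
def ow_1 : D2 → D3 → (HWord rels S) := @D2.rec (fun _ => D3 → (HWord rels S)) (@D3.rec (fun _ => (HWord rels S)) hw_4 hw_7 hw_7 hw_6 hw_6 hw_2 hw_5 hw_5 hw_3 hw_7 hw_7 hw_6 hw_6 hw_2 hw_2 hw_1 hw_5 hw_4) (@D3.rec (fun _ => (HWord rels S)) hw_1 hw_3 hw_2 hw_8 hw_7 hw_6 hw_6 hw_2 hw_1 hw_2 hw_3 hw_3 hw_2 hw_1 hw_3 hw_6 hw_1 hw_2) (@D3.rec (fun _ => (HWord rels S)) hw_5 hw_2 hw_8 hw_4 hw_5 hw_2 hw_1 hw_8 hw_3 hw_7 hw_7 hw_6 hw_6 hw_2 hw_2 hw_1 hw_5 hw_4) (@D3.rec (fun _ => (HWord rels S)) hw_1 hw_3 hw_8 hw_2 hw_1 hw_3 hw_8 hw_1 hw_2 hw_5 hw_8 hw_3 hw_4 hw_7 hw_8 hw_7 hw_6 hw_3) (@D3.rec (fun _ => (HWord rels S)) hw_7 hw_7 hw_6 hw_6 hw_2 hw_2 hw_1 hw_5 hw_5 hw_4 hw_2 hw_7 hw_6 hw_6 hw_2 hw_2 hw_1 hw_3) (@D3.rec (fun _ => (HWord rels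 S)) hw_1 hw_3 hw_3 hw_5 hw_4 hw_4 hw_4 hw_3 hw_2 hw_8 hw_7 hw_6 hw_3 hw_2 hw_2 hw_3 hw_6 hw_2) (@D3.rec (fun _ => (HWord rels S)) hw_2 hw_6 hw_3 hw_5 hw_1 hw_3 hw_1 hw_3 hw_6 hw_6 hw_1 hw_1 hw_5 hw_4 hw_8 hw_5 hw_1 hw_3) (@D3.rec (fun _ => (HWord rels S)) hw_8 hw_8 hw_2 hw_7 hw_6 hw_6 hw_2 hw_2 hw_1 hw_3 hw_1 hw_3 hw_8 hw_5 hw_4 hw_4 hw_4 hw_3) (@D3.rec (fun _ => (HWord rels S)) hw_8 hw_1 hw_3 hw_3 hw_3 hw_6 hw_8 hw_6 hw_1 hw_5 hw_2 hw_3 hw_7 hw_4 hw_7 hw_6 hw_8 hw_7) (@D3.rec (fun _ => (HWord rels S)) hw_6 hw_2 hw_2 hw_7 hw_6 hw_6 hw_2 hw_2 hw_1 hw_3 hw_1 hw_3 hw_3 hw_2 hw_4 hw_6 hw_4 hw_4) (@D3.rec (fun _ => (HWord rels S)) hw_1 hw_7 hw_6 hw_2 hw_2 hw_1 hw_3 hw_1 hw_3 hw_5 hw_3 hw_4 hw_4 hw_3 hw_3 hw_3 hw_1 hw_4) (@D3.rec (fun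 _ => (HWord rels S)) hw_4 hw_4 hw_2 hw_2 hw_4 hw_7 hw_6 hw_2 hw_3 hw_4 hw_1 hw_3 hw_2 hw_2 hw_6 hw_6 hw_2 hw_6) (@D3.rec (fun _ => (HWord rels S)) hw_1 hw_5 hw_2 hw_7 hw_5 hw_7 hw_3 hw_4 hw_1 hw_1 hw_2 hw_6 hw_6 hw_1 hw_1 hw_5 hw_5 hw_4) (@D3.rec (fun _ => (HWord rels S)) hw_3 hw_8 hw_1 hw_7 hw_6 hw_2 hw_2 hw_1 hw_3 hw_1 hw_3 hw_5 hw_3 hw_4 hw_4 hw_3 hw_3 hw_8) (@D3.rec (fun _ => (HWord rels S)) hw_6 hw_4 hw_4 hw_4 hw_1 hw_2 hw_3 hw_3 hw_4 hw_3 hw_4 hw_2 hw_6 hw_6 hw_6 hw_6 hw_5 hw_8)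
def ow_2 : D2 → D3 → (HWord rels S) := @D2.rec (fun _ => D3 → (HWord rels S)) (@D3.rec (fun _ => (HWord rels S)) hw_7 hw_6 hw_7 hw_6 hw_2 hw_7 hw_6 hw_2 hw_5 hw_5 hw_7 hw_6 hw_2 hw_2 hw_1 hw_3 hw_1 hw_3) (@D3.rec (fun _ => (HWord rels S)) hw_5 hw_2 hw_4 hw_4 hw_3 hw_3 hw_3 hw_2 hw_6 hw_2 hw_4 hw_6 hw_7 hw_4 hw_7 hw_6 hw_2 hw_1) (@D3.rec (fun _ => (HWord rels S)) hw_3 hw_1 hw_3 hw_4 hw_3 hw_4 hw_7 hw_3 hw_4 hw_5 hw_1 hw_2 hw_4 hw_6 hw_4 hw_4 hw_2 hw_3) (@D3.rec (fun _ => (HWord rels S)) hw_3 hw_1 hw_1 hw_4 hw_2 hw_6 hw_6 hw_2 hw_1 hw_7 hw_3 hw_4 hw_8 hw_7 hw_3 hw_4 hw_2 hw_2) (@D3.rec (fun _ => (HWord rels S)) hw_3 hw_6 hw_6 hw_2 hw_6 hw_2 hw_1 hw_7 hw_5 hw_5 hw_7 hw_4 hw_2 hw_4 hw_5 hw_1 hw_8 hw_7) (@D3.rec (fun _ => (HWord rels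 S)) hw_2 hw_6 hw_1 hw_1 hw_4 hw_2 hw_2 hw_7 hw_7 hw_6 hw_2 hw_1 hw_3 hw_1 hw_3 hw_4 hw_3 hw_4) (@D3.rec (fun _ => (HWord rels S)) hw_3 hw_3 hw_4 hw_5 hw_5 hw_2 hw_4 hw_6 hw_4 hw_2 hw_2 hw_3 hw_3 hw_6 hw_6 hw_4 hw_1 hw_1) (@D3.rec (fun _ => (HWord rels S)) hw_6 hw_3 hw_2 hw_2 hw_4 hw_5 hw_4 hw_6 hw_6 hw_6 hw_8 hw_6 hw_8 hw_6 hw_2 hw_4 hw_4 hw_2) (@D3.rec (fun _ => (HWord rels S)) hw_1 hw_3 hw_5 hw_5 hw_5 hw_6 hw_2 hw_8 hw_3 hw_1 hw_3 hw_4 hw_3 hw_4 hw_7 hw_3 hw_4 hw_5) (@D3.rec (fun _ => (HWord rels S)) hw_2 hw_6 hw_2 hw_6 hw_4 hw_4 hw_4 hw_3 hw_3 hw_2 hw_6 hw_2 hw_6 hw_7 hw_4 hw_6 hw_4 hw_7) (@D3.rec (fun _ => (HWord rels S)) hw_8 hw_6 hw_2 hw_1 hw_3 hw_8 hw_3 hw_4 hw_8 hw_3 hw_4 hw_4 hw_3 hw_2 hw_4 hw_6 hw_7 hw_1) (@D3.rec (fun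 _ => (HWord rels S)) hw_2 hw_4 hw_5 hw_1 hw_8 hw_1 hw_4 hw_6 hw_4 hw_6 hw_3 hw_2 hw_6 hw_3 hw_1 hw_8 hw_6 hw_6) (@D3.rec (fun _ => (HWord rels S)) hw_7 hw_8 hw_1 hw_7 hw_7 hw_3 hw_4 hw_4 hw_8 hw_7 hw_4 hw_4 hw_8 hw_5 hw_2 hw_3 hw_7 hw_7) (@D3.rec (fun _ => (HWord rels S)) hw_7 hw_6 hw_6 hw_2 hw_6 hw_7 hw_2 hw_5 hw_4 hw_7 hw_8 hw_5 hw_8 hw_7 hw_2 hw_1 hw_2 hw_6) (@D3.rec (fun _ => (HWord rels S)) hw_6 hw_2 hw_1 hw_3 hw_8 hw_3 hw_4 hw_4 hw_3 hw_4 hw_4 hw_6 hw_2 hw_4 hw_6 hw_3 hw_2 hw_2)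
def ow_3 : D2 → D3 → (HWord rels S) := @D2.rec (fun _ => D3 → (HWord rels S)) (@D3.rec (fun _ => (HWord rels S)) hw_4 hw_5 hw_5 hw_5 hw_5 hw_4 hw_6 hw_2 hw_3 hw_4 hw_2 hw_6 hw_3 hw_6 hw_6 hw_1 hw_6 hw_8) (@D3.rec (fun _ => (HWord rels S)) hw_2 hw_8 hw_8 hw_2 hw_1 hw_8 hw_4 hw_4 hw_5 hw_1 hw_7 hw_7 hw_7 hw_5 hw_5 hw_5 hw_5 hw_4) (@D3.rec (fun _ => (HWord rels S)) hw_2 hw_1 hw_3 hw_8 hw_8 hw_4 hw_8 hw_3 hw_4 hw_4 hw_3 hw_3 hw_3 hw_6 hw_7 hw_2 hw_6 hw_4) (@D3.rec (fun _ => (HWord rels S)) hw_5 hw_2 hw_6 hw_2 hw_6 hw_7 hw_6 hw_4 hw_4 hw_3 hw_8 hw_8 hw_3 hw_6 hw_2 hw_6 hw_7 hw_8) (@D3.rec (fun _ => (HWord rels S)) hw_6 hw_4 hw_7 hw_8 hw_8 hw_7 hw_3 hw_7 hw_3 hw_4 hw_8 hw_8 hw_2 hw_4 hw_2 hw_8 hw_8 hw_2) (@D3.rec (fun _ => (HWord rels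 S)) hw_4 hw_5 hw_3 hw_2 hw_3 hw_4 hw_6 hw_6 hw_1 hw_7 hw_5 hw_4 hw_5 hw_8 hw_1 hw_8 hw_4 hw_7) (@D3.rec (fun _ => (HWord rels S)) hw_3 hw_2 hw_6 hw_3 hw_6 hw_2 hw_7 hw_8 hw_2 hw_6 hw_8 hw_8 hw_6 hw_7 hw_6 hw_7 hw_7 hw_7) (@D3.rec (fun _ => (HWord rels S)) hw_4 hw_4 hw_8 hw_8 hw_7 hw_4 hw_4 hw_8 hw_8 hw_4 hw_8 hw_3 hw_7 hw_8 hw_7 hw_7 hw_7 hw_7) (@D3.rec (fun _ => (HWord rels S)) hw_6 hw_7 hw_2 hw_6 hw_3 hw_3 hw_4 hw_8 hw_2 hw_4 hw_2 hw_4 hw_4 hw_2 hw_4 hw_5 hw_6 hw_6) (@D3.rec (fun _ => (HWord rels S)) hw_5 hw_4 hw_6 hw_6 hw_2 hw_4 hw_5 hw_5 hw_3 hw_3 hw_4 hw_4 hw_6 hw_2 hw_6 hw_6 hw_8 hw_8) (@D3.rec (fun _ => (HWord rels S)) hw_7 hw_8 hw_8 hw_8 hw_5 hw_8 hw_8 hw_8 hw_8 hw_7 hw_4 hw_4 hw_4 hw_5 hw_3 hw_4 hw_7 hw_7) (@D3.rec (fun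 _ => (HWord rels S)) hw_7 hw_7 hw_5 hw_5 hw_5 hw_5 hw_7 hw_4 hw_1 hw_3 hw_7 hw_3 hw_4 hw_8 hw_8 hw_8 hw_4 hw_2) (@D3.rec (fun _ => (HWord rels S)) hw_8 hw_8 hw_8 hw_4 hw_5 hw_3 hw_3 hw_3 hw_3 hw_6 hw_6 hw_2 hw_6 hw_5 hw_5 hw_7 hw_4 hw_6) (@D3.rec (fun _ => (HWord rels S)) hw_2 hw_8 hw_6 hw_7 hw_7 hw_4 hw_7 hw_7 hw_8 hw_4 hw_3 hw_4 hw_8 hw_8 hw_8 hw_8 hw_8 hw_8) (@D3.rec (fun _ => (HWord rels S)) hw_4 hw_6 hw_7 hw_8 hw_6 hw_8 hw_7 hw_8 hw_8 hw_7 hw_8 hw_4 hw_7 hw_2 hw_4 hw_5 hw_8 hw_8)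
def ow_4 : D2 → D3 → (HWord rels S) := @D2.rec (fun _ => D3 → (HWord rels S)) (@D3.rec (fun _ => (HWord rels S)) hw_4 hw_4 hw_6 hw_1 hw_8 hw_8 hw_5 hw_4 hw_6 hw_5 hw_2 hw_3 hw_2 hw_2 hw_7 hw_7 hw_3 hw_2) (@D3.rec (fun _ => (HWord rels S)) hw_6 hw_7 hw_5 hw_7 hw_7 hw_4 hw_3 hw_8 hw_4 hw_3 hw_3 hw_6 hw_2 hw_8 hw_5 hw_7 hw_1 hw_7) (@D3.rec (fun _ => (HWord rels S)) hw_6 hw_7 hw_7 hw_6 hw_7 hw_7 hw_4 hw_8 hw_8 hw_8 hw_8 hw_8 hw_8 hw_4 hw_7 hw_8 hw_4 hw_8) (@D3.rec (fun _ => (HWord rels S)) hw_7 hw_8 hw_7 hw_6 hw_4 hw_2 hw_4 hw_5 hw_7 hw_7 hw_4 hw_6 hw_1 hw_4 hw_7 hw_3 hw_4 hw_6) (@D3.rec (fun _ => (HWord rels S)) hw_5 hw_6 hw_5 hw_6 hw_3 hw_3 hw_2 hw_6 hw_4 hw_6 hw_5 hw_6 hw_8 hw_8 hw_4 hw_7 hw_7 hw_8) (@D3.rec (fun _ => (HWord rels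 S)) hw_8 hw_8 hw_8 hw_4 hw_2 hw_8 hw_8 hw_8 hw_8 hw_8 hw_7 hw_4 hw_4 hw_5 hw_5 hw_6 hw_3 hw_4) (@D3.rec (fun _ => (HWord rels S)) hw_7 hw_7 hw_7 hw_7 hw_5 hw_5 hw_8 hw_5 hw_8 hw_4 hw_5 hw_4 hw_7 hw_8 hw_3 hw_4 hw_7 hw_8) (@D3.rec (fun _ => (HWord rels S)) hw_4 hw_5 hw_8 hw_8 hw_4 hw_4 hw_8 hw_5 hw_8 hw_8 hw_5 hw_4 hw_8 hw_3 hw_3 hw_3 hw_3 hw_3) (@D3.rec (fun _ => (HWord rels S)) hw_6 hw_7 hw_4 hw_2 hw_8 hw_6 hw_6 hw_5 hw_7 hw_5 hw_7 hw_4 hw_5 hw_4 hw_5 hw_8 hw_8 hw_6) (@D3.rec (fun _ => (HWord rels S)) hw_7 hw_7 hw_4 hw_8 hw_4 hw_7 hw_7 hw_8 hw_7 hw_7 hw_4 hw_8 hw_8 hw_8 hw_5 hw_4 hw_8 hw_8) (@D3.rec (fun _ => (HWord rels S)) hw_8 hw_4 hw_8 hw_8 hw_8 hw_8 hw_6 hw_8 hw_7 hw_8 hw_8 hw_7 hw_7 hw_8 hw_5 hw_7 hw_7 hw_4) (@D3.rec (fun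 _ => (HWord rels S)) hw_5 hw_8 hw_4 hw_8 hw_4 hw_8 hw_5 hw_3 hw_1 hw_6 hw_8 hw_8 hw_5 hw_8 hw_5 hw_7 hw_3 hw_3) (@D3.rec (fun _ => (HWord rels S)) hw_5 hw_6 hw_7 hw_2 hw_2 hw_7 hw_2 hw_7 hw_2 hw_7 hw_7 hw_3 hw_6 hw_2 hw_7 hw_3 hw_5 hw_1) (@D3.rec (fun _ => (HWord rels S)) hw_2 hw_7 hw_7 hw_6 hw_7 hw_7 hw_7 hw_4 hw_8 hw_8 hw_8 hw_8 hw_5 hw_4 hw_5 hw_8 hw_7 hw_7) (@D3.rec (fun _ => (HWord rels S)) hw_7 hw_3 hw_1 hw_6 hw_7 hw_3 hw_3 hw_5 hw_6 hw_6 hw_6 hw_2 hw_5 hw_8 hw_8 hw_8 hw_4 hw_6)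
def ow_5 : D2 → D3 → (HWord rels S) := @D2.rec (fun _ => D3 → (HWord rels S)) (@D3.rec (fun _ => (HWord rels S)) hw_7 hw_8 hw_8 hw_8 hw_8 hw_4 hw_5 hw_8 hw_7 hw_8 hw_8 hw_8 hw_8 hw_8 hw_7 hw_7 hw_8 hw_4) (@D3.rec (fun _ => (HWord rels S)) hw_5 hw_4 hw_5 hw_6 hw_3 hw_5 hw_2 hw_6 hw_6 hw_7 hw_7 hw_7 hw_7 hw_7 hw_8 hw_5 hw_8 hw_4) (@D3.rec (fun _ => (HWord rels S)) hw_4 hw_8 hw_5 hw_4 hw_4 hw_8 hw_3 hw_7 hw_4 hw_4 hw_4 hw_5 hw_1 hw_7 hw_7 hw_4 hw_8 hw_6) (@D3.rec (fun _ => (HWord rels S)) hw_8 hw_4 hw_8 hw_4 hw_8 hw_5 hw_4 hw_5 hw_4 hw_7 hw_8 hw_5 hw_8 hw_4 hw_8 hw_3 hw_5 hw_2) (@D3.rec (fun _ => (HWord rels S)) hw_4 hw_7 hw_3 hw_3 hw_6 hw_7 hw_3 hw_6 hw_4 hw_7 hw_8 hw_6 hw_7 hw_6 hw_8 hw_8 hw_5 hw_7) (@D3.rec (fun _ => (HWord rels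 S)) hw_5 hw_4 hw_5 hw_3 hw_5 hw_4 hw_7 hw_3 hw_4 hw_7 hw_7 hw_7 hw_5 hw_4 hw_8 hw_8 hw_8 hw_4) (@D3.rec (fun _ => (HWord rels S)) hw_5 hw_3 hw_5 hw_8 hw_7 hw_8 hw_8 hw_8 hw_8 hw_8 hw_6 hw_8 hw_7 hw_8 hw_7 hw_7 hw_8 hw_8) (@D3.rec (fun _ => (HWord rels S)) hw_7 hw_7 hw_6 hw_3 hw_5 hw_8 hw_4 hw_8 hw_5 hw_4 hw_8 hw_3 hw_5 hw_4 hw_7 hw_7 hw_7 hw_1) (@D3.rec (fun _ => (HWord rels S)) hw_3 hw_8 hw_5 hw_4 hw_8 hw_7 hw_2 hw_7 hw_2 hw_1 hw_3 hw_7 hw_7 hw_6 hw_2 hw_2 hw_2 hw_6) (@D3.rec (fun _ => (HWord rels S)) hw_7 hw_7 hw_8 hw_3 hw_5 hw_3 hw_1 hw_7 hw_7 hw_8 hw_8 hw_4 hw_4 hw_8 hw_5 hw_7 hw_8 hw_8) (@D3.rec (fun _ => (HWord rels S)) hw_8 hw_8 hw_4 hw_8 hw_4 hw_8 hw_7 hw_5 hw_1 hw_6 hw_7 hw_8 hw_8 hw_8 hw_8 hw_7 hw_8 hw_7) (@D3.rec (fun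 _ => (HWord rels S)) hw_8 hw_7 hw_8 hw_7 hw_4 hw_5 hw_6 hw_3 hw_5 hw_6 hw_5 hw_2 hw_6 hw_6 hw_2 hw_6 hw_6 hw_7) (@D3.rec (fun _ => (HWord rels S)) hw_7 hw_5 hw_7 hw_4 hw_5 hw_4 hw_4 hw_3 hw_3 hw_3 hw_4 hw_3 hw_3 hw_7 hw_5 hw_4 hw_2 hw_7) (@D3.rec (fun _ => (HWord rels S)) hw_7 hw_8 hw_6 hw_4 hw_6 hw_5 hw_7 hw_8 hw_4 hw_8 hw_5 hw_4 hw_8 hw_3 hw_5 hw_4 hw_7 hw_7) (@D3.rec (fun _ => (HWord rels S)) hw_6 hw_8 hw_7 hw_8 hw_4 hw_8 hw_4 hw_8 hw_5 hw_2 hw_4 hw_7 hw_2 hw_6 hw_1 hw_7 hw_8 hw_3)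
def ow_6 : D2 → D3 → (HWord rels S) := @D2.rec (fun _ => D3 → (HWord rels S)) (@D3.rec (fun _ => (HWord rels S)) hw_6 hw_4 hw_7 hw_8 hw_6 hw_4 hw_7 hw_8 hw_8 hw_6 hw_7 hw_6 hw_8 hw_8 hw_5 hw_6 hw_6 hw_7) (@D3.rec (fun _ => (HWord rels S)) hw_7 hw_5 hw_7 hw_3 hw_5 hw_7 hw_2 hw_3 hw_7 hw_8 hw_5 hw_3 hw_5 hw_7 hw_8 hw_8 hw_8 hw_8) (@D3.rec (fun _ => (HWord rels S)) hw_4 hw_5 hw_3 hw_5 hw_7 hw_8 hw_7 hw_8 hw_6 hw_8 hw_7 hw_7 hw_8 hw_6 hw_7 hw_7 hw_8 hw_8) (@D3.rec (fun _ => (HWord rels S)) hw_7 hw_6 hw_2 hw_8 hw_4 hw_8 hw_3 hw_5 hw_4 hw_3 hw_5 hw_4 hw_8 hw_7 hw_4 hw_3 hw_1 hw_4) (@D3.rec (fun _ => (HWord rels S)) hw_1 hw_6 hw_2 hw_7 hw_7 hw_6 hw_6 hw_4 hw_8 hw_8 hw_4 hw_8 hw_4 hw_8 hw_5 hw_3 hw_5 hw_4) (@D3.rec (fun _ => (HWord rels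 S)) hw_7 hw_7 hw_8 hw_8 hw_8 hw_8 hw_7 hw_8 hw_4 hw_8 hw_7 hw_4 hw_8 hw_3 hw_7 hw_4 hw_7 hw_1) (@D3.rec (fun _ => (HWord rels S)) hw_6 hw_6 hw_7 hw_8 hw_8 hw_8 hw_7 hw_8 hw_7 hw_8 hw_7 hw_8 hw_7 hw_8 hw_7 hw_6 hw_7 hw_8) (@D3.rec (fun _ => (HWord rels S)) hw_5 hw_6 hw_5 hw_2 hw_6 hw_6 hw_5 hw_1 hw_6 hw_2 hw_6 hw_2 hw_6 hw_6 hw_7 hw_2 hw_6 hw_6) (@D3.rec (fun _ => (HWord rels S)) hw_7 hw_7 hw_7 hw_5 hw_3 hw_3 hw_3 hw_2 hw_3 hw_2 hw_2 hw_4 hw_5 hw_3 hw_5 hw_7 hw_7 hw_8) (@D3.rec (fun _ => (HWord rels S)) hw_4 hw_6 hw_5 hw_7 hw_1 hw_4 hw_2 hw_7 hw_8 hw_4 hw_8 hw_3 hw_5 hw_4 hw_7 hw_3 hw_5 hw_4) (@D3.rec (fun _ => (HWord rels S)) hw_8 hw_7 hw_4 hw_3 hw_5 hw_7 hw_5 hw_4 hw_5 hw_8 hw_6 hw_8 hw_4 hw_8 hw_5 hw_4 hw_7 hw_5) (@D3.rec (fun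 _ => (HWord rels S)) hw_1 hw_4 hw_8 hw_7 hw_2 hw_6 hw_6 hw_7 hw_6 hw_6 hw_7 hw_7 hw_4 hw_4 hw_7 hw_8 hw_6 hw_7) (@D3.rec (fun _ => (HWord rels S)) hw_6 hw_8 hw_8 hw_1 hw_7 hw_6 hw_8 hw_5 hw_8 hw_8 hw_7 hw_5 hw_6 hw_6 hw_7 hw_7 hw_6 hw_8) (@D3.rec (fun _ => (HWord rels S)) hw_6 hw_7 hw_6 hw_2 hw_7 hw_8 hw_4 hw_5 hw_3 hw_7 hw_8 hw_6 hw_8 hw_7 hw_4 hw_5 hw_7 hw_2) (@D3.rec (fun _ => (HWord rels S)) hw_7 hw_4 hw_7 hw_8 hw_7 hw_7 hw_6 hw_6 hw_8 hw_7 hw_7 hw_8 hw_8 hw_6 hw_2 hw_4 hw_3 hw_5)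
def ow_7 : D2 → D3 → (HWord rels S) := @D2.rec (fun _ => D3 → (HWord rels S)) (@D3.rec (fun _ => (HWord rels S)) hw_4 hw_2 hw_4 hw_8 hw_6 hw_3 hw_6 hw_4 hw_8 hw_7 hw_5 hw_8 hw_8 hw_4 hw_8 hw_5 hw_4 hw_8) (@D3.rec (fun _ => (HWord rels S)) hw_3 hw_5 hw_4 hw_7 hw_5 hw_3 hw_2 hw_7 hw_8 hw_8 hw_8 hw_8 hw_7 hw_8 hw_7 hw_8 hw_4 hw_8) (@D3.rec (fun _ => (HWord rels S)) hw_3 hw_7 hw_4 hw_7 hw_3 hw_7 hw_4 hw_8 hw_7 hw_7 hw_3 hw_6 hw_6 hw_1 hw_6 hw_2 hw_7 hw_7) (@D3.rec (fun _ => (HWord rels S)) hw_8 hw_8 hw_8 hw_7 hw_8 hw_7 hw_8 hw_7 hw_8 hw_7 hw_7 hw_8 hw_8 hw_7 hw_6 hw_7 hw_6 hw_7) (@D3.rec (fun _ => (HWord rels S)) hw_8 hw_5 hw_1 hw_6 hw_2 hw_6 hw_2 hw_6 hw_6 hw_7 hw_1 hw_1 hw_6 hw_6 hw_2 hw_7 hw_8 hw_2) (@D3.rec (fun _ => (HWord rels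 S)) hw_2 hw_6 hw_6 hw_7 hw_7 hw_6 hw_6 hw_7 hw_4 hw_6 hw_5 hw_2 hw_2 hw_6 hw_1 hw_1 hw_4 hw_4) (@D3.rec (fun _ => (HWord rels S)) hw_5 hw_3 hw_7 hw_4 hw_6 hw_5 hw_7 hw_5 hw_4 hw_2 hw_7 hw_2 hw_8 hw_7 hw_7 hw_4 hw_8 hw_3) (@D3.rec (fun _ => (HWord rels S)) hw_5 hw_4 hw_8 hw_7 hw_4 hw_3 hw_5 hw_7 hw_2 hw_4 hw_3 hw_5 hw_4 hw_7 hw_4 hw_7 hw_8 hw_4) (@D3.rec (fun _ => (HWord rels S)) hw_5 hw_8 hw_6 hw_8 hw_4 hw_7 hw_8 hw_8 hw_4 hw_5 hw_4 hw_7 hw_6 hw_7 hw_7 hw_1 hw_6 hw_6) (@D3.rec (fun _ => (HWord rels S)) hw_4 hw_7 hw_7 hw_6 hw_6 hw_7 hw_7 hw_7 hw_7 hw_5 hw_3 hw_6 hw_8 hw_8 hw_6 hw_6 hw_7 hw_7) (@D3.rec (fun _ => (HWord rels S)) hw_6 hw_5 hw_6 hw_2 hw_7 hw_1 hw_7 hw_4 hw_7 hw_8 hw_7 hw_6 hw_6 hw_6 hw_8 hw_7 hw_7 hw_6) (@D3.rec (fun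 _ => (HWord rels S)) hw_7 hw_1 hw_8 hw_8 hw_4 hw_5 hw_7 hw_7 hw_7 hw_6 hw_6 hw_4 hw_7 hw_2 hw_5 hw_7 hw_2 hw_7) (@D3.rec (fun _ => (HWord rels S)) hw_8 hw_7 hw_8 hw_7 hw_8 hw_6 hw_7 hw_8 hw_8 hw_2 hw_5 hw_4 hw_8 hw_2 hw_7 hw_4 hw_5 hw_8) (@D3.rec (fun _ => (HWord rels S)) hw_5 hw_4 hw_4 hw_8 hw_3 hw_5 hw_4 hw_7 hw_4 hw_8 hw_7 hw_3 hw_5 hw_7 hw_3 hw_2 hw_7 hw_7) (@D3.rec (fun _ => (HWord rels S)) hw_8 hw_8 hw_8 hw_7 hw_8 hw_7 hw_8 hw_7 hw_7 hw_8 hw_3 hw_7 hw_4 hw_8 hw_7 hw_7 hw_3 hw_6)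
def ow_8 : D2 → D3 → (HWord rels S) := @D2.rec (fun _ => D3 → (HWord rels S)) (@D3.rec (fun _ => (HWord rels S)) hw_6 hw_2 hw_7 hw_3 hw_6 hw_4 hw_6 hw_4 hw_7 hw_7 hw_6 hw_2 hw_6 hw_6 hw_6 hw_2 hw_7 hw_4) (@D3.rec (fun _ => (HWord rels S)) hw_4 hw_8 hw_8 hw_7 hw_8 hw_7 hw_8 hw_4 hw_7 hw_8 hw_8 hw_7 hw_6 hw_7 hw_5 hw_6 hw_4 hw_7) (@D3.rec (fun _ => (HWord rels S)) hw_8 hw_7 hw_6 hw_5 hw_7 hw_4 hw_7 hw_1 hw_1 hw_6 hw_6 hw_2 hw_7 hw_2 hw_6 hw_6 hw_7 hw_7) (@D3.rec (fun _ => (HWord rels S)) hw_1 hw_6 hw_1 hw_6 hw_2 hw_7 hw_2 hw_7 hw_3 hw_7 hw_8 hw_7 hw_2 hw_6 hw_6 hw_7 hw_6 hw_7) (@D3.rec (fun _ => (HWord rels S)) hw_7 hw_6 hw_7 hw_4 hw_7 hw_6 hw_7 hw_4 hw_5 hw_4 hw_4 hw_8 hw_7 hw_7 hw_4 hw_5 hw_4 hw_1) (@D3.rec (fun _ => (HWord rels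 S)) hw_7 hw_2 hw_5 hw_7 hw_7 hw_3 hw_7 hw_8 hw_7 hw_5 hw_4 hw_7 hw_2 hw_4 hw_3 hw_5 hw_4 hw_7) (@D3.rec (fun _ => (HWord rels S)) hw_7 hw_8 hw_4 hw_5 hw_8 hw_6 hw_4 hw_6 hw_8 hw_4 hw_2 hw_8 hw_5 hw_6 hw_4 hw_7 hw_8 hw_7) (@D3.rec (fun _ => (HWord rels S)) hw_8 hw_4 hw_7 hw_5 hw_8 hw_7 hw_7 hw_8 hw_7 hw_8 hw_6 hw_7 hw_7 hw_6 hw_6 hw_2 hw_7 hw_2) (@D3.rec (fun _ => (HWord rels S)) hw_7 hw_3 hw_7 hw_7 hw_6 hw_7 hw_2 hw_7 hw_7 hw_6 hw_6 hw_6 hw_2 hw_7 hw_2 hw_6 hw_2 hw_4) (@D3.rec (fun _ => (HWord rels S)) hw_7 hw_1 hw_7 hw_8 hw_7 hw_8 hw_7 hw_8 hw_6 hw_8 hw_7 hw_8 hw_6 hw_7 hw_8 hw_8 hw_4 hw_7) (@D3.rec (fun _ => (HWord rels S)) hw_2 hw_7 hw_8 hw_6 hw_3 hw_7 hw_8 hw_3 hw_2 hw_8 hw_7 hw_8 hw_5 hw_7 hw_7 hw_7 hw_7 hw_8) (@D3.rec (fun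 _ => (HWord rels S)) hw_2 hw_8 hw_4 hw_7 hw_8 hw_5 hw_8 hw_4 hw_8 hw_7 hw_3 hw_5 hw_7 hw_4 hw_7 hw_4 hw_7 hw_2) (@D3.rec (fun _ => (HWord rels S)) hw_7 hw_7 hw_4 hw_7 hw_5 hw_7 hw_8 hw_8 hw_8 hw_7 hw_7 hw_8 hw_7 hw_7 hw_5 hw_7 hw_4 hw_8) (@D3.rec (fun _ => (HWord rels S)) hw_7 hw_2 hw_7 hw_3 hw_6 hw_4 hw_6 hw_4 hw_7 hw_7 hw_6 hw_2 hw_6 hw_6 hw_7 hw_6 hw_7 hw_6) (@D3.rec (fun _ => (HWord rels S)) hw_2 hw_6 hw_2 hw_6 hw_4 hw_2 hw_8 hw_7 hw_6 hw_8 hw_4 hw_6 hw_3 hw_4 hw_8 hw_7 hw_3 hw_7)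
def ow_9 : D2 → D3 → (HWord rels S) := @D2.rec (fun _ => D3 → (HWord rels S)) (@D3.rec (fun _ => (HWord rels S)) hw_4 hw_7 hw_8 hw_8 hw_8 hw_7 hw_8 hw_7 hw_8 hw_8 hw_7 hw_6 hw_4 hw_7 hw_7 hw_6 hw_6 hw_2) (@D3.rec (fun _ => (HWord rels S)) hw_6 hw_3 hw_7 hw_4 hw_7 hw_6 hw_5 hw_4 hw_5 hw_6 hw_6 hw_6 hw_6 hw_2 hw_7 hw_2 hw_7 hw_3) (@D3.rec (fun _ => (HWord rels S)) hw_7 hw_2 hw_7 hw_6 hw_7 hw_2 hw_7 hw_6 hw_2 hw_7 hw_2 hw_3 hw_7 hw_3 hw_7 hw_8 hw_7 hw_8) (@D3.rec (fun _ => (HWord rels S)) hw_8 hw_7 hw_3 hw_7 hw_7 hw_4 hw_7 hw_5 hw_7 hw_4 hw_7 hw_7 hw_4 hw_4 hw_7 hw_8 hw_7 hw_4) (@D3.rec (fun _ => (HWord rels S)) hw_1 hw_4 hw_7 hw_7 hw_3 hw_7 hw_3 hw_7 hw_7 hw_8 hw_7 hw_8 hw_3 hw_7 hw_6 hw_8 hw_4 hw_2) (@D3.rec (fun _ => (HWord rels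 S)) hw_8 hw_6 hw_4 hw_7 hw_8 hw_4 hw_7 hw_5 hw_8 hw_3 hw_7 hw_8 hw_4 hw_7 hw_5 hw_4 hw_8 hw_2) (@D3.rec (fun _ => (HWord rels S)) hw_8 hw_7 hw_8 hw_7 hw_7 hw_4 hw_7 hw_8 hw_8 hw_8 hw_8 hw_8 hw_7 hw_6 hw_2 hw_7 hw_2 hw_6) (@D3.rec (fun _ => (HWord rels S)) hw_2 hw_7 hw_2 hw_6 hw_7 hw_7 hw_7 hw_7 hw_2 hw_7 hw_8 hw_6 hw_2 hw_3 hw_7 hw_1 hw_2 hw_8) (@D3.rec (fun _ => (HWord rels S)) hw_3 hw_2 hw_8 hw_7 hw_6 hw_5 hw_7 hw_8 hw_7 hw_7 hw_7 hw_7 hw_8 hw_8 hw_7 hw_8 hw_7 hw_8) (@D3.rec (fun _ => (HWord rels S)) hw_2 hw_8 hw_7 hw_3 hw_7 hw_8 hw_8 hw_7 hw_8 hw_3 hw_8 hw_7 hw_8 hw_6 hw_8 hw_7 hw_8 hw_7) (@D3.rec (fun _ => (HWord rels S)) hw_4 hw_7 hw_4 hw_7 hw_2 hw_7 hw_7 hw_4 hw_7 hw_8 hw_7 hw_6 hw_2 hw_7 hw_4 hw_7 hw_5 hw_7) (@D3.rec (fun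 _ => (HWord rels S)) hw_8 hw_8 hw_8 hw_7 hw_8 hw_7 hw_3 hw_8 hw_7 hw_8 hw_4 hw_5 hw_6 hw_4 hw_6 hw_8 hw_7 hw_7) (@D3.rec (fun _ => (HWord rels S)) hw_6 hw_7 hw_6 hw_2 hw_6 hw_6 hw_4 hw_2 hw_8 hw_7 hw_6 hw_8 hw_6 hw_3 hw_4 hw_4 hw_6 hw_7) (@D3.rec (fun _ => (HWord rels S)) hw_8 hw_2 hw_6 hw_3 hw_4 hw_2 hw_2 hw_8 hw_7 hw_2 hw_8 hw_7 hw_6 hw_8 hw_7 hw_7 hw_4 hw_3) (@D3.rec (fun _ => (HWord rels S)) hw_4 hw_8 hw_7 hw_3 hw_7 hw_6 hw_4 hw_7 hw_8 hw_8 hw_7 hw_7 hw_4 hw_7 hw_6 hw_8 hw_7 hw_2)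
def ow_10 : D2 → D3 → (HWord rels S) := @D2.rec (fun _ => D3 → (HWord rels S)) (@D3.rec (fun _ => (HWord rels S)) hw_6 hw_3 hw_7 hw_6 hw_2 hw_7 hw_2 hw_2 hw_3 hw_7 hw_8 hw_5 hw_7 hw_6 hw_5 hw_4 hw_5 hw_6) (@D3.rec (fun _ => (HWord rels S)) hw_6 hw_2 hw_7 hw_2 hw_7 hw_2 hw_3 hw_7 hw_3 hw_7 hw_7 hw_8 hw_7 hw_3 hw_7 hw_2 hw_7 hw_3) (@D3.rec (fun _ => (HWord rels S)) hw_7 hw_4 hw_3 hw_7 hw_8 hw_7 hw_6 hw_4 hw_7 hw_6 hw_8 hw_7 hw_8 hw_7 hw_6 hw_4 hw_7 hw_6) (@D3.rec (fun _ => (HWord rels S)) hw_7 hw_7 hw_8 hw_7 hw_8 hw_3 hw_7 hw_1 hw_7 hw_3 hw_7 hw_7 hw_8 hw_3 hw_8 hw_8 hw_8 hw_7) (@D3.rec (fun _ => (HWord rels S)) hw_6 hw_6 hw_7 hw_3 hw_7 hw_8 hw_4 hw_7 hw_5 hw_4 hw_8 hw_7 hw_7 hw_4 hw_7 hw_8 hw_8 hw_3) (@D3.rec (fun _ => (HWord rels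 S)) hw_7 hw_8 hw_7 hw_4 hw_7 hw_8 hw_4 hw_8 hw_8 hw_7 hw_8 hw_8 hw_7 hw_7 hw_7 hw_8 hw_8 hw_7) (@D3.rec (fun _ => (HWord rels S)) hw_8 hw_7 hw_6 hw_7 hw_2 hw_7 hw_6 hw_7 hw_7 hw_6 hw_8 hw_2 hw_6 hw_7 hw_8 hw_3 hw_7 hw_8) (@D3.rec (fun _ => (HWord rels S)) hw_7 hw_6 hw_5 hw_7 hw_2 hw_8 hw_8 hw_7 hw_8 hw_3 hw_2 hw_7 hw_6 hw_6 hw_7 hw_8 hw_7 hw_8) (@D3.rec (fun _ => (HWord rels S)) hw_7 hw_8 hw_7 hw_8 hw_4 hw_7 hw_6 hw_7 hw_8 hw_4 hw_7 hw_8 hw_8 hw_7 hw_7 hw_8 hw_7 hw_6) (@D3.rec (fun _ => (HWord rels S)) hw_7 hw_8 hw_7 hw_6 hw_8 hw_7 hw_6 hw_5 hw_2 hw_8 hw_4 hw_7 hw_6 hw_5 hw_7 hw_8 hw_8 hw_7) (@D3.rec (fun _ => (HWord rels S)) hw_8 hw_8 hw_7 hw_7 hw_6 hw_7 hw_4 hw_4 hw_5 hw_6 hw_6 hw_3 hw_7 hw_7 hw_6 hw_4 hw_6 hw_7) (@D3.rec (fun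 _ => (HWord rels S)) hw_8 hw_2 hw_6 hw_3 hw_4 hw_2 hw_8 hw_7 hw_2 hw_7 hw_6 hw_7 hw_3 hw_4 hw_4 hw_7 hw_3 hw_4) (@D3.rec (fun _ => (HWord rels S)) hw_7 hw_8 hw_7 hw_2 hw_4 hw_3 hw_8 hw_7 hw_2 hw_2 hw_8 hw_7 hw_6 hw_7 hw_6 hw_7 hw_6 hw_4) (@D3.rec (fun _ => (HWord rels S)) hw_7 hw_4 hw_7 hw_8 hw_7 hw_4 hw_7 hw_5 hw_7 hw_6 hw_7 hw_6 hw_8 hw_7 hw_2 hw_2 hw_7 hw_8) (@D3.rec (fun _ => (HWord rels S)) hw_6 hw_7 hw_2 hw_7 hw_2 hw_7 hw_8 hw_2 hw_2 hw_5 hw_6 hw_4 hw_6 hw_5 hw_2 hw_3 hw_7 hw_3)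
def ow_11 : D2 → D3 → (HWord rels S) := @D2.rec (fun _ => D3 → (HWord rels S)) (@D3.rec (fun _ => (HWord rels S)) hw_7 hw_3 hw_7 hw_7 hw_6 hw_4 hw_7 hw_6 hw_8 hw_4 hw_7 hw_6 hw_3 hw_7 hw_4 hw_7 hw_6 hw_4) (@D3.rec (fun _ => (HWord rels S)) hw_3 hw_7 hw_4 hw_7 hw_6 hw_8 hw_7 hw_6 hw_4 hw_7 hw_6 hw_7 hw_4 hw_8 hw_6 hw_7 hw_8 hw_7) (@D3.rec (fun _ => (HWord rels S)) hw_6 hw_7 hw_7 hw_8 hw_3 hw_6 hw_8 hw_7 hw_8 hw_7 hw_6 hw_7 hw_3 hw_7 hw_8 hw_7 hw_4 hw_7) (@D3.rec (fun _ => (HWord rels S)) hw_4 hw_8 hw_7 hw_8 hw_7 hw_8 hw_8 hw_8 hw_7 hw_6 hw_8 hw_7 hw_7 hw_6 hw_8 hw_8 hw_7 hw_8) (@D3.rec (fun _ => (HWord rels S)) hw_7 hw_8 hw_8 hw_7 hw_6 hw_7 hw_8 hw_7 hw_8 hw_8 hw_6 hw_6 hw_2 hw_6 hw_7 hw_6 hw_6 hw_7) (@D3.rec (fun _ => (HWord rels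 S)) hw_2 hw_8 hw_8 hw_7 hw_4 hw_7 hw_6 hw_7 hw_6 hw_2 hw_6 hw_7 hw_4 hw_7 hw_6 hw_7 hw_3 hw_6) (@D3.rec (fun _ => (HWord rels S)) hw_7 hw_6 hw_4 hw_7 hw_6 hw_4 hw_8 hw_7 hw_7 hw_6 hw_6 hw_7 hw_6 hw_8 hw_7 hw_6 hw_7 hw_6) (@D3.rec (fun _ => (HWord rels S)) hw_4 hw_2 hw_2 hw_7 hw_6 hw_7 hw_8 hw_8 hw_4 hw_4 hw_7 hw_4 hw_7 hw_7 hw_6 hw_4 hw_4 hw_4) (@D3.rec (fun _ => (HWord rels S)) hw_6 hw_5 hw_2 hw_2 hw_7 hw_2 hw_6 hw_4 hw_7 hw_3 hw_4 hw_7 hw_8 hw_7 hw_2 hw_3 hw_8 hw_7) (@D3.rec (fun _ => (HWord rels S)) hw_2 hw_7 hw_6 hw_6 hw_4 hw_7 hw_3 hw_7 hw_8 hw_7 hw_2 hw_8 hw_7 hw_2 hw_4 hw_7 hw_3 hw_8) (@D3.rec (fun _ => (HWord rels S)) hw_7 hw_6 hw_7 hw_6 hw_2 hw_6 hw_6 hw_7 hw_3 hw_4 hw_8 hw_4 hw_5 hw_6 hw_6 hw_2 hw_7 hw_7) (@D3.rec (fun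 _ => (HWord rels S)) hw_2 hw_8 hw_7 hw_6 hw_7 hw_6 hw_4 hw_8 hw_2 hw_2 hw_2 hw_3 hw_2 hw_7 hw_6 hw_4 hw_7 hw_6) (@D3.rec (fun _ => (HWord rels S)) hw_7 hw_6 hw_6 hw_7 hw_6 hw_8 hw_8 hw_7 hw_6 hw_7 hw_6 hw_4 hw_7 hw_6 hw_7 hw_8 hw_7 hw_6) (@D3.rec (fun _ => (HWord rels S)) hw_8 hw_7 hw_6 hw_7 hw_6 hw_8 hw_7 hw_6 hw_2 hw_6 hw_4 hw_8 hw_6 hw_8 hw_6 hw_6 hw_7 hw_3) (@D3.rec (fun _ => (HWord rels S)) hw_6 hw_8 hw_6 hw_6 hw_7 hw_6 hw_7 hw_7 hw_6 hw_7 hw_8 hw_6 hw_8 hw_8 hw_7 hw_6 hw_7 hw_6)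
def ow_12 : D2 → D3 → (HWord rels S) := @D2.rec (fun _ => D3 → (HWord rels S)) (@D3.rec (fun _ => (HWord rels S)) hw_6 hw_7 hw_7 hw_6 hw_7 hw_6 hw_8 hw_7 hw_6 hw_8 hw_8 hw_8 hw_8 hw_6 hw_6 hw_7 hw_7 hw_6) (@D3.rec (fun _ => (HWord rels S)) hw_7 hw_6 hw_6 hw_2 hw_6 hw_7 hw_6 hw_6 hw_8 hw_6 hw_2 hw_4 hw_6 hw_6 hw_6 hw_4 hw_6 hw_6) (@D3.rec (fun _ => (HWord rels S)) hw_8 hw_2 hw_2 hw_6 hw_8 hw_8 hw_8 hw_8 hw_7 hw_7 hw_6 hw_7 hw_6 hw_6 hw_4 hw_4 hw_2 hw_3) (@D3.rec (fun _ => (HWord rels S)) hw_7 hw_2 hw_4 hw_7 hw_7 hw_7 hw_2 hw_7 hw_2 hw_3 hw_7 hw_6 hw_6 hw_2 hw_4 hw_6 hw_7 hw_6) (@D3.rec (fun _ => (HWord rels S)) hw_7 hw_6 hw_7 hw_6 hw_7 hw_6 hw_4 hw_7 hw_6 hw_2 hw_6 hw_2 hw_8 hw_3 hw_3 hw_2 hw_8 hw_6) (@D3.rec (fun _ => (HWord rels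 S)) hw_6 hw_8 hw_6 hw_6 hw_8 hw_4 hw_8 hw_2 hw_2 hw_3 hw_6 hw_7 hw_6 hw_6 hw_8 hw_6 hw_2 hw_8) (@D3.rec (fun _ => (HWord rels S)) hw_7 hw_6 hw_2 hw_6 hw_7 hw_6 hw_2 hw_6 hw_7 hw_6 hw_7 hw_6 hw_2 hw_6 hw_4 hw_8 hw_6 hw_2) (@D3.rec (fun _ => (HWord rels S)) hw_8 hw_8 hw_4 hw_8 hw_6 hw_8 hw_2 hw_6 hw_6 hw_6 hw_6 hw_8 hw_6 hw_7 hw_6 hw_8 hw_6 hw_6) (@D3.rec (fun _ => (HWord rels S)) hw_2 hw_6 hw_7 hw_8 hw_6 hw_7 hw_6 hw_6 hw_6 hw_2 hw_6 hw_2 hw_4 hw_2 hw_1 hw_2 hw_2 hw_8) (@D3.rec (fun _ => (HWord rels S)) hw_8 hw_8 hw_8 hw_6 hw_6 hw_6 hw_4 hw_4 hw_8 hw_1 hw_2 hw_3 hw_6 hw_4 hw_6 hw_6 hw_6 hw_6) (@D3.rec (fun _ => (HWord rels S)) hw_4 hw_6 hw_2 hw_2 hw_6 hw_7 hw_6 hw_2 hw_6 hw_6 hw_3 hw_2 hw_6 hw_2 hw_2 hw_2 hw_3 hw_2) (@D3.rec (fun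 _ => (HWord rels S)) hw_2 hw_8 hw_7 hw_4 hw_8 hw_7 hw_2 hw_6 hw_2 hw_2 hw_8 hw_6 hw_2 hw_8 hw_2 hw_6 hw_2 hw_8) (@D3.rec (fun _ => (HWord rels S)) hw_6 hw_3 hw_6 hw_2 hw_1 hw_3 hw_4 hw_4 hw_3 hw_2 hw_7 hw_7 hw_2 hw_2 hw_2 hw_2 hw_2 hw_2) (@D3.rec (fun _ => (HWord rels S)) hw_2 hw_1 hw_2 hw_2 hw_2 hw_1 hw_3 hw_3 hw_7 hw_4 hw_7 hw_2 hw_2 hw_3 hw_2 hw_2 hw_2 hw_2) (@D3.rec (fun _ => (HWord rels S)) hw_3 hw_2 hw_2 hw_2 hw_8 hw_1 hw_3 hw_3 hw_4 hw_3 hw_2 hw_8 hw_1 hw_1 hw_3 hw_3 hw_8 hw_3)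
def ow : Pt → (HWord rels S) := @Pt.rec (fun _ => (HWord rels S)) (@D1.rec (fun _ => D2 → D3 → (HWord rels S)) ow_0 ow_1 ow_2 ow_3 ow_4 ow_5 ow_6 ow_7 ow_8 ow_9 ow_10 ow_11 ow_12)
theorem lab_chk_0 : chkLabF allPts lab subF_0 = true := by decide +kernel
theorem lab_chk_1 : chkLabF allPts lab subF_1 = true := by decide +kernel
theorem lab_chk_2 : chkLabF allPts lab subF_2 = true := by decide +kernel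
theorem lab_chk_3 : chkLabF allPts lab subF_3 = true := by decide +kernel
theorem lab_chk_4 : chkLabF allPts lab subF_4 = true := by decide +kernel
theorem lab_chk_5 : chkLabF allPts lab subF_5 = true := by decide +kernel
theorem lab_chk_6 : chkLabF allPts lab subF_6 = true := by decide +kernel
theorem lab_chk_7 : chkLabF allPts lab subF_7 = true := by decide +kernel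
theorem lab_chk_8 : chkLabF allPts lab subF_8 = true := by decide +kernel
def root_0 : Pt := ⟨.c0, .c0, .c0⟩
theorem conn_chk_0 : chkConn rels S fwd inv allPts beqPt lab odep ow root_0 0 = true := by decide +kernel
theorem count_chk_0 : countPts (fun b => Nat.beq (lab b) 0) = 1 := by decide +kernel
def root_1 : Pt := ⟨.c0, .c0, .c1⟩
theorem conn_chk_1 : chkConn rels S fwd inv allPts beqPt lab odep ow root_1 1 = true := by decide +kernel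
theorem count_chk_1 : countPts (fun b => Nat.beq (lab b) 1) = 2816 := by decide +kernel
def root_2 : Pt := ⟨.c0, .c0, .c6⟩
theorem conn_chk_2 : chkConn rels S fwd inv allPts beqPt lab odep ow root_2 2 = true := by decide +kernel
theorem count_chk_2 : countPts (fun b => Nat.beq (lab b) 2) = 693 := by decide +kernel

end

end Cfsg.Agent.Helper28.S1687
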