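import Cfsg.Agent.Lib.Helper28.S1687.Model

set_option autoImplicit false
set_option maxRecDepth 100000

namespace Cfsg.Agent.Helper28.S1687

open Cfsg.Agent.Helper28
open Cfsg.Spor.Fi22 (Gen)

theorem relchk_1 : chkWordF allPts beqPt relF_1 = true := by decide +kernel
theorem relchk_2 : chkWordF allPts beqPt relF_2 = true := by decide +kernel
theorem relchk_5 : chkWordF allPts beqPt relF_5 = true := by decide +kernel
theorem relchk_8 : chkWordF allPts beqPt relF_8 = true := by decide +kernel
theorem relchk_13 : chkWordF allPts beqPt relF_13 = true := by decide +kernel
theorem relchk_16 : chkWordF allPts beqPt relF_16 = true := by decide +kernel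
theorem relchk_18 : chkWordF allPts beqPt relF_18 = true := by decide +kernel
theorem relchk_21 : chkWordF allPts beqPt relF_21 = true := by decide +kernel
theorem relchk_24 : chkWordF allPts beqPt relF_24 = true := by decide +kernel
theorem relchk_26 : chkWordF allPts beqPt relF_26 = true := by decide +kernel
theorem relchk_27 : chkWordF allPts beqPt relF_27 = true := by decide +kernel
theorem relchk_31 : chkWordF allPts beqPt relF_31 = true := by decide +kernel
theorem relchk_36 : chkWordF allPts beqPt relF_36 = true := by decide +kernel
theorem relchk_37 : chkWordF allPts beqPt relF_37 = true := by decide +kernel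
theorem relchk_38 : chkWordF allPts beqPt relF_38 = true := by decide +kernel
theorem relchk_43 : chkWordF allPts beqPt relF_43 = true := by decide +kernel
theorem relchk_46 : chkWordF allPts beqPt relF_46 = true := by decide +kernel

end Cfsg.Agent.Helper28.S1687
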