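import Cfsg.Agent.Lib.Helper28.S1687.Model

set_option autoImplicit false
set_option maxRecDepth 100000

namespace Cfsg.Agent.Helper28.S1687

open Cfsg.Agent.Helper28
open Cfsg.Spor.Fi22 (Gen)

theorem relchk_0 : chkWordF allPts beqPt relF_0 = true := by decide +kernel
theorem relchk_3 : chkWordF allPts beqPt relF_3 = true := by decide +kernel
theorem relchk_6 : chkWordF allPts beqPt relF_6 = true := by decide +kernel
theorem relchk_9 : chkWordF allPts beqPt relF_9 = true := by decide +kernel
theorem relchk_10 : chkWordF allPts beqPt relF_10 = true := by decide +kernel
theorem relchk_11 : chkWordF allPts beqPt relF_11 = true := by decide +kernel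
theorem relchk_14 : chkWordF allPts beqPt relF_14 = true := by decide +kernel
theorem relchk_19 : chkWordF allPts beqPt relF_19 = true := by decide +kernel
theorem relchk_22 : chkWordF allPts beqPt relF_22 = true := by decide +kernel
theorem relchk_25 : chkWordF allPts beqPt relF_25 = true := by decide +kernel
theorem relchk_28 : chkWordF allPts beqPt relF_28 = true := by decide +kernel
theorem relchk_30 : chkWordF allPts beqPt relF_30 = true := by decide +kernel
theorem relchk_32 : chkWordF allPts beqPt relF_32 = true := by decide +kernel
theorem relchk_33 : chkWordF allPts beqPt relF_33 = true := by decide +kernel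
theorem relchk_39 : chkWordF allPts beqPt relF_39 = true := by decide +kernel
theorem relchk_40 : chkWordF allPts beqPt relF_40 = true := by decide +kernel
theorem relchk_42 : chkWordF allPts beqPt relF_42 = true := by decide +kernel
theorem relchk_47 : chkWordF allPts beqPt relF_47 = true := by decide +kernel

end Cfsg.Agent.Helper28.S1687
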