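import Cfsg.Agent.Lib.Helper28.S1687.Model

set_option autoImplicit false
set_option maxRecDepth 100000

namespace Cfsg.Agent.Helper28.S1687

open Cfsg.Agent.Helper28
open Cfsg.Spor.Fi22 (Gen)

noncomputable section

theorem relmem_0 : FreeGroup.mk relW_0 ∈ rels :=
  Or.inl ⟨Gen.a, by decide, Gen.a, by decide, rfl⟩
theorem relone_0 : wG rels relW_0 = 1 := wG_one_of_mem rels _ relmem_0
theorem relmem_1 : FreeGroup.mk relW_1 ∈ rels :=
  Or.inl ⟨Gen.a, by decide, Gen.b, by decide, rfl⟩
theorem relone_1 : wG rels relW_1 = 1 := wG_one_of_mem rels _ relmem_1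
theorem relmem_2 : FreeGroup.mk relW_2 ∈ rels :=
  Or.inl ⟨Gen.a, by decide, Gen.c, by decide, rfl⟩
theorem relone_2 : wG rels relW_2 = 1 := wG_one_of_mem rels _ relmem_2
theorem relmem_3 : FreeGroup.mk relW_3 ∈ rels :=
  Or.inl ⟨Gen.a, by decide, Gen.d, by decide, rfl⟩
theorem relone_3 : wG rels relW_3 = 1 := wG_one_of_mem rels _ relmem_3
theorem relmem_4 : FreeGroup.mk relW_4 ∈ rels :=
  Or.inl ⟨Gen.a, by decide, Gen.e, by decide, rfl⟩
theorem relone_4 : wG rels relW_4 = 1 := wG_one_of_mem rels _ relmem_4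
theorem relmem_5 : FreeGroup.mk relW_5 ∈ rels :=
  Or.inl ⟨Gen.a, by decide, Gen.h, by decide, rfl⟩
theorem relone_5 : wG rels relW_5 = 1 := wG_one_of_mem rels _ relmem_5
theorem relmem_6 : FreeGroup.mk relW_6 ∈ rels :=
  Or.inl ⟨Gen.a, by decide, Gen.f, by decide, rfl⟩
theorem relone_6 : wG rels relW_6 = 1 := wG_one_of_mem rels _ relmem_6
theorem relmem_7 : FreeGroup.mk relW_7 ∈ rels :=
  Or.inl ⟨Gen.a, by decide, Gen.g, by decide, rfl⟩
theorem relone_7 : wG rels relW_7 = 1 := wG_one_of_mem rels _ relmem_7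
theorem relmem_8 : FreeGroup.mk relW_8 ∈ rels :=
  Or.inl ⟨Gen.a, by decide, Gen.i, by decide, rfl⟩
theorem relone_8 : wG rels relW_8 = 1 := wG_one_of_mem rels _ relmem_8
theorem relmem_9 : FreeGroup.mk relW_9 ∈ rels :=
  Or.inl ⟨Gen.b, by decide, Gen.b, by decide, rfl⟩
theorem relone_9 : wG rels relW_9 = 1 := wG_one_of_mem rels _ relmem_9
theorem relmem_10 : FreeGroup.mk relW_10 ∈ rels :=
  Or.inl ⟨Gen.b, by decide, Gen.c, by decide, rfl⟩
theorem relone_10 : wG rels relW_10 = 1 := wG_one_of_mem rels _ relmem_10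
theorem relmem_11 : FreeGroup.mk relW_11 ∈ rels :=
  Or.inl ⟨Gen.b, by decide, Gen.d, by decide, rfl⟩
theorem relone_11 : wG rels relW_11 = 1 := wG_one_of_mem rels _ relmem_11
theorem relmem_12 : FreeGroup.mk relW_12 ∈ rels :=
  Or.inl ⟨Gen.b, by decide, Gen.e, by decide, rfl⟩
theorem relone_12 : wG rels relW_12 = 1 := wG_one_of_mem rels _ relmem_12
theorem relmem_13 : FreeGroup.mk relW_13 ∈ rels :=
  Or.inl ⟨Gen.b, by decide, Gen.h, by decide, rfl⟩
theorem relone_13 : wG rels relW_13 = 1 := wG_one_of_mem rels _ relmem_13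
theorem relmem_14 : FreeGroup.mk relW_14 ∈ rels :=
  Or.inl ⟨Gen.b, by decide, Gen.f, by decide, rfl⟩
theorem relone_14 : wG rels relW_14 = 1 := wG_one_of_mem rels _ relmem_14
theorem relmem_15 : FreeGroup.mk relW_15 ∈ rels :=
  Or.inl ⟨Gen.b, by decide, Gen.g, by decide, rfl⟩
theorem relone_15 : wG rels relW_15 = 1 := wG_one_of_mem rels _ relmem_15
theorem relmem_16 : FreeGroup.mk relW_16 ∈ rels :=
  Or.inl ⟨Gen.b, by decide, Gen.i, by decide, rfl⟩
theorem relone_16 : wG rels relW_16 = 1 := wG_one_of_mem rels _ relmem_16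
theorem relmem_17 : FreeGroup.mk relW_17 ∈ rels :=
  Or.inl ⟨Gen.c, by decide, Gen.c, by decide, rfl⟩
theorem relone_17 : wG rels relW_17 = 1 := wG_one_of_mem rels _ relmem_17
theorem relmem_18 : FreeGroup.mk relW_18 ∈ rels :=
  Or.inl ⟨Gen.c, by decide, Gen.d, by decide, rfl⟩
theorem relone_18 : wG rels relW_18 = 1 := wG_one_of_mem rels _ relmem_18
theorem relmem_19 : FreeGroup.mk relW_19 ∈ rels :=
  Or.inl ⟨Gen.c, by decide, Gen.e, by decide, rfl⟩
theorem relone_19 : wG rels relW_19 = 1 := wG_one_of_mem rels _ relmem_19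
theorem relmem_20 : FreeGroup.mk relW_20 ∈ rels :=
  Or.inl ⟨Gen.c, by decide, Gen.h, by decide, rfl⟩
theorem relone_20 : wG rels relW_20 = 1 := wG_one_of_mem rels _ relmem_20
theorem relmem_21 : FreeGroup.mk relW_21 ∈ rels :=
  Or.inl ⟨Gen.c, by decide, Gen.f, by decide, rfl⟩
theorem relone_21 : wG rels relW_21 = 1 := wG_one_of_mem rels _ relmem_21
theorem relmem_22 : FreeGroup.mk relW_22 ∈ rels :=
  Or.inl ⟨Gen.c, by decide, Gen.g, by decide, rfl⟩
theorem relone_22 : wG rels relW_22 = 1 := wG_one_of_mem rels _ relmem_22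
theorem relmem_23 : FreeGroup.mk relW_23 ∈ rels :=
  Or.inl ⟨Gen.c, by decide, Gen.i, by decide, rfl⟩
theorem relone_23 : wG rels relW_23 = 1 := wG_one_of_mem rels _ relmem_23
theorem relmem_24 : FreeGroup.mk relW_24 ∈ rels :=
  Or.inl ⟨Gen.d, by decide, Gen.d, by decide, rfl⟩
theorem relone_24 : wG rels relW_24 = 1 := wG_one_of_mem rels _ relmem_24
theorem relmem_25 : FreeGroup.mk relW_25 ∈ rels :=
  Or.inl ⟨Gen.d, by decide, Gen.e, by decide, rfl⟩
theorem relone_25 : wG rels relW_25 = 1 := wG_one_of_mem rels _ relmem_25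
theorem relmem_26 : FreeGroup.mk relW_26 ∈ rels :=
  Or.inl ⟨Gen.d, by decide, Gen.h, by decide, rfl⟩
theorem relone_26 : wG rels relW_26 = 1 := wG_one_of_mem rels _ relmem_26
theorem relmem_27 : FreeGroup.mk relW_27 ∈ rels :=
  Or.inl ⟨Gen.d, by decide, Gen.f, by decide, rfl⟩
theorem relone_27 : wG rels relW_27 = 1 := wG_one_of_mem rels _ relmem_27
theorem relmem_28 : FreeGroup.mk relW_28 ∈ rels :=
  Or.inl ⟨Gen.d, by decide, Gen.g, by decide, rfl⟩
theorem relone_28 : wG rels relW_28 = 1 := wG_one_of_mem rels _ relmem_28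
theorem relmem_29 : FreeGroup.mk relW_29 ∈ rels :=
  Or.inl ⟨Gen.d, by decide, Gen.i, by decide, rfl⟩
theorem relone_29 : wG rels relW_29 = 1 := wG_one_of_mem rels _ relmem_29
theorem relmem_30 : FreeGroup.mk relW_30 ∈ rels :=
  Or.inl ⟨Gen.e, by decide, Gen.e, by decide, rfl⟩
theorem relone_30 : wG rels relW_30 = 1 := wG_one_of_mem rels _ relmem_30
theorem relmem_31 : FreeGroup.mk relW_31 ∈ rels :=
  Or.inl ⟨Gen.e, by decide, Gen.h, by decide, rfl⟩
theorem relone_31 : wG rels relW_31 = 1 := wG_one_of_mem rels _ relmem_31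
theorem relmem_32 : FreeGroup.mk relW_32 ∈ rels :=
  Or.inl ⟨Gen.e, by decide, Gen.f, by decide, rfl⟩
theorem relone_32 : wG rels relW_32 = 1 := wG_one_of_mem rels _ relmem_32
theorem relmem_33 : FreeGroup.mk relW_33 ∈ rels :=
  Or.inl ⟨Gen.e, by decide, Gen.g, by decide, rfl⟩
theorem relone_33 : wG rels relW_33 = 1 := wG_one_of_mem rels _ relmem_33
theorem relmem_34 : FreeGroup.mk relW_34 ∈ rels :=
  Or.inl ⟨Gen.e, by decide, Gen.i, by decide, rfl⟩
theorem relone_34 : wG rels relW_34 = 1 := wG_one_of_mem rels _ relmem_34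
theorem relmem_35 : FreeGroup.mk relW_35 ∈ rels :=
  Or.inl ⟨Gen.h, by decide, Gen.h, by decide, rfl⟩
theorem relone_35 : wG rels relW_35 = 1 := wG_one_of_mem rels _ relmem_35
theorem relmem_36 : FreeGroup.mk relW_36 ∈ rels :=
  Or.inl ⟨Gen.h, by decide, Gen.i, by decide, rfl⟩
theorem relone_36 : wG rels relW_36 = 1 := wG_one_of_mem rels _ relmem_36
theorem relmem_37 : FreeGroup.mk relW_37 ∈ rels :=
  Or.inl ⟨Gen.f, by decide, Gen.h, by decide, rfl⟩
theorem relone_37 : wG rels relW_37 = 1 := wG_one_of_mem rels _ relmem_37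
theorem relmem_38 : FreeGroup.mk relW_38 ∈ rels :=
  Or.inl ⟨Gen.f, by decide, Gen.f, by decide, rfl⟩
theorem relone_38 : wG rels relW_38 = 1 := wG_one_of_mem rels _ relmem_38
theorem relmem_39 : FreeGroup.mk relW_39 ∈ rels :=
  Or.inl ⟨Gen.f, by decide, Gen.g, by decide, rfl⟩
theorem relone_39 : wG rels relW_39 = 1 := wG_one_of_mem rels _ relmem_39
theorem relmem_40 : FreeGroup.mk relW_40 ∈ rels :=
  Or.inl ⟨Gen.f, by decide, Gen.i, by decide, rfl⟩
theorem relone_40 : wG rels relW_40 = 1 := wG_one_of_mem rels _ relmem_40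
theorem relmem_41 : FreeGroup.mk relW_41 ∈ rels :=
  Or.inl ⟨Gen.g, by decide, Gen.h, by decide, rfl⟩
theorem relone_41 : wG rels relW_41 = 1 := wG_one_of_mem rels _ relmem_41
theorem relmem_42 : FreeGroup.mk relW_42 ∈ rels :=
  Or.inl ⟨Gen.g, by decide, Gen.g, by decide, rfl⟩
theorem relone_42 : wG rels relW_42 = 1 := wG_one_of_mem rels _ relmem_42
theorem relmem_43 : FreeGroup.mk relW_43 ∈ rels :=
  Or.inl ⟨Gen.g, by decide, Gen.i, by decide, rfl⟩
theorem relone_43 : wG rels relW_43 = 1 := wG_one_of_mem rels _ relmem_43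
theorem relmem_44 : FreeGroup.mk relW_44 ∈ rels :=
  Or.inl ⟨Gen.i, by decide, Gen.i, by decide, rfl⟩
theorem relone_44 : wG rels relW_44 = 1 := wG_one_of_mem rels _ relmem_44
theorem relmem_45 : FreeGroup.mk relW_45 ∈ rels :=
  Or.inr (show FreeGroup.mk relW_45 ∈ Cfsg.Spor.Fi22.extra from List.Mem.head _)
theorem relone_45 : wG rels relW_45 = 1 := wG_one_of_mem rels _ relmem_45
theorem relmem_46 : FreeGroup.mk relW_46 ∈ rels :=
  Or.inr (show FreeGroup.mk relW_46 ∈ Cfsg.Spor.Fi22.extra from List.Mem.tail _ (List.Mem.head _))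
theorem relone_46 : wG rels relW_46 = 1 := wG_one_of_mem rels _ relmem_46
theorem relmem_47 : FreeGroup.mk relW_47 ∈ rels :=
  Or.inr (show FreeGroup.mk relW_47 ∈ Cfsg.Spor.Fi22.extra from List.Mem.tail _ (List.Mem.tail _ (List.Mem.head _)))
theorem relone_47 : wG rels relW_47 = 1 := wG_one_of_mem rels _ relmem_47
theorem submem_0 : FreeGroup.mk subW_0 ∈ S := Set.mem_insert _ _
theorem subH_0 : wG rels subW_0 ∈ subH rels S := wG_mem_of_mem rels S _ submem_0
theorem submem_1 : FreeGroup.mk subW_1 ∈ S := Set.mem_insert_of_mem _ (Set.mem_insert _ _)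
theorem subH_1 : wG rels subW_1 ∈ subH rels S := wG_mem_of_mem rels S _ submem_1
theorem submem_2 : FreeGroup.mk subW_2 ∈ S := Set.mem_insert_of_mem _ (Set.mem_insert_of_mem _ (Set.mem_insert _ _))
theorem subH_2 : wG rels subW_2 ∈ subH rels S := wG_mem_of_mem rels S _ submem_2
theorem submem_3 : FreeGroup.mk subW_3 ∈ S := Set.mem_insert_of_mem _ (Set.mem_insert_of_mem _ (Set.mem_insert_of_mem _ (Set.mem_insert _ _)))
theorem subH_3 : wG rels subW_3 ∈ subH rels S := wG_mem_of_mem rels S _ submem_3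
theorem submem_4 : FreeGroup.mk subW_4 ∈ S := Set.mem_insert_of_mem _ (Set.mem_insert_of_mem _ (Set.mem_insert_of_mem _ (Set.mem_insert_of_mem _ (Set.mem_insert _ _))))
theorem subH_4 : wG rels subW_4 ∈ subH rels S := wG_mem_of_mem rels S _ submem_4
theorem submem_5 : FreeGroup.mk subW_5 ∈ S := Set.mem_insert_of_mem _ (Set.mem_insert_of_mem _ (Set.mem_insert_of_mem _ (Set.mem_insert_of_mem _ (Set.mem_insert_of_mem _ (Set.mem_insert _ _)))))
theorem subH_5 : wG rels subW_5 ∈ subH rels S := wG_mem_of_mem rels S _ submem_5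
theorem submem_6 : FreeGroup.mk subW_6 ∈ S := Set.mem_insert_of_mem _ (Set.mem_insert_of_mem _ (Set.mem_insert_of_mem _ (Set.mem_insert_of_mem _ (Set.mem_insert_of_mem _ (Set.mem_insert_of_mem _ (Set.mem_insert _ _))))))
theorem subH_6 : wG rels subW_6 ∈ subH rels S := wG_mem_of_mem rels S _ submem_6
theorem submem_7 : FreeGroup.mk subW_7 ∈ S := Set.mem_insert_of_mem _ (Set.mem_insert_of_mem _ (Set.mem_insert_of_mem _ (Set.mem_insert_of_mem _ (Set.mem_insert_of_mem _ (Set.mem_insert_of_mem _ (Set.mem_insert_of_mem _ (Set.mem_insert _ _)))))))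
theorem subH_7 : wG rels subW_7 ∈ subH rels S := wG_mem_of_mem rels S _ submem_7
theorem submem_8 : FreeGroup.mk subW_8 ∈ S := Set.mem_insert_of_mem _ (Set.mem_insert_of_mem _ (Set.mem_insert_of_mem _ (Set.mem_insert_of_mem _ (Set.mem_insert_of_mem _ (Set.mem_insert_of_mem _ (Set.mem_insert_of_mem _ (Set.mem_insert_of_mem _ (Set.mem_singleton _))))))))
theorem subH_8 : wG rels subW_8 ∈ subH rels S := wG_mem_of_mem rels S _ submem_8
def rc_0_0 : Cert rels S Gen.a := Cert.rel true [(Gen.a, true)]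
  (wG_rot rels [] (Gen.a, true) [(Gen.a, true)] relone_0)
def rc_2_2 : Cert rels S Gen.a := Cert.rel true [(Gen.c, true), (Gen.a, true), (Gen.c, true)]
  (wG_rot rels [(Gen.a, true), (Gen.c, true)] (Gen.a, true) [(Gen.c, true)] relone_2)
def rc_3_2 : Cert rels S Gen.a := Cert.rel true [(Gen.d, true), (Gen.a, true), (Gen.d, true)]
  (wG_rot rels [(Gen.a, true), (Gen.d, true)] (Gen.a, true) [(Gen.d, true)] relone_3)
def rc_1_2 : Cert rels S Gen.a := Cert.rel true [(Gen.b, true), (Gen.a, true), (Gen.b, true), (Gen.a, true), (Gen.b, true)]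
  (wG_rot rels [(Gen.a, true), (Gen.b, true)] (Gen.a, true) [(Gen.b, true), (Gen.a, true), (Gen.b, true)] relone_1)
def rc_4_2 : Cert rels S Gen.a := Cert.rel true [(Gen.e, true), (Gen.a, true), (Gen.e, true)]
  (wG_rot rels [(Gen.a, true), (Gen.e, true)] (Gen.a, true) [(Gen.e, true)] relone_4)
def rc_5_2 : Cert rels S Gen.a := Cert.rel true [(Gen.h, true), (Gen.a, true), (Gen.h, true)]
  (wG_rot rels [(Gen.a, true), (Gen.h, true)] (Gen.a, true) [(Gen.h, true)] relone_5)
def rc_6_2 : Cert rels S Gen.a := Cert.rel true [(Gen.f, true), (Gen.a, true), (Gen.f, true)]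
  (wG_rot rels [(Gen.a, true), (Gen.f, true)] (Gen.a, true) [(Gen.f, true)] relone_6)
def rc_8_2 : Cert rels S Gen.a := Cert.rel true [(Gen.i, true), (Gen.a, true), (Gen.i, true)]
  (wG_rot rels [(Gen.a, true), (Gen.i, true)] (Gen.a, true) [(Gen.i, true)] relone_8)
def rc_7_2 : Cert rels S Gen.a := Cert.rel true [(Gen.g, true), (Gen.a, true), (Gen.g, true)]
  (wG_rot rels [(Gen.a, true), (Gen.g, true)] (Gen.a, true) [(Gen.g, true)] relone_7)
def rc_1_4 : Cert rels S Gen.a := Cert.rel true [(Gen.b, true), (Gen.a, true), (Gen.b, true), (Gen.a, true), (Gen.b, true)]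
  (wG_rot rels [(Gen.a, true), (Gen.b, true), (Gen.a, true), (Gen.b, true)] (Gen.a, true) [(Gen.b, true)] relone_1)
def rc_46_35 : Cert rels S Gen.a := Cert.rel true [(Gen.b, true), (Gen.c, true), (Gen.d, true), (Gen.e, true), (Gen.f, true), (Gen.h, true), (Gen.a, true), (Gen.b, true), (Gen.c, true), (Gen.d, true), (Gen.e, true), (Gen.f, true), (Gen.h, true), (Gen.a, true), (Gen.b, true), (Gen.c, true), (Gen.d, true), (Gen.e, true), (Gen.f, true), (Gen.h, true), (Gen.a, true), (Gen.b, true), (Gen.c, true), (Gen.d, true), (Gen.e, true), (Gen.f, true), (Gen.h, true), (Gen.a, true), (Gen.b, true), (Gen.c, true), (Gen.d, true), (Gen.e, true), (Gen.f, true), (Gen.h, true), (Gen.a, true), (Gen.b, true), (Gen.c, true), (Gen.d, true), (Gen.e, true), (Gen.f, true), (Gen.h, true), (Gen.a, true), (Gen.b, true), (Gen.c, true), (Gen.d, true), (Gen.e, true), (Gen.f, true), (Gen.h, true), (Gen.a, true), (Gen.b, true), (Gen.c, true), (Gen.d, true), (Gen.e, true), (Gen.f, true), (Gen.h, true), (Gen.a,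 true), (Gen.b, true), (Gen.c, true), (Gen.d, true), (Gen.e, true), (Gen.f, true), (Gen.h, true)]
  (wG_rot rels [(Gen.a, true), (Gen.b, true), (Gen.c, true), (Gen.d, true), (Gen.e, true), (Gen.f, true), (Gen.h, true), (Gen.a, true), (Gen.b, true), (Gen.c, true), (Gen.d, true), (Gen.e, true), (Gen.f, true), (Gen.h, true), (Gen.a, true), (Gen.b, true), (Gen.c, true), (Gen.d, true), (Gen.e, true), (Gen.f, true), (Gen.h, true), (Gen.a, true), (Gen.b, true), (Gen.c, true), (Gen.d, true), (Gen.e, true), (Gen.f, true), (Gen.h, true), (Gen.a, true), (Gen.b, true), (Gen.c, true), (Gen.d, true), (Gen.e, true), (Gen.f, true), (Gen.h, true)] (Gen.a, true) [(Gen.b, true), (Gen.c, true), (Gen.d, true), (Gen.e, true), (Gen.f, true), (Gen.h, true), (Gen.a, true), (Gen.b, true), (Gen.c, true), (Gen.d, true), (Gen.e, true), (Gen.f, true), (Gen.h, true), (Gen.a, true), (Gen.b, true), (Gen.c, true), (Gen.d, true), (Gen.e, true), (Gen.f, true), (Gen.h, true), (Gen.a, true), (Gen.b, true), (Gen.c, true),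 (Gen.d, true), (Gen.e, true), (Gen.f, true), (Gen.h, true)] relone_46)
def rc_46_49 : Cert rels S Gen.a := Cert.rel true [(Gen.b, true), (Gen.c, true), (Gen.d, true), (Gen.e, true), (Gen.f, true), (Gen.h, true), (Gen.a, true), (Gen.b, true), (Gen.c, true), (Gen.d, true), (Gen.e, true), (Gen.f, true), (Gen.h, true), (Gen.a, true), (Gen.b, true), (Gen.c, true), (Gen.d, true), (Gen.e, true), (Gen.f, true), (Gen.h, true), (Gen.a, true), (Gen.b, true), (Gen.c, true), (Gen.d, true), (Gen.e, true), (Gen.f, true), (Gen.h, true), (Gen.a, true), (Gen.b, true), (Gen.c, true), (Gen.d, true), (Gen.e, true), (Gen.f, true), (Gen.h, true), (Gen.a, true), (Gen.b, true), (Gen.c, true), (Gen.d, true), (Gen.e, true), (Gen.f, true), (Gen.h, true), (Gen.a, true), (Gen.b, true), (Gen.c, true), (Gen.d, true), (Gen.e, true), (Gen.f, true), (Gen.h, true), (Gen.a, true), (Gen.b, true), (Gen.c, true), (Gen.d, true), (Gen.e, true), (Gen.f, true), (Gen.h, true), (Gen.a, true), (Gen.b, true), (Gen.c, true), (Gen.d,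 true), (Gen.e, true), (Gen.f, true), (Gen.h, true)]
  (wG_rot rels [(Gen.a, true), (Gen.b, true), (Gen.c, true), (Gen.d, true), (Gen.e, true), (Gen.f, true), (Gen.h, true), (Gen.a, true), (Gen.b, true), (Gen.c, true), (Gen.d, true), (Gen.e, true), (Gen.f, true), (Gen.h, true), (Gen.a, true), (Gen.b, true), (Gen.c, true), (Gen.d, true), (Gen.e, true), (Gen.f, true), (Gen.h, true), (Gen.a, true), (Gen.b, true), (Gen.c, true), (Gen.d, true), (Gen.e, true), (Gen.f, true), (Gen.h, true), (Gen.a, true), (Gen.b, true), (Gen.c, true), (Gen.d, true), (Gen.e, true), (Gen.f, true), (Gen.h, true), (Gen.a, true), (Gen.b, true), (Gen.c, true), (Gen.d, true), (Gen.e, true), (Gen.f, true), (Gen.h, true), (Gen.a, true), (Gen.b, true), (Gen.c, true), (Gen.d, true), (Gen.e, true), (Gen.f, true), (Gen.h, true)] (Gen.a, true) [(Gen.b, true), (Gen.c, true), (Gen.d, true), (Gen.e, true), (Gen.f, true), (Gen.h, true), (Gen.a, true), (Gen.b, true), (Gen.c, true), (Gen.d, true), (Gen.e, true), (Gen.f, true),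 (Gen.h, true)] relone_46)
def rc_4_0 : Cert rels S Gen.a := Cert.rel true [(Gen.e, true), (Gen.a, true), (Gen.e, true)]
  (wG_rot rels [] (Gen.a, true) [(Gen.e, true), (Gen.a, true), (Gen.e, true)] relone_4)
def rc_8_0 : Cert rels S Gen.a := Cert.rel true [(Gen.i, true), (Gen.a, true), (Gen.i, true)]
  (wG_rot rels [] (Gen.a, true) [(Gen.i, true), (Gen.a, true), (Gen.i, true)] relone_8)
def rc_6_0 : Cert rels S Gen.a := Cert.rel true [(Gen.f, true), (Gen.a, true), (Gen.f, true)]
  (wG_rot rels [] (Gen.a, true) [(Gen.f, true), (Gen.a, true), (Gen.f, true)] relone_6)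
def rc_5_0 : Cert rels S Gen.a := Cert.rel true [(Gen.h, true), (Gen.a, true), (Gen.h, true)]
  (wG_rot rels [] (Gen.a, true) [(Gen.h, true), (Gen.a, true), (Gen.h, true)] relone_5)
def rc_3_0 : Cert rels S Gen.a := Cert.rel true [(Gen.d, true), (Gen.a, true), (Gen.d, true)]
  (wG_rot rels [] (Gen.a, true) [(Gen.d, true), (Gen.a, true), (Gen.d, true)] relone_3)
def rc_46_28 : Cert rels S Gen.a := Cert.rel true [(Gen.b, true), (Gen.c, true), (Gen.d, true), (Gen.e, true), (Gen.f, true), (Gen.h, true), (Gen.a, true), (Gen.b, true), (Gen.c, true), (Gen.d, true), (Gen.e, true), (Gen.f, true), (Gen.h, true), (Gen.a, true), (Gen.b, true), (Gen.c, true), (Gen.d, true), (Gen.e, true), (Gen.f, true), (Gen.h, true), (Gen.a, true), (Gen.b, true), (Gen.c, true), (Gen.d, true), (Gen.e, true), (Gen.f, true), (Gen.h, true), (Gen.a, true), (Gen.b, true), (Gen.c, true), (Gen.d, true), (Gen.e, true), (Gen.f, true), (Gen.h, true), (Gen.a, true), (Gen.b, true), (Gen.c, true), (Gen.d, true), (Gen.e,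 true), (Gen.f, true), (Gen.h, true), (Gen.a, true), (Gen.b, true), (Gen.c, true), (Gen.d, true), (Gen.e, true), (Gen.f, true), (Gen.h, true), (Gen.a, true), (Gen.b, true), (Gen.c, true), (Gen.d, true), (Gen.e, true), (Gen.f, true), (Gen.h, true), (Gen.a, true), (Gen.b, true), (Gen.c, true), (Gen.d, true), (Gen.e, true), (Gen.f, true), (Gen.h, true)]
  (wG_rot rels [(Gen.a, true), (Gen.b, true), (Gen.c, true), (Gen.d, true), (Gen.e, true), (Gen.f, true), (Gen.h, true), (Gen.a, true), (Gen.b, true), (Gen.c, true), (Gen.d, true), (Gen.e, true), (Gen.f, true), (Gen.h, true), (Gen.a, true), (Gen.b, true), (Gen.c, true), (Gen.d, true), (Gen.e, true), (Gen.f, true), (Gen.h, true), (Gen.a, true), (Gen.b, true), (Gen.c, true), (Gen.d, true), (Gen.e, true), (Gen.f, true), (Gen.h, true)] (Gen.a, true) [(Gen.b, true), (Gen.c, true), (Gen.d, true), (Gen.e, true), (Gen.f, true), (Gen.h, true), (Gen.a, true), (Gen.b, true), (Gen.c, true), (Gen.d, true), (Gen.e, true), (Gen.f, true), (Gen.h, true),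 (Gen.a, true), (Gen.b, true), (Gen.c, true), (Gen.d, true), (Gen.e, true), (Gen.f, true), (Gen.h, true), (Gen.a, true), (Gen.b, true), (Gen.c, true), (Gen.d, true), (Gen.e, true), (Gen.f, true), (Gen.h, true), (Gen.a, true), (Gen.b, true), (Gen.c, true), (Gen.d, true), (Gen.e, true), (Gen.f, true), (Gen.h, true)] relone_46)
def rc_7_0 : Cert rels S Gen.a := Cert.rel true [(Gen.g, true), (Gen.a, true), (Gen.g, true)]
  (wG_rot rels [] (Gen.a, true) [(Gen.g, true), (Gen.a, true), (Gen.g, true)] relone_7)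
def rc_2_0 : Cert rels S Gen.a := Cert.rel true [(Gen.c, true), (Gen.a, true), (Gen.c, true)]
  (wG_rot rels [] (Gen.a, true) [(Gen.c, true), (Gen.a, true), (Gen.c, true)] relone_2)
def rc_46_21 : Cert rels S Gen.a := Cert.rel true [(Gen.b, true), (Gen.c, true), (Gen.d, true), (Gen.e, true), (Gen.f, true), (Gen.h, true), (Gen.a, true), (Gen.b, true), (Gen.c, true), (Gen.d, true), (Gen.e, true), (Gen.f, true), (Gen.h, true), (Gen.a, true), (Gen.b, true), (Gen.c, true), (Gen.d, true), (Gen.e, true), (Gen.f, true), (Gen.h, true), (Gen.a, true), (Gen.b, true), (Gen.c, true), (Gen.d, true), (Gen.e, true), (Gen.f, true), (Gen.h, true), (Gen.a, true), (Gen.b, true), (Gen.c, true), (Gen.d, true), (Gen.e, true), (Gen.f, true), (Gen.h, true), (Gen.a, true), (Gen.b, true), (Gen.c, true), (Gen.d, true), (Gen.e, true), (Gen.f, true), (Gen.h, true), (Gen.a, true), (Gen.b, true), (Gen.c, true), (Gen.d, true), (Gen.e, true), (Gen.f, true), (Gen.h, true), (Gen.a, true), (Gen.b, true), (Gen.c, true),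 (Gen.d, true), (Gen.e, true), (Gen.f, true), (Gen.h, true), (Gen.a, true), (Gen.b, true), (Gen.c, true), (Gen.d, true), (Gen.e, true), (Gen.f, true), (Gen.h, true)]
  (wG_rot rels [(Gen.a, true), (Gen.b, true), (Gen.c, true), (Gen.d, true), (Gen.e, true), (Gen.f, true), (Gen.h, true), (Gen.a, true), (Gen.b, true), (Gen.c, true), (Gen.d, true), (Gen.e, true), (Gen.f, true), (Gen.h, true), (Gen.a, true), (Gen.b, true), (Gen.c, true), (Gen.d, true), (Gen.e, true), (Gen.f, true), (Gen.h, true)] (Gen.a, true) [(Gen.b, true), (Gen.c, true), (Gen.d, true), (Gen.e, true), (Gen.f, true), (Gen.h, true), (Gen.a, true), (Gen.b, true), (Gen.c, true), (Gen.d, true), (Gen.e, true), (Gen.f, true), (Gen.h, true), (Gen.a, true), (Gen.b, true), (Gen.c, true), (Gen.d, true), (Gen.e, true), (Gen.f, true), (Gen.h, true), (Gen.a, true), (Gen.b, true), (Gen.c, true), (Gen.d, true), (Gen.e, true), (Gen.f, true), (Gen.h, true), (Gen.a, true), (Gen.b, true), (Gen.c, true), (Gen.d, true), (Gen.e, true), (Gen.f,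 true), (Gen.h, true), (Gen.a, true), (Gen.b, true), (Gen.c, true), (Gen.d, true), (Gen.e, true), (Gen.f, true), (Gen.h, true)] relone_46)
def rc_46_14 : Cert rels S Gen.a := Cert.rel true [(Gen.b, true), (Gen.c, true), (Gen.d, true), (Gen.e, true), (Gen.f, true), (Gen.h, true), (Gen.a, true), (Gen.b, true), (Gen.c, true), (Gen.d, true), (Gen.e, true), (Gen.f, true), (Gen.h, true), (Gen.a, true), (Gen.b, true), (Gen.c, true), (Gen.d, true), (Gen.e, true), (Gen.f, true), (Gen.h, true), (Gen.a, true), (Gen.b, true), (Gen.c, true), (Gen.d, true), (Gen.e, true), (Gen.f, true), (Gen.h, true), (Gen.a, true), (Gen.b, true), (Gen.c, true), (Gen.d, true), (Gen.e, true), (Gen.f, true), (Gen.h, true), (Gen.a, true), (Gen.b, true), (Gen.c, true), (Gen.d, true), (Gen.e, true), (Gen.f, true), (Gen.h, true), (Gen.a, true), (Gen.b, true), (Gen.c, true), (Gen.d, true), (Gen.e, true), (Gen.f, true), (Gen.h, true), (Gen.a, true), (Gen.b, true), (Gen.c, true), (Gen.d, true), (Gen.e, true), (Gen.f, true),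 (Gen.h, true), (Gen.a, true), (Gen.b, true), (Gen.c, true), (Gen.d, true), (Gen.e, true), (Gen.f, true), (Gen.h, true)]
  (wG_rot rels [(Gen.a, true), (Gen.b, true), (Gen.c, true), (Gen.d, true), (Gen.e, true), (Gen.f, true), (Gen.h, true), (Gen.a, true), (Gen.b, true), (Gen.c, true), (Gen.d, true), (Gen.e, true), (Gen.f, true), (Gen.h, true)] (Gen.a, true) [(Gen.b, true), (Gen.c, true), (Gen.d, true), (Gen.e, true), (Gen.f, true), (Gen.h, true), (Gen.a, true), (Gen.b, true), (Gen.c, true), (Gen.d, true), (Gen.e, true), (Gen.f, true), (Gen.h, true), (Gen.a, true), (Gen.b, true), (Gen.c, true), (Gen.d, true), (Gen.e, true), (Gen.f, true), (Gen.h, true), (Gen.a, true), (Gen.b, true), (Gen.c, true), (Gen.d, true), (Gen.e, true), (Gen.f, true), (Gen.h, true), (Gen.a, true), (Gen.b, true), (Gen.c, true), (Gen.d, true), (Gen.e, true), (Gen.f, true), (Gen.h, true), (Gen.a, true), (Gen.b, true), (Gen.c, true), (Gen.d, true), (Gen.e, true), (Gen.f, true), (Gen.h, true), (Gen.a, true), (Gen.b,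 true), (Gen.c, true), (Gen.d, true), (Gen.e, true), (Gen.f, true), (Gen.h, true)] relone_46)
def rc_0_1 : Cert rels S Gen.a := Cert.rel true [(Gen.a, true)]
  (wG_rot rels [(Gen.a, true)] (Gen.a, true) [] relone_0)
def rc_1_0 : Cert rels S Gen.a := Cert.rel true [(Gen.b, true), (Gen.a, true), (Gen.b, true), (Gen.a, true), (Gen.b, true)]
  (wG_rot rels [] (Gen.a, true) [(Gen.b, true), (Gen.a, true), (Gen.b, true), (Gen.a, true), (Gen.b, true)] relone_1)
def rc_46_42 : Cert rels S Gen.a := Cert.rel true [(Gen.b, true), (Gen.c, true), (Gen.d, true), (Gen.e, true), (Gen.f, true), (Gen.h, true), (Gen.a, true), (Gen.b, true), (Gen.c, true), (Gen.d, true), (Gen.e, true), (Gen.f, true), (Gen.h, true), (Gen.a, true), (Gen.b, true), (Gen.c, true), (Gen.d, true), (Gen.e, true), (Gen.f, true), (Gen.h, true), (Gen.a, true), (Gen.b, true), (Gen.c, true), (Gen.d, true), (Gen.e, true), (Gen.f, true), (Gen.h, true), (Gen.a, true), (Gen.b, true), (Gen.c, true), (Gen.d, true), (Gen.e, true), (Gen.f,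 true), (Gen.h, true), (Gen.a, true), (Gen.b, true), (Gen.c, true), (Gen.d, true), (Gen.e, true), (Gen.f, true), (Gen.h, true), (Gen.a, true), (Gen.b, true), (Gen.c, true), (Gen.d, true), (Gen.e, true), (Gen.f, true), (Gen.h, true), (Gen.a, true), (Gen.b, true), (Gen.c, true), (Gen.d, true), (Gen.e, true), (Gen.f, true), (Gen.h, true), (Gen.a, true), (Gen.b, true), (Gen.c, true), (Gen.d, true), (Gen.e, true), (Gen.f, true), (Gen.h, true)]
  (wG_rot rels [(Gen.a, true), (Gen.b, true), (Gen.c, true), (Gen.d, true), (Gen.e, true), (Gen.f, true), (Gen.h, true), (Gen.a, true), (Gen.b, true), (Gen.c, true), (Gen.d, true), (Gen.e, true), (Gen.f, true), (Gen.h, true), (Gen.a, true), (Gen.b, true), (Gen.c, true), (Gen.d, true), (Gen.e, true), (Gen.f, true), (Gen.h, true), (Gen.a, true), (Gen.b, true), (Gen.c, true), (Gen.d, true), (Gen.e, true), (Gen.f, true), (Gen.h, true), (Gen.a, true), (Gen.b, true), (Gen.c, true), (Gen.d, true), (Gen.e, true), (Gen.f, true), (Gen.h, true), (Gen.a, true),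 (Gen.b, true), (Gen.c, true), (Gen.d, true), (Gen.e, true), (Gen.f, true), (Gen.h, true)] (Gen.a, true) [(Gen.b, true), (Gen.c, true), (Gen.d, true), (Gen.e, true), (Gen.f, true), (Gen.h, true), (Gen.a, true), (Gen.b, true), (Gen.c, true), (Gen.d, true), (Gen.e, true), (Gen.f, true), (Gen.h, true), (Gen.a, true), (Gen.b, true), (Gen.c, true), (Gen.d, true), (Gen.e, true), (Gen.f, true), (Gen.h, true)] relone_46)
def rc_46_56 : Cert rels S Gen.a := Cert.rel true [(Gen.b, true), (Gen.c, true), (Gen.d, true), (Gen.e, true), (Gen.f, true), (Gen.h, true), (Gen.a, true), (Gen.b, true), (Gen.c, true), (Gen.d, true), (Gen.e, true), (Gen.f, true), (Gen.h, true), (Gen.a, true), (Gen.b, true), (Gen.c, true), (Gen.d, true), (Gen.e, true), (Gen.f, true), (Gen.h, true), (Gen.a, true), (Gen.b, true), (Gen.c, true), (Gen.d, true), (Gen.e, true), (Gen.f, true), (Gen.h, true), (Gen.a, true), (Gen.b, true), (Gen.c, true), (Gen.d, true), (Gen.e, true), (Gen.f, true), (Gen.h, true), (Gen.a, true), (Gen.b,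 true), (Gen.c, true), (Gen.d, true), (Gen.e, true), (Gen.f, true), (Gen.h, true), (Gen.a, true), (Gen.b, true), (Gen.c, true), (Gen.d, true), (Gen.e, true), (Gen.f, true), (Gen.h, true), (Gen.a, true), (Gen.b, true), (Gen.c, true), (Gen.d, true), (Gen.e, true), (Gen.f, true), (Gen.h, true), (Gen.a, true), (Gen.b, true), (Gen.c, true), (Gen.d, true), (Gen.e, true), (Gen.f, true), (Gen.h, true)]
  (wG_rot rels [(Gen.a, true), (Gen.b, true), (Gen.c, true), (Gen.d, true), (Gen.e, true), (Gen.f, true), (Gen.h, true), (Gen.a, true), (Gen.b, true), (Gen.c, true), (Gen.d, true), (Gen.e, true), (Gen.f, true), (Gen.h, true), (Gen.a, true), (Gen.b, true), (Gen.c, true), (Gen.d, true), (Gen.e, true), (Gen.f, true), (Gen.h, true), (Gen.a, true), (Gen.b, true), (Gen.c, true), (Gen.d, true), (Gen.e, true), (Gen.f, true), (Gen.h, true), (Gen.a, true), (Gen.b, true), (Gen.c, true), (Gen.d, true), (Gen.e, true), (Gen.f, true), (Gen.h, true), (Gen.a, true), (Gen.b, true), (Gen.c, true), (Gen.d, true),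 (Gen.e, true), (Gen.f, true), (Gen.h, true), (Gen.a, true), (Gen.b, true), (Gen.c, true), (Gen.d, true), (Gen.e, true), (Gen.f, true), (Gen.h, true), (Gen.a, true), (Gen.b, true), (Gen.c, true), (Gen.d, true), (Gen.e, true), (Gen.f, true), (Gen.h, true)] (Gen.a, true) [(Gen.b, true), (Gen.c, true), (Gen.d, true), (Gen.e, true), (Gen.f, true), (Gen.h, true)] relone_46)
def rc_9_0 : Cert rels S Gen.b := Cert.rel true [(Gen.b, true)]
  (wG_rot rels [] (Gen.b, true) [(Gen.b, true)] relone_9)
def rc_1_3 : Cert rels S Gen.b := Cert.rel true [(Gen.a, true), (Gen.b, true), (Gen.a, true), (Gen.b, true), (Gen.a, true)]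
  (wG_rot rels [(Gen.a, true), (Gen.b, true), (Gen.a, true)] (Gen.b, true) [(Gen.a, true), (Gen.b, true)] relone_1)
def rc_10_2 : Cert rels S Gen.b := Cert.rel true [(Gen.c, true), (Gen.b, true), (Gen.c, true), (Gen.b, true), (Gen.c, true)]
  (wG_rot rels [(Gen.b, true), (Gen.c, true)] (Gen.b, true) [(Gen.c, true), (Gen.b, true), (Gen.c, true)] relone_10)
def rc_11_2 : Cert rels S Gen.b := Cert.rel true [(Gen.d, true), (Gen.b, true), (Gen.d, true)]
  (wG_rot rels [(Gen.b, true), (Gen.d, true)] (Gen.b, true) [(Gen.d, true)] relone_11)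
def rc_12_2 : Cert rels S Gen.b := Cert.rel true [(Gen.e, true), (Gen.b, true), (Gen.e, true)]
  (wG_rot rels [(Gen.b, true), (Gen.e, true)] (Gen.b, true) [(Gen.e, true)] relone_12)
def rc_13_2 : Cert rels S Gen.b := Cert.rel true [(Gen.h, true), (Gen.b, true), (Gen.h, true)]
  (wG_rot rels [(Gen.b, true), (Gen.h, true)] (Gen.b, true) [(Gen.h, true)] relone_13)
def rc_14_2 : Cert rels S Gen.b := Cert.rel true [(Gen.f, true), (Gen.b, true), (Gen.f, true)]
  (wG_rot rels [(Gen.b, true), (Gen.f, true)] (Gen.b, true) [(Gen.f, true)] relone_14)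
def rc_16_2 : Cert rels S Gen.b := Cert.rel true [(Gen.i, true), (Gen.b, true), (Gen.i, true)]
  (wG_rot rels [(Gen.b, true), (Gen.i, true)] (Gen.b, true) [(Gen.i, true)] relone_16)
def rc_15_2 : Cert rels S Gen.b := Cert.rel true [(Gen.g, true), (Gen.b, true), (Gen.g, true)]
  (wG_rot rels [(Gen.b, true), (Gen.g, true)] (Gen.b, true) [(Gen.g, true)] relone_15)
def rc_10_4 : Cert rels S Gen.b := Cert.rel true [(Gen.c, true), (Gen.b, true), (Gen.c, true), (Gen.b, true), (Gen.c, true)]
  (wG_rot rels [(Gen.b, true), (Gen.c, true), (Gen.b, true), (Gen.c, true)] (Gen.b, true) [(Gen.c, true)] relone_10)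
def rc_46_29 : Cert rels S Gen.b := Cert.rel true [(Gen.c, true), (Gen.d, true), (Gen.e, true), (Gen.f, true), (Gen.h, true), (Gen.a, true), (Gen.b, true), (Gen.c, true), (Gen.d, true), (Gen.e, true), (Gen.f, true), (Gen.h, true), (Gen.a, true), (Gen.b, true), (Gen.c, true), (Gen.d, true), (Gen.e, true), (Gen.f, true), (Gen.h, true), (Gen.a, true), (Gen.b, true), (Gen.c, true), (Gen.d, true), (Gen.e, true), (Gen.f, true), (Gen.h, true), (Gen.a, true), (Gen.b, true), (Gen.c, true), (Gen.d, true), (Gen.e, true), (Gen.f, true), (Gen.h, true), (Gen.a, true), (Gen.b, true), (Gen.c, true), (Gen.d, true), (Gen.e, true), (Gen.f, true), (Gen.h, true), (Gen.a, true), (Gen.b, true), (Gen.c, true), (Gen.d, true), (Gen.e, true), (Gen.f, true), (Gen.h, true), (Gen.a, true), (Gen.b, true), (Gen.c, true), (Gen.d, true), (Gen.e, true), (Gen.f, true), (Gen.h, true), (Gen.a, true), (Gen.b, true), (Gen.c, true), (Gen.d, true), (Gen.e, true), (Gen.f, true), (Gen.h, true), (Gen.a, true)]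
  (wG_rot rels [(Gen.a, true), (Gen.b, true), (Gen.c, true), (Gen.d, true), (Gen.e, true), (Gen.f, true), (Gen.h, true), (Gen.a, true), (Gen.b, true), (Gen.c, true), (Gen.d, true), (Gen.e, true), (Gen.f, true), (Gen.h, true), (Gen.a, true), (Gen.b, true), (Gen.c, true), (Gen.d, true), (Gen.e, true), (Gen.f, true), (Gen.h, true), (Gen.a, true), (Gen.b, true), (Gen.c, true), (Gen.d, true), (Gen.e, true), (Gen.f, true), (Gen.h, true), (Gen.a, true)] (Gen.b, true) [(Gen.c, true), (Gen.d, true), (Gen.e, true), (Gen.f, true), (Gen.h, true), (Gen.a, true), (Gen.b, true), (Gen.c, true), (Gen.d, true), (Gen.e, true), (Gen.f, true), (Gen.h, true), (Gen.a, true), (Gen.b, true), (Gen.c, true), (Gen.d, true), (Gen.e, true), (Gen.f, true), (Gen.h, true), (Gen.a, true), (Gen.b, true), (Gen.c, true), (Gen.d, true), (Gen.e, true), (Gen.f, true), (Gen.h, true), (Gen.a, true), (Gen.b, true), (Gen.c, true), (Gen.d, true), (Gen.e, true), (Gen.f, true), (Gen.h, true)] relone_46)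
def rc_9_1 : Cert rels S Gen.b := Cert.rel true [(Gen.b, true)]
  (wG_rot rels [(Gen.b, true)] (Gen.b, true) [] relone_9)
def rc_47_28 : Cert rels S Gen.b := Cert.rel true [(Gen.c, true), (Gen.d, true), (Gen.e, true), (Gen.f, true), (Gen.g, true), (Gen.h, true), (Gen.b, true), (Gen.c, true), (Gen.d, true), (Gen.e, true), (Gen.f, true), (Gen.g, true), (Gen.h, true), (Gen.b, true), (Gen.c, true), (Gen.d, true), (Gen.e, true), (Gen.f, true), (Gen.g, true), (Gen.h, true), (Gen.b, true), (Gen.c, true), (Gen.d, true), (Gen.e, true), (Gen.f, true), (Gen.g, true), (Gen.h, true), (Gen.b, true), (Gen.c, true), (Gen.d, true), (Gen.e, true), (Gen.f, true), (Gen.g, true), (Gen.h, true), (Gen.b, true), (Gen.c, true), (Gen.d, true), (Gen.e, true), (Gen.f, true), (Gen.g, true), (Gen.h, true), (Gen.b, true), (Gen.c, true), (Gen.d, true), (Gen.e, true), (Gen.f, true), (Gen.g, true), (Gen.h, true), (Gen.b, true), (Gen.c, true), (Gen.d, true), (Gen.e, true), (Gen.f, true), (Gen.g, true), (Gen.h, true),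 (Gen.b, true), (Gen.c, true), (Gen.d, true), (Gen.e, true), (Gen.f, true), (Gen.g, true), (Gen.h, true)]
  (wG_rot rels [(Gen.b, true), (Gen.c, true), (Gen.d, true), (Gen.e, true), (Gen.f, true), (Gen.g, true), (Gen.h, true), (Gen.b, true), (Gen.c, true), (Gen.d, true), (Gen.e, true), (Gen.f, true), (Gen.g, true), (Gen.h, true), (Gen.b, true), (Gen.c, true), (Gen.d, true), (Gen.e, true), (Gen.f, true), (Gen.g, true), (Gen.h, true), (Gen.b, true), (Gen.c, true), (Gen.d, true), (Gen.e, true), (Gen.f, true), (Gen.g, true), (Gen.h, true)] (Gen.b, true) [(Gen.c, true), (Gen.d, true), (Gen.e, true), (Gen.f, true), (Gen.g, true), (Gen.h, true), (Gen.b, true), (Gen.c, true), (Gen.d, true), (Gen.e, true), (Gen.f, true), (Gen.g, true), (Gen.h, true), (Gen.b, true), (Gen.c, true), (Gen.d, true), (Gen.e, true), (Gen.f, true), (Gen.g, true), (Gen.h, true), (Gen.b, true), (Gen.c, true), (Gen.d, true), (Gen.e, true), (Gen.f, true), (Gen.g, true), (Gen.h, true), (Gen.b, true), (Gen.c, true), (Gen.d,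 true), (Gen.e, true), (Gen.f, true), (Gen.g, true), (Gen.h, true)] relone_47)
def rc_47_21 : Cert rels S Gen.b := Cert.rel true [(Gen.c, true), (Gen.d, true), (Gen.e, true), (Gen.f, true), (Gen.g, true), (Gen.h, true), (Gen.b, true), (Gen.c, true), (Gen.d, true), (Gen.e, true), (Gen.f, true), (Gen.g, true), (Gen.h, true), (Gen.b, true), (Gen.c, true), (Gen.d, true), (Gen.e, true), (Gen.f, true), (Gen.g, true), (Gen.h, true), (Gen.b, true), (Gen.c, true), (Gen.d, true), (Gen.e, true), (Gen.f, true), (Gen.g, true), (Gen.h, true), (Gen.b, true), (Gen.c, true), (Gen.d, true), (Gen.e, true), (Gen.f, true), (Gen.g, true), (Gen.h, true), (Gen.b, true), (Gen.c, true), (Gen.d, true), (Gen.e, true), (Gen.f, true), (Gen.g, true), (Gen.h, true), (Gen.b, true), (Gen.c, true), (Gen.d, true), (Gen.e, true), (Gen.f, true), (Gen.g, true), (Gen.h, true), (Gen.b, true), (Gen.c, true), (Gen.d, true), (Gen.e, true), (Gen.f, true), (Gen.g, true), (Gen.h, true), (Gen.b, true), (Gen.c, true), (Gen.d, true),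 (Gen.e, true), (Gen.f, true), (Gen.g, true), (Gen.h, true)]
  (wG_rot rels [(Gen.b, true), (Gen.c, true), (Gen.d, true), (Gen.e, true), (Gen.f, true), (Gen.g, true), (Gen.h, true), (Gen.b, true), (Gen.c, true), (Gen.d, true), (Gen.e, true), (Gen.f, true), (Gen.g, true), (Gen.h, true), (Gen.b, true), (Gen.c, true), (Gen.d, true), (Gen.e, true), (Gen.f, true), (Gen.g, true), (Gen.h, true)] (Gen.b, true) [(Gen.c, true), (Gen.d, true), (Gen.e, true), (Gen.f, true), (Gen.g, true), (Gen.h, true), (Gen.b, true), (Gen.c, true), (Gen.d, true), (Gen.e, true), (Gen.f, true), (Gen.g, true), (Gen.h, true), (Gen.b, true), (Gen.c, true), (Gen.d, true), (Gen.e, true), (Gen.f, true), (Gen.g, true), (Gen.h, true), (Gen.b, true), (Gen.c, true), (Gen.d, true), (Gen.e, true), (Gen.f, true), (Gen.g, true), (Gen.h, true), (Gen.b, true), (Gen.c, true), (Gen.d, true), (Gen.e, true), (Gen.f, true), (Gen.g, true), (Gen.h, true), (Gen.b, true), (Gen.c, true), (Gen.d, true), (Gen.e, true), (Gen.f, true), (Gen.g,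 true), (Gen.h, true)] relone_47)
def rc_45_47 : Cert rels S Gen.b := Cert.rel true [(Gen.d, true), (Gen.e, true), (Gen.f, true), (Gen.d, true), (Gen.h, true), (Gen.i, true), (Gen.d, true), (Gen.c, true), (Gen.b, true), (Gen.d, true), (Gen.e, true), (Gen.f, true), (Gen.d, true), (Gen.h, true), (Gen.i, true), (Gen.d, true), (Gen.c, true), (Gen.b, true), (Gen.d, true), (Gen.e, true), (Gen.f, true), (Gen.d, true), (Gen.h, true), (Gen.i, true), (Gen.d, true), (Gen.c, true), (Gen.b, true), (Gen.d, true), (Gen.e, true), (Gen.f, true), (Gen.d, true), (Gen.h, true), (Gen.i, true), (Gen.d, true), (Gen.c, true), (Gen.b, true), (Gen.d, true), (Gen.e, true), (Gen.f, true), (Gen.d, true), (Gen.h, true), (Gen.i, true), (Gen.d, true), (Gen.c, true), (Gen.b, true), (Gen.d, true), (Gen.e, true), (Gen.f, true), (Gen.d, true), (Gen.h, true), (Gen.i, true), (Gen.d, true), (Gen.c, true), (Gen.b, true), (Gen.d, true), (Gen.e, true), (Gen.f, true), (Gen.d, true), (Gen.h, true), (Gen.i, true), (Gen.d, true),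 (Gen.c, true), (Gen.b, true), (Gen.d, true), (Gen.e, true), (Gen.f, true), (Gen.d, true), (Gen.h, true), (Gen.i, true), (Gen.d, true), (Gen.c, true), (Gen.b, true), (Gen.d, true), (Gen.e, true), (Gen.f, true), (Gen.d, true), (Gen.h, true), (Gen.i, true), (Gen.d, true), (Gen.c, true), (Gen.b, true), (Gen.d, true), (Gen.e, true), (Gen.f, true), (Gen.d, true), (Gen.h, true), (Gen.i, true), (Gen.d, true), (Gen.c, true)]
  (wG_rot rels [(Gen.d, true), (Gen.c, true), (Gen.b, true), (Gen.d, true), (Gen.e, true), (Gen.f, true), (Gen.d, true), (Gen.h, true), (Gen.i, true), (Gen.d, true), (Gen.c, true), (Gen.b, true), (Gen.d, true), (Gen.e, true), (Gen.f, true), (Gen.d, true), (Gen.h, true), (Gen.i, true), (Gen.d, true), (Gen.c, true), (Gen.b, true), (Gen.d, true), (Gen.e, true), (Gen.f, true), (Gen.d, true), (Gen.h, true), (Gen.i, true), (Gen.d, true), (Gen.c, true), (Gen.b, true), (Gen.d, true), (Gen.e, true), (Gen.f, true), (Gen.d, true), (Gen.h, true), (Gen.i, true), (Gen.d, true), (Gen.c,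 true), (Gen.b, true), (Gen.d, true), (Gen.e, true), (Gen.f, true), (Gen.d, true), (Gen.h, true), (Gen.i, true), (Gen.d, true), (Gen.c, true)] (Gen.b, true) [(Gen.d, true), (Gen.e, true), (Gen.f, true), (Gen.d, true), (Gen.h, true), (Gen.i, true), (Gen.d, true), (Gen.c, true), (Gen.b, true), (Gen.d, true), (Gen.e, true), (Gen.f, true), (Gen.d, true), (Gen.h, true), (Gen.i, true), (Gen.d, true), (Gen.c, true), (Gen.b, true), (Gen.d, true), (Gen.e, true), (Gen.f, true), (Gen.d, true), (Gen.h, true), (Gen.i, true), (Gen.d, true), (Gen.c, true), (Gen.b, true), (Gen.d, true), (Gen.e, true), (Gen.f, true), (Gen.d, true), (Gen.h, true), (Gen.i, true), (Gen.d, true), (Gen.c, true), (Gen.b, true), (Gen.d, true), (Gen.e, true), (Gen.f, true), (Gen.d, true), (Gen.h, true), (Gen.i, true)] relone_45)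
def rc_12_0 : Cert rels S Gen.b := Cert.rel true [(Gen.e, true), (Gen.b, true), (Gen.e, true)]
  (wG_rot rels [] (Gen.b, true) [(Gen.e, true), (Gen.b, true), (Gen.e, true)] relone_12)
def rc_1_1 : Cert rels S Gen.b := Cert.rel true [(Gen.a, true), (Gen.b, true), (Gen.a, true), (Gen.b, true), (Gen.a, true)]
  (wG_rot rels [(Gen.a, true)] (Gen.b, true) [(Gen.a, true), (Gen.b, true), (Gen.a, true), (Gen.b, true)] relone_1)
def rc_47_56 : Cert rels S Gen.b := Cert.rel true [(Gen.c, true), (Gen.d, true), (Gen.e, true), (Gen.f, true), (Gen.g, true), (Gen.h, true), (Gen.b, true), (Gen.c, true), (Gen.d, true), (Gen.e, true), (Gen.f, true), (Gen.g, true), (Gen.h, true), (Gen.b, true), (Gen.c, true), (Gen.d, true), (Gen.e, true), (Gen.f, true), (Gen.g, true), (Gen.h, true), (Gen.b, true), (Gen.c, true), (Gen.d, true), (Gen.e, true), (Gen.f, true), (Gen.g, true), (Gen.h, true), (Gen.b, true), (Gen.c, true), (Gen.d, true), (Gen.e, true), (Gen.f, true), (Gen.g, true), (Gen.h, true), (Gen.b,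 true), (Gen.c, true), (Gen.d, true), (Gen.e, true), (Gen.f, true), (Gen.g, true), (Gen.h, true), (Gen.b, true), (Gen.c, true), (Gen.d, true), (Gen.e, true), (Gen.f, true), (Gen.g, true), (Gen.h, true), (Gen.b, true), (Gen.c, true), (Gen.d, true), (Gen.e, true), (Gen.f, true), (Gen.g, true), (Gen.h, true), (Gen.b, true), (Gen.c, true), (Gen.d, true), (Gen.e, true), (Gen.f, true), (Gen.g, true), (Gen.h, true)]
  (wG_rot rels [(Gen.b, true), (Gen.c, true), (Gen.d, true), (Gen.e, true), (Gen.f, true), (Gen.g, true), (Gen.h, true), (Gen.b, true), (Gen.c, true), (Gen.d, true), (Gen.e, true), (Gen.f, true), (Gen.g, true), (Gen.h, true), (Gen.b, true), (Gen.c, true), (Gen.d, true), (Gen.e, true), (Gen.f, true), (Gen.g, true), (Gen.h, true), (Gen.b, true), (Gen.c, true), (Gen.d, true), (Gen.e, true), (Gen.f, true), (Gen.g, true), (Gen.h, true), (Gen.b, true), (Gen.c, true), (Gen.d, true), (Gen.e, true), (Gen.f, true), (Gen.g, true), (Gen.h, true), (Gen.b, true), (Gen.c, true), (Gen.d, true),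 (Gen.e, true), (Gen.f, true), (Gen.g, true), (Gen.h, true), (Gen.b, true), (Gen.c, true), (Gen.d, true), (Gen.e, true), (Gen.f, true), (Gen.g, true), (Gen.h, true), (Gen.b, true), (Gen.c, true), (Gen.d, true), (Gen.e, true), (Gen.f, true), (Gen.g, true), (Gen.h, true)] (Gen.b, true) [(Gen.c, true), (Gen.d, true), (Gen.e, true), (Gen.f, true), (Gen.g, true), (Gen.h, true)] relone_47)
def rc_14_0 : Cert rels S Gen.b := Cert.rel true [(Gen.f, true), (Gen.b, true), (Gen.f, true)]
  (wG_rot rels [] (Gen.b, true) [(Gen.f, true), (Gen.b, true), (Gen.f, true)] relone_14)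
def rc_16_0 : Cert rels S Gen.b := Cert.rel true [(Gen.i, true), (Gen.b, true), (Gen.i, true)]
  (wG_rot rels [] (Gen.b, true) [(Gen.i, true), (Gen.b, true), (Gen.i, true)] relone_16)
def rc_13_0 : Cert rels S Gen.b := Cert.rel true [(Gen.h, true), (Gen.b, true), (Gen.h, true)]
  (wG_rot rels [] (Gen.b, true) [(Gen.h, true), (Gen.b, true), (Gen.h, true)] relone_13)
def rc_45_38 : Cert rels S Gen.b := Cert.rel true [(Gen.d, true), (Gen.e, true), (Gen.f, true), (Gen.d, true), (Gen.h, true), (Gen.i, true), (Gen.d, true), (Gen.c, true), (Gen.b, true), (Gen.d, true), (Gen.e, true), (Gen.f, true), (Gen.d, true), (Gen.h, true), (Gen.i, true), (Gen.d, true), (Gen.c, true), (Gen.b, true), (Gen.d, true), (Gen.e, true), (Gen.f, true), (Gen.d, true), (Gen.h, true), (Gen.i, true), (Gen.d, true), (Gen.c, true), (Gen.b, true), (Gen.d, true), (Gen.e, true), (Gen.f, true), (Gen.d, true), (Gen.h, true), (Gen.i, true), (Gen.d, true), (Gen.c, true), (Gen.b, true), (Gen.d, true), (Gen.e, true), (Gen.f,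 true), (Gen.d, true), (Gen.h, true), (Gen.i, true), (Gen.d, true), (Gen.c, true), (Gen.b, true), (Gen.d, true), (Gen.e, true), (Gen.f, true), (Gen.d, true), (Gen.h, true), (Gen.i, true), (Gen.d, true), (Gen.c, true), (Gen.b, true), (Gen.d, true), (Gen.e, true), (Gen.f, true), (Gen.d, true), (Gen.h, true), (Gen.i, true), (Gen.d, true), (Gen.c, true), (Gen.b, true), (Gen.d, true), (Gen.e, true), (Gen.f, true), (Gen.d, true), (Gen.h, true), (Gen.i, true), (Gen.d, true), (Gen.c, true), (Gen.b, true), (Gen.d, true), (Gen.e, true), (Gen.f, true), (Gen.d, true), (Gen.h, true), (Gen.i, true), (Gen.d, true), (Gen.c, true), (Gen.b, true), (Gen.d, true), (Gen.e, true), (Gen.f, true), (Gen.d, true), (Gen.h, true), (Gen.i, true), (Gen.d, true), (Gen.c, true)]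
  (wG_rot rels [(Gen.d, true), (Gen.c, true), (Gen.b, true), (Gen.d, true), (Gen.e, true), (Gen.f, true), (Gen.d, true), (Gen.h, true), (Gen.i, true), (Gen.d, true), (Gen.c, true), (Gen.b, true), (Gen.d, true), (Gen.e, true), (Gen.f, true), (Gen.d, true), (Gen.h, true), (Gen.i, true), (Gen.d, true), (Gen.c, true), (Gen.b, true), (Gen.d, true), (Gen.e, true), (Gen.f, true), (Gen.d, true), (Gen.h, true), (Gen.i, true), (Gen.d, true), (Gen.c, true), (Gen.b, true), (Gen.d, true), (Gen.e, true), (Gen.f, true), (Gen.d, true), (Gen.h, true), (Gen.i, true), (Gen.d, true), (Gen.c, true)] (Gen.b, true) [(Gen.d, true), (Gen.e, true), (Gen.f, true), (Gen.d, true), (Gen.h, true), (Gen.i, true), (Gen.d, true), (Gen.c, true), (Gen.b, true), (Gen.d, true), (Gen.e, true), (Gen.f, true), (Gen.d, true), (Gen.h, true), (Gen.i, true), (Gen.d, true), (Gen.c, true), (Gen.b, true), (Gen.d, true), (Gen.e, true), (Gen.f, true), (Gen.d, true), (Gen.h, true), (Gen.i, true), (Gen.d, true), (Gen.c, true), (Gen.b,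 true), (Gen.d, true), (Gen.e, true), (Gen.f, true), (Gen.d, true), (Gen.h, true), (Gen.i, true), (Gen.d, true), (Gen.c, true), (Gen.b, true), (Gen.d, true), (Gen.e, true), (Gen.f, true), (Gen.d, true), (Gen.h, true), (Gen.i, true), (Gen.d, true), (Gen.c, true), (Gen.b, true), (Gen.d, true), (Gen.e, true), (Gen.f, true), (Gen.d, true), (Gen.h, true), (Gen.i, true)] relone_45)
def rc_11_0 : Cert rels S Gen.b := Cert.rel true [(Gen.d, true), (Gen.b, true), (Gen.d, true)]
  (wG_rot rels [] (Gen.b, true) [(Gen.d, true), (Gen.b, true), (Gen.d, true)] relone_11)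
def rc_10_0 : Cert rels S Gen.b := Cert.rel true [(Gen.c, true), (Gen.b, true), (Gen.c, true), (Gen.b, true), (Gen.c, true)]
  (wG_rot rels [] (Gen.b, true) [(Gen.c, true), (Gen.b, true), (Gen.c, true), (Gen.b, true), (Gen.c, true)] relone_10)
def rc_47_35 : Cert rels S Gen.b := Cert.rel true [(Gen.c, true), (Gen.d, true), (Gen.e, true), (Gen.f, true), (Gen.g, true), (Gen.h, true), (Gen.b, true), (Gen.c, true), (Gen.d, true), (Gen.e, true), (Gen.f, true), (Gen.g, true), (Gen.h, true), (Gen.b, true), (Gen.c, true), (Gen.d, true), (Gen.e, true), (Gen.f, true), (Gen.g, true), (Gen.h, true), (Gen.b, true), (Gen.c, true), (Gen.d, true), (Gen.e, true), (Gen.f, true), (Gen.g, true), (Gen.h, true), (Gen.b, true), (Gen.c, true), (Gen.d, true), (Gen.e, true), (Gen.f, true), (Gen.g, true), (Gen.h, true), (Gen.b, true), (Gen.c, true), (Gen.d, true), (Gen.e, true), (Gen.f, true), (Gen.g, true), (Gen.h, true), (Gen.b, true), (Gen.c, true), (Gen.d, true), (Gen.e, true), (Gen.f, true), (Gen.g,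 true), (Gen.h, true), (Gen.b, true), (Gen.c, true), (Gen.d, true), (Gen.e, true), (Gen.f, true), (Gen.g, true), (Gen.h, true), (Gen.b, true), (Gen.c, true), (Gen.d, true), (Gen.e, true), (Gen.f, true), (Gen.g, true), (Gen.h, true)]
  (wG_rot rels [(Gen.b, true), (Gen.c, true), (Gen.d, true), (Gen.e, true), (Gen.f, true), (Gen.g, true), (Gen.h, true), (Gen.b, true), (Gen.c, true), (Gen.d, true), (Gen.e, true), (Gen.f, true), (Gen.g, true), (Gen.h, true), (Gen.b, true), (Gen.c, true), (Gen.d, true), (Gen.e, true), (Gen.f, true), (Gen.g, true), (Gen.h, true), (Gen.b, true), (Gen.c, true), (Gen.d, true), (Gen.e, true), (Gen.f, true), (Gen.g, true), (Gen.h, true), (Gen.b, true), (Gen.c, true), (Gen.d, true), (Gen.e, true), (Gen.f, true), (Gen.g, true), (Gen.h, true)] (Gen.b, true) [(Gen.c, true), (Gen.d, true), (Gen.e, true), (Gen.f, true), (Gen.g, true), (Gen.h, true), (Gen.b, true), (Gen.c, true), (Gen.d, true), (Gen.e, true), (Gen.f, true), (Gen.g, true), (Gen.h, true), (Gen.b, true),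 (Gen.c, true), (Gen.d, true), (Gen.e, true), (Gen.f, true), (Gen.g, true), (Gen.h, true), (Gen.b, true), (Gen.c, true), (Gen.d, true), (Gen.e, true), (Gen.f, true), (Gen.g, true), (Gen.h, true)] relone_47)
def rc_47_49 : Cert rels S Gen.b := Cert.rel true [(Gen.c, true), (Gen.d, true), (Gen.e, true), (Gen.f, true), (Gen.g, true), (Gen.h, true), (Gen.b, true), (Gen.c, true), (Gen.d, true), (Gen.e, true), (Gen.f, true), (Gen.g, true), (Gen.h, true), (Gen.b, true), (Gen.c, true), (Gen.d, true), (Gen.e, true), (Gen.f, true), (Gen.g, true), (Gen.h, true), (Gen.b, true), (Gen.c, true), (Gen.d, true), (Gen.e, true), (Gen.f, true), (Gen.g, true), (Gen.h, true), (Gen.b, true), (Gen.c, true), (Gen.d, true), (Gen.e, true), (Gen.f, true), (Gen.g, true), (Gen.h, true), (Gen.b, true), (Gen.c, true), (Gen.d, true), (Gen.e, true), (Gen.f, true), (Gen.g, true), (Gen.h, true), (Gen.b, true), (Gen.c, true), (Gen.d, true), (Gen.e, true), (Gen.f, true), (Gen.g, true), (Gen.h, true), (Gen.b, true), (Gen.c,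 true), (Gen.d, true), (Gen.e, true), (Gen.f, true), (Gen.g, true), (Gen.h, true), (Gen.b, true), (Gen.c, true), (Gen.d, true), (Gen.e, true), (Gen.f, true), (Gen.g, true), (Gen.h, true)]
  (wG_rot rels [(Gen.b, true), (Gen.c, true), (Gen.d, true), (Gen.e, true), (Gen.f, true), (Gen.g, true), (Gen.h, true), (Gen.b, true), (Gen.c, true), (Gen.d, true), (Gen.e, true), (Gen.f, true), (Gen.g, true), (Gen.h, true), (Gen.b, true), (Gen.c, true), (Gen.d, true), (Gen.e, true), (Gen.f, true), (Gen.g, true), (Gen.h, true), (Gen.b, true), (Gen.c, true), (Gen.d, true), (Gen.e, true), (Gen.f, true), (Gen.g, true), (Gen.h, true), (Gen.b, true), (Gen.c, true), (Gen.d, true), (Gen.e, true), (Gen.f, true), (Gen.g, true), (Gen.h, true), (Gen.b, true), (Gen.c, true), (Gen.d, true), (Gen.e, true), (Gen.f, true), (Gen.g, true), (Gen.h, true), (Gen.b, true), (Gen.c, true), (Gen.d, true), (Gen.e, true), (Gen.f, true), (Gen.g, true), (Gen.h, true)] (Gen.b, true) [(Gen.c, true), (Gen.d, true), (Gen.e, true),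 (Gen.f, true), (Gen.g, true), (Gen.h, true), (Gen.b, true), (Gen.c, true), (Gen.d, true), (Gen.e, true), (Gen.f, true), (Gen.g, true), (Gen.h, true)] relone_47)
def rc_47_7 : Cert rels S Gen.b := Cert.rel true [(Gen.c, true), (Gen.d, true), (Gen.e, true), (Gen.f, true), (Gen.g, true), (Gen.h, true), (Gen.b, true), (Gen.c, true), (Gen.d, true), (Gen.e, true), (Gen.f, true), (Gen.g, true), (Gen.h, true), (Gen.b, true), (Gen.c, true), (Gen.d, true), (Gen.e, true), (Gen.f, true), (Gen.g, true), (Gen.h, true), (Gen.b, true), (Gen.c, true), (Gen.d, true), (Gen.e, true), (Gen.f, true), (Gen.g, true), (Gen.h, true), (Gen.b, true), (Gen.c, true), (Gen.d, true), (Gen.e, true), (Gen.f, true), (Gen.g, true), (Gen.h, true), (Gen.b, true), (Gen.c, true), (Gen.d, true), (Gen.e, true), (Gen.f, true), (Gen.g, true), (Gen.h, true), (Gen.b, true), (Gen.c, true), (Gen.d, true), (Gen.e, true), (Gen.f, true), (Gen.g, true), (Gen.h, true), (Gen.b, true), (Gen.c, true), (Gen.d, true), (Gen.e, true), (Gen.f,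 true), (Gen.g, true), (Gen.h, true), (Gen.b, true), (Gen.c, true), (Gen.d, true), (Gen.e, true), (Gen.f, true), (Gen.g, true), (Gen.h, true)]
  (wG_rot rels [(Gen.b, true), (Gen.c, true), (Gen.d, true), (Gen.e, true), (Gen.f, true), (Gen.g, true), (Gen.h, true)] (Gen.b, true) [(Gen.c, true), (Gen.d, true), (Gen.e, true), (Gen.f, true), (Gen.g, true), (Gen.h, true), (Gen.b, true), (Gen.c, true), (Gen.d, true), (Gen.e, true), (Gen.f, true), (Gen.g, true), (Gen.h, true), (Gen.b, true), (Gen.c, true), (Gen.d, true), (Gen.e, true), (Gen.f, true), (Gen.g, true), (Gen.h, true), (Gen.b, true), (Gen.c, true), (Gen.d, true), (Gen.e, true), (Gen.f, true), (Gen.g, true), (Gen.h, true), (Gen.b, true), (Gen.c, true), (Gen.d, true), (Gen.e, true), (Gen.f, true), (Gen.g, true), (Gen.h, true), (Gen.b, true), (Gen.c, true), (Gen.d, true), (Gen.e, true), (Gen.f, true), (Gen.g, true), (Gen.h, true), (Gen.b, true), (Gen.c, true), (Gen.d, true), (Gen.e, true), (Gen.f, true), (Gen.g, true), (Gen.h, true),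 (Gen.b, true), (Gen.c, true), (Gen.d, true), (Gen.e, true), (Gen.f, true), (Gen.g, true), (Gen.h, true)] relone_47)
def rc_15_0 : Cert rels S Gen.b := Cert.rel true [(Gen.g, true), (Gen.b, true), (Gen.g, true)]
  (wG_rot rels [] (Gen.b, true) [(Gen.g, true), (Gen.b, true), (Gen.g, true)] relone_15)
def rc_46_36 : Cert rels S Gen.b := Cert.rel true [(Gen.c, true), (Gen.d, true), (Gen.e, true), (Gen.f, true), (Gen.h, true), (Gen.a, true), (Gen.b, true), (Gen.c, true), (Gen.d, true), (Gen.e, true), (Gen.f, true), (Gen.h, true), (Gen.a, true), (Gen.b, true), (Gen.c, true), (Gen.d, true), (Gen.e, true), (Gen.f, true), (Gen.h, true), (Gen.a, true), (Gen.b, true), (Gen.c, true), (Gen.d, true), (Gen.e, true), (Gen.f, true), (Gen.h, true), (Gen.a, true), (Gen.b, true), (Gen.c, true), (Gen.d, true), (Gen.e, true), (Gen.f, true), (Gen.h, true), (Gen.a, true), (Gen.b, true), (Gen.c, true), (Gen.d, true), (Gen.e, true), (Gen.f, true), (Gen.h, true), (Gen.a, true), (Gen.b, true), (Gen.c, true),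 (Gen.d, true), (Gen.e, true), (Gen.f, true), (Gen.h, true), (Gen.a, true), (Gen.b, true), (Gen.c, true), (Gen.d, true), (Gen.e, true), (Gen.f, true), (Gen.h, true), (Gen.a, true), (Gen.b, true), (Gen.c, true), (Gen.d, true), (Gen.e, true), (Gen.f, true), (Gen.h, true), (Gen.a, true)]
  (wG_rot rels [(Gen.a, true), (Gen.b, true), (Gen.c, true), (Gen.d, true), (Gen.e, true), (Gen.f, true), (Gen.h, true), (Gen.a, true), (Gen.b, true), (Gen.c, true), (Gen.d, true), (Gen.e, true), (Gen.f, true), (Gen.h, true), (Gen.a, true), (Gen.b, true), (Gen.c, true), (Gen.d, true), (Gen.e, true), (Gen.f, true), (Gen.h, true), (Gen.a, true), (Gen.b, true), (Gen.c, true), (Gen.d, true), (Gen.e, true), (Gen.f, true), (Gen.h, true), (Gen.a, true), (Gen.b, true), (Gen.c, true), (Gen.d, true), (Gen.e, true), (Gen.f, true), (Gen.h, true), (Gen.a, true)] (Gen.b, true) [(Gen.c, true), (Gen.d, true), (Gen.e, true), (Gen.f, true), (Gen.h, true), (Gen.a, true), (Gen.b, true), (Gen.c, true), (Gen.d, true), (Gen.e,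 true), (Gen.f, true), (Gen.h, true), (Gen.a, true), (Gen.b, true), (Gen.c, true), (Gen.d, true), (Gen.e, true), (Gen.f, true), (Gen.h, true), (Gen.a, true), (Gen.b, true), (Gen.c, true), (Gen.d, true), (Gen.e, true), (Gen.f, true), (Gen.h, true)] relone_46)
def rc_45_65 : Cert rels S Gen.b := Cert.rel true [(Gen.d, true), (Gen.e, true), (Gen.f, true), (Gen.d, true), (Gen.h, true), (Gen.i, true), (Gen.d, true), (Gen.c, true), (Gen.b, true), (Gen.d, true), (Gen.e, true), (Gen.f, true), (Gen.d, true), (Gen.h, true), (Gen.i, true), (Gen.d, true), (Gen.c, true), (Gen.b, true), (Gen.d, true), (Gen.e, true), (Gen.f, true), (Gen.d, true), (Gen.h, true), (Gen.i, true), (Gen.d, true), (Gen.c, true), (Gen.b, true), (Gen.d, true), (Gen.e, true), (Gen.f, true), (Gen.d, true), (Gen.h, true), (Gen.i, true), (Gen.d, true), (Gen.c, true), (Gen.b, true), (Gen.d, true), (Gen.e, true), (Gen.f, true), (Gen.d, true), (Gen.h, true), (Gen.i, true), (Gen.d, true), (Gen.c, true), (Gen.b, true), (Gen.d, true),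 (Gen.e, true), (Gen.f, true), (Gen.d, true), (Gen.h, true), (Gen.i, true), (Gen.d, true), (Gen.c, true), (Gen.b, true), (Gen.d, true), (Gen.e, true), (Gen.f, true), (Gen.d, true), (Gen.h, true), (Gen.i, true), (Gen.d, true), (Gen.c, true), (Gen.b, true), (Gen.d, true), (Gen.e, true), (Gen.f, true), (Gen.d, true), (Gen.h, true), (Gen.i, true), (Gen.d, true), (Gen.c, true), (Gen.b, true), (Gen.d, true), (Gen.e, true), (Gen.f, true), (Gen.d, true), (Gen.h, true), (Gen.i, true), (Gen.d, true), (Gen.c, true), (Gen.b, true), (Gen.d, true), (Gen.e, true), (Gen.f, true), (Gen.d, true), (Gen.h, true), (Gen.i, true), (Gen.d, true), (Gen.c, true)]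
  (wG_rot rels [(Gen.d, true), (Gen.c, true), (Gen.b, true), (Gen.d, true), (Gen.e, true), (Gen.f, true), (Gen.d, true), (Gen.h, true), (Gen.i, true), (Gen.d, true), (Gen.c, true), (Gen.b, true), (Gen.d, true), (Gen.e, true), (Gen.f, true), (Gen.d, true), (Gen.h, true), (Gen.i, true), (Gen.d, true), (Gen.c, true), (Gen.b, true), (Gen.d, true), (Gen.e, true), (Gen.f, true), (Gen.d, true), (Gen.h, true), (Gen.i, true), (Gen.d, true), (Gen.c, true), (Gen.b, true), (Gen.d, true), (Gen.e, true), (Gen.f, true), (Gen.d, true), (Gen.h, true), (Gen.i, true), (Gen.d, true), (Gen.c, true), (Gen.b, true), (Gen.d, true), (Gen.e, true), (Gen.f, true), (Gen.d, true), (Gen.h, true), (Gen.i, true), (Gen.d, true), (Gen.c, true), (Gen.b, true), (Gen.d, true), (Gen.e, true), (Gen.f, true), (Gen.d, true), (Gen.h, true), (Gen.i, true), (Gen.d, true), (Gen.c, true), (Gen.b, true), (Gen.d, true), (Gen.e, true), (Gen.f, true), (Gen.d, true), (Gen.h, true), (Gen.i, true), (Gen.d, true), (Gen.c, true)] (Gen.b,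 true) [(Gen.d, true), (Gen.e, true), (Gen.f, true), (Gen.d, true), (Gen.h, true), (Gen.i, true), (Gen.d, true), (Gen.c, true), (Gen.b, true), (Gen.d, true), (Gen.e, true), (Gen.f, true), (Gen.d, true), (Gen.h, true), (Gen.i, true), (Gen.d, true), (Gen.c, true), (Gen.b, true), (Gen.d, true), (Gen.e, true), (Gen.f, true), (Gen.d, true), (Gen.h, true), (Gen.i, true)] relone_45)
def rc_46_43 : Cert rels S Gen.b := Cert.rel true [(Gen.c, true), (Gen.d, true), (Gen.e, true), (Gen.f, true), (Gen.h, true), (Gen.a, true), (Gen.b, true), (Gen.c, true), (Gen.d, true), (Gen.e, true), (Gen.f, true), (Gen.h, true), (Gen.a, true), (Gen.b, true), (Gen.c, true), (Gen.d, true), (Gen.e, true), (Gen.f, true), (Gen.h, true), (Gen.a, true), (Gen.b, true), (Gen.c, true), (Gen.d, true), (Gen.e, true), (Gen.f, true), (Gen.h, true), (Gen.a, true), (Gen.b, true), (Gen.c, true), (Gen.d, true), (Gen.e, true), (Gen.f, true), (Gen.h, true), (Gen.a, true), (Gen.b, true), (Gen.c, true), (Gen.d, true), (Gen.e, true),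 (Gen.f, true), (Gen.h, true), (Gen.a, true), (Gen.b, true), (Gen.c, true), (Gen.d, true), (Gen.e, true), (Gen.f, true), (Gen.h, true), (Gen.a, true), (Gen.b, true), (Gen.c, true), (Gen.d, true), (Gen.e, true), (Gen.f, true), (Gen.h, true), (Gen.a, true), (Gen.b, true), (Gen.c, true), (Gen.d, true), (Gen.e, true), (Gen.f, true), (Gen.h, true), (Gen.a, true)]
  (wG_rot rels [(Gen.a, true), (Gen.b, true), (Gen.c, true), (Gen.d, true), (Gen.e, true), (Gen.f, true), (Gen.h, true), (Gen.a, true), (Gen.b, true), (Gen.c, true), (Gen.d, true), (Gen.e, true), (Gen.f, true), (Gen.h, true), (Gen.a, true), (Gen.b, true), (Gen.c, true), (Gen.d, true), (Gen.e, true), (Gen.f, true), (Gen.h, true), (Gen.a, true), (Gen.b, true), (Gen.c, true), (Gen.d, true), (Gen.e, true), (Gen.f, true), (Gen.h, true), (Gen.a, true), (Gen.b, true), (Gen.c, true), (Gen.d, true), (Gen.e, true), (Gen.f, true), (Gen.h, true), (Gen.a, true), (Gen.b, true), (Gen.c, true), (Gen.d, true), (Gen.e, true), (Gen.f, true), (Gen.h,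 true), (Gen.a, true)] (Gen.b, true) [(Gen.c, true), (Gen.d, true), (Gen.e, true), (Gen.f, true), (Gen.h, true), (Gen.a, true), (Gen.b, true), (Gen.c, true), (Gen.d, true), (Gen.e, true), (Gen.f, true), (Gen.h, true), (Gen.a, true), (Gen.b, true), (Gen.c, true), (Gen.d, true), (Gen.e, true), (Gen.f, true), (Gen.h, true)] relone_46)
def rc_46_50 : Cert rels S Gen.b := Cert.rel true [(Gen.c, true), (Gen.d, true), (Gen.e, true), (Gen.f, true), (Gen.h, true), (Gen.a, true), (Gen.b, true), (Gen.c, true), (Gen.d, true), (Gen.e, true), (Gen.f, true), (Gen.h, true), (Gen.a, true), (Gen.b, true), (Gen.c, true), (Gen.d, true), (Gen.e, true), (Gen.f, true), (Gen.h, true), (Gen.a, true), (Gen.b, true), (Gen.c, true), (Gen.d, true), (Gen.e, true), (Gen.f, true), (Gen.h, true), (Gen.a, true), (Gen.b, true), (Gen.c, true), (Gen.d, true), (Gen.e, true), (Gen.f, true), (Gen.h, true), (Gen.a, true), (Gen.b, true), (Gen.c, true), (Gen.d, true), (Gen.e, true), (Gen.f, true), (Gen.h, true), (Gen.a, true),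 (Gen.b, true), (Gen.c, true), (Gen.d, true), (Gen.e, true), (Gen.f, true), (Gen.h, true), (Gen.a, true), (Gen.b, true), (Gen.c, true), (Gen.d, true), (Gen.e, true), (Gen.f, true), (Gen.h, true), (Gen.a, true), (Gen.b, true), (Gen.c, true), (Gen.d, true), (Gen.e, true), (Gen.f, true), (Gen.h, true), (Gen.a, true)]
  (wG_rot rels [(Gen.a, true), (Gen.b, true), (Gen.c, true), (Gen.d, true), (Gen.e, true), (Gen.f, true), (Gen.h, true), (Gen.a, true), (Gen.b, true), (Gen.c, true), (Gen.d, true), (Gen.e, true), (Gen.f, true), (Gen.h, true), (Gen.a, true), (Gen.b, true), (Gen.c, true), (Gen.d, true), (Gen.e, true), (Gen.f, true), (Gen.h, true), (Gen.a, true), (Gen.b, true), (Gen.c, true), (Gen.d, true), (Gen.e, true), (Gen.f, true), (Gen.h, true), (Gen.a, true), (Gen.b, true), (Gen.c, true), (Gen.d, true), (Gen.e, true), (Gen.f, true), (Gen.h, true), (Gen.a, true), (Gen.b, true), (Gen.c, true), (Gen.d, true), (Gen.e, true), (Gen.f, true), (Gen.h, true), (Gen.a, true), (Gen.b, true), (Gen.c,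 true), (Gen.d, true), (Gen.e, true), (Gen.f, true), (Gen.h, true), (Gen.a, true)] (Gen.b, true) [(Gen.c, true), (Gen.d, true), (Gen.e, true), (Gen.f, true), (Gen.h, true), (Gen.a, true), (Gen.b, true), (Gen.c, true), (Gen.d, true), (Gen.e, true), (Gen.f, true), (Gen.h, true)] relone_46)
def rc_1_5 : Cert rels S Gen.b := Cert.rel true [(Gen.a, true), (Gen.b, true), (Gen.a, true), (Gen.b, true), (Gen.a, true)]
  (wG_rot rels [(Gen.a, true), (Gen.b, true), (Gen.a, true), (Gen.b, true), (Gen.a, true)] (Gen.b, true) [] relone_1)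
def rc_47_42 : Cert rels S Gen.b := Cert.rel true [(Gen.c, true), (Gen.d, true), (Gen.e, true), (Gen.f, true), (Gen.g, true), (Gen.h, true), (Gen.b, true), (Gen.c, true), (Gen.d, true), (Gen.e, true), (Gen.f, true), (Gen.g, true), (Gen.h, true), (Gen.b, true), (Gen.c, true), (Gen.d, true), (Gen.e, true), (Gen.f, true), (Gen.g, true), (Gen.h, true), (Gen.b, true), (Gen.c, true), (Gen.d, true), (Gen.e, true), (Gen.f, true), (Gen.g, true), (Gen.h, true), (Gen.b, true), (Gen.c, true), (Gen.d, true), (Gen.e, true), (Gen.f, true), (Gen.g, true), (Gen.h, true), (Gen.b, true), (Gen.c, true), (Gen.d, true), (Gen.e, true), (Gen.f, true), (Gen.g, true), (Gen.h, true), (Gen.b, true), (Gen.c, true), (Gen.d, true), (Gen.e, true), (Gen.f, true), (Gen.g, true), (Gen.h, true), (Gen.b, true), (Gen.c, true), (Gen.d, true), (Gen.e, true), (Gen.f, true), (Gen.g, true), (Gen.h, true), (Gen.b, true), (Gen.c, true), (Gen.d, true), (Gen.e, true), (Gen.f, true), (Gen.g, true), (Gen.h, true)]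
  (wG_rot rels [(Gen.b, true), (Gen.c, true), (Gen.d, true), (Gen.e, true), (Gen.f, true), (Gen.g, true), (Gen.h, true), (Gen.b, true), (Gen.c, true), (Gen.d, true), (Gen.e, true), (Gen.f, true), (Gen.g, true), (Gen.h, true), (Gen.b, true), (Gen.c, true), (Gen.d, true), (Gen.e, true), (Gen.f, true), (Gen.g, true), (Gen.h, true), (Gen.b, true), (Gen.c, true), (Gen.d, true), (Gen.e, true), (Gen.f, true), (Gen.g, true), (Gen.h, true), (Gen.b, true), (Gen.c, true), (Gen.d, true), (Gen.e, true), (Gen.f, true), (Gen.g, true), (Gen.h, true), (Gen.b, true), (Gen.c, true), (Gen.d, true), (Gen.e, true), (Gen.f, true), (Gen.g, true), (Gen.h, true)] (Gen.b, true) [(Gen.c, true), (Gen.d, true), (Gen.e, true), (Gen.f, true), (Gen.g, true), (Gen.h, true), (Gen.b, true), (Gen.c, true), (Gen.d, true), (Gen.e, true), (Gen.f, true), (Gen.g, true), (Gen.h, true), (Gen.b, true), (Gen.c, true), (Gen.d, true), (Gen.e, true), (Gen.f, true), (Gen.g, true), (Gen.h, true)] relone_47)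
def rc_45_29 : Cert rels S Gen.b := Cert.rel true [(Gen.d, true), (Gen.e, true), (Gen.f, true), (Gen.d, true), (Gen.h, true), (Gen.i, true), (Gen.d, true), (Gen.c, true), (Gen.b, true), (Gen.d, true), (Gen.e, true), (Gen.f, true), (Gen.d, true), (Gen.h, true), (Gen.i, true), (Gen.d, true), (Gen.c, true), (Gen.b, true), (Gen.d, true), (Gen.e, true), (Gen.f, true), (Gen.d, true), (Gen.h, true), (Gen.i, true), (Gen.d, true), (Gen.c, true), (Gen.b, true), (Gen.d, true), (Gen.e, true), (Gen.f, true), (Gen.d, true), (Gen.h, true), (Gen.i, true), (Gen.d, true), (Gen.c, true), (Gen.b, true), (Gen.d, true), (Gen.e, true), (Gen.f, true), (Gen.d, true), (Gen.h, true), (Gen.i, true), (Gen.d, true), (Gen.c, true), (Gen.b, true), (Gen.d, true), (Gen.e, true), (Gen.f, true), (Gen.d, true), (Gen.h, true), (Gen.i, true), (Gen.d, true), (Gen.c, true), (Gen.b, true), (Gen.d, true), (Gen.e, true), (Gen.f, true), (Gen.d, true), (Gen.h, true), (Gen.i, true), (Gen.d, true), (Gen.c, true), (Gen.b, true),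 (Gen.d, true), (Gen.e, true), (Gen.f, true), (Gen.d, true), (Gen.h, true), (Gen.i, true), (Gen.d, true), (Gen.c, true), (Gen.b, true), (Gen.d, true), (Gen.e, true), (Gen.f, true), (Gen.d, true), (Gen.h, true), (Gen.i, true), (Gen.d, true), (Gen.c, true), (Gen.b, true), (Gen.d, true), (Gen.e, true), (Gen.f, true), (Gen.d, true), (Gen.h, true), (Gen.i, true), (Gen.d, true), (Gen.c, true)]
  (wG_rot rels [(Gen.d, true), (Gen.c, true), (Gen.b, true), (Gen.d, true), (Gen.e, true), (Gen.f, true), (Gen.d, true), (Gen.h, true), (Gen.i, true), (Gen.d, true), (Gen.c, true), (Gen.b, true), (Gen.d, true), (Gen.e, true), (Gen.f, true), (Gen.d, true), (Gen.h, true), (Gen.i, true), (Gen.d, true), (Gen.c, true), (Gen.b, true), (Gen.d, true), (Gen.e, true), (Gen.f, true), (Gen.d, true), (Gen.h, true), (Gen.i, true), (Gen.d, true), (Gen.c, true)] (Gen.b, true) [(Gen.d, true), (Gen.e, true), (Gen.f, true), (Gen.d, true), (Gen.h, true), (Gen.i, true), (Gen.d, true), (Gen.c, true), (Gen.b, true), (Gen.d,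 true), (Gen.e, true), (Gen.f, true), (Gen.d, true), (Gen.h, true), (Gen.i, true), (Gen.d, true), (Gen.c, true), (Gen.b, true), (Gen.d, true), (Gen.e, true), (Gen.f, true), (Gen.d, true), (Gen.h, true), (Gen.i, true), (Gen.d, true), (Gen.c, true), (Gen.b, true), (Gen.d, true), (Gen.e, true), (Gen.f, true), (Gen.d, true), (Gen.h, true), (Gen.i, true), (Gen.d, true), (Gen.c, true), (Gen.b, true), (Gen.d, true), (Gen.e, true), (Gen.f, true), (Gen.d, true), (Gen.h, true), (Gen.i, true), (Gen.d, true), (Gen.c, true), (Gen.b, true), (Gen.d, true), (Gen.e, true), (Gen.f, true), (Gen.d, true), (Gen.h, true), (Gen.i, true), (Gen.d, true), (Gen.c, true), (Gen.b, true), (Gen.d, true), (Gen.e, true), (Gen.f, true), (Gen.d, true), (Gen.h, true), (Gen.i, true)] relone_45)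
def rc_45_20 : Cert rels S Gen.b := Cert.rel true [(Gen.d, true), (Gen.e, true), (Gen.f, true), (Gen.d, true), (Gen.h, true), (Gen.i, true), (Gen.d, true), (Gen.c, true), (Gen.b, true), (Gen.d, true), (Gen.e, true), (Gen.f, true), (Gen.d, true), (Gen.h, true), (Gen.i, true), (Gen.d, true), (Gen.c, true), (Gen.b, true), (Gen.d, true), (Gen.e, true), (Gen.f, true), (Gen.d, true), (Gen.h, true), (Gen.i, true), (Gen.d, true), (Gen.c, true), (Gen.b, true), (Gen.d, true), (Gen.e, true), (Gen.f, true), (Gen.d, true), (Gen.h, true), (Gen.i, true), (Gen.d, true), (Gen.c, true), (Gen.b, true), (Gen.d, true), (Gen.e, true), (Gen.f, true), (Gen.d, true), (Gen.h, true), (Gen.i, true), (Gen.d, true), (Gen.c, true), (Gen.b, true), (Gen.d, true), (Gen.e, true), (Gen.f, true), (Gen.d, true), (Gen.h, true), (Gen.i, true), (Gen.d, true), (Gen.c, true), (Gen.b, true), (Gen.d, true), (Gen.e, true), (Gen.f, true), (Gen.d, true), (Gen.h, true), (Gen.i, true), (Gen.d, true), (Gen.c, true), (Gen.b, true),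 (Gen.d, true), (Gen.e, true), (Gen.f, true), (Gen.d, true), (Gen.h, true), (Gen.i, true), (Gen.d, true), (Gen.c, true), (Gen.b, true), (Gen.d, true), (Gen.e, true), (Gen.f, true), (Gen.d, true), (Gen.h, true), (Gen.i, true), (Gen.d, true), (Gen.c, true), (Gen.b, true), (Gen.d, true), (Gen.e, true), (Gen.f, true), (Gen.d, true), (Gen.h, true), (Gen.i, true), (Gen.d, true), (Gen.c, true)]
  (wG_rot rels [(Gen.d, true), (Gen.c, true), (Gen.b, true), (Gen.d, true), (Gen.e, true), (Gen.f, true), (Gen.d, true), (Gen.h, true), (Gen.i, true), (Gen.d, true), (Gen.c, true), (Gen.b, true), (Gen.d, true), (Gen.e, true), (Gen.f, true), (Gen.d, true), (Gen.h, true), (Gen.i, true), (Gen.d, true), (Gen.c, true)] (Gen.b, true) [(Gen.d, true), (Gen.e, true), (Gen.f, true), (Gen.d, true), (Gen.h, true), (Gen.i, true), (Gen.d, true), (Gen.c, true), (Gen.b, true), (Gen.d, true), (Gen.e, true), (Gen.f, true), (Gen.d, true), (Gen.h, true), (Gen.i, true), (Gen.d, true), (Gen.c, true), (Gen.b, true), (Gen.d,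 true), (Gen.e, true), (Gen.f, true), (Gen.d, true), (Gen.h, true), (Gen.i, true), (Gen.d, true), (Gen.c, true), (Gen.b, true), (Gen.d, true), (Gen.e, true), (Gen.f, true), (Gen.d, true), (Gen.h, true), (Gen.i, true), (Gen.d, true), (Gen.c, true), (Gen.b, true), (Gen.d, true), (Gen.e, true), (Gen.f, true), (Gen.d, true), (Gen.h, true), (Gen.i, true), (Gen.d, true), (Gen.c, true), (Gen.b, true), (Gen.d, true), (Gen.e, true), (Gen.f, true), (Gen.d, true), (Gen.h, true), (Gen.i, true), (Gen.d, true), (Gen.c, true), (Gen.b, true), (Gen.d, true), (Gen.e, true), (Gen.f, true), (Gen.d, true), (Gen.h, true), (Gen.i, true), (Gen.d, true), (Gen.c, true), (Gen.b, true), (Gen.d, true), (Gen.e, true), (Gen.f, true), (Gen.d, true), (Gen.h, true), (Gen.i, true)] relone_45)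
def rc_46_8 : Cert rels S Gen.b := Cert.rel true [(Gen.c, true), (Gen.d, true), (Gen.e, true), (Gen.f, true), (Gen.h, true), (Gen.a, true), (Gen.b, true), (Gen.c, true), (Gen.d, true), (Gen.e, true), (Gen.f, true), (Gen.h, true), (Gen.a, true), (Gen.b, true), (Gen.c, true), (Gen.d, true), (Gen.e, true), (Gen.f, true), (Gen.h, true), (Gen.a, true), (Gen.b, true), (Gen.c, true), (Gen.d, true), (Gen.e, true), (Gen.f, true), (Gen.h, true), (Gen.a, true), (Gen.b, true), (Gen.c, true), (Gen.d, true), (Gen.e, true), (Gen.f, true), (Gen.h, true), (Gen.a, true), (Gen.b, true), (Gen.c, true), (Gen.d, true), (Gen.e, true), (Gen.f, true), (Gen.h, true), (Gen.a, true), (Gen.b, true), (Gen.c, true), (Gen.d, true), (Gen.e, true), (Gen.f, true), (Gen.h, true), (Gen.a, true), (Gen.b, true), (Gen.c, true), (Gen.d, true), (Gen.e, true), (Gen.f, true), (Gen.h, true), (Gen.a, true), (Gen.b, true), (Gen.c, true), (Gen.d, true), (Gen.e, true), (Gen.f, true), (Gen.h, true), (Gen.a, true)]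
  (wG_rot rels [(Gen.a, true), (Gen.b, true), (Gen.c, true), (Gen.d, true), (Gen.e, true), (Gen.f, true), (Gen.h, true), (Gen.a, true)] (Gen.b, true) [(Gen.c, true), (Gen.d, true), (Gen.e, true), (Gen.f, true), (Gen.h, true), (Gen.a, true), (Gen.b, true), (Gen.c, true), (Gen.d, true), (Gen.e, true), (Gen.f, true), (Gen.h, true), (Gen.a, true), (Gen.b, true), (Gen.c, true), (Gen.d, true), (Gen.e, true), (Gen.f, true), (Gen.h, true), (Gen.a, true), (Gen.b, true), (Gen.c, true), (Gen.d, true), (Gen.e, true), (Gen.f, true), (Gen.h, true), (Gen.a, true), (Gen.b, true), (Gen.c, true), (Gen.d, true), (Gen.e, true), (Gen.f, true), (Gen.h, true), (Gen.a, true), (Gen.b, true), (Gen.c, true), (Gen.d, true), (Gen.e, true), (Gen.f, true), (Gen.h, true), (Gen.a, true), (Gen.b, true), (Gen.c, true), (Gen.d, true), (Gen.e, true), (Gen.f, true), (Gen.h, true), (Gen.a, true), (Gen.b, true), (Gen.c, true), (Gen.d, true), (Gen.e, true), (Gen.f, true), (Gen.h, true)] relone_46)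
def rc_47_14 : Cert rels S Gen.b := Cert.rel true [(Gen.c, true), (Gen.d, true), (Gen.e, true), (Gen.f, true), (Gen.g, true), (Gen.h, true), (Gen.b, true), (Gen.c, true), (Gen.d, true), (Gen.e, true), (Gen.f, true), (Gen.g, true), (Gen.h, true), (Gen.b, true), (Gen.c, true), (Gen.d, true), (Gen.e, true), (Gen.f, true), (Gen.g, true), (Gen.h, true), (Gen.b, true), (Gen.c, true), (Gen.d, true), (Gen.e, true), (Gen.f, true), (Gen.g, true), (Gen.h, true), (Gen.b, true), (Gen.c, true), (Gen.d, true), (Gen.e, true), (Gen.f, true), (Gen.g, true), (Gen.h, true), (Gen.b, true), (Gen.c, true), (Gen.d, true), (Gen.e, true), (Gen.f, true), (Gen.g, true), (Gen.h, true), (Gen.b, true), (Gen.c, true), (Gen.d, true), (Gen.e, true), (Gen.f, true), (Gen.g, true), (Gen.h, true), (Gen.b, true), (Gen.c, true), (Gen.d, true), (Gen.e, true), (Gen.f, true), (Gen.g, true), (Gen.h, true), (Gen.b, true), (Gen.c, true), (Gen.d, true), (Gen.e, true), (Gen.f, true), (Gen.g, true), (Gen.h, true)]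
  (wG_rot rels [(Gen.b, true), (Gen.c, true), (Gen.d, true), (Gen.e, true), (Gen.f, true), (Gen.g, true), (Gen.h, true), (Gen.b, true), (Gen.c, true), (Gen.d, true), (Gen.e, true), (Gen.f, true), (Gen.g, true), (Gen.h, true)] (Gen.b, true) [(Gen.c, true), (Gen.d, true), (Gen.e, true), (Gen.f, true), (Gen.g, true), (Gen.h, true), (Gen.b, true), (Gen.c, true), (Gen.d, true), (Gen.e, true), (Gen.f, true), (Gen.g, true), (Gen.h, true), (Gen.b, true), (Gen.c, true), (Gen.d, true), (Gen.e, true), (Gen.f, true), (Gen.g, true), (Gen.h, true), (Gen.b, true), (Gen.c, true), (Gen.d, true), (Gen.e, true), (Gen.f, true), (Gen.g, true), (Gen.h, true), (Gen.b, true), (Gen.c, true), (Gen.d, true), (Gen.e, true), (Gen.f, true), (Gen.g, true), (Gen.h, true), (Gen.b, true), (Gen.c, true), (Gen.d, true), (Gen.e, true), (Gen.f, true), (Gen.g, true), (Gen.h, true), (Gen.b, true), (Gen.c, true), (Gen.d, true), (Gen.e, true), (Gen.f, true), (Gen.g, true), (Gen.h, true)] relone_47)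
def rc_45_56 : Cert rels S Gen.b := Cert.rel true [(Gen.d, true), (Gen.e, true), (Gen.f, true), (Gen.d, true), (Gen.h, true), (Gen.i, true), (Gen.d, true), (Gen.c, true), (Gen.b, true), (Gen.d, true), (Gen.e, true), (Gen.f, true), (Gen.d, true), (Gen.h, true), (Gen.i, true), (Gen.d, true), (Gen.c, true), (Gen.b, true), (Gen.d, true), (Gen.e, true), (Gen.f, true), (Gen.d, true), (Gen.h, true), (Gen.i, true), (Gen.d, true), (Gen.c, true), (Gen.b, true), (Gen.d, true), (Gen.e, true), (Gen.f, true), (Gen.d, true), (Gen.h, true), (Gen.i, true), (Gen.d, true), (Gen.c, true), (Gen.b, true), (Gen.d, true), (Gen.e, true), (Gen.f, true), (Gen.d, true), (Gen.h, true), (Gen.i, true), (Gen.d, true), (Gen.c, true), (Gen.b, true), (Gen.d, true), (Gen.e, true), (Gen.f, true), (Gen.d, true), (Gen.h, true), (Gen.i, true), (Gen.d, true), (Gen.c, true), (Gen.b, true), (Gen.d, true), (Gen.e, true), (Gen.f, true), (Gen.d, true), (Gen.h, true), (Gen.i, true), (Gen.d, true), (Gen.c, true), (Gen.b, true),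 (Gen.d, true), (Gen.e, true), (Gen.f, true), (Gen.d, true), (Gen.h, true), (Gen.i, true), (Gen.d, true), (Gen.c, true), (Gen.b, true), (Gen.d, true), (Gen.e, true), (Gen.f, true), (Gen.d, true), (Gen.h, true), (Gen.i, true), (Gen.d, true), (Gen.c, true), (Gen.b, true), (Gen.d, true), (Gen.e, true), (Gen.f, true), (Gen.d, true), (Gen.h, true), (Gen.i, true), (Gen.d, true), (Gen.c, true)]
  (wG_rot rels [(Gen.d, true), (Gen.c, true), (Gen.b, true), (Gen.d, true), (Gen.e, true), (Gen.f, true), (Gen.d, true), (Gen.h, true), (Gen.i, true), (Gen.d, true), (Gen.c, true), (Gen.b, true), (Gen.d, true), (Gen.e, true), (Gen.f, true), (Gen.d, true), (Gen.h, true), (Gen.i, true), (Gen.d, true), (Gen.c, true), (Gen.b, true), (Gen.d, true), (Gen.e, true), (Gen.f, true), (Gen.d, true), (Gen.h, true), (Gen.i, true), (Gen.d, true), (Gen.c, true), (Gen.b, true), (Gen.d, true), (Gen.e, true), (Gen.f, true), (Gen.d, true), (Gen.h, true), (Gen.i, true), (Gen.d, true), (Gen.c, true), (Gen.b, true), (Gen.d,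 true), (Gen.e, true), (Gen.f, true), (Gen.d, true), (Gen.h, true), (Gen.i, true), (Gen.d, true), (Gen.c, true), (Gen.b, true), (Gen.d, true), (Gen.e, true), (Gen.f, true), (Gen.d, true), (Gen.h, true), (Gen.i, true), (Gen.d, true), (Gen.c, true)] (Gen.b, true) [(Gen.d, true), (Gen.e, true), (Gen.f, true), (Gen.d, true), (Gen.h, true), (Gen.i, true), (Gen.d, true), (Gen.c, true), (Gen.b, true), (Gen.d, true), (Gen.e, true), (Gen.f, true), (Gen.d, true), (Gen.h, true), (Gen.i, true), (Gen.d, true), (Gen.c, true), (Gen.b, true), (Gen.d, true), (Gen.e, true), (Gen.f, true), (Gen.d, true), (Gen.h, true), (Gen.i, true), (Gen.d, true), (Gen.c, true), (Gen.b, true), (Gen.d, true), (Gen.e, true), (Gen.f, true), (Gen.d, true), (Gen.h, true), (Gen.i, true)] relone_45)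
def rc_17_0 : Cert rels S Gen.c := Cert.rel true [(Gen.c, true)]
  (wG_rot rels [] (Gen.c, true) [(Gen.c, true)] relone_17)
def rc_18_2 : Cert rels S Gen.c := Cert.rel true [(Gen.d, true), (Gen.c, true), (Gen.d, true), (Gen.c, true), (Gen.d, true)]
  (wG_rot rels [(Gen.c, true), (Gen.d, true)] (Gen.c, true) [(Gen.d, true), (Gen.c, true), (Gen.d, true)] relone_18)
def rc_10_3 : Cert rels S Gen.c := Cert.rel true [(Gen.b, true), (Gen.c, true), (Gen.b, true), (Gen.c, true), (Gen.b, true)]
  (wG_rot rels [(Gen.b, true), (Gen.c, true), (Gen.b, true)] (Gen.c, true) [(Gen.b, true), (Gen.c, true)] relone_10)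
def rc_19_2 : Cert rels S Gen.c := Cert.rel true [(Gen.e, true), (Gen.c, true), (Gen.e, true)]
  (wG_rot rels [(Gen.c, true), (Gen.e, true)] (Gen.c, true) [(Gen.e, true)] relone_19)
def rc_20_2 : Cert rels S Gen.c := Cert.rel true [(Gen.h, true), (Gen.c, true), (Gen.h, true)]
  (wG_rot rels [(Gen.c, true), (Gen.h, true)] (Gen.c, true) [(Gen.h, true)] relone_20)
def rc_21_2 : Cert rels S Gen.c := Cert.rel true [(Gen.f, true), (Gen.c, true), (Gen.f, true)]
  (wG_rot rels [(Gen.c, true), (Gen.f, true)] (Gen.c, true) [(Gen.f, true)] relone_21)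
def rc_23_2 : Cert rels S Gen.c := Cert.rel true [(Gen.i, true), (Gen.c, true), (Gen.i, true)]
  (wG_rot rels [(Gen.c, true), (Gen.i, true)] (Gen.c, true) [(Gen.i, true)] relone_23)
def rc_22_2 : Cert rels S Gen.c := Cert.rel true [(Gen.g, true), (Gen.c, true), (Gen.g, true)]
  (wG_rot rels [(Gen.c, true), (Gen.g, true)] (Gen.c, true) [(Gen.g, true)] relone_22)
def rc_18_4 : Cert rels S Gen.c := Cert.rel true [(Gen.d, true), (Gen.c, true), (Gen.d, true), (Gen.c, true), (Gen.d, true)]
  (wG_rot rels [(Gen.c, true), (Gen.d, true), (Gen.c, true), (Gen.d, true)] (Gen.c, true) [(Gen.d, true)] relone_18)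
def rc_2_1 : Cert rels S Gen.c := Cert.rel true [(Gen.a, true), (Gen.c, true), (Gen.a, true)]
  (wG_rot rels [(Gen.a, true)] (Gen.c, true) [(Gen.a, true), (Gen.c, true)] relone_2)
def rc_47_36 : Cert rels S Gen.c := Cert.rel true [(Gen.d, true), (Gen.e, true), (Gen.f, true), (Gen.g, true), (Gen.h, true), (Gen.b, true), (Gen.c, true), (Gen.d, true), (Gen.e, true), (Gen.f, true), (Gen.g, true), (Gen.h, true), (Gen.b, true), (Gen.c, true), (Gen.d, true), (Gen.e, true), (Gen.f, true), (Gen.g, true), (Gen.h, true), (Gen.b, true), (Gen.c, true), (Gen.d, true), (Gen.e, true), (Gen.f, true), (Gen.g, true), (Gen.h, true), (Gen.b, true), (Gen.c, true), (Gen.d, true), (Gen.e, true), (Gen.f, true), (Gen.g, true), (Gen.h, true), (Gen.b, true), (Gen.c, true), (Gen.d, true), (Gen.e, true), (Gen.f, true), (Gen.g, true), (Gen.h, true), (Gen.b, true), (Gen.c, true), (Gen.d, true), (Gen.e, true), (Gen.f, true), (Gen.g, true), (Gen.h, true), (Gen.b, true), (Gen.c, true), (Gen.d, true), (Gen.e, true),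 (Gen.f, true), (Gen.g, true), (Gen.h, true), (Gen.b, true), (Gen.c, true), (Gen.d, true), (Gen.e, true), (Gen.f, true), (Gen.g, true), (Gen.h, true), (Gen.b, true)]
  (wG_rot rels [(Gen.b, true), (Gen.c, true), (Gen.d, true), (Gen.e, true), (Gen.f, true), (Gen.g, true), (Gen.h, true), (Gen.b, true), (Gen.c, true), (Gen.d, true), (Gen.e, true), (Gen.f, true), (Gen.g, true), (Gen.h, true), (Gen.b, true), (Gen.c, true), (Gen.d, true), (Gen.e, true), (Gen.f, true), (Gen.g, true), (Gen.h, true), (Gen.b, true), (Gen.c, true), (Gen.d, true), (Gen.e, true), (Gen.f, true), (Gen.g, true), (Gen.h, true), (Gen.b, true), (Gen.c, true), (Gen.d, true), (Gen.e, true), (Gen.f, true), (Gen.g, true), (Gen.h, true), (Gen.b, true)] (Gen.c, true) [(Gen.d, true), (Gen.e, true), (Gen.f, true), (Gen.g, true), (Gen.h, true), (Gen.b, true), (Gen.c, true), (Gen.d, true), (Gen.e, true), (Gen.f, true), (Gen.g, true), (Gen.h, true), (Gen.b, true), (Gen.c, true), (Gen.d, true), (Gen.e, true), (Gen.f, true), (Gen.g,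 true), (Gen.h, true), (Gen.b, true), (Gen.c, true), (Gen.d, true), (Gen.e, true), (Gen.f, true), (Gen.g, true), (Gen.h, true)] relone_47)
def rc_23_0 : Cert rels S Gen.c := Cert.rel true [(Gen.i, true), (Gen.c, true), (Gen.i, true)]
  (wG_rot rels [] (Gen.c, true) [(Gen.i, true), (Gen.c, true), (Gen.i, true)] relone_23)
def rc_21_0 : Cert rels S Gen.c := Cert.rel true [(Gen.f, true), (Gen.c, true), (Gen.f, true)]
  (wG_rot rels [] (Gen.c, true) [(Gen.f, true), (Gen.c, true), (Gen.f, true)] relone_21)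
def rc_19_0 : Cert rels S Gen.c := Cert.rel true [(Gen.e, true), (Gen.c, true), (Gen.e, true)]
  (wG_rot rels [] (Gen.c, true) [(Gen.e, true), (Gen.c, true), (Gen.e, true)] relone_19)
def rc_10_1 : Cert rels S Gen.c := Cert.rel true [(Gen.b, true), (Gen.c, true), (Gen.b, true), (Gen.c, true), (Gen.b, true)]
  (wG_rot rels [(Gen.b, true)] (Gen.c, true) [(Gen.b, true), (Gen.c, true), (Gen.b, true), (Gen.c, true)] relone_10)
def rc_18_0 : Cert rels S Gen.c := Cert.rel true [(Gen.d, true), (Gen.c, true), (Gen.d, true), (Gen.c, true), (Gen.d, true)]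
  (wG_rot rels [] (Gen.c, true) [(Gen.d, true), (Gen.c, true), (Gen.d, true), (Gen.c, true), (Gen.d, true)] relone_18)
def rc_47_50 : Cert rels S Gen.c := Cert.rel true [(Gen.d, true), (Gen.e, true), (Gen.f, true), (Gen.g, true), (Gen.h, true), (Gen.b, true), (Gen.c, true), (Gen.d, true), (Gen.e, true), (Gen.f, true), (Gen.g, true), (Gen.h, true), (Gen.b, true), (Gen.c, true), (Gen.d, true), (Gen.e, true), (Gen.f, true), (Gen.g, true), (Gen.h, true), (Gen.b, true), (Gen.c, true), (Gen.d, true), (Gen.e, true), (Gen.f, true), (Gen.g, true), (Gen.h, true), (Gen.b, true), (Gen.c, true), (Gen.d, true), (Gen.e, true), (Gen.f, true), (Gen.g, true), (Gen.h, true), (Gen.b, true), (Gen.c, true), (Gen.d, true), (Gen.e, true), (Gen.f, true), (Gen.g, true), (Gen.h, true), (Gen.b, true), (Gen.c, true), (Gen.d, true), (Gen.e, true), (Gen.f, true), (Gen.g, true), (Gen.h, true), (Gen.b, true), (Gen.c, true), (Gen.d, true), (Gen.e, true), (Gen.f, true), (Gen.g, true), (Gen.h, true), (Gen.b, true),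 (Gen.c, true), (Gen.d, true), (Gen.e, true), (Gen.f, true), (Gen.g, true), (Gen.h, true), (Gen.b, true)]
  (wG_rot rels [(Gen.b, true), (Gen.c, true), (Gen.d, true), (Gen.e, true), (Gen.f, true), (Gen.g, true), (Gen.h, true), (Gen.b, true), (Gen.c, true), (Gen.d, true), (Gen.e, true), (Gen.f, true), (Gen.g, true), (Gen.h, true), (Gen.b, true), (Gen.c, true), (Gen.d, true), (Gen.e, true), (Gen.f, true), (Gen.g, true), (Gen.h, true), (Gen.b, true), (Gen.c, true), (Gen.d, true), (Gen.e, true), (Gen.f, true), (Gen.g, true), (Gen.h, true), (Gen.b, true), (Gen.c, true), (Gen.d, true), (Gen.e, true), (Gen.f, true), (Gen.g, true), (Gen.h, true), (Gen.b, true), (Gen.c, true), (Gen.d, true), (Gen.e, true), (Gen.f, true), (Gen.g, true), (Gen.h, true), (Gen.b, true), (Gen.c, true), (Gen.d, true), (Gen.e, true), (Gen.f, true), (Gen.g, true), (Gen.h, true), (Gen.b, true)] (Gen.c, true) [(Gen.d, true), (Gen.e, true), (Gen.f, true), (Gen.g, true), (Gen.h, true), (Gen.b, true), (Gen.c, true), (Gen.d,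 true), (Gen.e, true), (Gen.f, true), (Gen.g, true), (Gen.h, true)] relone_47)
def rc_20_0 : Cert rels S Gen.c := Cert.rel true [(Gen.h, true), (Gen.c, true), (Gen.h, true)]
  (wG_rot rels [] (Gen.c, true) [(Gen.h, true), (Gen.c, true), (Gen.h, true)] relone_20)
def rc_45_64 : Cert rels S Gen.c := Cert.rel true [(Gen.b, true), (Gen.d, true), (Gen.e, true), (Gen.f, true), (Gen.d, true), (Gen.h, true), (Gen.i, true), (Gen.d, true), (Gen.c, true), (Gen.b, true), (Gen.d, true), (Gen.e, true), (Gen.f, true), (Gen.d, true), (Gen.h, true), (Gen.i, true), (Gen.d, true), (Gen.c, true), (Gen.b, true), (Gen.d, true), (Gen.e, true), (Gen.f, true), (Gen.d, true), (Gen.h, true), (Gen.i, true), (Gen.d, true), (Gen.c, true), (Gen.b, true), (Gen.d, true), (Gen.e, true), (Gen.f, true), (Gen.d, true), (Gen.h, true), (Gen.i, true), (Gen.d, true), (Gen.c, true), (Gen.b, true), (Gen.d, true), (Gen.e, true), (Gen.f, true), (Gen.d, true), (Gen.h, true), (Gen.i, true), (Gen.d, true), (Gen.c, true), (Gen.b,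 true), (Gen.d, true), (Gen.e, true), (Gen.f, true), (Gen.d, true), (Gen.h, true), (Gen.i, true), (Gen.d, true), (Gen.c, true), (Gen.b, true), (Gen.d, true), (Gen.e, true), (Gen.f, true), (Gen.d, true), (Gen.h, true), (Gen.i, true), (Gen.d, true), (Gen.c, true), (Gen.b, true), (Gen.d, true), (Gen.e, true), (Gen.f, true), (Gen.d, true), (Gen.h, true), (Gen.i, true), (Gen.d, true), (Gen.c, true), (Gen.b, true), (Gen.d, true), (Gen.e, true), (Gen.f, true), (Gen.d, true), (Gen.h, true), (Gen.i, true), (Gen.d, true), (Gen.c, true), (Gen.b, true), (Gen.d, true), (Gen.e, true), (Gen.f, true), (Gen.d, true), (Gen.h, true), (Gen.i, true), (Gen.d, true)]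
  (wG_rot rels [(Gen.d, true), (Gen.c, true), (Gen.b, true), (Gen.d, true), (Gen.e, true), (Gen.f, true), (Gen.d, true), (Gen.h, true), (Gen.i, true), (Gen.d, true), (Gen.c, true), (Gen.b, true), (Gen.d, true), (Gen.e, true), (Gen.f, true), (Gen.d, true), (Gen.h, true), (Gen.i, true), (Gen.d, true), (Gen.c, true), (Gen.b, true), (Gen.d, true), (Gen.e, true), (Gen.f, true), (Gen.d, true), (Gen.h, true), (Gen.i, true), (Gen.d, true), (Gen.c, true), (Gen.b, true), (Gen.d, true), (Gen.e, true), (Gen.f, true), (Gen.d, true), (Gen.h, true), (Gen.i, true), (Gen.d, true), (Gen.c, true), (Gen.b, true), (Gen.d, true), (Gen.e, true), (Gen.f, true), (Gen.d, true), (Gen.h, true), (Gen.i, true), (Gen.d, true), (Gen.c, true), (Gen.b, true), (Gen.d, true), (Gen.e, true), (Gen.f, true), (Gen.d, true), (Gen.h, true), (Gen.i, true), (Gen.d, true), (Gen.c, true), (Gen.b, true), (Gen.d, true), (Gen.e, true), (Gen.f, true), (Gen.d, true), (Gen.h, true), (Gen.i, true), (Gen.d, true)] (Gen.c, true) [(Gen.b,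 true), (Gen.d, true), (Gen.e, true), (Gen.f, true), (Gen.d, true), (Gen.h, true), (Gen.i, true), (Gen.d, true), (Gen.c, true), (Gen.b, true), (Gen.d, true), (Gen.e, true), (Gen.f, true), (Gen.d, true), (Gen.h, true), (Gen.i, true), (Gen.d, true), (Gen.c, true), (Gen.b, true), (Gen.d, true), (Gen.e, true), (Gen.f, true), (Gen.d, true), (Gen.h, true), (Gen.i, true)] relone_45)
def rc_45_55 : Cert rels S Gen.c := Cert.rel true [(Gen.b, true), (Gen.d, true), (Gen.e, true), (Gen.f, true), (Gen.d, true), (Gen.h, true), (Gen.i, true), (Gen.d, true), (Gen.c, true), (Gen.b, true), (Gen.d, true), (Gen.e, true), (Gen.f, true), (Gen.d, true), (Gen.h, true), (Gen.i, true), (Gen.d, true), (Gen.c, true), (Gen.b, true), (Gen.d, true), (Gen.e, true), (Gen.f, true), (Gen.d, true), (Gen.h, true), (Gen.i, true), (Gen.d, true), (Gen.c, true), (Gen.b, true), (Gen.d, true), (Gen.e, true), (Gen.f, true), (Gen.d, true), (Gen.h, true), (Gen.i, true), (Gen.d, true), (Gen.c, true), (Gen.b, true), (Gen.d, true),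 (Gen.e, true), (Gen.f, true), (Gen.d, true), (Gen.h, true), (Gen.i, true), (Gen.d, true), (Gen.c, true), (Gen.b, true), (Gen.d, true), (Gen.e, true), (Gen.f, true), (Gen.d, true), (Gen.h, true), (Gen.i, true), (Gen.d, true), (Gen.c, true), (Gen.b, true), (Gen.d, true), (Gen.e, true), (Gen.f, true), (Gen.d, true), (Gen.h, true), (Gen.i, true), (Gen.d, true), (Gen.c, true), (Gen.b, true), (Gen.d, true), (Gen.e, true), (Gen.f, true), (Gen.d, true), (Gen.h, true), (Gen.i, true), (Gen.d, true), (Gen.c, true), (Gen.b, true), (Gen.d, true), (Gen.e, true), (Gen.f, true), (Gen.d, true), (Gen.h, true), (Gen.i, true), (Gen.d, true), (Gen.c, true), (Gen.b, true), (Gen.d, true), (Gen.e, true), (Gen.f, true), (Gen.d, true), (Gen.h, true), (Gen.i, true), (Gen.d, true)]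
  (wG_rot rels [(Gen.d, true), (Gen.c, true), (Gen.b, true), (Gen.d, true), (Gen.e, true), (Gen.f, true), (Gen.d, true), (Gen.h, true), (Gen.i, true), (Gen.d, true), (Gen.c, true), (Gen.b, true), (Gen.d, true), (Gen.e, true), (Gen.f, true), (Gen.d, true), (Gen.h, true), (Gen.i, true), (Gen.d, true), (Gen.c, true), (Gen.b, true), (Gen.d, true), (Gen.e, true), (Gen.f, true), (Gen.d, true), (Gen.h, true), (Gen.i, true), (Gen.d, true), (Gen.c, true), (Gen.b, true), (Gen.d, true), (Gen.e, true), (Gen.f, true), (Gen.d, true), (Gen.h, true), (Gen.i, true), (Gen.d, true), (Gen.c, true), (Gen.b, true), (Gen.d, true), (Gen.e, true), (Gen.f, true), (Gen.d, true), (Gen.h, true), (Gen.i, true), (Gen.d, true), (Gen.c, true), (Gen.b, true), (Gen.d, true), (Gen.e, true), (Gen.f, true), (Gen.d, true), (Gen.h, true), (Gen.i, true), (Gen.d, true)] (Gen.c, true) [(Gen.b, true), (Gen.d, true), (Gen.e, true), (Gen.f, true), (Gen.d, true), (Gen.h, true), (Gen.i, true), (Gen.d, true), (Gen.c, true), (Gen.b,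 true), (Gen.d, true), (Gen.e, true), (Gen.f, true), (Gen.d, true), (Gen.h, true), (Gen.i, true), (Gen.d, true), (Gen.c, true), (Gen.b, true), (Gen.d, true), (Gen.e, true), (Gen.f, true), (Gen.d, true), (Gen.h, true), (Gen.i, true), (Gen.d, true), (Gen.c, true), (Gen.b, true), (Gen.d, true), (Gen.e, true), (Gen.f, true), (Gen.d, true), (Gen.h, true), (Gen.i, true)] relone_45)
def rc_22_0 : Cert rels S Gen.c := Cert.rel true [(Gen.g, true), (Gen.c, true), (Gen.g, true)]
  (wG_rot rels [] (Gen.c, true) [(Gen.g, true), (Gen.c, true), (Gen.g, true)] relone_22)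
def rc_47_15 : Cert rels S Gen.c := Cert.rel true [(Gen.d, true), (Gen.e, true), (Gen.f, true), (Gen.g, true), (Gen.h, true), (Gen.b, true), (Gen.c, true), (Gen.d, true), (Gen.e, true), (Gen.f, true), (Gen.g, true), (Gen.h, true), (Gen.b, true), (Gen.c, true), (Gen.d, true), (Gen.e, true), (Gen.f, true), (Gen.g, true), (Gen.h, true), (Gen.b, true), (Gen.c, true), (Gen.d, true), (Gen.e, true), (Gen.f, true), (Gen.g, true), (Gen.h, true), (Gen.b, true), (Gen.c, true), (Gen.d, true), (Gen.e, true), (Gen.f, true), (Gen.g, true), (Gen.h, true), (Gen.b, true), (Gen.c, true), (Gen.d, true), (Gen.e, true), (Gen.f, true), (Gen.g, true), (Gen.h, true), (Gen.b, true), (Gen.c, true), (Gen.d, true), (Gen.e, true), (Gen.f, true), (Gen.g, true), (Gen.h, true), (Gen.b, true), (Gen.c, true), (Gen.d, true), (Gen.e, true), (Gen.f, true), (Gen.g, true), (Gen.h, true), (Gen.b, true), (Gen.c, true), (Gen.d, true), (Gen.e, true), (Gen.f, true), (Gen.g, true), (Gen.h, true), (Gen.b, true)]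
  (wG_rot rels [(Gen.b, true), (Gen.c, true), (Gen.d, true), (Gen.e, true), (Gen.f, true), (Gen.g, true), (Gen.h, true), (Gen.b, true), (Gen.c, true), (Gen.d, true), (Gen.e, true), (Gen.f, true), (Gen.g, true), (Gen.h, true), (Gen.b, true)] (Gen.c, true) [(Gen.d, true), (Gen.e, true), (Gen.f, true), (Gen.g, true), (Gen.h, true), (Gen.b, true), (Gen.c, true), (Gen.d, true), (Gen.e, true), (Gen.f, true), (Gen.g, true), (Gen.h, true), (Gen.b, true), (Gen.c, true), (Gen.d, true), (Gen.e, true), (Gen.f, true), (Gen.g, true), (Gen.h, true), (Gen.b, true), (Gen.c, true), (Gen.d, true), (Gen.e, true), (Gen.f, true), (Gen.g, true), (Gen.h, true), (Gen.b, true), (Gen.c, true), (Gen.d, true), (Gen.e, true), (Gen.f, true), (Gen.g, true), (Gen.h, true), (Gen.b, true), (Gen.c, true), (Gen.d, true), (Gen.e, true), (Gen.f, true), (Gen.g, true), (Gen.h, true), (Gen.b, true), (Gen.c, true), (Gen.d, true), (Gen.e, true), (Gen.f, true), (Gen.g, true), (Gen.h, true)] relone_47)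
def rc_45_28 : Cert rels S Gen.c := Cert.rel true [(Gen.b, true), (Gen.d, true), (Gen.e, true), (Gen.f, true), (Gen.d, true), (Gen.h, true), (Gen.i, true), (Gen.d, true), (Gen.c, true), (Gen.b, true), (Gen.d, true), (Gen.e, true), (Gen.f, true), (Gen.d, true), (Gen.h, true), (Gen.i, true), (Gen.d, true), (Gen.c, true), (Gen.b, true), (Gen.d, true), (Gen.e, true), (Gen.f, true), (Gen.d, true), (Gen.h, true), (Gen.i, true), (Gen.d, true), (Gen.c, true), (Gen.b, true), (Gen.d, true), (Gen.e, true), (Gen.f, true), (Gen.d, true), (Gen.h, true), (Gen.i, true), (Gen.d, true), (Gen.c, true), (Gen.b, true), (Gen.d, true), (Gen.e, true), (Gen.f, true), (Gen.d, true), (Gen.h, true), (Gen.i, true), (Gen.d, true), (Gen.c, true), (Gen.b, true), (Gen.d, true), (Gen.e, true), (Gen.f, true), (Gen.d, true), (Gen.h, true), (Gen.i, true), (Gen.d, true), (Gen.c, true), (Gen.b, true), (Gen.d, true), (Gen.e, true), (Gen.f, true), (Gen.d, true), (Gen.h, true), (Gen.i, true), (Gen.d, true), (Gen.c, true),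 (Gen.b, true), (Gen.d, true), (Gen.e, true), (Gen.f, true), (Gen.d, true), (Gen.h, true), (Gen.i, true), (Gen.d, true), (Gen.c, true), (Gen.b, true), (Gen.d, true), (Gen.e, true), (Gen.f, true), (Gen.d, true), (Gen.h, true), (Gen.i, true), (Gen.d, true), (Gen.c, true), (Gen.b, true), (Gen.d, true), (Gen.e, true), (Gen.f, true), (Gen.d, true), (Gen.h, true), (Gen.i, true), (Gen.d, true)]
  (wG_rot rels [(Gen.d, true), (Gen.c, true), (Gen.b, true), (Gen.d, true), (Gen.e, true), (Gen.f, true), (Gen.d, true), (Gen.h, true), (Gen.i, true), (Gen.d, true), (Gen.c, true), (Gen.b, true), (Gen.d, true), (Gen.e, true), (Gen.f, true), (Gen.d, true), (Gen.h, true), (Gen.i, true), (Gen.d, true), (Gen.c, true), (Gen.b, true), (Gen.d, true), (Gen.e, true), (Gen.f, true), (Gen.d, true), (Gen.h, true), (Gen.i, true), (Gen.d, true)] (Gen.c, true) [(Gen.b, true), (Gen.d, true), (Gen.e, true), (Gen.f, true), (Gen.d, true), (Gen.h, true), (Gen.i, true), (Gen.d, true), (Gen.c, true), (Gen.b, true), (Gen.d,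 true), (Gen.e, true), (Gen.f, true), (Gen.d, true), (Gen.h, true), (Gen.i, true), (Gen.d, true), (Gen.c, true), (Gen.b, true), (Gen.d, true), (Gen.e, true), (Gen.f, true), (Gen.d, true), (Gen.h, true), (Gen.i, true), (Gen.d, true), (Gen.c, true), (Gen.b, true), (Gen.d, true), (Gen.e, true), (Gen.f, true), (Gen.d, true), (Gen.h, true), (Gen.i, true), (Gen.d, true), (Gen.c, true), (Gen.b, true), (Gen.d, true), (Gen.e, true), (Gen.f, true), (Gen.d, true), (Gen.h, true), (Gen.i, true), (Gen.d, true), (Gen.c, true), (Gen.b, true), (Gen.d, true), (Gen.e, true), (Gen.f, true), (Gen.d, true), (Gen.h, true), (Gen.i, true), (Gen.d, true), (Gen.c, true), (Gen.b, true), (Gen.d, true), (Gen.e, true), (Gen.f, true), (Gen.d, true), (Gen.h, true), (Gen.i, true)] relone_45)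
def rc_45_37 : Cert rels S Gen.c := Cert.rel true [(Gen.b, true), (Gen.d, true), (Gen.e, true), (Gen.f, true), (Gen.d, true), (Gen.h, true), (Gen.i, true), (Gen.d, true), (Gen.c, true), (Gen.b, true), (Gen.d, true), (Gen.e, true), (Gen.f, true), (Gen.d, true), (Gen.h, true), (Gen.i, true), (Gen.d, true), (Gen.c, true), (Gen.b, true), (Gen.d, true), (Gen.e, true), (Gen.f, true), (Gen.d, true), (Gen.h, true), (Gen.i, true), (Gen.d, true), (Gen.c, true), (Gen.b, true), (Gen.d, true), (Gen.e, true), (Gen.f, true), (Gen.d, true), (Gen.h, true), (Gen.i, true), (Gen.d, true), (Gen.c, true), (Gen.b, true), (Gen.d, true), (Gen.e, true), (Gen.f, true), (Gen.d, true), (Gen.h, true), (Gen.i, true), (Gen.d, true), (Gen.c, true), (Gen.b, true), (Gen.d, true), (Gen.e, true), (Gen.f, true), (Gen.d, true), (Gen.h, true), (Gen.i, true), (Gen.d, true), (Gen.c, true), (Gen.b, true), (Gen.d, true), (Gen.e, true), (Gen.f, true), (Gen.d, true), (Gen.h, true), (Gen.i, true), (Gen.d, true), (Gen.c, true),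 (Gen.b, true), (Gen.d, true), (Gen.e, true), (Gen.f, true), (Gen.d, true), (Gen.h, true), (Gen.i, true), (Gen.d, true), (Gen.c, true), (Gen.b, true), (Gen.d, true), (Gen.e, true), (Gen.f, true), (Gen.d, true), (Gen.h, true), (Gen.i, true), (Gen.d, true), (Gen.c, true), (Gen.b, true), (Gen.d, true), (Gen.e, true), (Gen.f, true), (Gen.d, true), (Gen.h, true), (Gen.i, true), (Gen.d, true)]
  (wG_rot rels [(Gen.d, true), (Gen.c, true), (Gen.b, true), (Gen.d, true), (Gen.e, true), (Gen.f, true), (Gen.d, true), (Gen.h, true), (Gen.i, true), (Gen.d, true), (Gen.c, true), (Gen.b, true), (Gen.d, true), (Gen.e, true), (Gen.f, true), (Gen.d, true), (Gen.h, true), (Gen.i, true), (Gen.d, true), (Gen.c, true), (Gen.b, true), (Gen.d, true), (Gen.e, true), (Gen.f, true), (Gen.d, true), (Gen.h, true), (Gen.i, true), (Gen.d, true), (Gen.c, true), (Gen.b, true), (Gen.d, true), (Gen.e, true), (Gen.f, true), (Gen.d, true), (Gen.h, true), (Gen.i, true), (Gen.d, true)] (Gen.c, true) [(Gen.b, true), (Gen.d,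 true), (Gen.e, true), (Gen.f, true), (Gen.d, true), (Gen.h, true), (Gen.i, true), (Gen.d, true), (Gen.c, true), (Gen.b, true), (Gen.d, true), (Gen.e, true), (Gen.f, true), (Gen.d, true), (Gen.h, true), (Gen.i, true), (Gen.d, true), (Gen.c, true), (Gen.b, true), (Gen.d, true), (Gen.e, true), (Gen.f, true), (Gen.d, true), (Gen.h, true), (Gen.i, true), (Gen.d, true), (Gen.c, true), (Gen.b, true), (Gen.d, true), (Gen.e, true), (Gen.f, true), (Gen.d, true), (Gen.h, true), (Gen.i, true), (Gen.d, true), (Gen.c, true), (Gen.b, true), (Gen.d, true), (Gen.e, true), (Gen.f, true), (Gen.d, true), (Gen.h, true), (Gen.i, true), (Gen.d, true), (Gen.c, true), (Gen.b, true), (Gen.d, true), (Gen.e, true), (Gen.f, true), (Gen.d, true), (Gen.h, true), (Gen.i, true)] relone_45)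
def rc_46_23 : Cert rels S Gen.c := Cert.rel true [(Gen.d, true), (Gen.e, true), (Gen.f, true), (Gen.h, true), (Gen.a, true), (Gen.b, true), (Gen.c, true), (Gen.d, true), (Gen.e, true), (Gen.f, true), (Gen.h, true), (Gen.a, true), (Gen.b, true), (Gen.c, true), (Gen.d, true), (Gen.e, true), (Gen.f, true), (Gen.h, true), (Gen.a, true), (Gen.b, true), (Gen.c, true), (Gen.d, true), (Gen.e, true), (Gen.f, true), (Gen.h, true), (Gen.a, true), (Gen.b, true), (Gen.c, true), (Gen.d, true), (Gen.e, true), (Gen.f, true), (Gen.h, true), (Gen.a, true), (Gen.b, true), (Gen.c, true), (Gen.d, true), (Gen.e, true), (Gen.f, true), (Gen.h, true), (Gen.a, true), (Gen.b, true), (Gen.c, true), (Gen.d, true), (Gen.e, true), (Gen.f, true), (Gen.h, true), (Gen.a, true), (Gen.b, true), (Gen.c, true), (Gen.d, true), (Gen.e, true), (Gen.f, true), (Gen.h, true), (Gen.a, true), (Gen.b, true), (Gen.c, true), (Gen.d, true), (Gen.e, true), (Gen.f, true), (Gen.h, true), (Gen.a, true), (Gen.b, true)]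
  (wG_rot rels [(Gen.a, true), (Gen.b, true), (Gen.c, true), (Gen.d, true), (Gen.e, true), (Gen.f, true), (Gen.h, true), (Gen.a, true), (Gen.b, true), (Gen.c, true), (Gen.d, true), (Gen.e, true), (Gen.f, true), (Gen.h, true), (Gen.a, true), (Gen.b, true), (Gen.c, true), (Gen.d, true), (Gen.e, true), (Gen.f, true), (Gen.h, true), (Gen.a, true), (Gen.b, true)] (Gen.c, true) [(Gen.d, true), (Gen.e, true), (Gen.f, true), (Gen.h, true), (Gen.a, true), (Gen.b, true), (Gen.c, true), (Gen.d, true), (Gen.e, true), (Gen.f, true), (Gen.h, true), (Gen.a, true), (Gen.b, true), (Gen.c, true), (Gen.d, true), (Gen.e, true), (Gen.f, true), (Gen.h, true), (Gen.a, true), (Gen.b, true), (Gen.c, true), (Gen.d, true), (Gen.e, true), (Gen.f, true), (Gen.h, true), (Gen.a, true), (Gen.b, true), (Gen.c, true), (Gen.d, true), (Gen.e, true), (Gen.f, true), (Gen.h, true), (Gen.a, true), (Gen.b, true), (Gen.c, true), (Gen.d, true), (Gen.e, true), (Gen.f, true), (Gen.h, true)] relone_46)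
def rc_46_37 : Cert rels S Gen.c := Cert.rel true [(Gen.d, true), (Gen.e, true), (Gen.f, true), (Gen.h, true), (Gen.a, true), (Gen.b, true), (Gen.c, true), (Gen.d, true), (Gen.e, true), (Gen.f, true), (Gen.h, true), (Gen.a, true), (Gen.b, true), (Gen.c, true), (Gen.d, true), (Gen.e, true), (Gen.f, true), (Gen.h, true), (Gen.a, true), (Gen.b, true), (Gen.c, true), (Gen.d, true), (Gen.e, true), (Gen.f, true), (Gen.h, true), (Gen.a, true), (Gen.b, true), (Gen.c, true), (Gen.d, true), (Gen.e, true), (Gen.f, true), (Gen.h, true), (Gen.a, true), (Gen.b, true), (Gen.c, true), (Gen.d, true), (Gen.e, true), (Gen.f, true), (Gen.h, true), (Gen.a, true), (Gen.b, true), (Gen.c, true), (Gen.d, true), (Gen.e, true), (Gen.f, true), (Gen.h, true), (Gen.a, true), (Gen.b, true), (Gen.c, true), (Gen.d, true), (Gen.e, true), (Gen.f, true), (Gen.h, true), (Gen.a, true), (Gen.b, true), (Gen.c, true), (Gen.d, true), (Gen.e, true), (Gen.f, true), (Gen.h, true), (Gen.a, true), (Gen.b, true)]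
  (wG_rot rels [(Gen.a, true), (Gen.b, true), (Gen.c, true), (Gen.d, true), (Gen.e, true), (Gen.f, true), (Gen.h, true), (Gen.a, true), (Gen.b, true), (Gen.c, true), (Gen.d, true), (Gen.e, true), (Gen.f, true), (Gen.h, true), (Gen.a, true), (Gen.b, true), (Gen.c, true), (Gen.d, true), (Gen.e, true), (Gen.f, true), (Gen.h, true), (Gen.a, true), (Gen.b, true), (Gen.c, true), (Gen.d, true), (Gen.e, true), (Gen.f, true), (Gen.h, true), (Gen.a, true), (Gen.b, true), (Gen.c, true), (Gen.d, true), (Gen.e, true), (Gen.f, true), (Gen.h, true), (Gen.a, true), (Gen.b, true)] (Gen.c, true) [(Gen.d, true), (Gen.e, true), (Gen.f, true), (Gen.h, true), (Gen.a, true), (Gen.b, true), (Gen.c, true), (Gen.d, true), (Gen.e, true), (Gen.f, true), (Gen.h, true), (Gen.a, true), (Gen.b, true), (Gen.c, true), (Gen.d, true), (Gen.e, true), (Gen.f, true), (Gen.h, true), (Gen.a, true), (Gen.b, true), (Gen.c, true), (Gen.d, true), (Gen.e, true), (Gen.f, true), (Gen.h, true)] relone_46)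
def rc_2_3 : Cert rels S Gen.c := Cert.rel true [(Gen.a, true), (Gen.c, true), (Gen.a, true)]
  (wG_rot rels [(Gen.a, true), (Gen.c, true), (Gen.a, true)] (Gen.c, true) [] relone_2)
def rc_46_16 : Cert rels S Gen.c := Cert.rel true [(Gen.d, true), (Gen.e, true), (Gen.f, true), (Gen.h, true), (Gen.a, true), (Gen.b, true), (Gen.c, true), (Gen.d, true), (Gen.e, true), (Gen.f, true), (Gen.h, true), (Gen.a, true), (Gen.b, true), (Gen.c, true), (Gen.d, true), (Gen.e, true), (Gen.f, true), (Gen.h, true), (Gen.a, true), (Gen.b, true), (Gen.c, true), (Gen.d, true), (Gen.e, true), (Gen.f, true), (Gen.h, true), (Gen.a, true), (Gen.b, true), (Gen.c, true), (Gen.d, true), (Gen.e, true), (Gen.f, true), (Gen.h, true), (Gen.a, true), (Gen.b, true), (Gen.c, true), (Gen.d, true), (Gen.e, true), (Gen.f, true), (Gen.h, true), (Gen.a, true), (Gen.b, true), (Gen.c, true), (Gen.d, true), (Gen.e, true), (Gen.f, true), (Gen.h, true), (Gen.a, true), (Gen.b, true), (Gen.c, true), (Gen.d, true), (Gen.e, true),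 (Gen.f, true), (Gen.h, true), (Gen.a, true), (Gen.b, true), (Gen.c, true), (Gen.d, true), (Gen.e, true), (Gen.f, true), (Gen.h, true), (Gen.a, true), (Gen.b, true)]
  (wG_rot rels [(Gen.a, true), (Gen.b, true), (Gen.c, true), (Gen.d, true), (Gen.e, true), (Gen.f, true), (Gen.h, true), (Gen.a, true), (Gen.b, true), (Gen.c, true), (Gen.d, true), (Gen.e, true), (Gen.f, true), (Gen.h, true), (Gen.a, true), (Gen.b, true)] (Gen.c, true) [(Gen.d, true), (Gen.e, true), (Gen.f, true), (Gen.h, true), (Gen.a, true), (Gen.b, true), (Gen.c, true), (Gen.d, true), (Gen.e, true), (Gen.f, true), (Gen.h, true), (Gen.a, true), (Gen.b, true), (Gen.c, true), (Gen.d, true), (Gen.e, true), (Gen.f, true), (Gen.h, true), (Gen.a, true), (Gen.b, true), (Gen.c, true), (Gen.d, true), (Gen.e, true), (Gen.f, true), (Gen.h, true), (Gen.a, true), (Gen.b, true), (Gen.c, true), (Gen.d, true), (Gen.e, true), (Gen.f, true), (Gen.h, true), (Gen.a, true), (Gen.b, true), (Gen.c, true), (Gen.d, true), (Gen.e, true), (Gen.f,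 true), (Gen.h, true), (Gen.a, true), (Gen.b, true), (Gen.c, true), (Gen.d, true), (Gen.e, true), (Gen.f, true), (Gen.h, true)] relone_46)
def rc_46_30 : Cert rels S Gen.c := Cert.rel true [(Gen.d, true), (Gen.e, true), (Gen.f, true), (Gen.h, true), (Gen.a, true), (Gen.b, true), (Gen.c, true), (Gen.d, true), (Gen.e, true), (Gen.f, true), (Gen.h, true), (Gen.a, true), (Gen.b, true), (Gen.c, true), (Gen.d, true), (Gen.e, true), (Gen.f, true), (Gen.h, true), (Gen.a, true), (Gen.b, true), (Gen.c, true), (Gen.d, true), (Gen.e, true), (Gen.f, true), (Gen.h, true), (Gen.a, true), (Gen.b, true), (Gen.c, true), (Gen.d, true), (Gen.e, true), (Gen.f, true), (Gen.h, true), (Gen.a, true), (Gen.b, true), (Gen.c, true), (Gen.d, true), (Gen.e, true), (Gen.f, true), (Gen.h, true), (Gen.a, true), (Gen.b, true), (Gen.c, true), (Gen.d, true), (Gen.e, true), (Gen.f, true), (Gen.h, true), (Gen.a, true), (Gen.b, true), (Gen.c, true), (Gen.d, true), (Gen.e, true), (Gen.f, true), (Gen.h, true), (Gen.a, true),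 (Gen.b, true), (Gen.c, true), (Gen.d, true), (Gen.e, true), (Gen.f, true), (Gen.h, true), (Gen.a, true), (Gen.b, true)]
  (wG_rot rels [(Gen.a, true), (Gen.b, true), (Gen.c, true), (Gen.d, true), (Gen.e, true), (Gen.f, true), (Gen.h, true), (Gen.a, true), (Gen.b, true), (Gen.c, true), (Gen.d, true), (Gen.e, true), (Gen.f, true), (Gen.h, true), (Gen.a, true), (Gen.b, true), (Gen.c, true), (Gen.d, true), (Gen.e, true), (Gen.f, true), (Gen.h, true), (Gen.a, true), (Gen.b, true), (Gen.c, true), (Gen.d, true), (Gen.e, true), (Gen.f, true), (Gen.h, true), (Gen.a, true), (Gen.b, true)] (Gen.c, true) [(Gen.d, true), (Gen.e, true), (Gen.f, true), (Gen.h, true), (Gen.a, true), (Gen.b, true), (Gen.c, true), (Gen.d, true), (Gen.e, true), (Gen.f, true), (Gen.h, true), (Gen.a, true), (Gen.b, true), (Gen.c, true), (Gen.d, true), (Gen.e, true), (Gen.f, true), (Gen.h, true), (Gen.a, true), (Gen.b, true), (Gen.c, true), (Gen.d, true), (Gen.e, true), (Gen.f, true), (Gen.h, true), (Gen.a, true), (Gen.b,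 true), (Gen.c, true), (Gen.d, true), (Gen.e, true), (Gen.f, true), (Gen.h, true)] relone_46)
def rc_17_1 : Cert rels S Gen.c := Cert.rel true [(Gen.c, true)]
  (wG_rot rels [(Gen.c, true)] (Gen.c, true) [] relone_17)
def rc_10_5 : Cert rels S Gen.c := Cert.rel true [(Gen.b, true), (Gen.c, true), (Gen.b, true), (Gen.c, true), (Gen.b, true)]
  (wG_rot rels [(Gen.b, true), (Gen.c, true), (Gen.b, true), (Gen.c, true), (Gen.b, true)] (Gen.c, true) [] relone_10)
def rc_46_44 : Cert rels S Gen.c := Cert.rel true [(Gen.d, true), (Gen.e, true), (Gen.f, true), (Gen.h, true), (Gen.a, true), (Gen.b, true), (Gen.c, true), (Gen.d, true), (Gen.e, true), (Gen.f, true), (Gen.h, true), (Gen.a, true), (Gen.b, true), (Gen.c, true), (Gen.d, true), (Gen.e, true), (Gen.f, true), (Gen.h, true), (Gen.a, true), (Gen.b, true), (Gen.c, true), (Gen.d, true), (Gen.e, true), (Gen.f, true), (Gen.h, true), (Gen.a, true), (Gen.b, true), (Gen.c, true), (Gen.d, true), (Gen.e, true), (Gen.f, true), (Gen.h, true), (Gen.a,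 true), (Gen.b, true), (Gen.c, true), (Gen.d, true), (Gen.e, true), (Gen.f, true), (Gen.h, true), (Gen.a, true), (Gen.b, true), (Gen.c, true), (Gen.d, true), (Gen.e, true), (Gen.f, true), (Gen.h, true), (Gen.a, true), (Gen.b, true), (Gen.c, true), (Gen.d, true), (Gen.e, true), (Gen.f, true), (Gen.h, true), (Gen.a, true), (Gen.b, true), (Gen.c, true), (Gen.d, true), (Gen.e, true), (Gen.f, true), (Gen.h, true), (Gen.a, true), (Gen.b, true)]
  (wG_rot rels [(Gen.a, true), (Gen.b, true), (Gen.c, true), (Gen.d, true), (Gen.e, true), (Gen.f, true), (Gen.h, true), (Gen.a, true), (Gen.b, true), (Gen.c, true), (Gen.d, true), (Gen.e, true), (Gen.f, true), (Gen.h, true), (Gen.a, true), (Gen.b, true), (Gen.c, true), (Gen.d, true), (Gen.e, true), (Gen.f, true), (Gen.h, true), (Gen.a, true), (Gen.b, true), (Gen.c, true), (Gen.d, true), (Gen.e, true), (Gen.f, true), (Gen.h, true), (Gen.a, true), (Gen.b, true), (Gen.c, true), (Gen.d, true), (Gen.e, true), (Gen.f, true), (Gen.h, true), (Gen.a, true),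 (Gen.b, true), (Gen.c, true), (Gen.d, true), (Gen.e, true), (Gen.f, true), (Gen.h, true), (Gen.a, true), (Gen.b, true)] (Gen.c, true) [(Gen.d, true), (Gen.e, true), (Gen.f, true), (Gen.h, true), (Gen.a, true), (Gen.b, true), (Gen.c, true), (Gen.d, true), (Gen.e, true), (Gen.f, true), (Gen.h, true), (Gen.a, true), (Gen.b, true), (Gen.c, true), (Gen.d, true), (Gen.e, true), (Gen.f, true), (Gen.h, true)] relone_46)
def rc_47_29 : Cert rels S Gen.c := Cert.rel true [(Gen.d, true), (Gen.e, true), (Gen.f, true), (Gen.g, true), (Gen.h, true), (Gen.b, true), (Gen.c, true), (Gen.d, true), (Gen.e, true), (Gen.f, true), (Gen.g, true), (Gen.h, true), (Gen.b, true), (Gen.c, true), (Gen.d, true), (Gen.e, true), (Gen.f, true), (Gen.g, true), (Gen.h, true), (Gen.b, true), (Gen.c, true), (Gen.d, true), (Gen.e, true), (Gen.f, true), (Gen.g, true), (Gen.h, true), (Gen.b, true), (Gen.c, true), (Gen.d, true), (Gen.e, true), (Gen.f, true), (Gen.g, true), (Gen.h, true), (Gen.b, true), (Gen.c, true), (Gen.d,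 true), (Gen.e, true), (Gen.f, true), (Gen.g, true), (Gen.h, true), (Gen.b, true), (Gen.c, true), (Gen.d, true), (Gen.e, true), (Gen.f, true), (Gen.g, true), (Gen.h, true), (Gen.b, true), (Gen.c, true), (Gen.d, true), (Gen.e, true), (Gen.f, true), (Gen.g, true), (Gen.h, true), (Gen.b, true), (Gen.c, true), (Gen.d, true), (Gen.e, true), (Gen.f, true), (Gen.g, true), (Gen.h, true), (Gen.b, true)]
  (wG_rot rels [(Gen.b, true), (Gen.c, true), (Gen.d, true), (Gen.e, true), (Gen.f, true), (Gen.g, true), (Gen.h, true), (Gen.b, true), (Gen.c, true), (Gen.d, true), (Gen.e, true), (Gen.f, true), (Gen.g, true), (Gen.h, true), (Gen.b, true), (Gen.c, true), (Gen.d, true), (Gen.e, true), (Gen.f, true), (Gen.g, true), (Gen.h, true), (Gen.b, true), (Gen.c, true), (Gen.d, true), (Gen.e, true), (Gen.f, true), (Gen.g, true), (Gen.h, true), (Gen.b, true)] (Gen.c, true) [(Gen.d, true), (Gen.e, true), (Gen.f, true), (Gen.g, true), (Gen.h, true), (Gen.b, true), (Gen.c, true), (Gen.d, true), (Gen.e, true),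 (Gen.f, true), (Gen.g, true), (Gen.h, true), (Gen.b, true), (Gen.c, true), (Gen.d, true), (Gen.e, true), (Gen.f, true), (Gen.g, true), (Gen.h, true), (Gen.b, true), (Gen.c, true), (Gen.d, true), (Gen.e, true), (Gen.f, true), (Gen.g, true), (Gen.h, true), (Gen.b, true), (Gen.c, true), (Gen.d, true), (Gen.e, true), (Gen.f, true), (Gen.g, true), (Gen.h, true)] relone_47)
def rc_46_9 : Cert rels S Gen.c := Cert.rel true [(Gen.d, true), (Gen.e, true), (Gen.f, true), (Gen.h, true), (Gen.a, true), (Gen.b, true), (Gen.c, true), (Gen.d, true), (Gen.e, true), (Gen.f, true), (Gen.h, true), (Gen.a, true), (Gen.b, true), (Gen.c, true), (Gen.d, true), (Gen.e, true), (Gen.f, true), (Gen.h, true), (Gen.a, true), (Gen.b, true), (Gen.c, true), (Gen.d, true), (Gen.e, true), (Gen.f, true), (Gen.h, true), (Gen.a, true), (Gen.b, true), (Gen.c, true), (Gen.d, true), (Gen.e, true), (Gen.f, true), (Gen.h, true), (Gen.a, true), (Gen.b, true), (Gen.c, true), (Gen.d, true), (Gen.e, true), (Gen.f, true), (Gen.h,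 true), (Gen.a, true), (Gen.b, true), (Gen.c, true), (Gen.d, true), (Gen.e, true), (Gen.f, true), (Gen.h, true), (Gen.a, true), (Gen.b, true), (Gen.c, true), (Gen.d, true), (Gen.e, true), (Gen.f, true), (Gen.h, true), (Gen.a, true), (Gen.b, true), (Gen.c, true), (Gen.d, true), (Gen.e, true), (Gen.f, true), (Gen.h, true), (Gen.a, true), (Gen.b, true)]
  (wG_rot rels [(Gen.a, true), (Gen.b, true), (Gen.c, true), (Gen.d, true), (Gen.e, true), (Gen.f, true), (Gen.h, true), (Gen.a, true), (Gen.b, true)] (Gen.c, true) [(Gen.d, true), (Gen.e, true), (Gen.f, true), (Gen.h, true), (Gen.a, true), (Gen.b, true), (Gen.c, true), (Gen.d, true), (Gen.e, true), (Gen.f, true), (Gen.h, true), (Gen.a, true), (Gen.b, true), (Gen.c, true), (Gen.d, true), (Gen.e, true), (Gen.f, true), (Gen.h, true), (Gen.a, true), (Gen.b, true), (Gen.c, true), (Gen.d, true), (Gen.e, true), (Gen.f, true), (Gen.h, true), (Gen.a, true), (Gen.b, true), (Gen.c, true), (Gen.d, true), (Gen.e, true), (Gen.f, true), (Gen.h, true),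 (Gen.a, true), (Gen.b, true), (Gen.c, true), (Gen.d, true), (Gen.e, true), (Gen.f, true), (Gen.h, true), (Gen.a, true), (Gen.b, true), (Gen.c, true), (Gen.d, true), (Gen.e, true), (Gen.f, true), (Gen.h, true), (Gen.a, true), (Gen.b, true), (Gen.c, true), (Gen.d, true), (Gen.e, true), (Gen.f, true), (Gen.h, true)] relone_46)
def rc_47_8 : Cert rels S Gen.c := Cert.rel true [(Gen.d, true), (Gen.e, true), (Gen.f, true), (Gen.g, true), (Gen.h, true), (Gen.b, true), (Gen.c, true), (Gen.d, true), (Gen.e, true), (Gen.f, true), (Gen.g, true), (Gen.h, true), (Gen.b, true), (Gen.c, true), (Gen.d, true), (Gen.e, true), (Gen.f, true), (Gen.g, true), (Gen.h, true), (Gen.b, true), (Gen.c, true), (Gen.d, true), (Gen.e, true), (Gen.f, true), (Gen.g, true), (Gen.h, true), (Gen.b, true), (Gen.c, true), (Gen.d, true), (Gen.e, true), (Gen.f, true), (Gen.g, true), (Gen.h, true), (Gen.b, true), (Gen.c, true), (Gen.d, true), (Gen.e, true), (Gen.f, true), (Gen.g, true), (Gen.h, true), (Gen.b, true), (Gen.c,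 true), (Gen.d, true), (Gen.e, true), (Gen.f, true), (Gen.g, true), (Gen.h, true), (Gen.b, true), (Gen.c, true), (Gen.d, true), (Gen.e, true), (Gen.f, true), (Gen.g, true), (Gen.h, true), (Gen.b, true), (Gen.c, true), (Gen.d, true), (Gen.e, true), (Gen.f, true), (Gen.g, true), (Gen.h, true), (Gen.b, true)]
  (wG_rot rels [(Gen.b, true), (Gen.c, true), (Gen.d, true), (Gen.e, true), (Gen.f, true), (Gen.g, true), (Gen.h, true), (Gen.b, true)] (Gen.c, true) [(Gen.d, true), (Gen.e, true), (Gen.f, true), (Gen.g, true), (Gen.h, true), (Gen.b, true), (Gen.c, true), (Gen.d, true), (Gen.e, true), (Gen.f, true), (Gen.g, true), (Gen.h, true), (Gen.b, true), (Gen.c, true), (Gen.d, true), (Gen.e, true), (Gen.f, true), (Gen.g, true), (Gen.h, true), (Gen.b, true), (Gen.c, true), (Gen.d, true), (Gen.e, true), (Gen.f, true), (Gen.g, true), (Gen.h, true), (Gen.b, true), (Gen.c, true), (Gen.d, true), (Gen.e, true), (Gen.f, true), (Gen.g, true), (Gen.h, true), (Gen.b, true), (Gen.c, true), (Gen.d, true),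 (Gen.e, true), (Gen.f, true), (Gen.g, true), (Gen.h, true), (Gen.b, true), (Gen.c, true), (Gen.d, true), (Gen.e, true), (Gen.f, true), (Gen.g, true), (Gen.h, true), (Gen.b, true), (Gen.c, true), (Gen.d, true), (Gen.e, true), (Gen.f, true), (Gen.g, true), (Gen.h, true)] relone_47)
def rc_47_43 : Cert rels S Gen.c := Cert.rel true [(Gen.d, true), (Gen.e, true), (Gen.f, true), (Gen.g, true), (Gen.h, true), (Gen.b, true), (Gen.c, true), (Gen.d, true), (Gen.e, true), (Gen.f, true), (Gen.g, true), (Gen.h, true), (Gen.b, true), (Gen.c, true), (Gen.d, true), (Gen.e, true), (Gen.f, true), (Gen.g, true), (Gen.h, true), (Gen.b, true), (Gen.c, true), (Gen.d, true), (Gen.e, true), (Gen.f, true), (Gen.g, true), (Gen.h, true), (Gen.b, true), (Gen.c, true), (Gen.d, true), (Gen.e, true), (Gen.f, true), (Gen.g, true), (Gen.h, true), (Gen.b, true), (Gen.c, true), (Gen.d, true), (Gen.e, true), (Gen.f, true), (Gen.g, true), (Gen.h, true), (Gen.b, true), (Gen.c, true), (Gen.d, true), (Gen.e, true), (Gen.f,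 true), (Gen.g, true), (Gen.h, true), (Gen.b, true), (Gen.c, true), (Gen.d, true), (Gen.e, true), (Gen.f, true), (Gen.g, true), (Gen.h, true), (Gen.b, true), (Gen.c, true), (Gen.d, true), (Gen.e, true), (Gen.f, true), (Gen.g, true), (Gen.h, true), (Gen.b, true)]
  (wG_rot rels [(Gen.b, true), (Gen.c, true), (Gen.d, true), (Gen.e, true), (Gen.f, true), (Gen.g, true), (Gen.h, true), (Gen.b, true), (Gen.c, true), (Gen.d, true), (Gen.e, true), (Gen.f, true), (Gen.g, true), (Gen.h, true), (Gen.b, true), (Gen.c, true), (Gen.d, true), (Gen.e, true), (Gen.f, true), (Gen.g, true), (Gen.h, true), (Gen.b, true), (Gen.c, true), (Gen.d, true), (Gen.e, true), (Gen.f, true), (Gen.g, true), (Gen.h, true), (Gen.b, true), (Gen.c, true), (Gen.d, true), (Gen.e, true), (Gen.f, true), (Gen.g, true), (Gen.h, true), (Gen.b, true), (Gen.c, true), (Gen.d, true), (Gen.e, true), (Gen.f, true), (Gen.g, true), (Gen.h, true), (Gen.b, true)] (Gen.c, true) [(Gen.d, true), (Gen.e, true), (Gen.f, true), (Gen.g, true),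 (Gen.h, true), (Gen.b, true), (Gen.c, true), (Gen.d, true), (Gen.e, true), (Gen.f, true), (Gen.g, true), (Gen.h, true), (Gen.b, true), (Gen.c, true), (Gen.d, true), (Gen.e, true), (Gen.f, true), (Gen.g, true), (Gen.h, true)] relone_47)
def rc_47_22 : Cert rels S Gen.c := Cert.rel true [(Gen.d, true), (Gen.e, true), (Gen.f, true), (Gen.g, true), (Gen.h, true), (Gen.b, true), (Gen.c, true), (Gen.d, true), (Gen.e, true), (Gen.f, true), (Gen.g, true), (Gen.h, true), (Gen.b, true), (Gen.c, true), (Gen.d, true), (Gen.e, true), (Gen.f, true), (Gen.g, true), (Gen.h, true), (Gen.b, true), (Gen.c, true), (Gen.d, true), (Gen.e, true), (Gen.f, true), (Gen.g, true), (Gen.h, true), (Gen.b, true), (Gen.c, true), (Gen.d, true), (Gen.e, true), (Gen.f, true), (Gen.g, true), (Gen.h, true), (Gen.b, true), (Gen.c, true), (Gen.d, true), (Gen.e, true), (Gen.f, true), (Gen.g, true), (Gen.h, true), (Gen.b, true), (Gen.c, true), (Gen.d, true), (Gen.e, true), (Gen.f, true), (Gen.g, true), (Gen.h, true), (Gen.b,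 true), (Gen.c, true), (Gen.d, true), (Gen.e, true), (Gen.f, true), (Gen.g, true), (Gen.h, true), (Gen.b, true), (Gen.c, true), (Gen.d, true), (Gen.e, true), (Gen.f, true), (Gen.g, true), (Gen.h, true), (Gen.b, true)]
  (wG_rot rels [(Gen.b, true), (Gen.c, true), (Gen.d, true), (Gen.e, true), (Gen.f, true), (Gen.g, true), (Gen.h, true), (Gen.b, true), (Gen.c, true), (Gen.d, true), (Gen.e, true), (Gen.f, true), (Gen.g, true), (Gen.h, true), (Gen.b, true), (Gen.c, true), (Gen.d, true), (Gen.e, true), (Gen.f, true), (Gen.g, true), (Gen.h, true), (Gen.b, true)] (Gen.c, true) [(Gen.d, true), (Gen.e, true), (Gen.f, true), (Gen.g, true), (Gen.h, true), (Gen.b, true), (Gen.c, true), (Gen.d, true), (Gen.e, true), (Gen.f, true), (Gen.g, true), (Gen.h, true), (Gen.b, true), (Gen.c, true), (Gen.d, true), (Gen.e, true), (Gen.f, true), (Gen.g, true), (Gen.h, true), (Gen.b, true), (Gen.c, true), (Gen.d, true), (Gen.e, true), (Gen.f, true), (Gen.g, true), (Gen.h, true), (Gen.b, true), (Gen.c, true),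 (Gen.d, true), (Gen.e, true), (Gen.f, true), (Gen.g, true), (Gen.h, true), (Gen.b, true), (Gen.c, true), (Gen.d, true), (Gen.e, true), (Gen.f, true), (Gen.g, true), (Gen.h, true)] relone_47)
def rc_46_51 : Cert rels S Gen.c := Cert.rel true [(Gen.d, true), (Gen.e, true), (Gen.f, true), (Gen.h, true), (Gen.a, true), (Gen.b, true), (Gen.c, true), (Gen.d, true), (Gen.e, true), (Gen.f, true), (Gen.h, true), (Gen.a, true), (Gen.b, true), (Gen.c, true), (Gen.d, true), (Gen.e, true), (Gen.f, true), (Gen.h, true), (Gen.a, true), (Gen.b, true), (Gen.c, true), (Gen.d, true), (Gen.e, true), (Gen.f, true), (Gen.h, true), (Gen.a, true), (Gen.b, true), (Gen.c, true), (Gen.d, true), (Gen.e, true), (Gen.f, true), (Gen.h, true), (Gen.a, true), (Gen.b, true), (Gen.c, true), (Gen.d, true), (Gen.e, true), (Gen.f, true), (Gen.h, true), (Gen.a, true), (Gen.b, true), (Gen.c, true), (Gen.d, true), (Gen.e, true), (Gen.f, true), (Gen.h, true), (Gen.a, true), (Gen.b, true), (Gen.c, true), (Gen.d, true), (Gen.e,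 true), (Gen.f, true), (Gen.h, true), (Gen.a, true), (Gen.b, true), (Gen.c, true), (Gen.d, true), (Gen.e, true), (Gen.f, true), (Gen.h, true), (Gen.a, true), (Gen.b, true)]
  (wG_rot rels [(Gen.a, true), (Gen.b, true), (Gen.c, true), (Gen.d, true), (Gen.e, true), (Gen.f, true), (Gen.h, true), (Gen.a, true), (Gen.b, true), (Gen.c, true), (Gen.d, true), (Gen.e, true), (Gen.f, true), (Gen.h, true), (Gen.a, true), (Gen.b, true), (Gen.c, true), (Gen.d, true), (Gen.e, true), (Gen.f, true), (Gen.h, true), (Gen.a, true), (Gen.b, true), (Gen.c, true), (Gen.d, true), (Gen.e, true), (Gen.f, true), (Gen.h, true), (Gen.a, true), (Gen.b, true), (Gen.c, true), (Gen.d, true), (Gen.e, true), (Gen.f, true), (Gen.h, true), (Gen.a, true), (Gen.b, true), (Gen.c, true), (Gen.d, true), (Gen.e, true), (Gen.f, true), (Gen.h, true), (Gen.a, true), (Gen.b, true), (Gen.c, true), (Gen.d, true), (Gen.e, true), (Gen.f, true), (Gen.h, true), (Gen.a, true), (Gen.b, true)] (Gen.c, true) [(Gen.d, true), (Gen.e, true),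 (Gen.f, true), (Gen.h, true), (Gen.a, true), (Gen.b, true), (Gen.c, true), (Gen.d, true), (Gen.e, true), (Gen.f, true), (Gen.h, true)] relone_46)
def rc_45_46 : Cert rels S Gen.c := Cert.rel true [(Gen.b, true), (Gen.d, true), (Gen.e, true), (Gen.f, true), (Gen.d, true), (Gen.h, true), (Gen.i, true), (Gen.d, true), (Gen.c, true), (Gen.b, true), (Gen.d, true), (Gen.e, true), (Gen.f, true), (Gen.d, true), (Gen.h, true), (Gen.i, true), (Gen.d, true), (Gen.c, true), (Gen.b, true), (Gen.d, true), (Gen.e, true), (Gen.f, true), (Gen.d, true), (Gen.h, true), (Gen.i, true), (Gen.d, true), (Gen.c, true), (Gen.b, true), (Gen.d, true), (Gen.e, true), (Gen.f, true), (Gen.d, true), (Gen.h, true), (Gen.i, true), (Gen.d, true), (Gen.c, true), (Gen.b, true), (Gen.d, true), (Gen.e, true), (Gen.f, true), (Gen.d, true), (Gen.h, true), (Gen.i, true), (Gen.d, true), (Gen.c, true), (Gen.b, true), (Gen.d, true), (Gen.e, true), (Gen.f, true), (Gen.d, true), (Gen.h, true), (Gen.i, true), (Gen.d, true), (Gen.c,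 true), (Gen.b, true), (Gen.d, true), (Gen.e, true), (Gen.f, true), (Gen.d, true), (Gen.h, true), (Gen.i, true), (Gen.d, true), (Gen.c, true), (Gen.b, true), (Gen.d, true), (Gen.e, true), (Gen.f, true), (Gen.d, true), (Gen.h, true), (Gen.i, true), (Gen.d, true), (Gen.c, true), (Gen.b, true), (Gen.d, true), (Gen.e, true), (Gen.f, true), (Gen.d, true), (Gen.h, true), (Gen.i, true), (Gen.d, true), (Gen.c, true), (Gen.b, true), (Gen.d, true), (Gen.e, true), (Gen.f, true), (Gen.d, true), (Gen.h, true), (Gen.i, true), (Gen.d, true)]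
  (wG_rot rels [(Gen.d, true), (Gen.c, true), (Gen.b, true), (Gen.d, true), (Gen.e, true), (Gen.f, true), (Gen.d, true), (Gen.h, true), (Gen.i, true), (Gen.d, true), (Gen.c, true), (Gen.b, true), (Gen.d, true), (Gen.e, true), (Gen.f, true), (Gen.d, true), (Gen.h, true), (Gen.i, true), (Gen.d, true), (Gen.c, true), (Gen.b, true), (Gen.d, true), (Gen.e, true), (Gen.f, true), (Gen.d, true), (Gen.h, true), (Gen.i, true), (Gen.d, true), (Gen.c, true), (Gen.b, true), (Gen.d, true), (Gen.e, true), (Gen.f, true), (Gen.d, true), (Gen.h, true), (Gen.i, true), (Gen.d, true), (Gen.c, true), (Gen.b, true), (Gen.d, true), (Gen.e, true), (Gen.f, true), (Gen.d, true), (Gen.h, true), (Gen.i, true), (Gen.d, true)] (Gen.c, true) [(Gen.b, true), (Gen.d, true), (Gen.e, true), (Gen.f, true), (Gen.d, true), (Gen.h, true), (Gen.i, true), (Gen.d, true), (Gen.c, true), (Gen.b, true), (Gen.d, true), (Gen.e, true), (Gen.f, true), (Gen.d, true), (Gen.h, true), (Gen.i, true), (Gen.d, true), (Gen.c, true), (Gen.b,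 true), (Gen.d, true), (Gen.e, true), (Gen.f, true), (Gen.d, true), (Gen.h, true), (Gen.i, true), (Gen.d, true), (Gen.c, true), (Gen.b, true), (Gen.d, true), (Gen.e, true), (Gen.f, true), (Gen.d, true), (Gen.h, true), (Gen.i, true), (Gen.d, true), (Gen.c, true), (Gen.b, true), (Gen.d, true), (Gen.e, true), (Gen.f, true), (Gen.d, true), (Gen.h, true), (Gen.i, true)] relone_45)
def rc_11_1 : Cert rels S Gen.d := Cert.rel true [(Gen.b, true), (Gen.d, true), (Gen.b, true)]
  (wG_rot rels [(Gen.b, true)] (Gen.d, true) [(Gen.b, true), (Gen.d, true)] relone_11)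
def rc_3_1 : Cert rels S Gen.d := Cert.rel true [(Gen.a, true), (Gen.d, true), (Gen.a, true)]
  (wG_rot rels [(Gen.a, true)] (Gen.d, true) [(Gen.a, true), (Gen.d, true)] relone_3)
def rc_24_0 : Cert rels S Gen.d := Cert.rel true [(Gen.d, true)]
  (wG_rot rels [] (Gen.d, true) [(Gen.d, true)] relone_24)
def rc_25_2 : Cert rels S Gen.d := Cert.rel true [(Gen.e, true), (Gen.d, true), (Gen.e, true), (Gen.d, true), (Gen.e, true)]
  (wG_rot rels [(Gen.d, true), (Gen.e, true)] (Gen.d, true) [(Gen.e, true), (Gen.d, true), (Gen.e, true)] relone_25)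
def rc_26_2 : Cert rels S Gen.d := Cert.rel true [(Gen.h, true), (Gen.d, true), (Gen.h, true), (Gen.d, true), (Gen.h, true)]
  (wG_rot rels [(Gen.d, true), (Gen.h, true)] (Gen.d, true) [(Gen.h, true), (Gen.d, true), (Gen.h, true)] relone_26)
def rc_27_2 : Cert rels S Gen.d := Cert.rel true [(Gen.f, true), (Gen.d, true), (Gen.f, true)]
  (wG_rot rels [(Gen.d, true), (Gen.f, true)] (Gen.d, true) [(Gen.f, true)] relone_27)
def rc_29_2 : Cert rels S Gen.d := Cert.rel true [(Gen.i, true), (Gen.d, true), (Gen.i, true)]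
  (wG_rot rels [(Gen.d, true), (Gen.i, true)] (Gen.d, true) [(Gen.i, true)] relone_29)
def rc_18_3 : Cert rels S Gen.d := Cert.rel true [(Gen.c, true), (Gen.d, true), (Gen.c, true), (Gen.d, true), (Gen.c, true)]
  (wG_rot rels [(Gen.c, true), (Gen.d, true), (Gen.c, true)] (Gen.d, true) [(Gen.c, true), (Gen.d, true)] relone_18)
def rc_28_2 : Cert rels S Gen.d := Cert.rel true [(Gen.g, true), (Gen.d, true), (Gen.g, true)]
  (wG_rot rels [(Gen.d, true), (Gen.g, true)] (Gen.d, true) [(Gen.g, true)] relone_28)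
def rc_47_23 : Cert rels S Gen.d := Cert.rel true [(Gen.e, true), (Gen.f, true), (Gen.g, true), (Gen.h, true), (Gen.b, true), (Gen.c, true), (Gen.d, true), (Gen.e, true), (Gen.f, true), (Gen.g, true), (Gen.h, true), (Gen.b, true), (Gen.c, true), (Gen.d, true), (Gen.e, true), (Gen.f, true), (Gen.g, true), (Gen.h, true), (Gen.b, true), (Gen.c, true), (Gen.d, true), (Gen.e, true), (Gen.f, true), (Gen.g, true), (Gen.h, true), (Gen.b, true), (Gen.c, true), (Gen.d, true), (Gen.e, true), (Gen.f, true), (Gen.g, true), (Gen.h, true), (Gen.b, true), (Gen.c, true), (Gen.d, true), (Gen.e, true), (Gen.f, true), (Gen.g, true), (Gen.h, true), (Gen.b, true), (Gen.c, true), (Gen.d, true), (Gen.e, true), (Gen.f, true), (Gen.g, true), (Gen.h, true), (Gen.b, true), (Gen.c, true), (Gen.d, true), (Gen.e, true), (Gen.f, true), (Gen.g, true), (Gen.h, true), (Gen.b, true), (Gen.c, true), (Gen.d, true), (Gen.e, true), (Gen.f, true), (Gen.g, true), (Gen.h, true), (Gen.b, true), (Gen.c, true)]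
  (wG_rot rels [(Gen.b, true), (Gen.c, true), (Gen.d, true), (Gen.e, true), (Gen.f, true), (Gen.g, true), (Gen.h, true), (Gen.b, true), (Gen.c, true), (Gen.d, true), (Gen.e, true), (Gen.f, true), (Gen.g, true), (Gen.h, true), (Gen.b, true), (Gen.c, true), (Gen.d, true), (Gen.e, true), (Gen.f, true), (Gen.g, true), (Gen.h, true), (Gen.b, true), (Gen.c, true)] (Gen.d, true) [(Gen.e, true), (Gen.f, true), (Gen.g, true), (Gen.h, true), (Gen.b, true), (Gen.c, true), (Gen.d, true), (Gen.e, true), (Gen.f, true), (Gen.g, true), (Gen.h, true), (Gen.b, true), (Gen.c, true), (Gen.d, true), (Gen.e, true), (Gen.f, true), (Gen.g, true), (Gen.h, true), (Gen.b, true), (Gen.c, true), (Gen.d, true), (Gen.e, true), (Gen.f, true), (Gen.g, true), (Gen.h, true), (Gen.b, true), (Gen.c, true), (Gen.d, true), (Gen.e, true), (Gen.f, true), (Gen.g, true), (Gen.h, true), (Gen.b, true), (Gen.c, true), (Gen.d, true), (Gen.e, true), (Gen.f, true), (Gen.g, true), (Gen.h, true)] relone_47)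
def rc_45_39 : Cert rels S Gen.d := Cert.rel true [(Gen.e, true), (Gen.f, true), (Gen.d, true), (Gen.h, true), (Gen.i, true), (Gen.d, true), (Gen.c, true), (Gen.b, true), (Gen.d, true), (Gen.e, true), (Gen.f, true), (Gen.d, true), (Gen.h, true), (Gen.i, true), (Gen.d, true), (Gen.c, true), (Gen.b, true), (Gen.d, true), (Gen.e, true), (Gen.f, true), (Gen.d, true), (Gen.h, true), (Gen.i, true), (Gen.d, true), (Gen.c, true), (Gen.b, true), (Gen.d, true), (Gen.e, true), (Gen.f, true), (Gen.d, true), (Gen.h, true), (Gen.i, true), (Gen.d, true), (Gen.c, true), (Gen.b, true), (Gen.d, true), (Gen.e, true), (Gen.f, true), (Gen.d, true), (Gen.h, true), (Gen.i, true), (Gen.d, true), (Gen.c, true), (Gen.b, true), (Gen.d, true), (Gen.e, true), (Gen.f, true), (Gen.d, true), (Gen.h, true), (Gen.i, true), (Gen.d, true), (Gen.c, true), (Gen.b, true), (Gen.d, true), (Gen.e, true), (Gen.f, true), (Gen.d, true), (Gen.h, true), (Gen.i, true), (Gen.d, true), (Gen.c, true), (Gen.b, true), (Gen.d, true),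 (Gen.e, true), (Gen.f, true), (Gen.d, true), (Gen.h, true), (Gen.i, true), (Gen.d, true), (Gen.c, true), (Gen.b, true), (Gen.d, true), (Gen.e, true), (Gen.f, true), (Gen.d, true), (Gen.h, true), (Gen.i, true), (Gen.d, true), (Gen.c, true), (Gen.b, true), (Gen.d, true), (Gen.e, true), (Gen.f, true), (Gen.d, true), (Gen.h, true), (Gen.i, true), (Gen.d, true), (Gen.c, true), (Gen.b, true)]
  (wG_rot rels [(Gen.d, true), (Gen.c, true), (Gen.b, true), (Gen.d, true), (Gen.e, true), (Gen.f, true), (Gen.d, true), (Gen.h, true), (Gen.i, true), (Gen.d, true), (Gen.c, true), (Gen.b, true), (Gen.d, true), (Gen.e, true), (Gen.f, true), (Gen.d, true), (Gen.h, true), (Gen.i, true), (Gen.d, true), (Gen.c, true), (Gen.b, true), (Gen.d, true), (Gen.e, true), (Gen.f, true), (Gen.d, true), (Gen.h, true), (Gen.i, true), (Gen.d, true), (Gen.c, true), (Gen.b, true), (Gen.d, true), (Gen.e, true), (Gen.f, true), (Gen.d, true), (Gen.h, true), (Gen.i, true), (Gen.d, true), (Gen.c, true), (Gen.b, true)] (Gen.d,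 true) [(Gen.e, true), (Gen.f, true), (Gen.d, true), (Gen.h, true), (Gen.i, true), (Gen.d, true), (Gen.c, true), (Gen.b, true), (Gen.d, true), (Gen.e, true), (Gen.f, true), (Gen.d, true), (Gen.h, true), (Gen.i, true), (Gen.d, true), (Gen.c, true), (Gen.b, true), (Gen.d, true), (Gen.e, true), (Gen.f, true), (Gen.d, true), (Gen.h, true), (Gen.i, true), (Gen.d, true), (Gen.c, true), (Gen.b, true), (Gen.d, true), (Gen.e, true), (Gen.f, true), (Gen.d, true), (Gen.h, true), (Gen.i, true), (Gen.d, true), (Gen.c, true), (Gen.b, true), (Gen.d, true), (Gen.e, true), (Gen.f, true), (Gen.d, true), (Gen.h, true), (Gen.i, true), (Gen.d, true), (Gen.c, true), (Gen.b, true), (Gen.d, true), (Gen.e, true), (Gen.f, true), (Gen.d, true), (Gen.h, true), (Gen.i, true)] relone_45)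
def rc_24_1 : Cert rels S Gen.d := Cert.rel true [(Gen.d, true)]
  (wG_rot rels [(Gen.d, true)] (Gen.d, true) [] relone_24)
def rc_11_3 : Cert rels S Gen.d := Cert.rel true [(Gen.b, true), (Gen.d, true), (Gen.b, true)]
  (wG_rot rels [(Gen.b, true), (Gen.d, true), (Gen.b, true)] (Gen.d, true) [] relone_11)
def rc_3_3 : Cert rels S Gen.d := Cert.rel true [(Gen.a, true), (Gen.d, true), (Gen.a, true)]
  (wG_rot rels [(Gen.a, true), (Gen.d, true), (Gen.a, true)] (Gen.d, true) [] relone_3)
def rc_46_24 : Cert rels S Gen.d := Cert.rel true [(Gen.e, true), (Gen.f, true), (Gen.h, true), (Gen.a, true), (Gen.b, true), (Gen.c, true), (Gen.d, true), (Gen.e, true), (Gen.f, true), (Gen.h, true), (Gen.a, true), (Gen.b, true), (Gen.c, true), (Gen.d, true), (Gen.e, true), (Gen.f, true), (Gen.h, true), (Gen.a, true), (Gen.b, true), (Gen.c, true), (Gen.d, true), (Gen.e, true), (Gen.f, true), (Gen.h, true), (Gen.a, true), (Gen.b, true), (Gen.c, true), (Gen.d, true), (Gen.e, true), (Gen.f, true), (Gen.h,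 true), (Gen.a, true), (Gen.b, true), (Gen.c, true), (Gen.d, true), (Gen.e, true), (Gen.f, true), (Gen.h, true), (Gen.a, true), (Gen.b, true), (Gen.c, true), (Gen.d, true), (Gen.e, true), (Gen.f, true), (Gen.h, true), (Gen.a, true), (Gen.b, true), (Gen.c, true), (Gen.d, true), (Gen.e, true), (Gen.f, true), (Gen.h, true), (Gen.a, true), (Gen.b, true), (Gen.c, true), (Gen.d, true), (Gen.e, true), (Gen.f, true), (Gen.h, true), (Gen.a, true), (Gen.b, true), (Gen.c, true)]
  (wG_rot rels [(Gen.a, true), (Gen.b, true), (Gen.c, true), (Gen.d, true), (Gen.e, true), (Gen.f, true), (Gen.h, true), (Gen.a, true), (Gen.b, true), (Gen.c, true), (Gen.d, true), (Gen.e, true), (Gen.f, true), (Gen.h, true), (Gen.a, true), (Gen.b, true), (Gen.c, true), (Gen.d, true), (Gen.e, true), (Gen.f, true), (Gen.h, true), (Gen.a, true), (Gen.b, true), (Gen.c, true)] (Gen.d, true) [(Gen.e, true), (Gen.f, true), (Gen.h, true), (Gen.a, true), (Gen.b, true), (Gen.c, true), (Gen.d, true), (Gen.e, true), (Gen.f, true),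 (Gen.h, true), (Gen.a, true), (Gen.b, true), (Gen.c, true), (Gen.d, true), (Gen.e, true), (Gen.f, true), (Gen.h, true), (Gen.a, true), (Gen.b, true), (Gen.c, true), (Gen.d, true), (Gen.e, true), (Gen.f, true), (Gen.h, true), (Gen.a, true), (Gen.b, true), (Gen.c, true), (Gen.d, true), (Gen.e, true), (Gen.f, true), (Gen.h, true), (Gen.a, true), (Gen.b, true), (Gen.c, true), (Gen.d, true), (Gen.e, true), (Gen.f, true), (Gen.h, true)] relone_46)
def rc_28_0 : Cert rels S Gen.d := Cert.rel true [(Gen.g, true), (Gen.d, true), (Gen.g, true)]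
  (wG_rot rels [] (Gen.d, true) [(Gen.g, true), (Gen.d, true), (Gen.g, true)] relone_28)
def rc_27_0 : Cert rels S Gen.d := Cert.rel true [(Gen.f, true), (Gen.d, true), (Gen.f, true)]
  (wG_rot rels [] (Gen.d, true) [(Gen.f, true), (Gen.d, true), (Gen.f, true)] relone_27)
def rc_46_31 : Cert rels S Gen.d := Cert.rel true [(Gen.e, true), (Gen.f, true), (Gen.h, true), (Gen.a, true), (Gen.b, true), (Gen.c, true), (Gen.d, true), (Gen.e, true), (Gen.f, true), (Gen.h, true), (Gen.a, true), (Gen.b, true), (Gen.c, true), (Gen.d, true), (Gen.e, true), (Gen.f, true), (Gen.h, true), (Gen.a, true), (Gen.b, true), (Gen.c, true), (Gen.d, true), (Gen.e, true), (Gen.f, true), (Gen.h, true), (Gen.a, true), (Gen.b, true), (Gen.c, true), (Gen.d, true), (Gen.e, true), (Gen.f, true), (Gen.h, true), (Gen.a, true), (Gen.b, true), (Gen.c, true), (Gen.d, true), (Gen.e, true), (Gen.f, true), (Gen.h, true), (Gen.a, true), (Gen.b, true), (Gen.c, true), (Gen.d, true), (Gen.e, true), (Gen.f, true), (Gen.h, true),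 (Gen.a, true), (Gen.b, true), (Gen.c, true), (Gen.d, true), (Gen.e, true), (Gen.f, true), (Gen.h, true), (Gen.a, true), (Gen.b, true), (Gen.c, true), (Gen.d, true), (Gen.e, true), (Gen.f, true), (Gen.h, true), (Gen.a, true), (Gen.b, true), (Gen.c, true)]
  (wG_rot rels [(Gen.a, true), (Gen.b, true), (Gen.c, true), (Gen.d, true), (Gen.e, true), (Gen.f, true), (Gen.h, true), (Gen.a, true), (Gen.b, true), (Gen.c, true), (Gen.d, true), (Gen.e, true), (Gen.f, true), (Gen.h, true), (Gen.a, true), (Gen.b, true), (Gen.c, true), (Gen.d, true), (Gen.e, true), (Gen.f, true), (Gen.h, true), (Gen.a, true), (Gen.b, true), (Gen.c, true), (Gen.d, true), (Gen.e, true), (Gen.f, true), (Gen.h, true), (Gen.a, true), (Gen.b, true), (Gen.c, true)] (Gen.d, true) [(Gen.e, true), (Gen.f, true), (Gen.h, true), (Gen.a, true), (Gen.b, true), (Gen.c, true), (Gen.d, true), (Gen.e, true), (Gen.f, true), (Gen.h, true), (Gen.a, true), (Gen.b, true), (Gen.c, true), (Gen.d, true), (Gen.e, true), (Gen.f, true), (Gen.h,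 true), (Gen.a, true), (Gen.b, true), (Gen.c, true), (Gen.d, true), (Gen.e, true), (Gen.f, true), (Gen.h, true), (Gen.a, true), (Gen.b, true), (Gen.c, true), (Gen.d, true), (Gen.e, true), (Gen.f, true), (Gen.h, true)] relone_46)
def rc_47_30 : Cert rels S Gen.d := Cert.rel true [(Gen.e, true), (Gen.f, true), (Gen.g, true), (Gen.h, true), (Gen.b, true), (Gen.c, true), (Gen.d, true), (Gen.e, true), (Gen.f, true), (Gen.g, true), (Gen.h, true), (Gen.b, true), (Gen.c, true), (Gen.d, true), (Gen.e, true), (Gen.f, true), (Gen.g, true), (Gen.h, true), (Gen.b, true), (Gen.c, true), (Gen.d, true), (Gen.e, true), (Gen.f, true), (Gen.g, true), (Gen.h, true), (Gen.b, true), (Gen.c, true), (Gen.d, true), (Gen.e, true), (Gen.f, true), (Gen.g, true), (Gen.h, true), (Gen.b, true), (Gen.c, true), (Gen.d, true), (Gen.e, true), (Gen.f, true), (Gen.g, true), (Gen.h, true), (Gen.b, true), (Gen.c, true), (Gen.d, true), (Gen.e, true), (Gen.f, true), (Gen.g, true), (Gen.h, true), (Gen.b, true), (Gen.c, true),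 (Gen.d, true), (Gen.e, true), (Gen.f, true), (Gen.g, true), (Gen.h, true), (Gen.b, true), (Gen.c, true), (Gen.d, true), (Gen.e, true), (Gen.f, true), (Gen.g, true), (Gen.h, true), (Gen.b, true), (Gen.c, true)]
  (wG_rot rels [(Gen.b, true), (Gen.c, true), (Gen.d, true), (Gen.e, true), (Gen.f, true), (Gen.g, true), (Gen.h, true), (Gen.b, true), (Gen.c, true), (Gen.d, true), (Gen.e, true), (Gen.f, true), (Gen.g, true), (Gen.h, true), (Gen.b, true), (Gen.c, true), (Gen.d, true), (Gen.e, true), (Gen.f, true), (Gen.g, true), (Gen.h, true), (Gen.b, true), (Gen.c, true), (Gen.d, true), (Gen.e, true), (Gen.f, true), (Gen.g, true), (Gen.h, true), (Gen.b, true), (Gen.c, true)] (Gen.d, true) [(Gen.e, true), (Gen.f, true), (Gen.g, true), (Gen.h, true), (Gen.b, true), (Gen.c, true), (Gen.d, true), (Gen.e, true), (Gen.f, true), (Gen.g, true), (Gen.h, true), (Gen.b, true), (Gen.c, true), (Gen.d, true), (Gen.e, true), (Gen.f, true), (Gen.g, true), (Gen.h, true), (Gen.b, true), (Gen.c, true), (Gen.d,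 true), (Gen.e, true), (Gen.f, true), (Gen.g, true), (Gen.h, true), (Gen.b, true), (Gen.c, true), (Gen.d, true), (Gen.e, true), (Gen.f, true), (Gen.g, true), (Gen.h, true)] relone_47)
def rc_45_6 : Cert rels S Gen.d := Cert.rel true [(Gen.h, true), (Gen.i, true), (Gen.d, true), (Gen.c, true), (Gen.b, true), (Gen.d, true), (Gen.e, true), (Gen.f, true), (Gen.d, true), (Gen.h, true), (Gen.i, true), (Gen.d, true), (Gen.c, true), (Gen.b, true), (Gen.d, true), (Gen.e, true), (Gen.f, true), (Gen.d, true), (Gen.h, true), (Gen.i, true), (Gen.d, true), (Gen.c, true), (Gen.b, true), (Gen.d, true), (Gen.e, true), (Gen.f, true), (Gen.d, true), (Gen.h, true), (Gen.i, true), (Gen.d, true), (Gen.c, true), (Gen.b, true), (Gen.d, true), (Gen.e, true), (Gen.f, true), (Gen.d, true), (Gen.h, true), (Gen.i, true), (Gen.d, true), (Gen.c, true), (Gen.b, true), (Gen.d, true), (Gen.e, true), (Gen.f, true), (Gen.d, true), (Gen.h, true), (Gen.i, true), (Gen.d, true), (Gen.c, true), (Gen.b, true), (Gen.d, true),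 (Gen.e, true), (Gen.f, true), (Gen.d, true), (Gen.h, true), (Gen.i, true), (Gen.d, true), (Gen.c, true), (Gen.b, true), (Gen.d, true), (Gen.e, true), (Gen.f, true), (Gen.d, true), (Gen.h, true), (Gen.i, true), (Gen.d, true), (Gen.c, true), (Gen.b, true), (Gen.d, true), (Gen.e, true), (Gen.f, true), (Gen.d, true), (Gen.h, true), (Gen.i, true), (Gen.d, true), (Gen.c, true), (Gen.b, true), (Gen.d, true), (Gen.e, true), (Gen.f, true), (Gen.d, true), (Gen.h, true), (Gen.i, true), (Gen.d, true), (Gen.c, true), (Gen.b, true), (Gen.d, true), (Gen.e, true), (Gen.f, true)]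
  (wG_rot rels [(Gen.d, true), (Gen.c, true), (Gen.b, true), (Gen.d, true), (Gen.e, true), (Gen.f, true)] (Gen.d, true) [(Gen.h, true), (Gen.i, true), (Gen.d, true), (Gen.c, true), (Gen.b, true), (Gen.d, true), (Gen.e, true), (Gen.f, true), (Gen.d, true), (Gen.h, true), (Gen.i, true), (Gen.d, true), (Gen.c, true), (Gen.b, true), (Gen.d, true), (Gen.e, true), (Gen.f, true), (Gen.d, true), (Gen.h, true), (Gen.i, true), (Gen.d, true), (Gen.c, true), (Gen.b, true), (Gen.d, true), (Gen.e, true), (Gen.f, true), (Gen.d, true), (Gen.h, true), (Gen.i, true), (Gen.d, true), (Gen.c, true), (Gen.b, true), (Gen.d, true), (Gen.e, true), (Gen.f, true), (Gen.d, true), (Gen.h, true), (Gen.i, true), (Gen.d, true), (Gen.c, true), (Gen.b, true), (Gen.d, true), (Gen.e, true), (Gen.f, true), (Gen.d, true), (Gen.h, true), (Gen.i, true), (Gen.d, true), (Gen.c, true), (Gen.b, true), (Gen.d, true), (Gen.e, true), (Gen.f, true), (Gen.d, true), (Gen.h, true), (Gen.i, true), (Gen.d, true), (Gen.c, true), (Gen.b,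 true), (Gen.d, true), (Gen.e, true), (Gen.f, true), (Gen.d, true), (Gen.h, true), (Gen.i, true), (Gen.d, true), (Gen.c, true), (Gen.b, true), (Gen.d, true), (Gen.e, true), (Gen.f, true), (Gen.d, true), (Gen.h, true), (Gen.i, true), (Gen.d, true), (Gen.c, true), (Gen.b, true), (Gen.d, true), (Gen.e, true), (Gen.f, true), (Gen.d, true), (Gen.h, true), (Gen.i, true)] relone_45)
def rc_46_59 : Cert rels S Gen.d := Cert.rel true [(Gen.e, true), (Gen.f, true), (Gen.h, true), (Gen.a, true), (Gen.b, true), (Gen.c, true), (Gen.d, true), (Gen.e, true), (Gen.f, true), (Gen.h, true), (Gen.a, true), (Gen.b, true), (Gen.c, true), (Gen.d, true), (Gen.e, true), (Gen.f, true), (Gen.h, true), (Gen.a, true), (Gen.b, true), (Gen.c, true), (Gen.d, true), (Gen.e, true), (Gen.f, true), (Gen.h, true), (Gen.a, true), (Gen.b, true), (Gen.c, true), (Gen.d, true), (Gen.e, true), (Gen.f, true), (Gen.h, true), (Gen.a, true), (Gen.b, true), (Gen.c, true), (Gen.d, true), (Gen.e, true), (Gen.f, true), (Gen.h, true),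 (Gen.a, true), (Gen.b, true), (Gen.c, true), (Gen.d, true), (Gen.e, true), (Gen.f, true), (Gen.h, true), (Gen.a, true), (Gen.b, true), (Gen.c, true), (Gen.d, true), (Gen.e, true), (Gen.f, true), (Gen.h, true), (Gen.a, true), (Gen.b, true), (Gen.c, true), (Gen.d, true), (Gen.e, true), (Gen.f, true), (Gen.h, true), (Gen.a, true), (Gen.b, true), (Gen.c, true)]
  (wG_rot rels [(Gen.a, true), (Gen.b, true), (Gen.c, true), (Gen.d, true), (Gen.e, true), (Gen.f, true), (Gen.h, true), (Gen.a, true), (Gen.b, true), (Gen.c, true), (Gen.d, true), (Gen.e, true), (Gen.f, true), (Gen.h, true), (Gen.a, true), (Gen.b, true), (Gen.c, true), (Gen.d, true), (Gen.e, true), (Gen.f, true), (Gen.h, true), (Gen.a, true), (Gen.b, true), (Gen.c, true), (Gen.d, true), (Gen.e, true), (Gen.f, true), (Gen.h, true), (Gen.a, true), (Gen.b, true), (Gen.c, true), (Gen.d, true), (Gen.e, true), (Gen.f, true), (Gen.h, true), (Gen.a, true), (Gen.b, true), (Gen.c, true), (Gen.d, true), (Gen.e, true), (Gen.f, true), (Gen.h,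 true), (Gen.a, true), (Gen.b, true), (Gen.c, true), (Gen.d, true), (Gen.e, true), (Gen.f, true), (Gen.h, true), (Gen.a, true), (Gen.b, true), (Gen.c, true), (Gen.d, true), (Gen.e, true), (Gen.f, true), (Gen.h, true), (Gen.a, true), (Gen.b, true), (Gen.c, true)] (Gen.d, true) [(Gen.e, true), (Gen.f, true), (Gen.h, true)] relone_46)
def rc_26_4 : Cert rels S Gen.d := Cert.rel true [(Gen.h, true), (Gen.d, true), (Gen.h, true), (Gen.d, true), (Gen.h, true)]
  (wG_rot rels [(Gen.d, true), (Gen.h, true), (Gen.d, true), (Gen.h, true)] (Gen.d, true) [(Gen.h, true)] relone_26)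
def rc_25_4 : Cert rels S Gen.d := Cert.rel true [(Gen.e, true), (Gen.d, true), (Gen.e, true), (Gen.d, true), (Gen.e, true)]
  (wG_rot rels [(Gen.d, true), (Gen.e, true), (Gen.d, true), (Gen.e, true)] (Gen.d, true) [(Gen.e, true)] relone_25)
def rc_45_27 : Cert rels S Gen.d := Cert.rel true [(Gen.c, true), (Gen.b, true), (Gen.d, true), (Gen.e, true), (Gen.f, true), (Gen.d, true), (Gen.h, true), (Gen.i, true), (Gen.d, true), (Gen.c, true), (Gen.b, true), (Gen.d, true), (Gen.e, true), (Gen.f, true), (Gen.d, true), (Gen.h, true), (Gen.i, true), (Gen.d, true), (Gen.c, true), (Gen.b, true), (Gen.d, true), (Gen.e, true), (Gen.f, true), (Gen.d, true), (Gen.h, true), (Gen.i, true), (Gen.d, true), (Gen.c, true), (Gen.b, true), (Gen.d, true), (Gen.e, true), (Gen.f, true), (Gen.d, true), (Gen.h, true), (Gen.i, true), (Gen.d, true), (Gen.c, true), (Gen.b, true), (Gen.d, true), (Gen.e, true), (Gen.f, true), (Gen.d, true), (Gen.h, true), (Gen.i, true), (Gen.d, true), (Gen.c, true), (Gen.b, true),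 (Gen.d, true), (Gen.e, true), (Gen.f, true), (Gen.d, true), (Gen.h, true), (Gen.i, true), (Gen.d, true), (Gen.c, true), (Gen.b, true), (Gen.d, true), (Gen.e, true), (Gen.f, true), (Gen.d, true), (Gen.h, true), (Gen.i, true), (Gen.d, true), (Gen.c, true), (Gen.b, true), (Gen.d, true), (Gen.e, true), (Gen.f, true), (Gen.d, true), (Gen.h, true), (Gen.i, true), (Gen.d, true), (Gen.c, true), (Gen.b, true), (Gen.d, true), (Gen.e, true), (Gen.f, true), (Gen.d, true), (Gen.h, true), (Gen.i, true), (Gen.d, true), (Gen.c, true), (Gen.b, true), (Gen.d, true), (Gen.e, true), (Gen.f, true), (Gen.d, true), (Gen.h, true), (Gen.i, true)]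
  (wG_rot rels [(Gen.d, true), (Gen.c, true), (Gen.b, true), (Gen.d, true), (Gen.e, true), (Gen.f, true), (Gen.d, true), (Gen.h, true), (Gen.i, true), (Gen.d, true), (Gen.c, true), (Gen.b, true), (Gen.d, true), (Gen.e, true), (Gen.f, true), (Gen.d, true), (Gen.h, true), (Gen.i, true), (Gen.d, true), (Gen.c, true), (Gen.b, true), (Gen.d, true), (Gen.e, true), (Gen.f, true), (Gen.d, true), (Gen.h, true), (Gen.i, true)] (Gen.d, true) [(Gen.c, true), (Gen.b, true), (Gen.d, true), (Gen.e, true), (Gen.f, true), (Gen.d, true), (Gen.h, true), (Gen.i, true), (Gen.d, true), (Gen.c, true), (Gen.b, true), (Gen.d, true), (Gen.e, true), (Gen.f, true), (Gen.d, true), (Gen.h, true), (Gen.i, true), (Gen.d, true), (Gen.c, true), (Gen.b, true), (Gen.d, true), (Gen.e, true), (Gen.f, true), (Gen.d, true), (Gen.h, true), (Gen.i, true), (Gen.d, true), (Gen.c, true), (Gen.b, true), (Gen.d, true), (Gen.e, true), (Gen.f, true), (Gen.d, true), (Gen.h, true), (Gen.i, true), (Gen.d, true), (Gen.c, true), (Gen.b,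 true), (Gen.d, true), (Gen.e, true), (Gen.f, true), (Gen.d, true), (Gen.h, true), (Gen.i, true), (Gen.d, true), (Gen.c, true), (Gen.b, true), (Gen.d, true), (Gen.e, true), (Gen.f, true), (Gen.d, true), (Gen.h, true), (Gen.i, true), (Gen.d, true), (Gen.c, true), (Gen.b, true), (Gen.d, true), (Gen.e, true), (Gen.f, true), (Gen.d, true), (Gen.h, true), (Gen.i, true)] relone_45)
def rc_45_18 : Cert rels S Gen.d := Cert.rel true [(Gen.c, true), (Gen.b, true), (Gen.d, true), (Gen.e, true), (Gen.f, true), (Gen.d, true), (Gen.h, true), (Gen.i, true), (Gen.d, true), (Gen.c, true), (Gen.b, true), (Gen.d, true), (Gen.e, true), (Gen.f, true), (Gen.d, true), (Gen.h, true), (Gen.i, true), (Gen.d, true), (Gen.c, true), (Gen.b, true), (Gen.d, true), (Gen.e, true), (Gen.f, true), (Gen.d, true), (Gen.h, true), (Gen.i, true), (Gen.d, true), (Gen.c, true), (Gen.b, true), (Gen.d, true), (Gen.e, true), (Gen.f, true), (Gen.d, true), (Gen.h, true), (Gen.i, true), (Gen.d, true), (Gen.c, true), (Gen.b, true),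 (Gen.d, true), (Gen.e, true), (Gen.f, true), (Gen.d, true), (Gen.h, true), (Gen.i, true), (Gen.d, true), (Gen.c, true), (Gen.b, true), (Gen.d, true), (Gen.e, true), (Gen.f, true), (Gen.d, true), (Gen.h, true), (Gen.i, true), (Gen.d, true), (Gen.c, true), (Gen.b, true), (Gen.d, true), (Gen.e, true), (Gen.f, true), (Gen.d, true), (Gen.h, true), (Gen.i, true), (Gen.d, true), (Gen.c, true), (Gen.b, true), (Gen.d, true), (Gen.e, true), (Gen.f, true), (Gen.d, true), (Gen.h, true), (Gen.i, true), (Gen.d, true), (Gen.c, true), (Gen.b, true), (Gen.d, true), (Gen.e, true), (Gen.f, true), (Gen.d, true), (Gen.h, true), (Gen.i, true), (Gen.d, true), (Gen.c, true), (Gen.b, true), (Gen.d, true), (Gen.e, true), (Gen.f, true), (Gen.d, true), (Gen.h, true), (Gen.i, true)]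
  (wG_rot rels [(Gen.d, true), (Gen.c, true), (Gen.b, true), (Gen.d, true), (Gen.e, true), (Gen.f, true), (Gen.d, true), (Gen.h, true), (Gen.i, true), (Gen.d, true), (Gen.c, true), (Gen.b, true), (Gen.d, true), (Gen.e, true), (Gen.f, true), (Gen.d, true), (Gen.h, true), (Gen.i, true)] (Gen.d, true) [(Gen.c, true), (Gen.b, true), (Gen.d, true), (Gen.e, true), (Gen.f, true), (Gen.d, true), (Gen.h, true), (Gen.i, true), (Gen.d, true), (Gen.c, true), (Gen.b, true), (Gen.d, true), (Gen.e, true), (Gen.f, true), (Gen.d, true), (Gen.h, true), (Gen.i, true), (Gen.d, true), (Gen.c, true), (Gen.b, true), (Gen.d, true), (Gen.e, true), (Gen.f, true), (Gen.d, true), (Gen.h, true), (Gen.i, true), (Gen.d, true), (Gen.c, true), (Gen.b, true), (Gen.d, true), (Gen.e, true), (Gen.f, true), (Gen.d, true), (Gen.h, true), (Gen.i, true), (Gen.d, true), (Gen.c, true), (Gen.b, true), (Gen.d, true), (Gen.e, true), (Gen.f, true), (Gen.d, true), (Gen.h, true), (Gen.i, true), (Gen.d, true), (Gen.c, true), (Gen.b,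 true), (Gen.d, true), (Gen.e, true), (Gen.f, true), (Gen.d, true), (Gen.h, true), (Gen.i, true), (Gen.d, true), (Gen.c, true), (Gen.b, true), (Gen.d, true), (Gen.e, true), (Gen.f, true), (Gen.d, true), (Gen.h, true), (Gen.i, true), (Gen.d, true), (Gen.c, true), (Gen.b, true), (Gen.d, true), (Gen.e, true), (Gen.f, true), (Gen.d, true), (Gen.h, true), (Gen.i, true)] relone_45)
def rc_18_5 : Cert rels S Gen.d := Cert.rel true [(Gen.c, true), (Gen.d, true), (Gen.c, true), (Gen.d, true), (Gen.c, true)]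
  (wG_rot rels [(Gen.c, true), (Gen.d, true), (Gen.c, true), (Gen.d, true), (Gen.c, true)] (Gen.d, true) [] relone_18)
def rc_46_38 : Cert rels S Gen.d := Cert.rel true [(Gen.e, true), (Gen.f, true), (Gen.h, true), (Gen.a, true), (Gen.b, true), (Gen.c, true), (Gen.d, true), (Gen.e, true), (Gen.f, true), (Gen.h, true), (Gen.a, true), (Gen.b, true), (Gen.c, true), (Gen.d, true), (Gen.e, true), (Gen.f, true), (Gen.h, true), (Gen.a, true), (Gen.b, true), (Gen.c, true), (Gen.d, true), (Gen.e, true), (Gen.f, true), (Gen.h, true), (Gen.a, true), (Gen.b, true), (Gen.c, true), (Gen.d, true), (Gen.e, true), (Gen.f, true), (Gen.h, true), (Gen.a, true), (Gen.b, true), (Gen.c, true), (Gen.d, true), (Gen.e, true), (Gen.f, true), (Gen.h, true), (Gen.a, true), (Gen.b, true), (Gen.c, true), (Gen.d, true), (Gen.e, true), (Gen.f, true), (Gen.h, true), (Gen.a, true), (Gen.b, true), (Gen.c, true), (Gen.d, true), (Gen.e, true), (Gen.f, true), (Gen.h, true), (Gen.a, true), (Gen.b, true), (Gen.c, true),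 (Gen.d, true), (Gen.e, true), (Gen.f, true), (Gen.h, true), (Gen.a, true), (Gen.b, true), (Gen.c, true)]
  (wG_rot rels [(Gen.a, true), (Gen.b, true), (Gen.c, true), (Gen.d, true), (Gen.e, true), (Gen.f, true), (Gen.h, true), (Gen.a, true), (Gen.b, true), (Gen.c, true), (Gen.d, true), (Gen.e, true), (Gen.f, true), (Gen.h, true), (Gen.a, true), (Gen.b, true), (Gen.c, true), (Gen.d, true), (Gen.e, true), (Gen.f, true), (Gen.h, true), (Gen.a, true), (Gen.b, true), (Gen.c, true), (Gen.d, true), (Gen.e, true), (Gen.f, true), (Gen.h, true), (Gen.a, true), (Gen.b, true), (Gen.c, true), (Gen.d, true), (Gen.e, true), (Gen.f, true), (Gen.h, true), (Gen.a, true), (Gen.b, true), (Gen.c, true)] (Gen.d, true) [(Gen.e, true), (Gen.f, true), (Gen.h, true), (Gen.a, true), (Gen.b, true), (Gen.c, true), (Gen.d, true), (Gen.e, true), (Gen.f, true), (Gen.h, true), (Gen.a, true), (Gen.b, true), (Gen.c, true), (Gen.d, true), (Gen.e, true), (Gen.f, true), (Gen.h, true), (Gen.a, true), (Gen.b, true), (Gen.c,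 true), (Gen.d, true), (Gen.e, true), (Gen.f, true), (Gen.h, true)] relone_46)
def rc_47_44 : Cert rels S Gen.d := Cert.rel true [(Gen.e, true), (Gen.f, true), (Gen.g, true), (Gen.h, true), (Gen.b, true), (Gen.c, true), (Gen.d, true), (Gen.e, true), (Gen.f, true), (Gen.g, true), (Gen.h, true), (Gen.b, true), (Gen.c, true), (Gen.d, true), (Gen.e, true), (Gen.f, true), (Gen.g, true), (Gen.h, true), (Gen.b, true), (Gen.c, true), (Gen.d, true), (Gen.e, true), (Gen.f, true), (Gen.g, true), (Gen.h, true), (Gen.b, true), (Gen.c, true), (Gen.d, true), (Gen.e, true), (Gen.f, true), (Gen.g, true), (Gen.h, true), (Gen.b, true), (Gen.c, true), (Gen.d, true), (Gen.e, true), (Gen.f, true), (Gen.g, true), (Gen.h, true), (Gen.b, true), (Gen.c, true), (Gen.d, true), (Gen.e, true), (Gen.f, true), (Gen.g, true), (Gen.h, true), (Gen.b, true), (Gen.c, true), (Gen.d, true), (Gen.e, true), (Gen.f, true), (Gen.g, true), (Gen.h, true), (Gen.b, true), (Gen.c, true), (Gen.d, true), (Gen.e, true), (Gen.f, true),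 (Gen.g, true), (Gen.h, true), (Gen.b, true), (Gen.c, true)]
  (wG_rot rels [(Gen.b, true), (Gen.c, true), (Gen.d, true), (Gen.e, true), (Gen.f, true), (Gen.g, true), (Gen.h, true), (Gen.b, true), (Gen.c, true), (Gen.d, true), (Gen.e, true), (Gen.f, true), (Gen.g, true), (Gen.h, true), (Gen.b, true), (Gen.c, true), (Gen.d, true), (Gen.e, true), (Gen.f, true), (Gen.g, true), (Gen.h, true), (Gen.b, true), (Gen.c, true), (Gen.d, true), (Gen.e, true), (Gen.f, true), (Gen.g, true), (Gen.h, true), (Gen.b, true), (Gen.c, true), (Gen.d, true), (Gen.e, true), (Gen.f, true), (Gen.g, true), (Gen.h, true), (Gen.b, true), (Gen.c, true), (Gen.d, true), (Gen.e, true), (Gen.f, true), (Gen.g, true), (Gen.h, true), (Gen.b, true), (Gen.c, true)] (Gen.d, true) [(Gen.e, true), (Gen.f, true), (Gen.g, true), (Gen.h, true), (Gen.b, true), (Gen.c, true), (Gen.d, true), (Gen.e, true), (Gen.f, true), (Gen.g, true), (Gen.h, true), (Gen.b, true), (Gen.c, true), (Gen.d, true), (Gen.e, true), (Gen.f, true), (Gen.g,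 true), (Gen.h, true)] relone_47)
def rc_18_1 : Cert rels S Gen.d := Cert.rel true [(Gen.c, true), (Gen.d, true), (Gen.c, true), (Gen.d, true), (Gen.c, true)]
  (wG_rot rels [(Gen.c, true)] (Gen.d, true) [(Gen.c, true), (Gen.d, true), (Gen.c, true), (Gen.d, true)] relone_18)
def rc_45_51 : Cert rels S Gen.d := Cert.rel true [(Gen.h, true), (Gen.i, true), (Gen.d, true), (Gen.c, true), (Gen.b, true), (Gen.d, true), (Gen.e, true), (Gen.f, true), (Gen.d, true), (Gen.h, true), (Gen.i, true), (Gen.d, true), (Gen.c, true), (Gen.b, true), (Gen.d, true), (Gen.e, true), (Gen.f, true), (Gen.d, true), (Gen.h, true), (Gen.i, true), (Gen.d, true), (Gen.c, true), (Gen.b, true), (Gen.d, true), (Gen.e, true), (Gen.f, true), (Gen.d, true), (Gen.h, true), (Gen.i, true), (Gen.d, true), (Gen.c, true), (Gen.b, true), (Gen.d, true), (Gen.e, true), (Gen.f, true), (Gen.d, true), (Gen.h, true), (Gen.i, true), (Gen.d, true), (Gen.c, true), (Gen.b, true), (Gen.d, true), (Gen.e, true), (Gen.f, true), (Gen.d,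 true), (Gen.h, true), (Gen.i, true), (Gen.d, true), (Gen.c, true), (Gen.b, true), (Gen.d, true), (Gen.e, true), (Gen.f, true), (Gen.d, true), (Gen.h, true), (Gen.i, true), (Gen.d, true), (Gen.c, true), (Gen.b, true), (Gen.d, true), (Gen.e, true), (Gen.f, true), (Gen.d, true), (Gen.h, true), (Gen.i, true), (Gen.d, true), (Gen.c, true), (Gen.b, true), (Gen.d, true), (Gen.e, true), (Gen.f, true), (Gen.d, true), (Gen.h, true), (Gen.i, true), (Gen.d, true), (Gen.c, true), (Gen.b, true), (Gen.d, true), (Gen.e, true), (Gen.f, true), (Gen.d, true), (Gen.h, true), (Gen.i, true), (Gen.d, true), (Gen.c, true), (Gen.b, true), (Gen.d, true), (Gen.e, true), (Gen.f, true)]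
  (wG_rot rels [(Gen.d, true), (Gen.c, true), (Gen.b, true), (Gen.d, true), (Gen.e, true), (Gen.f, true), (Gen.d, true), (Gen.h, true), (Gen.i, true), (Gen.d, true), (Gen.c, true), (Gen.b, true), (Gen.d, true), (Gen.e, true), (Gen.f, true), (Gen.d, true), (Gen.h, true), (Gen.i, true), (Gen.d, true), (Gen.c, true), (Gen.b, true), (Gen.d, true), (Gen.e, true), (Gen.f, true), (Gen.d, true), (Gen.h, true), (Gen.i, true), (Gen.d, true), (Gen.c, true), (Gen.b, true), (Gen.d, true), (Gen.e, true), (Gen.f, true), (Gen.d, true), (Gen.h, true), (Gen.i, true), (Gen.d, true), (Gen.c, true), (Gen.b, true), (Gen.d, true), (Gen.e, true), (Gen.f, true), (Gen.d, true), (Gen.h, true), (Gen.i, true), (Gen.d, true), (Gen.c, true), (Gen.b, true), (Gen.d, true), (Gen.e, true), (Gen.f, true)] (Gen.d, true) [(Gen.h, true), (Gen.i, true), (Gen.d, true), (Gen.c, true), (Gen.b, true), (Gen.d, true), (Gen.e, true), (Gen.f, true), (Gen.d, true), (Gen.h, true), (Gen.i, true), (Gen.d, true), (Gen.c, true), (Gen.b,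 true), (Gen.d, true), (Gen.e, true), (Gen.f, true), (Gen.d, true), (Gen.h, true), (Gen.i, true), (Gen.d, true), (Gen.c, true), (Gen.b, true), (Gen.d, true), (Gen.e, true), (Gen.f, true), (Gen.d, true), (Gen.h, true), (Gen.i, true), (Gen.d, true), (Gen.c, true), (Gen.b, true), (Gen.d, true), (Gen.e, true), (Gen.f, true), (Gen.d, true), (Gen.h, true), (Gen.i, true)] relone_45)
def rc_47_16 : Cert rels S Gen.d := Cert.rel true [(Gen.e, true), (Gen.f, true), (Gen.g, true), (Gen.h, true), (Gen.b, true), (Gen.c, true), (Gen.d, true), (Gen.e, true), (Gen.f, true), (Gen.g, true), (Gen.h, true), (Gen.b, true), (Gen.c, true), (Gen.d, true), (Gen.e, true), (Gen.f, true), (Gen.g, true), (Gen.h, true), (Gen.b, true), (Gen.c, true), (Gen.d, true), (Gen.e, true), (Gen.f, true), (Gen.g, true), (Gen.h, true), (Gen.b, true), (Gen.c, true), (Gen.d, true), (Gen.e, true), (Gen.f, true), (Gen.g, true), (Gen.h, true), (Gen.b, true), (Gen.c, true), (Gen.d, true), (Gen.e, true), (Gen.f, true), (Gen.g, true),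 (Gen.h, true), (Gen.b, true), (Gen.c, true), (Gen.d, true), (Gen.e, true), (Gen.f, true), (Gen.g, true), (Gen.h, true), (Gen.b, true), (Gen.c, true), (Gen.d, true), (Gen.e, true), (Gen.f, true), (Gen.g, true), (Gen.h, true), (Gen.b, true), (Gen.c, true), (Gen.d, true), (Gen.e, true), (Gen.f, true), (Gen.g, true), (Gen.h, true), (Gen.b, true), (Gen.c, true)]
  (wG_rot rels [(Gen.b, true), (Gen.c, true), (Gen.d, true), (Gen.e, true), (Gen.f, true), (Gen.g, true), (Gen.h, true), (Gen.b, true), (Gen.c, true), (Gen.d, true), (Gen.e, true), (Gen.f, true), (Gen.g, true), (Gen.h, true), (Gen.b, true), (Gen.c, true)] (Gen.d, true) [(Gen.e, true), (Gen.f, true), (Gen.g, true), (Gen.h, true), (Gen.b, true), (Gen.c, true), (Gen.d, true), (Gen.e, true), (Gen.f, true), (Gen.g, true), (Gen.h, true), (Gen.b, true), (Gen.c, true), (Gen.d, true), (Gen.e, true), (Gen.f, true), (Gen.g, true), (Gen.h, true), (Gen.b, true), (Gen.c, true), (Gen.d, true), (Gen.e, true), (Gen.f, true), (Gen.g, true), (Gen.h,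 true), (Gen.b, true), (Gen.c, true), (Gen.d, true), (Gen.e, true), (Gen.f, true), (Gen.g, true), (Gen.h, true), (Gen.b, true), (Gen.c, true), (Gen.d, true), (Gen.e, true), (Gen.f, true), (Gen.g, true), (Gen.h, true), (Gen.b, true), (Gen.c, true), (Gen.d, true), (Gen.e, true), (Gen.f, true), (Gen.g, true), (Gen.h, true)] relone_47)
def rc_45_45 : Cert rels S Gen.d := Cert.rel true [(Gen.c, true), (Gen.b, true), (Gen.d, true), (Gen.e, true), (Gen.f, true), (Gen.d, true), (Gen.h, true), (Gen.i, true), (Gen.d, true), (Gen.c, true), (Gen.b, true), (Gen.d, true), (Gen.e, true), (Gen.f, true), (Gen.d, true), (Gen.h, true), (Gen.i, true), (Gen.d, true), (Gen.c, true), (Gen.b, true), (Gen.d, true), (Gen.e, true), (Gen.f, true), (Gen.d, true), (Gen.h, true), (Gen.i, true), (Gen.d, true), (Gen.c, true), (Gen.b, true), (Gen.d, true), (Gen.e, true), (Gen.f, true), (Gen.d, true), (Gen.h, true), (Gen.i, true), (Gen.d, true), (Gen.c, true), (Gen.b, true), (Gen.d, true), (Gen.e, true), (Gen.f, true),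 (Gen.d, true), (Gen.h, true), (Gen.i, true), (Gen.d, true), (Gen.c, true), (Gen.b, true), (Gen.d, true), (Gen.e, true), (Gen.f, true), (Gen.d, true), (Gen.h, true), (Gen.i, true), (Gen.d, true), (Gen.c, true), (Gen.b, true), (Gen.d, true), (Gen.e, true), (Gen.f, true), (Gen.d, true), (Gen.h, true), (Gen.i, true), (Gen.d, true), (Gen.c, true), (Gen.b, true), (Gen.d, true), (Gen.e, true), (Gen.f, true), (Gen.d, true), (Gen.h, true), (Gen.i, true), (Gen.d, true), (Gen.c, true), (Gen.b, true), (Gen.d, true), (Gen.e, true), (Gen.f, true), (Gen.d, true), (Gen.h, true), (Gen.i, true), (Gen.d, true), (Gen.c, true), (Gen.b, true), (Gen.d, true), (Gen.e, true), (Gen.f, true), (Gen.d, true), (Gen.h, true), (Gen.i, true)]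
  (wG_rot rels [(Gen.d, true), (Gen.c, true), (Gen.b, true), (Gen.d, true), (Gen.e, true), (Gen.f, true), (Gen.d, true), (Gen.h, true), (Gen.i, true), (Gen.d, true), (Gen.c, true), (Gen.b, true), (Gen.d, true), (Gen.e, true), (Gen.f, true), (Gen.d, true), (Gen.h, true), (Gen.i, true), (Gen.d, true), (Gen.c, true), (Gen.b, true), (Gen.d, true), (Gen.e, true), (Gen.f, true), (Gen.d, true), (Gen.h, true), (Gen.i, true), (Gen.d, true), (Gen.c, true), (Gen.b, true), (Gen.d, true), (Gen.e, true), (Gen.f, true), (Gen.d, true), (Gen.h, true), (Gen.i, true), (Gen.d, true), (Gen.c, true), (Gen.b, true), (Gen.d, true), (Gen.e, true), (Gen.f, true), (Gen.d, true), (Gen.h, true), (Gen.i, true)] (Gen.d, true) [(Gen.c, true), (Gen.b, true), (Gen.d, true), (Gen.e, true), (Gen.f, true), (Gen.d, true), (Gen.h, true), (Gen.i, true), (Gen.d, true), (Gen.c, true), (Gen.b, true), (Gen.d, true), (Gen.e, true), (Gen.f, true), (Gen.d, true), (Gen.h, true), (Gen.i, true), (Gen.d, true), (Gen.c, true), (Gen.b,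 true), (Gen.d, true), (Gen.e, true), (Gen.f, true), (Gen.d, true), (Gen.h, true), (Gen.i, true), (Gen.d, true), (Gen.c, true), (Gen.b, true), (Gen.d, true), (Gen.e, true), (Gen.f, true), (Gen.d, true), (Gen.h, true), (Gen.i, true), (Gen.d, true), (Gen.c, true), (Gen.b, true), (Gen.d, true), (Gen.e, true), (Gen.f, true), (Gen.d, true), (Gen.h, true), (Gen.i, true)] relone_45)
def rc_45_33 : Cert rels S Gen.d := Cert.rel true [(Gen.h, true), (Gen.i, true), (Gen.d, true), (Gen.c, true), (Gen.b, true), (Gen.d, true), (Gen.e, true), (Gen.f, true), (Gen.d, true), (Gen.h, true), (Gen.i, true), (Gen.d, true), (Gen.c, true), (Gen.b, true), (Gen.d, true), (Gen.e, true), (Gen.f, true), (Gen.d, true), (Gen.h, true), (Gen.i, true), (Gen.d, true), (Gen.c, true), (Gen.b, true), (Gen.d, true), (Gen.e, true), (Gen.f, true), (Gen.d, true), (Gen.h, true), (Gen.i, true), (Gen.d, true), (Gen.c, true), (Gen.b, true), (Gen.d, true), (Gen.e, true), (Gen.f, true), (Gen.d, true), (Gen.h, true), (Gen.i, true),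 (Gen.d, true), (Gen.c, true), (Gen.b, true), (Gen.d, true), (Gen.e, true), (Gen.f, true), (Gen.d, true), (Gen.h, true), (Gen.i, true), (Gen.d, true), (Gen.c, true), (Gen.b, true), (Gen.d, true), (Gen.e, true), (Gen.f, true), (Gen.d, true), (Gen.h, true), (Gen.i, true), (Gen.d, true), (Gen.c, true), (Gen.b, true), (Gen.d, true), (Gen.e, true), (Gen.f, true), (Gen.d, true), (Gen.h, true), (Gen.i, true), (Gen.d, true), (Gen.c, true), (Gen.b, true), (Gen.d, true), (Gen.e, true), (Gen.f, true), (Gen.d, true), (Gen.h, true), (Gen.i, true), (Gen.d, true), (Gen.c, true), (Gen.b, true), (Gen.d, true), (Gen.e, true), (Gen.f, true), (Gen.d, true), (Gen.h, true), (Gen.i, true), (Gen.d, true), (Gen.c, true), (Gen.b, true), (Gen.d, true), (Gen.e, true), (Gen.f, true)]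
  (wG_rot rels [(Gen.d, true), (Gen.c, true), (Gen.b, true), (Gen.d, true), (Gen.e, true), (Gen.f, true), (Gen.d, true), (Gen.h, true), (Gen.i, true), (Gen.d, true), (Gen.c, true), (Gen.b, true), (Gen.d, true), (Gen.e, true), (Gen.f, true), (Gen.d, true), (Gen.h, true), (Gen.i, true), (Gen.d, true), (Gen.c, true), (Gen.b, true), (Gen.d, true), (Gen.e, true), (Gen.f, true), (Gen.d, true), (Gen.h, true), (Gen.i, true), (Gen.d, true), (Gen.c, true), (Gen.b, true), (Gen.d, true), (Gen.e, true), (Gen.f, true)] (Gen.d, true) [(Gen.h, true), (Gen.i, true), (Gen.d, true), (Gen.c, true), (Gen.b, true), (Gen.d, true), (Gen.e, true), (Gen.f, true), (Gen.d, true), (Gen.h, true), (Gen.i, true), (Gen.d, true), (Gen.c, true), (Gen.b, true), (Gen.d, true), (Gen.e, true), (Gen.f, true), (Gen.d, true), (Gen.h, true), (Gen.i, true), (Gen.d, true), (Gen.c, true), (Gen.b, true), (Gen.d, true), (Gen.e, true), (Gen.f, true), (Gen.d, true), (Gen.h, true), (Gen.i, true), (Gen.d, true), (Gen.c, true), (Gen.b,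 true), (Gen.d, true), (Gen.e, true), (Gen.f, true), (Gen.d, true), (Gen.h, true), (Gen.i, true), (Gen.d, true), (Gen.c, true), (Gen.b, true), (Gen.d, true), (Gen.e, true), (Gen.f, true), (Gen.d, true), (Gen.h, true), (Gen.i, true), (Gen.d, true), (Gen.c, true), (Gen.b, true), (Gen.d, true), (Gen.e, true), (Gen.f, true), (Gen.d, true), (Gen.h, true), (Gen.i, true)] relone_45)
def rc_45_63 : Cert rels S Gen.d := Cert.rel true [(Gen.c, true), (Gen.b, true), (Gen.d, true), (Gen.e, true), (Gen.f, true), (Gen.d, true), (Gen.h, true), (Gen.i, true), (Gen.d, true), (Gen.c, true), (Gen.b, true), (Gen.d, true), (Gen.e, true), (Gen.f, true), (Gen.d, true), (Gen.h, true), (Gen.i, true), (Gen.d, true), (Gen.c, true), (Gen.b, true), (Gen.d, true), (Gen.e, true), (Gen.f, true), (Gen.d, true), (Gen.h, true), (Gen.i, true), (Gen.d, true), (Gen.c, true), (Gen.b, true), (Gen.d, true), (Gen.e, true), (Gen.f, true), (Gen.d, true), (Gen.h, true), (Gen.i, true), (Gen.d, true), (Gen.c, true), (Gen.b, true),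 (Gen.d, true), (Gen.e, true), (Gen.f, true), (Gen.d, true), (Gen.h, true), (Gen.i, true), (Gen.d, true), (Gen.c, true), (Gen.b, true), (Gen.d, true), (Gen.e, true), (Gen.f, true), (Gen.d, true), (Gen.h, true), (Gen.i, true), (Gen.d, true), (Gen.c, true), (Gen.b, true), (Gen.d, true), (Gen.e, true), (Gen.f, true), (Gen.d, true), (Gen.h, true), (Gen.i, true), (Gen.d, true), (Gen.c, true), (Gen.b, true), (Gen.d, true), (Gen.e, true), (Gen.f, true), (Gen.d, true), (Gen.h, true), (Gen.i, true), (Gen.d, true), (Gen.c, true), (Gen.b, true), (Gen.d, true), (Gen.e, true), (Gen.f, true), (Gen.d, true), (Gen.h, true), (Gen.i, true), (Gen.d, true), (Gen.c, true), (Gen.b, true), (Gen.d, true), (Gen.e, true), (Gen.f, true), (Gen.d, true), (Gen.h, true), (Gen.i, true)]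
  (wG_rot rels [(Gen.d, true), (Gen.c, true), (Gen.b, true), (Gen.d, true), (Gen.e, true), (Gen.f, true), (Gen.d, true), (Gen.h, true), (Gen.i, true), (Gen.d, true), (Gen.c, true), (Gen.b, true), (Gen.d, true), (Gen.e, true), (Gen.f, true), (Gen.d, true), (Gen.h, true), (Gen.i, true), (Gen.d, true), (Gen.c, true), (Gen.b, true), (Gen.d, true), (Gen.e, true), (Gen.f, true), (Gen.d, true), (Gen.h, true), (Gen.i, true), (Gen.d, true), (Gen.c, true), (Gen.b, true), (Gen.d, true), (Gen.e, true), (Gen.f, true), (Gen.d, true), (Gen.h, true), (Gen.i, true), (Gen.d, true), (Gen.c, true), (Gen.b, true), (Gen.d, true), (Gen.e, true), (Gen.f, true), (Gen.d, true), (Gen.h, true), (Gen.i, true), (Gen.d, true), (Gen.c, true), (Gen.b, true), (Gen.d, true), (Gen.e, true), (Gen.f, true), (Gen.d, true), (Gen.h, true), (Gen.i, true), (Gen.d, true), (Gen.c, true), (Gen.b, true), (Gen.d, true), (Gen.e, true), (Gen.f, true), (Gen.d, true), (Gen.h, true), (Gen.i, true)] (Gen.d, true) [(Gen.c, true), (Gen.b,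 true), (Gen.d, true), (Gen.e, true), (Gen.f, true), (Gen.d, true), (Gen.h, true), (Gen.i, true), (Gen.d, true), (Gen.c, true), (Gen.b, true), (Gen.d, true), (Gen.e, true), (Gen.f, true), (Gen.d, true), (Gen.h, true), (Gen.i, true), (Gen.d, true), (Gen.c, true), (Gen.b, true), (Gen.d, true), (Gen.e, true), (Gen.f, true), (Gen.d, true), (Gen.h, true), (Gen.i, true)] relone_45)
def rc_47_37 : Cert rels S Gen.d := Cert.rel true [(Gen.e, true), (Gen.f, true), (Gen.g, true), (Gen.h, true), (Gen.b, true), (Gen.c, true), (Gen.d, true), (Gen.e, true), (Gen.f, true), (Gen.g, true), (Gen.h, true), (Gen.b, true), (Gen.c, true), (Gen.d, true), (Gen.e, true), (Gen.f, true), (Gen.g, true), (Gen.h, true), (Gen.b, true), (Gen.c, true), (Gen.d, true), (Gen.e, true), (Gen.f, true), (Gen.g, true), (Gen.h, true), (Gen.b, true), (Gen.c, true), (Gen.d, true), (Gen.e, true), (Gen.f, true), (Gen.g, true), (Gen.h, true), (Gen.b, true), (Gen.c, true), (Gen.d, true), (Gen.e, true), (Gen.f, true), (Gen.g, true),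 (Gen.h, true), (Gen.b, true), (Gen.c, true), (Gen.d, true), (Gen.e, true), (Gen.f, true), (Gen.g, true), (Gen.h, true), (Gen.b, true), (Gen.c, true), (Gen.d, true), (Gen.e, true), (Gen.f, true), (Gen.g, true), (Gen.h, true), (Gen.b, true), (Gen.c, true), (Gen.d, true), (Gen.e, true), (Gen.f, true), (Gen.g, true), (Gen.h, true), (Gen.b, true), (Gen.c, true)]
  (wG_rot rels [(Gen.b, true), (Gen.c, true), (Gen.d, true), (Gen.e, true), (Gen.f, true), (Gen.g, true), (Gen.h, true), (Gen.b, true), (Gen.c, true), (Gen.d, true), (Gen.e, true), (Gen.f, true), (Gen.g, true), (Gen.h, true), (Gen.b, true), (Gen.c, true), (Gen.d, true), (Gen.e, true), (Gen.f, true), (Gen.g, true), (Gen.h, true), (Gen.b, true), (Gen.c, true), (Gen.d, true), (Gen.e, true), (Gen.f, true), (Gen.g, true), (Gen.h, true), (Gen.b, true), (Gen.c, true), (Gen.d, true), (Gen.e, true), (Gen.f, true), (Gen.g, true), (Gen.h, true), (Gen.b, true), (Gen.c, true)] (Gen.d, true) [(Gen.e, true), (Gen.f, true), (Gen.g, true), (Gen.h,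 true), (Gen.b, true), (Gen.c, true), (Gen.d, true), (Gen.e, true), (Gen.f, true), (Gen.g, true), (Gen.h, true), (Gen.b, true), (Gen.c, true), (Gen.d, true), (Gen.e, true), (Gen.f, true), (Gen.g, true), (Gen.h, true), (Gen.b, true), (Gen.c, true), (Gen.d, true), (Gen.e, true), (Gen.f, true), (Gen.g, true), (Gen.h, true)] relone_47)
def rc_46_17 : Cert rels S Gen.d := Cert.rel true [(Gen.e, true), (Gen.f, true), (Gen.h, true), (Gen.a, true), (Gen.b, true), (Gen.c, true), (Gen.d, true), (Gen.e, true), (Gen.f, true), (Gen.h, true), (Gen.a, true), (Gen.b, true), (Gen.c, true), (Gen.d, true), (Gen.e, true), (Gen.f, true), (Gen.h, true), (Gen.a, true), (Gen.b, true), (Gen.c, true), (Gen.d, true), (Gen.e, true), (Gen.f, true), (Gen.h, true), (Gen.a, true), (Gen.b, true), (Gen.c, true), (Gen.d, true), (Gen.e, true), (Gen.f, true), (Gen.h, true), (Gen.a, true), (Gen.b, true), (Gen.c, true), (Gen.d, true), (Gen.e, true), (Gen.f, true), (Gen.h, true), (Gen.a, true), (Gen.b, true), (Gen.c, true),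 (Gen.d, true), (Gen.e, true), (Gen.f, true), (Gen.h, true), (Gen.a, true), (Gen.b, true), (Gen.c, true), (Gen.d, true), (Gen.e, true), (Gen.f, true), (Gen.h, true), (Gen.a, true), (Gen.b, true), (Gen.c, true), (Gen.d, true), (Gen.e, true), (Gen.f, true), (Gen.h, true), (Gen.a, true), (Gen.b, true), (Gen.c, true)]
  (wG_rot rels [(Gen.a, true), (Gen.b, true), (Gen.c, true), (Gen.d, true), (Gen.e, true), (Gen.f, true), (Gen.h, true), (Gen.a, true), (Gen.b, true), (Gen.c, true), (Gen.d, true), (Gen.e, true), (Gen.f, true), (Gen.h, true), (Gen.a, true), (Gen.b, true), (Gen.c, true)] (Gen.d, true) [(Gen.e, true), (Gen.f, true), (Gen.h, true), (Gen.a, true), (Gen.b, true), (Gen.c, true), (Gen.d, true), (Gen.e, true), (Gen.f, true), (Gen.h, true), (Gen.a, true), (Gen.b, true), (Gen.c, true), (Gen.d, true), (Gen.e, true), (Gen.f, true), (Gen.h, true), (Gen.a, true), (Gen.b, true), (Gen.c, true), (Gen.d, true), (Gen.e, true), (Gen.f, true), (Gen.h, true), (Gen.a, true), (Gen.b, true), (Gen.c,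 true), (Gen.d, true), (Gen.e, true), (Gen.f, true), (Gen.h, true), (Gen.a, true), (Gen.b, true), (Gen.c, true), (Gen.d, true), (Gen.e, true), (Gen.f, true), (Gen.h, true), (Gen.a, true), (Gen.b, true), (Gen.c, true), (Gen.d, true), (Gen.e, true), (Gen.f, true), (Gen.h, true)] relone_46)
def rc_45_57 : Cert rels S Gen.d := Cert.rel true [(Gen.e, true), (Gen.f, true), (Gen.d, true), (Gen.h, true), (Gen.i, true), (Gen.d, true), (Gen.c, true), (Gen.b, true), (Gen.d, true), (Gen.e, true), (Gen.f, true), (Gen.d, true), (Gen.h, true), (Gen.i, true), (Gen.d, true), (Gen.c, true), (Gen.b, true), (Gen.d, true), (Gen.e, true), (Gen.f, true), (Gen.d, true), (Gen.h, true), (Gen.i, true), (Gen.d, true), (Gen.c, true), (Gen.b, true), (Gen.d, true), (Gen.e, true), (Gen.f, true), (Gen.d, true), (Gen.h, true), (Gen.i, true), (Gen.d, true), (Gen.c, true), (Gen.b, true), (Gen.d, true), (Gen.e, true), (Gen.f, true), (Gen.d, true), (Gen.h, true), (Gen.i, true), (Gen.d, true), (Gen.c, true), (Gen.b, true),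 (Gen.d, true), (Gen.e, true), (Gen.f, true), (Gen.d, true), (Gen.h, true), (Gen.i, true), (Gen.d, true), (Gen.c, true), (Gen.b, true), (Gen.d, true), (Gen.e, true), (Gen.f, true), (Gen.d, true), (Gen.h, true), (Gen.i, true), (Gen.d, true), (Gen.c, true), (Gen.b, true), (Gen.d, true), (Gen.e, true), (Gen.f, true), (Gen.d, true), (Gen.h, true), (Gen.i, true), (Gen.d, true), (Gen.c, true), (Gen.b, true), (Gen.d, true), (Gen.e, true), (Gen.f, true), (Gen.d, true), (Gen.h, true), (Gen.i, true), (Gen.d, true), (Gen.c, true), (Gen.b, true), (Gen.d, true), (Gen.e, true), (Gen.f, true), (Gen.d, true), (Gen.h, true), (Gen.i, true), (Gen.d, true), (Gen.c, true), (Gen.b, true)]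
  (wG_rot rels [(Gen.d, true), (Gen.c, true), (Gen.b, true), (Gen.d, true), (Gen.e, true), (Gen.f, true), (Gen.d, true), (Gen.h, true), (Gen.i, true), (Gen.d, true), (Gen.c, true), (Gen.b, true), (Gen.d, true), (Gen.e, true), (Gen.f, true), (Gen.d, true), (Gen.h, true), (Gen.i, true), (Gen.d, true), (Gen.c, true), (Gen.b, true), (Gen.d, true), (Gen.e, true), (Gen.f, true), (Gen.d, true), (Gen.h, true), (Gen.i, true), (Gen.d, true), (Gen.c, true), (Gen.b, true), (Gen.d, true), (Gen.e, true), (Gen.f, true), (Gen.d, true), (Gen.h, true), (Gen.i, true), (Gen.d, true), (Gen.c, true), (Gen.b, true), (Gen.d, true), (Gen.e, true), (Gen.f, true), (Gen.d, true), (Gen.h, true), (Gen.i, true), (Gen.d, true), (Gen.c, true), (Gen.b, true), (Gen.d, true), (Gen.e, true), (Gen.f, true), (Gen.d, true), (Gen.h, true), (Gen.i, true), (Gen.d, true), (Gen.c, true), (Gen.b, true)] (Gen.d, true) [(Gen.e, true), (Gen.f, true), (Gen.d, true), (Gen.h, true), (Gen.i, true), (Gen.d, true), (Gen.c, true), (Gen.b,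 true), (Gen.d, true), (Gen.e, true), (Gen.f, true), (Gen.d, true), (Gen.h, true), (Gen.i, true), (Gen.d, true), (Gen.c, true), (Gen.b, true), (Gen.d, true), (Gen.e, true), (Gen.f, true), (Gen.d, true), (Gen.h, true), (Gen.i, true), (Gen.d, true), (Gen.c, true), (Gen.b, true), (Gen.d, true), (Gen.e, true), (Gen.f, true), (Gen.d, true), (Gen.h, true), (Gen.i, true)] relone_45)
def rc_45_72 : Cert rels S Gen.d := Cert.rel true [(Gen.c, true), (Gen.b, true), (Gen.d, true), (Gen.e, true), (Gen.f, true), (Gen.d, true), (Gen.h, true), (Gen.i, true), (Gen.d, true), (Gen.c, true), (Gen.b, true), (Gen.d, true), (Gen.e, true), (Gen.f, true), (Gen.d, true), (Gen.h, true), (Gen.i, true), (Gen.d, true), (Gen.c, true), (Gen.b, true), (Gen.d, true), (Gen.e, true), (Gen.f, true), (Gen.d, true), (Gen.h, true), (Gen.i, true), (Gen.d, true), (Gen.c, true), (Gen.b, true), (Gen.d, true), (Gen.e, true), (Gen.f, true), (Gen.d, true), (Gen.h, true), (Gen.i, true), (Gen.d, true), (Gen.c, true), (Gen.b, true),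 (Gen.d, true), (Gen.e, true), (Gen.f, true), (Gen.d, true), (Gen.h, true), (Gen.i, true), (Gen.d, true), (Gen.c, true), (Gen.b, true), (Gen.d, true), (Gen.e, true), (Gen.f, true), (Gen.d, true), (Gen.h, true), (Gen.i, true), (Gen.d, true), (Gen.c, true), (Gen.b, true), (Gen.d, true), (Gen.e, true), (Gen.f, true), (Gen.d, true), (Gen.h, true), (Gen.i, true), (Gen.d, true), (Gen.c, true), (Gen.b, true), (Gen.d, true), (Gen.e, true), (Gen.f, true), (Gen.d, true), (Gen.h, true), (Gen.i, true), (Gen.d, true), (Gen.c, true), (Gen.b, true), (Gen.d, true), (Gen.e, true), (Gen.f, true), (Gen.d, true), (Gen.h, true), (Gen.i, true), (Gen.d, true), (Gen.c, true), (Gen.b, true), (Gen.d, true), (Gen.e, true), (Gen.f, true), (Gen.d, true), (Gen.h, true), (Gen.i, true)]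
  (wG_rot rels [(Gen.d, true), (Gen.c, true), (Gen.b, true), (Gen.d, true), (Gen.e, true), (Gen.f, true), (Gen.d, true), (Gen.h, true), (Gen.i, true), (Gen.d, true), (Gen.c, true), (Gen.b, true), (Gen.d, true), (Gen.e, true), (Gen.f, true), (Gen.d, true), (Gen.h, true), (Gen.i, true), (Gen.d, true), (Gen.c, true), (Gen.b, true), (Gen.d, true), (Gen.e, true), (Gen.f, true), (Gen.d, true), (Gen.h, true), (Gen.i, true), (Gen.d, true), (Gen.c, true), (Gen.b, true), (Gen.d, true), (Gen.e, true), (Gen.f, true), (Gen.d, true), (Gen.h, true), (Gen.i, true), (Gen.d, true), (Gen.c, true), (Gen.b, true), (Gen.d, true), (Gen.e, true), (Gen.f, true), (Gen.d, true), (Gen.h, true), (Gen.i, true), (Gen.d, true), (Gen.c, true), (Gen.b, true), (Gen.d, true), (Gen.e, true), (Gen.f, true), (Gen.d, true), (Gen.h, true), (Gen.i, true), (Gen.d, true), (Gen.c, true), (Gen.b, true), (Gen.d, true), (Gen.e, true), (Gen.f, true), (Gen.d, true), (Gen.h, true), (Gen.i, true), (Gen.d, true), (Gen.c, true), (Gen.b,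 true), (Gen.d, true), (Gen.e, true), (Gen.f, true), (Gen.d, true), (Gen.h, true), (Gen.i, true)] (Gen.d, true) [(Gen.c, true), (Gen.b, true), (Gen.d, true), (Gen.e, true), (Gen.f, true), (Gen.d, true), (Gen.h, true), (Gen.i, true), (Gen.d, true), (Gen.c, true), (Gen.b, true), (Gen.d, true), (Gen.e, true), (Gen.f, true), (Gen.d, true), (Gen.h, true), (Gen.i, true)] relone_45)
def rc_45_69 : Cert rels S Gen.d := Cert.rel true [(Gen.h, true), (Gen.i, true), (Gen.d, true), (Gen.c, true), (Gen.b, true), (Gen.d, true), (Gen.e, true), (Gen.f, true), (Gen.d, true), (Gen.h, true), (Gen.i, true), (Gen.d, true), (Gen.c, true), (Gen.b, true), (Gen.d, true), (Gen.e, true), (Gen.f, true), (Gen.d, true), (Gen.h, true), (Gen.i, true), (Gen.d, true), (Gen.c, true), (Gen.b, true), (Gen.d, true), (Gen.e, true), (Gen.f, true), (Gen.d, true), (Gen.h, true), (Gen.i, true), (Gen.d, true), (Gen.c, true), (Gen.b, true), (Gen.d, true), (Gen.e, true), (Gen.f, true), (Gen.d, true), (Gen.h, true), (Gen.i, true),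 (Gen.d, true), (Gen.c, true), (Gen.b, true), (Gen.d, true), (Gen.e, true), (Gen.f, true), (Gen.d, true), (Gen.h, true), (Gen.i, true), (Gen.d, true), (Gen.c, true), (Gen.b, true), (Gen.d, true), (Gen.e, true), (Gen.f, true), (Gen.d, true), (Gen.h, true), (Gen.i, true), (Gen.d, true), (Gen.c, true), (Gen.b, true), (Gen.d, true), (Gen.e, true), (Gen.f, true), (Gen.d, true), (Gen.h, true), (Gen.i, true), (Gen.d, true), (Gen.c, true), (Gen.b, true), (Gen.d, true), (Gen.e, true), (Gen.f, true), (Gen.d, true), (Gen.h, true), (Gen.i, true), (Gen.d, true), (Gen.c, true), (Gen.b, true), (Gen.d, true), (Gen.e, true), (Gen.f, true), (Gen.d, true), (Gen.h, true), (Gen.i, true), (Gen.d, true), (Gen.c, true), (Gen.b, true), (Gen.d, true), (Gen.e, true), (Gen.f, true)]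
  (wG_rot rels [(Gen.d, true), (Gen.c, true), (Gen.b, true), (Gen.d, true), (Gen.e, true), (Gen.f, true), (Gen.d, true), (Gen.h, true), (Gen.i, true), (Gen.d, true), (Gen.c, true), (Gen.b, true), (Gen.d, true), (Gen.e, true), (Gen.f, true), (Gen.d, true), (Gen.h, true), (Gen.i, true), (Gen.d, true), (Gen.c, true), (Gen.b, true), (Gen.d, true), (Gen.e, true), (Gen.f, true), (Gen.d, true), (Gen.h, true), (Gen.i, true), (Gen.d, true), (Gen.c, true), (Gen.b, true), (Gen.d, true), (Gen.e, true), (Gen.f, true), (Gen.d, true), (Gen.h, true), (Gen.i, true), (Gen.d, true), (Gen.c, true), (Gen.b, true), (Gen.d, true), (Gen.e, true), (Gen.f, true), (Gen.d, true), (Gen.h, true), (Gen.i, true), (Gen.d, true), (Gen.c, true), (Gen.b, true), (Gen.d, true), (Gen.e, true), (Gen.f, true), (Gen.d, true), (Gen.h, true), (Gen.i, true), (Gen.d, true), (Gen.c, true), (Gen.b, true), (Gen.d, true), (Gen.e, true), (Gen.f, true), (Gen.d, true), (Gen.h, true), (Gen.i, true), (Gen.d, true), (Gen.c, true), (Gen.b,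 true), (Gen.d, true), (Gen.e, true), (Gen.f, true)] (Gen.d, true) [(Gen.h, true), (Gen.i, true), (Gen.d, true), (Gen.c, true), (Gen.b, true), (Gen.d, true), (Gen.e, true), (Gen.f, true), (Gen.d, true), (Gen.h, true), (Gen.i, true), (Gen.d, true), (Gen.c, true), (Gen.b, true), (Gen.d, true), (Gen.e, true), (Gen.f, true), (Gen.d, true), (Gen.h, true), (Gen.i, true)] relone_45)
def rc_45_24 : Cert rels S Gen.d := Cert.rel true [(Gen.h, true), (Gen.i, true), (Gen.d, true), (Gen.c, true), (Gen.b, true), (Gen.d, true), (Gen.e, true), (Gen.f, true), (Gen.d, true), (Gen.h, true), (Gen.i, true), (Gen.d, true), (Gen.c, true), (Gen.b, true), (Gen.d, true), (Gen.e, true), (Gen.f, true), (Gen.d, true), (Gen.h, true), (Gen.i, true), (Gen.d, true), (Gen.c, true), (Gen.b, true), (Gen.d, true), (Gen.e, true), (Gen.f, true), (Gen.d, true), (Gen.h, true), (Gen.i, true), (Gen.d, true), (Gen.c, true), (Gen.b, true), (Gen.d, true), (Gen.e, true), (Gen.f, true), (Gen.d, true), (Gen.h, true), (Gen.i, true),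 (Gen.d, true), (Gen.c, true), (Gen.b, true), (Gen.d, true), (Gen.e, true), (Gen.f, true), (Gen.d, true), (Gen.h, true), (Gen.i, true), (Gen.d, true), (Gen.c, true), (Gen.b, true), (Gen.d, true), (Gen.e, true), (Gen.f, true), (Gen.d, true), (Gen.h, true), (Gen.i, true), (Gen.d, true), (Gen.c, true), (Gen.b, true), (Gen.d, true), (Gen.e, true), (Gen.f, true), (Gen.d, true), (Gen.h, true), (Gen.i, true), (Gen.d, true), (Gen.c, true), (Gen.b, true), (Gen.d, true), (Gen.e, true), (Gen.f, true), (Gen.d, true), (Gen.h, true), (Gen.i, true), (Gen.d, true), (Gen.c, true), (Gen.b, true), (Gen.d, true), (Gen.e, true), (Gen.f, true), (Gen.d, true), (Gen.h, true), (Gen.i, true), (Gen.d, true), (Gen.c, true), (Gen.b, true), (Gen.d, true), (Gen.e, true), (Gen.f, true)]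
  (wG_rot rels [(Gen.d, true), (Gen.c, true), (Gen.b, true), (Gen.d, true), (Gen.e, true), (Gen.f, true), (Gen.d, true), (Gen.h, true), (Gen.i, true), (Gen.d, true), (Gen.c, true), (Gen.b, true), (Gen.d, true), (Gen.e, true), (Gen.f, true), (Gen.d, true), (Gen.h, true), (Gen.i, true), (Gen.d, true), (Gen.c, true), (Gen.b, true), (Gen.d, true), (Gen.e, true), (Gen.f, true)] (Gen.d, true) [(Gen.h, true), (Gen.i, true), (Gen.d, true), (Gen.c, true), (Gen.b, true), (Gen.d, true), (Gen.e, true), (Gen.f, true), (Gen.d, true), (Gen.h, true), (Gen.i, true), (Gen.d, true), (Gen.c, true), (Gen.b, true), (Gen.d, true), (Gen.e, true), (Gen.f, true), (Gen.d, true), (Gen.h, true), (Gen.i, true), (Gen.d, true), (Gen.c, true), (Gen.b, true), (Gen.d, true), (Gen.e, true), (Gen.f, true), (Gen.d, true), (Gen.h, true), (Gen.i, true), (Gen.d, true), (Gen.c, true), (Gen.b, true), (Gen.d, true), (Gen.e, true), (Gen.f, true), (Gen.d, true), (Gen.h, true), (Gen.i, true), (Gen.d, true), (Gen.c, true), (Gen.b,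 true), (Gen.d, true), (Gen.e, true), (Gen.f, true), (Gen.d, true), (Gen.h, true), (Gen.i, true), (Gen.d, true), (Gen.c, true), (Gen.b, true), (Gen.d, true), (Gen.e, true), (Gen.f, true), (Gen.d, true), (Gen.h, true), (Gen.i, true), (Gen.d, true), (Gen.c, true), (Gen.b, true), (Gen.d, true), (Gen.e, true), (Gen.f, true), (Gen.d, true), (Gen.h, true), (Gen.i, true)] relone_45)
def rc_45_30 : Cert rels S Gen.d := Cert.rel true [(Gen.e, true), (Gen.f, true), (Gen.d, true), (Gen.h, true), (Gen.i, true), (Gen.d, true), (Gen.c, true), (Gen.b, true), (Gen.d, true), (Gen.e, true), (Gen.f, true), (Gen.d, true), (Gen.h, true), (Gen.i, true), (Gen.d, true), (Gen.c, true), (Gen.b, true), (Gen.d, true), (Gen.e, true), (Gen.f, true), (Gen.d, true), (Gen.h, true), (Gen.i, true), (Gen.d, true), (Gen.c, true), (Gen.b, true), (Gen.d, true), (Gen.e, true), (Gen.f, true), (Gen.d, true), (Gen.h, true), (Gen.i, true), (Gen.d, true), (Gen.c, true), (Gen.b, true), (Gen.d, true), (Gen.e, true), (Gen.f, true),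 (Gen.d, true), (Gen.h, true), (Gen.i, true), (Gen.d, true), (Gen.c, true), (Gen.b, true), (Gen.d, true), (Gen.e, true), (Gen.f, true), (Gen.d, true), (Gen.h, true), (Gen.i, true), (Gen.d, true), (Gen.c, true), (Gen.b, true), (Gen.d, true), (Gen.e, true), (Gen.f, true), (Gen.d, true), (Gen.h, true), (Gen.i, true), (Gen.d, true), (Gen.c, true), (Gen.b, true), (Gen.d, true), (Gen.e, true), (Gen.f, true), (Gen.d, true), (Gen.h, true), (Gen.i, true), (Gen.d, true), (Gen.c, true), (Gen.b, true), (Gen.d, true), (Gen.e, true), (Gen.f, true), (Gen.d, true), (Gen.h, true), (Gen.i, true), (Gen.d, true), (Gen.c, true), (Gen.b, true), (Gen.d, true), (Gen.e, true), (Gen.f, true), (Gen.d, true), (Gen.h, true), (Gen.i, true), (Gen.d, true), (Gen.c, true), (Gen.b, true)]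
  (wG_rot rels [(Gen.d, true), (Gen.c, true), (Gen.b, true), (Gen.d, true), (Gen.e, true), (Gen.f, true), (Gen.d, true), (Gen.h, true), (Gen.i, true), (Gen.d, true), (Gen.c, true), (Gen.b, true), (Gen.d, true), (Gen.e, true), (Gen.f, true), (Gen.d, true), (Gen.h, true), (Gen.i, true), (Gen.d, true), (Gen.c, true), (Gen.b, true), (Gen.d, true), (Gen.e, true), (Gen.f, true), (Gen.d, true), (Gen.h, true), (Gen.i, true), (Gen.d, true), (Gen.c, true), (Gen.b, true)] (Gen.d, true) [(Gen.e, true), (Gen.f, true), (Gen.d, true), (Gen.h, true), (Gen.i, true), (Gen.d, true), (Gen.c, true), (Gen.b, true), (Gen.d, true), (Gen.e, true), (Gen.f, true), (Gen.d, true), (Gen.h, true), (Gen.i, true), (Gen.d, true), (Gen.c, true), (Gen.b, true), (Gen.d, true), (Gen.e, true), (Gen.f, true), (Gen.d, true), (Gen.h, true), (Gen.i, true), (Gen.d, true), (Gen.c, true), (Gen.b, true), (Gen.d, true), (Gen.e, true), (Gen.f, true), (Gen.d, true), (Gen.h, true), (Gen.i, true), (Gen.d, true), (Gen.c, true), (Gen.b,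 true), (Gen.d, true), (Gen.e, true), (Gen.f, true), (Gen.d, true), (Gen.h, true), (Gen.i, true), (Gen.d, true), (Gen.c, true), (Gen.b, true), (Gen.d, true), (Gen.e, true), (Gen.f, true), (Gen.d, true), (Gen.h, true), (Gen.i, true), (Gen.d, true), (Gen.c, true), (Gen.b, true), (Gen.d, true), (Gen.e, true), (Gen.f, true), (Gen.d, true), (Gen.h, true), (Gen.i, true)] relone_45)
def rc_45_66 : Cert rels S Gen.d := Cert.rel true [(Gen.e, true), (Gen.f, true), (Gen.d, true), (Gen.h, true), (Gen.i, true), (Gen.d, true), (Gen.c, true), (Gen.b, true), (Gen.d, true), (Gen.e, true), (Gen.f, true), (Gen.d, true), (Gen.h, true), (Gen.i, true), (Gen.d, true), (Gen.c, true), (Gen.b, true), (Gen.d, true), (Gen.e, true), (Gen.f, true), (Gen.d, true), (Gen.h, true), (Gen.i, true), (Gen.d, true), (Gen.c, true), (Gen.b, true), (Gen.d, true), (Gen.e, true), (Gen.f, true), (Gen.d, true), (Gen.h, true), (Gen.i, true), (Gen.d, true), (Gen.c, true), (Gen.b, true), (Gen.d, true), (Gen.e, true), (Gen.f, true),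 (Gen.d, true), (Gen.h, true), (Gen.i, true), (Gen.d, true), (Gen.c, true), (Gen.b, true), (Gen.d, true), (Gen.e, true), (Gen.f, true), (Gen.d, true), (Gen.h, true), (Gen.i, true), (Gen.d, true), (Gen.c, true), (Gen.b, true), (Gen.d, true), (Gen.e, true), (Gen.f, true), (Gen.d, true), (Gen.h, true), (Gen.i, true), (Gen.d, true), (Gen.c, true), (Gen.b, true), (Gen.d, true), (Gen.e, true), (Gen.f, true), (Gen.d, true), (Gen.h, true), (Gen.i, true), (Gen.d, true), (Gen.c, true), (Gen.b, true), (Gen.d, true), (Gen.e, true), (Gen.f, true), (Gen.d, true), (Gen.h, true), (Gen.i, true), (Gen.d, true), (Gen.c, true), (Gen.b, true), (Gen.d, true), (Gen.e, true), (Gen.f, true), (Gen.d, true), (Gen.h, true), (Gen.i, true), (Gen.d, true), (Gen.c, true), (Gen.b, true)]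
  (wG_rot rels [(Gen.d, true), (Gen.c, true), (Gen.b, true), (Gen.d, true), (Gen.e, true), (Gen.f, true), (Gen.d, true), (Gen.h, true), (Gen.i, true), (Gen.d, true), (Gen.c, true), (Gen.b, true), (Gen.d, true), (Gen.e, true), (Gen.f, true), (Gen.d, true), (Gen.h, true), (Gen.i, true), (Gen.d, true), (Gen.c, true), (Gen.b, true), (Gen.d, true), (Gen.e, true), (Gen.f, true), (Gen.d, true), (Gen.h, true), (Gen.i, true), (Gen.d, true), (Gen.c, true), (Gen.b, true), (Gen.d, true), (Gen.e, true), (Gen.f, true), (Gen.d, true), (Gen.h, true), (Gen.i, true), (Gen.d, true), (Gen.c, true), (Gen.b, true), (Gen.d, true), (Gen.e, true), (Gen.f, true), (Gen.d, true), (Gen.h, true), (Gen.i, true), (Gen.d, true), (Gen.c, true), (Gen.b, true), (Gen.d, true), (Gen.e, true), (Gen.f, true), (Gen.d, true), (Gen.h, true), (Gen.i, true), (Gen.d, true), (Gen.c, true), (Gen.b, true), (Gen.d, true), (Gen.e, true), (Gen.f, true), (Gen.d, true), (Gen.h, true), (Gen.i, true), (Gen.d, true), (Gen.c, true), (Gen.b,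 true)] (Gen.d, true) [(Gen.e, true), (Gen.f, true), (Gen.d, true), (Gen.h, true), (Gen.i, true), (Gen.d, true), (Gen.c, true), (Gen.b, true), (Gen.d, true), (Gen.e, true), (Gen.f, true), (Gen.d, true), (Gen.h, true), (Gen.i, true), (Gen.d, true), (Gen.c, true), (Gen.b, true), (Gen.d, true), (Gen.e, true), (Gen.f, true), (Gen.d, true), (Gen.h, true), (Gen.i, true)] relone_45)
def rc_45_36 : Cert rels S Gen.d := Cert.rel true [(Gen.c, true), (Gen.b, true), (Gen.d, true), (Gen.e, true), (Gen.f, true), (Gen.d, true), (Gen.h, true), (Gen.i, true), (Gen.d, true), (Gen.c, true), (Gen.b, true), (Gen.d, true), (Gen.e, true), (Gen.f, true), (Gen.d, true), (Gen.h, true), (Gen.i, true), (Gen.d, true), (Gen.c, true), (Gen.b, true), (Gen.d, true), (Gen.e, true), (Gen.f, true), (Gen.d, true), (Gen.h, true), (Gen.i, true), (Gen.d, true), (Gen.c, true), (Gen.b, true), (Gen.d, true), (Gen.e, true), (Gen.f, true), (Gen.d, true), (Gen.h, true), (Gen.i, true), (Gen.d, true), (Gen.c, true), (Gen.b, true),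 (Gen.d, true), (Gen.e, true), (Gen.f, true), (Gen.d, true), (Gen.h, true), (Gen.i, true), (Gen.d, true), (Gen.c, true), (Gen.b, true), (Gen.d, true), (Gen.e, true), (Gen.f, true), (Gen.d, true), (Gen.h, true), (Gen.i, true), (Gen.d, true), (Gen.c, true), (Gen.b, true), (Gen.d, true), (Gen.e, true), (Gen.f, true), (Gen.d, true), (Gen.h, true), (Gen.i, true), (Gen.d, true), (Gen.c, true), (Gen.b, true), (Gen.d, true), (Gen.e, true), (Gen.f, true), (Gen.d, true), (Gen.h, true), (Gen.i, true), (Gen.d, true), (Gen.c, true), (Gen.b, true), (Gen.d, true), (Gen.e, true), (Gen.f, true), (Gen.d, true), (Gen.h, true), (Gen.i, true), (Gen.d, true), (Gen.c, true), (Gen.b, true), (Gen.d, true), (Gen.e, true), (Gen.f, true), (Gen.d, true), (Gen.h, true), (Gen.i, true)]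
  (wG_rot rels [(Gen.d, true), (Gen.c, true), (Gen.b, true), (Gen.d, true), (Gen.e, true), (Gen.f, true), (Gen.d, true), (Gen.h, true), (Gen.i, true), (Gen.d, true), (Gen.c, true), (Gen.b, true), (Gen.d, true), (Gen.e, true), (Gen.f, true), (Gen.d, true), (Gen.h, true), (Gen.i, true), (Gen.d, true), (Gen.c, true), (Gen.b, true), (Gen.d, true), (Gen.e, true), (Gen.f, true), (Gen.d, true), (Gen.h, true), (Gen.i, true), (Gen.d, true), (Gen.c, true), (Gen.b, true), (Gen.d, true), (Gen.e, true), (Gen.f, true), (Gen.d, true), (Gen.h, true), (Gen.i, true)] (Gen.d, true) [(Gen.c, true), (Gen.b, true), (Gen.d, true), (Gen.e, true), (Gen.f, true), (Gen.d, true), (Gen.h, true), (Gen.i, true), (Gen.d, true), (Gen.c, true), (Gen.b, true), (Gen.d, true), (Gen.e, true), (Gen.f, true), (Gen.d, true), (Gen.h, true), (Gen.i, true), (Gen.d, true), (Gen.c, true), (Gen.b, true), (Gen.d, true), (Gen.e, true), (Gen.f, true), (Gen.d, true), (Gen.h, true), (Gen.i, true), (Gen.d, true), (Gen.c, true), (Gen.b,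 true), (Gen.d, true), (Gen.e, true), (Gen.f, true), (Gen.d, true), (Gen.h, true), (Gen.i, true), (Gen.d, true), (Gen.c, true), (Gen.b, true), (Gen.d, true), (Gen.e, true), (Gen.f, true), (Gen.d, true), (Gen.h, true), (Gen.i, true), (Gen.d, true), (Gen.c, true), (Gen.b, true), (Gen.d, true), (Gen.e, true), (Gen.f, true), (Gen.d, true), (Gen.h, true), (Gen.i, true)] relone_45)
def rc_12_1 : Cert rels S Gen.e := Cert.rel true [(Gen.b, true), (Gen.e, true), (Gen.b, true)]
  (wG_rot rels [(Gen.b, true)] (Gen.e, true) [(Gen.b, true), (Gen.e, true)] relone_12)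
def rc_4_1 : Cert rels S Gen.e := Cert.rel true [(Gen.a, true), (Gen.e, true), (Gen.a, true)]
  (wG_rot rels [(Gen.a, true)] (Gen.e, true) [(Gen.a, true), (Gen.e, true)] relone_4)
def rc_19_1 : Cert rels S Gen.e := Cert.rel true [(Gen.c, true), (Gen.e, true), (Gen.c, true)]
  (wG_rot rels [(Gen.c, true)] (Gen.e, true) [(Gen.c, true), (Gen.e, true)] relone_19)
def rc_30_0 : Cert rels S Gen.e := Cert.rel true [(Gen.e, true)]
  (wG_rot rels [] (Gen.e, true) [(Gen.e, true)] relone_30)
def rc_31_2 : Cert rels S Gen.e := Cert.rel true [(Gen.h, true), (Gen.e, true), (Gen.h, true)]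
  (wG_rot rels [(Gen.e, true), (Gen.h, true)] (Gen.e, true) [(Gen.h, true)] relone_31)
def rc_32_2 : Cert rels S Gen.e := Cert.rel true [(Gen.f, true), (Gen.e, true), (Gen.f, true), (Gen.e, true), (Gen.f, true)]
  (wG_rot rels [(Gen.e, true), (Gen.f, true)] (Gen.e, true) [(Gen.f, true), (Gen.e, true), (Gen.f, true)] relone_32)
def rc_34_2 : Cert rels S Gen.e := Cert.rel true [(Gen.i, true), (Gen.e, true), (Gen.i, true)]
  (wG_rot rels [(Gen.e, true), (Gen.i, true)] (Gen.e, true) [(Gen.i, true)] relone_34)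
def rc_33_2 : Cert rels S Gen.e := Cert.rel true [(Gen.g, true), (Gen.e, true), (Gen.g, true)]
  (wG_rot rels [(Gen.e, true), (Gen.g, true)] (Gen.e, true) [(Gen.g, true)] relone_33)
def rc_25_3 : Cert rels S Gen.e := Cert.rel true [(Gen.d, true), (Gen.e, true), (Gen.d, true), (Gen.e, true), (Gen.d, true)]
  (wG_rot rels [(Gen.d, true), (Gen.e, true), (Gen.d, true)] (Gen.e, true) [(Gen.d, true), (Gen.e, true)] relone_25)
def rc_25_1 : Cert rels S Gen.e := Cert.rel true [(Gen.d, true), (Gen.e, true), (Gen.d, true), (Gen.e, true), (Gen.d, true)]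
  (wG_rot rels [(Gen.d, true)] (Gen.e, true) [(Gen.d, true), (Gen.e, true), (Gen.d, true), (Gen.e, true)] relone_25)
def rc_4_3 : Cert rels S Gen.e := Cert.rel true [(Gen.a, true), (Gen.e, true), (Gen.a, true)]
  (wG_rot rels [(Gen.a, true), (Gen.e, true), (Gen.a, true)] (Gen.e, true) [] relone_4)
def rc_47_38 : Cert rels S Gen.e := Cert.rel true [(Gen.f, true), (Gen.g, true), (Gen.h, true), (Gen.b, true), (Gen.c, true), (Gen.d, true), (Gen.e, true), (Gen.f, true), (Gen.g, true), (Gen.h, true), (Gen.b, true), (Gen.c, true), (Gen.d, true), (Gen.e, true), (Gen.f, true), (Gen.g, true), (Gen.h, true), (Gen.b, true), (Gen.c, true), (Gen.d, true), (Gen.e, true), (Gen.f, true), (Gen.g, true), (Gen.h, true), (Gen.b, true), (Gen.c, true), (Gen.d, true), (Gen.e, true), (Gen.f, true), (Gen.g, true), (Gen.h, true), (Gen.b, true), (Gen.c, true), (Gen.d, true), (Gen.e, true), (Gen.f, true), (Gen.g, true), (Gen.h, true), (Gen.b, true), (Gen.c, true), (Gen.d, true), (Gen.e, true), (Gen.f, true),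 (Gen.g, true), (Gen.h, true), (Gen.b, true), (Gen.c, true), (Gen.d, true), (Gen.e, true), (Gen.f, true), (Gen.g, true), (Gen.h, true), (Gen.b, true), (Gen.c, true), (Gen.d, true), (Gen.e, true), (Gen.f, true), (Gen.g, true), (Gen.h, true), (Gen.b, true), (Gen.c, true), (Gen.d, true)]
  (wG_rot rels [(Gen.b, true), (Gen.c, true), (Gen.d, true), (Gen.e, true), (Gen.f, true), (Gen.g, true), (Gen.h, true), (Gen.b, true), (Gen.c, true), (Gen.d, true), (Gen.e, true), (Gen.f, true), (Gen.g, true), (Gen.h, true), (Gen.b, true), (Gen.c, true), (Gen.d, true), (Gen.e, true), (Gen.f, true), (Gen.g, true), (Gen.h, true), (Gen.b, true), (Gen.c, true), (Gen.d, true), (Gen.e, true), (Gen.f, true), (Gen.g, true), (Gen.h, true), (Gen.b, true), (Gen.c, true), (Gen.d, true), (Gen.e, true), (Gen.f, true), (Gen.g, true), (Gen.h, true), (Gen.b, true), (Gen.c, true), (Gen.d, true)] (Gen.e, true) [(Gen.f, true), (Gen.g, true), (Gen.h, true), (Gen.b, true), (Gen.c, true), (Gen.d, true), (Gen.e, true), (Gen.f,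 true), (Gen.g, true), (Gen.h, true), (Gen.b, true), (Gen.c, true), (Gen.d, true), (Gen.e, true), (Gen.f, true), (Gen.g, true), (Gen.h, true), (Gen.b, true), (Gen.c, true), (Gen.d, true), (Gen.e, true), (Gen.f, true), (Gen.g, true), (Gen.h, true)] relone_47)
def rc_46_32 : Cert rels S Gen.e := Cert.rel true [(Gen.f, true), (Gen.h, true), (Gen.a, true), (Gen.b, true), (Gen.c, true), (Gen.d, true), (Gen.e, true), (Gen.f, true), (Gen.h, true), (Gen.a, true), (Gen.b, true), (Gen.c, true), (Gen.d, true), (Gen.e, true), (Gen.f, true), (Gen.h, true), (Gen.a, true), (Gen.b, true), (Gen.c, true), (Gen.d, true), (Gen.e, true), (Gen.f, true), (Gen.h, true), (Gen.a, true), (Gen.b, true), (Gen.c, true), (Gen.d, true), (Gen.e, true), (Gen.f, true), (Gen.h, true), (Gen.a, true), (Gen.b, true), (Gen.c, true), (Gen.d, true), (Gen.e, true), (Gen.f, true), (Gen.h, true), (Gen.a, true), (Gen.b, true), (Gen.c, true), (Gen.d, true), (Gen.e, true), (Gen.f, true), (Gen.h, true), (Gen.a, true), (Gen.b, true),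 (Gen.c, true), (Gen.d, true), (Gen.e, true), (Gen.f, true), (Gen.h, true), (Gen.a, true), (Gen.b, true), (Gen.c, true), (Gen.d, true), (Gen.e, true), (Gen.f, true), (Gen.h, true), (Gen.a, true), (Gen.b, true), (Gen.c, true), (Gen.d, true)]
  (wG_rot rels [(Gen.a, true), (Gen.b, true), (Gen.c, true), (Gen.d, true), (Gen.e, true), (Gen.f, true), (Gen.h, true), (Gen.a, true), (Gen.b, true), (Gen.c, true), (Gen.d, true), (Gen.e, true), (Gen.f, true), (Gen.h, true), (Gen.a, true), (Gen.b, true), (Gen.c, true), (Gen.d, true), (Gen.e, true), (Gen.f, true), (Gen.h, true), (Gen.a, true), (Gen.b, true), (Gen.c, true), (Gen.d, true), (Gen.e, true), (Gen.f, true), (Gen.h, true), (Gen.a, true), (Gen.b, true), (Gen.c, true), (Gen.d, true)] (Gen.e, true) [(Gen.f, true), (Gen.h, true), (Gen.a, true), (Gen.b, true), (Gen.c, true), (Gen.d, true), (Gen.e, true), (Gen.f, true), (Gen.h, true), (Gen.a, true), (Gen.b, true), (Gen.c, true), (Gen.d, true), (Gen.e, true), (Gen.f, true), (Gen.h, true), (Gen.a,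 true), (Gen.b, true), (Gen.c, true), (Gen.d, true), (Gen.e, true), (Gen.f, true), (Gen.h, true), (Gen.a, true), (Gen.b, true), (Gen.c, true), (Gen.d, true), (Gen.e, true), (Gen.f, true), (Gen.h, true)] relone_46)
def rc_12_3 : Cert rels S Gen.e := Cert.rel true [(Gen.b, true), (Gen.e, true), (Gen.b, true)]
  (wG_rot rels [(Gen.b, true), (Gen.e, true), (Gen.b, true)] (Gen.e, true) [] relone_12)
def rc_32_4 : Cert rels S Gen.e := Cert.rel true [(Gen.f, true), (Gen.e, true), (Gen.f, true), (Gen.e, true), (Gen.f, true)]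
  (wG_rot rels [(Gen.e, true), (Gen.f, true), (Gen.e, true), (Gen.f, true)] (Gen.e, true) [(Gen.f, true)] relone_32)
def rc_46_53 : Cert rels S Gen.e := Cert.rel true [(Gen.f, true), (Gen.h, true), (Gen.a, true), (Gen.b, true), (Gen.c, true), (Gen.d, true), (Gen.e, true), (Gen.f, true), (Gen.h, true), (Gen.a, true), (Gen.b, true), (Gen.c, true), (Gen.d, true), (Gen.e, true), (Gen.f, true), (Gen.h, true), (Gen.a, true), (Gen.b, true), (Gen.c, true), (Gen.d, true), (Gen.e, true), (Gen.f, true), (Gen.h, true), (Gen.a, true), (Gen.b, true), (Gen.c, true), (Gen.d, true), (Gen.e, true), (Gen.f, true), (Gen.h, true), (Gen.a, true), (Gen.b, true), (Gen.c, true), (Gen.d, true), (Gen.e, true), (Gen.f, true), (Gen.h, true), (Gen.a, true), (Gen.b, true), (Gen.c, true), (Gen.d, true), (Gen.e, true), (Gen.f, true), (Gen.h, true), (Gen.a, true), (Gen.b, true), (Gen.c, true), (Gen.d, true), (Gen.e, true), (Gen.f, true), (Gen.h, true), (Gen.a, true), (Gen.b, true), (Gen.c, true), (Gen.d, true),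 (Gen.e, true), (Gen.f, true), (Gen.h, true), (Gen.a, true), (Gen.b, true), (Gen.c, true), (Gen.d, true)]
  (wG_rot rels [(Gen.a, true), (Gen.b, true), (Gen.c, true), (Gen.d, true), (Gen.e, true), (Gen.f, true), (Gen.h, true), (Gen.a, true), (Gen.b, true), (Gen.c, true), (Gen.d, true), (Gen.e, true), (Gen.f, true), (Gen.h, true), (Gen.a, true), (Gen.b, true), (Gen.c, true), (Gen.d, true), (Gen.e, true), (Gen.f, true), (Gen.h, true), (Gen.a, true), (Gen.b, true), (Gen.c, true), (Gen.d, true), (Gen.e, true), (Gen.f, true), (Gen.h, true), (Gen.a, true), (Gen.b, true), (Gen.c, true), (Gen.d, true), (Gen.e, true), (Gen.f, true), (Gen.h, true), (Gen.a, true), (Gen.b, true), (Gen.c, true), (Gen.d, true), (Gen.e, true), (Gen.f, true), (Gen.h, true), (Gen.a, true), (Gen.b, true), (Gen.c, true), (Gen.d, true), (Gen.e, true), (Gen.f, true), (Gen.h, true), (Gen.a, true), (Gen.b, true), (Gen.c, true), (Gen.d, true)] (Gen.e, true) [(Gen.f, true), (Gen.h, true), (Gen.a, true), (Gen.b, true), (Gen.c,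 true), (Gen.d, true), (Gen.e, true), (Gen.f, true), (Gen.h, true)] relone_46)
def rc_31_0 : Cert rels S Gen.e := Cert.rel true [(Gen.h, true), (Gen.e, true), (Gen.h, true)]
  (wG_rot rels [] (Gen.e, true) [(Gen.h, true), (Gen.e, true), (Gen.h, true)] relone_31)
def rc_45_49 : Cert rels S Gen.e := Cert.rel true [(Gen.f, true), (Gen.d, true), (Gen.h, true), (Gen.i, true), (Gen.d, true), (Gen.c, true), (Gen.b, true), (Gen.d, true), (Gen.e, true), (Gen.f, true), (Gen.d, true), (Gen.h, true), (Gen.i, true), (Gen.d, true), (Gen.c, true), (Gen.b, true), (Gen.d, true), (Gen.e, true), (Gen.f, true), (Gen.d, true), (Gen.h, true), (Gen.i, true), (Gen.d, true), (Gen.c, true), (Gen.b, true), (Gen.d, true), (Gen.e, true), (Gen.f, true), (Gen.d, true), (Gen.h, true), (Gen.i, true), (Gen.d, true), (Gen.c, true), (Gen.b, true), (Gen.d, true), (Gen.e, true), (Gen.f, true), (Gen.d, true), (Gen.h, true), (Gen.i, true), (Gen.d, true), (Gen.c, true), (Gen.b, true), (Gen.d, true), (Gen.e, true), (Gen.f,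 true), (Gen.d, true), (Gen.h, true), (Gen.i, true), (Gen.d, true), (Gen.c, true), (Gen.b, true), (Gen.d, true), (Gen.e, true), (Gen.f, true), (Gen.d, true), (Gen.h, true), (Gen.i, true), (Gen.d, true), (Gen.c, true), (Gen.b, true), (Gen.d, true), (Gen.e, true), (Gen.f, true), (Gen.d, true), (Gen.h, true), (Gen.i, true), (Gen.d, true), (Gen.c, true), (Gen.b, true), (Gen.d, true), (Gen.e, true), (Gen.f, true), (Gen.d, true), (Gen.h, true), (Gen.i, true), (Gen.d, true), (Gen.c, true), (Gen.b, true), (Gen.d, true), (Gen.e, true), (Gen.f, true), (Gen.d, true), (Gen.h, true), (Gen.i, true), (Gen.d, true), (Gen.c, true), (Gen.b, true), (Gen.d, true)]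
  (wG_rot rels [(Gen.d, true), (Gen.c, true), (Gen.b, true), (Gen.d, true), (Gen.e, true), (Gen.f, true), (Gen.d, true), (Gen.h, true), (Gen.i, true), (Gen.d, true), (Gen.c, true), (Gen.b, true), (Gen.d, true), (Gen.e, true), (Gen.f, true), (Gen.d, true), (Gen.h, true), (Gen.i, true), (Gen.d, true), (Gen.c, true), (Gen.b, true), (Gen.d, true), (Gen.e, true), (Gen.f, true), (Gen.d, true), (Gen.h, true), (Gen.i, true), (Gen.d, true), (Gen.c, true), (Gen.b, true), (Gen.d, true), (Gen.e, true), (Gen.f, true), (Gen.d, true), (Gen.h, true), (Gen.i, true), (Gen.d, true), (Gen.c, true), (Gen.b, true), (Gen.d, true), (Gen.e, true), (Gen.f, true), (Gen.d, true), (Gen.h, true), (Gen.i, true), (Gen.d, true), (Gen.c, true), (Gen.b, true), (Gen.d, true)] (Gen.e, true) [(Gen.f, true), (Gen.d, true), (Gen.h, true), (Gen.i, true), (Gen.d, true), (Gen.c, true), (Gen.b, true), (Gen.d, true), (Gen.e, true), (Gen.f, true), (Gen.d, true), (Gen.h, true), (Gen.i, true), (Gen.d, true), (Gen.c, true), (Gen.b,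 true), (Gen.d, true), (Gen.e, true), (Gen.f, true), (Gen.d, true), (Gen.h, true), (Gen.i, true), (Gen.d, true), (Gen.c, true), (Gen.b, true), (Gen.d, true), (Gen.e, true), (Gen.f, true), (Gen.d, true), (Gen.h, true), (Gen.i, true), (Gen.d, true), (Gen.c, true), (Gen.b, true), (Gen.d, true), (Gen.e, true), (Gen.f, true), (Gen.d, true), (Gen.h, true), (Gen.i, true)] relone_45)
def rc_47_24 : Cert rels S Gen.e := Cert.rel true [(Gen.f, true), (Gen.g, true), (Gen.h, true), (Gen.b, true), (Gen.c, true), (Gen.d, true), (Gen.e, true), (Gen.f, true), (Gen.g, true), (Gen.h, true), (Gen.b, true), (Gen.c, true), (Gen.d, true), (Gen.e, true), (Gen.f, true), (Gen.g, true), (Gen.h, true), (Gen.b, true), (Gen.c, true), (Gen.d, true), (Gen.e, true), (Gen.f, true), (Gen.g, true), (Gen.h, true), (Gen.b, true), (Gen.c, true), (Gen.d, true), (Gen.e, true), (Gen.f, true), (Gen.g, true), (Gen.h, true), (Gen.b, true), (Gen.c, true), (Gen.d, true), (Gen.e, true), (Gen.f, true), (Gen.g, true), (Gen.h, true),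 (Gen.b, true), (Gen.c, true), (Gen.d, true), (Gen.e, true), (Gen.f, true), (Gen.g, true), (Gen.h, true), (Gen.b, true), (Gen.c, true), (Gen.d, true), (Gen.e, true), (Gen.f, true), (Gen.g, true), (Gen.h, true), (Gen.b, true), (Gen.c, true), (Gen.d, true), (Gen.e, true), (Gen.f, true), (Gen.g, true), (Gen.h, true), (Gen.b, true), (Gen.c, true), (Gen.d, true)]
  (wG_rot rels [(Gen.b, true), (Gen.c, true), (Gen.d, true), (Gen.e, true), (Gen.f, true), (Gen.g, true), (Gen.h, true), (Gen.b, true), (Gen.c, true), (Gen.d, true), (Gen.e, true), (Gen.f, true), (Gen.g, true), (Gen.h, true), (Gen.b, true), (Gen.c, true), (Gen.d, true), (Gen.e, true), (Gen.f, true), (Gen.g, true), (Gen.h, true), (Gen.b, true), (Gen.c, true), (Gen.d, true)] (Gen.e, true) [(Gen.f, true), (Gen.g, true), (Gen.h, true), (Gen.b, true), (Gen.c, true), (Gen.d, true), (Gen.e, true), (Gen.f, true), (Gen.g, true), (Gen.h, true), (Gen.b, true), (Gen.c, true), (Gen.d, true), (Gen.e, true), (Gen.f, true), (Gen.g, true), (Gen.h,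 true), (Gen.b, true), (Gen.c, true), (Gen.d, true), (Gen.e, true), (Gen.f, true), (Gen.g, true), (Gen.h, true), (Gen.b, true), (Gen.c, true), (Gen.d, true), (Gen.e, true), (Gen.f, true), (Gen.g, true), (Gen.h, true), (Gen.b, true), (Gen.c, true), (Gen.d, true), (Gen.e, true), (Gen.f, true), (Gen.g, true), (Gen.h, true)] relone_47)
def rc_33_0 : Cert rels S Gen.e := Cert.rel true [(Gen.g, true), (Gen.e, true), (Gen.g, true)]
  (wG_rot rels [] (Gen.e, true) [(Gen.g, true), (Gen.e, true), (Gen.g, true)] relone_33)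
def rc_45_67 : Cert rels S Gen.e := Cert.rel true [(Gen.f, true), (Gen.d, true), (Gen.h, true), (Gen.i, true), (Gen.d, true), (Gen.c, true), (Gen.b, true), (Gen.d, true), (Gen.e, true), (Gen.f, true), (Gen.d, true), (Gen.h, true), (Gen.i, true), (Gen.d, true), (Gen.c, true), (Gen.b, true), (Gen.d, true), (Gen.e, true), (Gen.f, true), (Gen.d, true), (Gen.h, true), (Gen.i, true), (Gen.d, true), (Gen.c, true), (Gen.b, true), (Gen.d, true), (Gen.e, true), (Gen.f, true), (Gen.d, true), (Gen.h, true), (Gen.i, true), (Gen.d, true), (Gen.c, true), (Gen.b, true), (Gen.d, true), (Gen.e, true), (Gen.f, true), (Gen.d, true), (Gen.h, true), (Gen.i, true), (Gen.d, true), (Gen.c, true), (Gen.b, true), (Gen.d, true), (Gen.e, true), (Gen.f, true), (Gen.d, true), (Gen.h, true), (Gen.i, true), (Gen.d, true), (Gen.c, true), (Gen.b, true), (Gen.d, true), (Gen.e, true), (Gen.f, true), (Gen.d, true), (Gen.h, true), (Gen.i, true), (Gen.d, true), (Gen.c, true), (Gen.b, true), (Gen.d, true), (Gen.e, true),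 (Gen.f, true), (Gen.d, true), (Gen.h, true), (Gen.i, true), (Gen.d, true), (Gen.c, true), (Gen.b, true), (Gen.d, true), (Gen.e, true), (Gen.f, true), (Gen.d, true), (Gen.h, true), (Gen.i, true), (Gen.d, true), (Gen.c, true), (Gen.b, true), (Gen.d, true), (Gen.e, true), (Gen.f, true), (Gen.d, true), (Gen.h, true), (Gen.i, true), (Gen.d, true), (Gen.c, true), (Gen.b, true), (Gen.d, true)]
  (wG_rot rels [(Gen.d, true), (Gen.c, true), (Gen.b, true), (Gen.d, true), (Gen.e, true), (Gen.f, true), (Gen.d, true), (Gen.h, true), (Gen.i, true), (Gen.d, true), (Gen.c, true), (Gen.b, true), (Gen.d, true), (Gen.e, true), (Gen.f, true), (Gen.d, true), (Gen.h, true), (Gen.i, true), (Gen.d, true), (Gen.c, true), (Gen.b, true), (Gen.d, true), (Gen.e, true), (Gen.f, true), (Gen.d, true), (Gen.h, true), (Gen.i, true), (Gen.d, true), (Gen.c, true), (Gen.b, true), (Gen.d, true), (Gen.e, true), (Gen.f, true), (Gen.d, true), (Gen.h, true), (Gen.i, true), (Gen.d, true), (Gen.c, true), (Gen.b, true), (Gen.d,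 true), (Gen.e, true), (Gen.f, true), (Gen.d, true), (Gen.h, true), (Gen.i, true), (Gen.d, true), (Gen.c, true), (Gen.b, true), (Gen.d, true), (Gen.e, true), (Gen.f, true), (Gen.d, true), (Gen.h, true), (Gen.i, true), (Gen.d, true), (Gen.c, true), (Gen.b, true), (Gen.d, true), (Gen.e, true), (Gen.f, true), (Gen.d, true), (Gen.h, true), (Gen.i, true), (Gen.d, true), (Gen.c, true), (Gen.b, true), (Gen.d, true)] (Gen.e, true) [(Gen.f, true), (Gen.d, true), (Gen.h, true), (Gen.i, true), (Gen.d, true), (Gen.c, true), (Gen.b, true), (Gen.d, true), (Gen.e, true), (Gen.f, true), (Gen.d, true), (Gen.h, true), (Gen.i, true), (Gen.d, true), (Gen.c, true), (Gen.b, true), (Gen.d, true), (Gen.e, true), (Gen.f, true), (Gen.d, true), (Gen.h, true), (Gen.i, true)] relone_45)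
def rc_47_31 : Cert rels S Gen.e := Cert.rel true [(Gen.f, true), (Gen.g, true), (Gen.h, true), (Gen.b, true), (Gen.c, true), (Gen.d, true), (Gen.e, true), (Gen.f, true), (Gen.g, true), (Gen.h, true), (Gen.b, true), (Gen.c, true), (Gen.d, true), (Gen.e, true), (Gen.f, true), (Gen.g, true), (Gen.h, true), (Gen.b, true), (Gen.c, true), (Gen.d, true), (Gen.e, true), (Gen.f, true), (Gen.g, true), (Gen.h, true), (Gen.b, true), (Gen.c, true), (Gen.d, true), (Gen.e, true), (Gen.f, true), (Gen.g, true), (Gen.h, true), (Gen.b, true), (Gen.c, true), (Gen.d, true), (Gen.e, true), (Gen.f, true), (Gen.g, true), (Gen.h, true), (Gen.b, true), (Gen.c, true), (Gen.d, true), (Gen.e, true), (Gen.f, true), (Gen.g, true), (Gen.h, true), (Gen.b, true), (Gen.c, true), (Gen.d, true), (Gen.e, true), (Gen.f, true), (Gen.g, true), (Gen.h, true), (Gen.b, true), (Gen.c, true), (Gen.d, true), (Gen.e, true), (Gen.f, true), (Gen.g, true), (Gen.h, true), (Gen.b, true), (Gen.c, true), (Gen.d, true)]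
  (wG_rot rels [(Gen.b, true), (Gen.c, true), (Gen.d, true), (Gen.e, true), (Gen.f, true), (Gen.g, true), (Gen.h, true), (Gen.b, true), (Gen.c, true), (Gen.d, true), (Gen.e, true), (Gen.f, true), (Gen.g, true), (Gen.h, true), (Gen.b, true), (Gen.c, true), (Gen.d, true), (Gen.e, true), (Gen.f, true), (Gen.g, true), (Gen.h, true), (Gen.b, true), (Gen.c, true), (Gen.d, true), (Gen.e, true), (Gen.f, true), (Gen.g, true), (Gen.h, true), (Gen.b, true), (Gen.c, true), (Gen.d, true)] (Gen.e, true) [(Gen.f, true), (Gen.g, true), (Gen.h, true), (Gen.b, true), (Gen.c, true), (Gen.d, true), (Gen.e, true), (Gen.f, true), (Gen.g, true), (Gen.h, true), (Gen.b, true), (Gen.c, true), (Gen.d, true), (Gen.e, true), (Gen.f, true), (Gen.g, true), (Gen.h, true), (Gen.b, true), (Gen.c, true), (Gen.d, true), (Gen.e, true), (Gen.f, true), (Gen.g, true), (Gen.h, true), (Gen.b, true), (Gen.c, true), (Gen.d, true), (Gen.e, true), (Gen.f, true), (Gen.g, true), (Gen.h, true)] relone_47)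
def rc_30_1 : Cert rels S Gen.e := Cert.rel true [(Gen.e, true)]
  (wG_rot rels [(Gen.e, true)] (Gen.e, true) [] relone_30)
def rc_32_0 : Cert rels S Gen.e := Cert.rel true [(Gen.f, true), (Gen.e, true), (Gen.f, true), (Gen.e, true), (Gen.f, true)]
  (wG_rot rels [] (Gen.e, true) [(Gen.f, true), (Gen.e, true), (Gen.f, true), (Gen.e, true), (Gen.f, true)] relone_32)
def rc_19_3 : Cert rels S Gen.e := Cert.rel true [(Gen.c, true), (Gen.e, true), (Gen.c, true)]
  (wG_rot rels [(Gen.c, true), (Gen.e, true), (Gen.c, true)] (Gen.e, true) [] relone_19)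
def rc_47_52 : Cert rels S Gen.e := Cert.rel true [(Gen.f, true), (Gen.g, true), (Gen.h, true), (Gen.b, true), (Gen.c, true), (Gen.d, true), (Gen.e, true), (Gen.f, true), (Gen.g, true), (Gen.h, true), (Gen.b, true), (Gen.c, true), (Gen.d, true), (Gen.e, true), (Gen.f, true), (Gen.g, true), (Gen.h, true), (Gen.b, true), (Gen.c, true), (Gen.d, true), (Gen.e, true), (Gen.f, true), (Gen.g, true), (Gen.h, true), (Gen.b, true), (Gen.c, true), (Gen.d, true), (Gen.e, true), (Gen.f, true), (Gen.g, true), (Gen.h, true), (Gen.b, true), (Gen.c, true), (Gen.d, true), (Gen.e, true), (Gen.f, true), (Gen.g, true), (Gen.h, true), (Gen.b, true), (Gen.c, true), (Gen.d, true), (Gen.e, true), (Gen.f, true), (Gen.g, true), (Gen.h, true), (Gen.b, true), (Gen.c, true), (Gen.d, true), (Gen.e, true), (Gen.f, true), (Gen.g, true), (Gen.h, true), (Gen.b, true), (Gen.c, true), (Gen.d, true), (Gen.e, true), (Gen.f, true), (Gen.g, true), (Gen.h, true), (Gen.b, true), (Gen.c, true), (Gen.d, true)]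
  (wG_rot rels [(Gen.b, true), (Gen.c, true), (Gen.d, true), (Gen.e, true), (Gen.f, true), (Gen.g, true), (Gen.h, true), (Gen.b, true), (Gen.c, true), (Gen.d, true), (Gen.e, true), (Gen.f, true), (Gen.g, true), (Gen.h, true), (Gen.b, true), (Gen.c, true), (Gen.d, true), (Gen.e, true), (Gen.f, true), (Gen.g, true), (Gen.h, true), (Gen.b, true), (Gen.c, true), (Gen.d, true), (Gen.e, true), (Gen.f, true), (Gen.g, true), (Gen.h, true), (Gen.b, true), (Gen.c, true), (Gen.d, true), (Gen.e, true), (Gen.f, true), (Gen.g, true), (Gen.h, true), (Gen.b, true), (Gen.c, true), (Gen.d, true), (Gen.e, true), (Gen.f, true), (Gen.g, true), (Gen.h, true), (Gen.b, true), (Gen.c, true), (Gen.d, true), (Gen.e, true), (Gen.f, true), (Gen.g, true), (Gen.h, true), (Gen.b, true), (Gen.c, true), (Gen.d, true)] (Gen.e, true) [(Gen.f, true), (Gen.g, true), (Gen.h, true), (Gen.b, true), (Gen.c, true), (Gen.d, true), (Gen.e, true), (Gen.f, true), (Gen.g, true), (Gen.h, true)] relone_47)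
def rc_45_58 : Cert rels S Gen.e := Cert.rel true [(Gen.f, true), (Gen.d, true), (Gen.h, true), (Gen.i, true), (Gen.d, true), (Gen.c, true), (Gen.b, true), (Gen.d, true), (Gen.e, true), (Gen.f, true), (Gen.d, true), (Gen.h, true), (Gen.i, true), (Gen.d, true), (Gen.c, true), (Gen.b, true), (Gen.d, true), (Gen.e, true), (Gen.f, true), (Gen.d, true), (Gen.h, true), (Gen.i, true), (Gen.d, true), (Gen.c, true), (Gen.b, true), (Gen.d, true), (Gen.e, true), (Gen.f, true), (Gen.d, true), (Gen.h, true), (Gen.i, true), (Gen.d, true), (Gen.c, true), (Gen.b, true), (Gen.d, true), (Gen.e, true), (Gen.f, true), (Gen.d, true), (Gen.h, true), (Gen.i, true), (Gen.d, true), (Gen.c, true), (Gen.b, true), (Gen.d, true), (Gen.e, true), (Gen.f, true), (Gen.d, true), (Gen.h, true), (Gen.i, true), (Gen.d, true), (Gen.c, true), (Gen.b, true), (Gen.d, true), (Gen.e, true), (Gen.f, true), (Gen.d, true), (Gen.h, true), (Gen.i, true), (Gen.d, true), (Gen.c, true), (Gen.b, true), (Gen.d, true), (Gen.e, true),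 (Gen.f, true), (Gen.d, true), (Gen.h, true), (Gen.i, true), (Gen.d, true), (Gen.c, true), (Gen.b, true), (Gen.d, true), (Gen.e, true), (Gen.f, true), (Gen.d, true), (Gen.h, true), (Gen.i, true), (Gen.d, true), (Gen.c, true), (Gen.b, true), (Gen.d, true), (Gen.e, true), (Gen.f, true), (Gen.d, true), (Gen.h, true), (Gen.i, true), (Gen.d, true), (Gen.c, true), (Gen.b, true), (Gen.d, true)]
  (wG_rot rels [(Gen.d, true), (Gen.c, true), (Gen.b, true), (Gen.d, true), (Gen.e, true), (Gen.f, true), (Gen.d, true), (Gen.h, true), (Gen.i, true), (Gen.d, true), (Gen.c, true), (Gen.b, true), (Gen.d, true), (Gen.e, true), (Gen.f, true), (Gen.d, true), (Gen.h, true), (Gen.i, true), (Gen.d, true), (Gen.c, true), (Gen.b, true), (Gen.d, true), (Gen.e, true), (Gen.f, true), (Gen.d, true), (Gen.h, true), (Gen.i, true), (Gen.d, true), (Gen.c, true), (Gen.b, true), (Gen.d, true), (Gen.e, true), (Gen.f, true), (Gen.d, true), (Gen.h, true), (Gen.i, true), (Gen.d, true), (Gen.c, true), (Gen.b, true), (Gen.d,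 true), (Gen.e, true), (Gen.f, true), (Gen.d, true), (Gen.h, true), (Gen.i, true), (Gen.d, true), (Gen.c, true), (Gen.b, true), (Gen.d, true), (Gen.e, true), (Gen.f, true), (Gen.d, true), (Gen.h, true), (Gen.i, true), (Gen.d, true), (Gen.c, true), (Gen.b, true), (Gen.d, true)] (Gen.e, true) [(Gen.f, true), (Gen.d, true), (Gen.h, true), (Gen.i, true), (Gen.d, true), (Gen.c, true), (Gen.b, true), (Gen.d, true), (Gen.e, true), (Gen.f, true), (Gen.d, true), (Gen.h, true), (Gen.i, true), (Gen.d, true), (Gen.c, true), (Gen.b, true), (Gen.d, true), (Gen.e, true), (Gen.f, true), (Gen.d, true), (Gen.h, true), (Gen.i, true), (Gen.d, true), (Gen.c, true), (Gen.b, true), (Gen.d, true), (Gen.e, true), (Gen.f, true), (Gen.d, true), (Gen.h, true), (Gen.i, true)] relone_45)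
def rc_45_31 : Cert rels S Gen.e := Cert.rel true [(Gen.f, true), (Gen.d, true), (Gen.h, true), (Gen.i, true), (Gen.d, true), (Gen.c, true), (Gen.b, true), (Gen.d, true), (Gen.e, true), (Gen.f, true), (Gen.d, true), (Gen.h, true), (Gen.i, true), (Gen.d, true), (Gen.c, true), (Gen.b, true), (Gen.d, true), (Gen.e, true), (Gen.f, true), (Gen.d, true), (Gen.h, true), (Gen.i, true), (Gen.d, true), (Gen.c, true), (Gen.b, true), (Gen.d, true), (Gen.e, true), (Gen.f, true), (Gen.d, true), (Gen.h, true), (Gen.i, true), (Gen.d, true), (Gen.c, true), (Gen.b, true), (Gen.d, true), (Gen.e, true), (Gen.f, true), (Gen.d, true), (Gen.h, true), (Gen.i, true), (Gen.d, true), (Gen.c, true), (Gen.b, true), (Gen.d, true), (Gen.e, true), (Gen.f, true), (Gen.d, true), (Gen.h, true), (Gen.i, true), (Gen.d, true), (Gen.c, true), (Gen.b, true), (Gen.d, true), (Gen.e, true), (Gen.f, true), (Gen.d, true), (Gen.h, true), (Gen.i, true), (Gen.d, true), (Gen.c, true), (Gen.b, true), (Gen.d, true), (Gen.e, true),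 (Gen.f, true), (Gen.d, true), (Gen.h, true), (Gen.i, true), (Gen.d, true), (Gen.c, true), (Gen.b, true), (Gen.d, true), (Gen.e, true), (Gen.f, true), (Gen.d, true), (Gen.h, true), (Gen.i, true), (Gen.d, true), (Gen.c, true), (Gen.b, true), (Gen.d, true), (Gen.e, true), (Gen.f, true), (Gen.d, true), (Gen.h, true), (Gen.i, true), (Gen.d, true), (Gen.c, true), (Gen.b, true), (Gen.d, true)]
  (wG_rot rels [(Gen.d, true), (Gen.c, true), (Gen.b, true), (Gen.d, true), (Gen.e, true), (Gen.f, true), (Gen.d, true), (Gen.h, true), (Gen.i, true), (Gen.d, true), (Gen.c, true), (Gen.b, true), (Gen.d, true), (Gen.e, true), (Gen.f, true), (Gen.d, true), (Gen.h, true), (Gen.i, true), (Gen.d, true), (Gen.c, true), (Gen.b, true), (Gen.d, true), (Gen.e, true), (Gen.f, true), (Gen.d, true), (Gen.h, true), (Gen.i, true), (Gen.d, true), (Gen.c, true), (Gen.b, true), (Gen.d, true)] (Gen.e, true) [(Gen.f, true), (Gen.d, true), (Gen.h, true), (Gen.i, true), (Gen.d, true), (Gen.c, true), (Gen.b, true), (Gen.d,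 true), (Gen.e, true), (Gen.f, true), (Gen.d, true), (Gen.h, true), (Gen.i, true), (Gen.d, true), (Gen.c, true), (Gen.b, true), (Gen.d, true), (Gen.e, true), (Gen.f, true), (Gen.d, true), (Gen.h, true), (Gen.i, true), (Gen.d, true), (Gen.c, true), (Gen.b, true), (Gen.d, true), (Gen.e, true), (Gen.f, true), (Gen.d, true), (Gen.h, true), (Gen.i, true), (Gen.d, true), (Gen.c, true), (Gen.b, true), (Gen.d, true), (Gen.e, true), (Gen.f, true), (Gen.d, true), (Gen.h, true), (Gen.i, true), (Gen.d, true), (Gen.c, true), (Gen.b, true), (Gen.d, true), (Gen.e, true), (Gen.f, true), (Gen.d, true), (Gen.h, true), (Gen.i, true), (Gen.d, true), (Gen.c, true), (Gen.b, true), (Gen.d, true), (Gen.e, true), (Gen.f, true), (Gen.d, true), (Gen.h, true), (Gen.i, true)] relone_45)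
def rc_14_1 : Cert rels S Gen.f := Cert.rel true [(Gen.b, true), (Gen.f, true), (Gen.b, true)]
  (wG_rot rels [(Gen.b, true)] (Gen.f, true) [(Gen.b, true), (Gen.f, true)] relone_14)
def rc_6_1 : Cert rels S Gen.f := Cert.rel true [(Gen.a, true), (Gen.f, true), (Gen.a, true)]
  (wG_rot rels [(Gen.a, true)] (Gen.f, true) [(Gen.a, true), (Gen.f, true)] relone_6)
def rc_21_1 : Cert rels S Gen.f := Cert.rel true [(Gen.c, true), (Gen.f, true), (Gen.c, true)]
  (wG_rot rels [(Gen.c, true)] (Gen.f, true) [(Gen.c, true), (Gen.f, true)] relone_21)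
def rc_27_1 : Cert rels S Gen.f := Cert.rel true [(Gen.d, true), (Gen.f, true), (Gen.d, true)]
  (wG_rot rels [(Gen.d, true)] (Gen.f, true) [(Gen.d, true), (Gen.f, true)] relone_27)
def rc_37_2 : Cert rels S Gen.f := Cert.rel true [(Gen.h, true), (Gen.f, true), (Gen.h, true)]
  (wG_rot rels [(Gen.f, true), (Gen.h, true)] (Gen.f, true) [(Gen.h, true)] relone_37)
def rc_38_0 : Cert rels S Gen.f := Cert.rel true [(Gen.f, true)]
  (wG_rot rels [] (Gen.f, true) [(Gen.f, true)] relone_38)
def rc_38_1 : Cert rels S Gen.f := Cert.rel true [(Gen.f, true)]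
  (wG_rot rels [(Gen.f, true)] (Gen.f, true) [] relone_38)
def rc_40_2 : Cert rels S Gen.f := Cert.rel true [(Gen.i, true), (Gen.f, true), (Gen.i, true)]
  (wG_rot rels [(Gen.f, true), (Gen.i, true)] (Gen.f, true) [(Gen.i, true)] relone_40)
def rc_39_2 : Cert rels S Gen.f := Cert.rel true [(Gen.g, true), (Gen.f, true), (Gen.g, true), (Gen.f, true), (Gen.g, true)]
  (wG_rot rels [(Gen.f, true), (Gen.g, true)] (Gen.f, true) [(Gen.g, true), (Gen.f, true), (Gen.g, true)] relone_39)
def rc_32_3 : Cert rels S Gen.f := Cert.rel true [(Gen.e, true), (Gen.f, true), (Gen.e, true), (Gen.f, true), (Gen.e, true)]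
  (wG_rot rels [(Gen.e, true), (Gen.f, true), (Gen.e, true)] (Gen.f, true) [(Gen.e, true), (Gen.f, true)] relone_32)
def rc_46_40 : Cert rels S Gen.f := Cert.rel true [(Gen.h, true), (Gen.a, true), (Gen.b, true), (Gen.c, true), (Gen.d, true), (Gen.e, true), (Gen.f, true), (Gen.h, true), (Gen.a, true), (Gen.b, true), (Gen.c, true), (Gen.d, true), (Gen.e, true), (Gen.f, true), (Gen.h, true), (Gen.a, true), (Gen.b, true), (Gen.c, true), (Gen.d, true), (Gen.e, true), (Gen.f, true), (Gen.h, true), (Gen.a, true), (Gen.b, true), (Gen.c, true), (Gen.d, true), (Gen.e, true), (Gen.f, true), (Gen.h, true), (Gen.a, true), (Gen.b, true), (Gen.c, true), (Gen.d, true), (Gen.e, true), (Gen.f, true), (Gen.h, true), (Gen.a, true), (Gen.b, true), (Gen.c, true), (Gen.d, true), (Gen.e, true), (Gen.f, true), (Gen.h, true), (Gen.a, true), (Gen.b, true), (Gen.c, true), (Gen.d, true), (Gen.e, true), (Gen.f, true), (Gen.h, true), (Gen.a, true), (Gen.b, true), (Gen.c, true), (Gen.d, true), (Gen.e, true),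 (Gen.f, true), (Gen.h, true), (Gen.a, true), (Gen.b, true), (Gen.c, true), (Gen.d, true), (Gen.e, true)]
  (wG_rot rels [(Gen.a, true), (Gen.b, true), (Gen.c, true), (Gen.d, true), (Gen.e, true), (Gen.f, true), (Gen.h, true), (Gen.a, true), (Gen.b, true), (Gen.c, true), (Gen.d, true), (Gen.e, true), (Gen.f, true), (Gen.h, true), (Gen.a, true), (Gen.b, true), (Gen.c, true), (Gen.d, true), (Gen.e, true), (Gen.f, true), (Gen.h, true), (Gen.a, true), (Gen.b, true), (Gen.c, true), (Gen.d, true), (Gen.e, true), (Gen.f, true), (Gen.h, true), (Gen.a, true), (Gen.b, true), (Gen.c, true), (Gen.d, true), (Gen.e, true), (Gen.f, true), (Gen.h, true), (Gen.a, true), (Gen.b, true), (Gen.c, true), (Gen.d, true), (Gen.e, true)] (Gen.f, true) [(Gen.h, true), (Gen.a, true), (Gen.b, true), (Gen.c, true), (Gen.d, true), (Gen.e, true), (Gen.f, true), (Gen.h, true), (Gen.a, true), (Gen.b, true), (Gen.c, true), (Gen.d, true), (Gen.e, true), (Gen.f, true), (Gen.h, true), (Gen.a, true), (Gen.b, true), (Gen.c,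 true), (Gen.d, true), (Gen.e, true), (Gen.f, true), (Gen.h, true)] relone_46)
def rc_47_32 : Cert rels S Gen.f := Cert.rel true [(Gen.g, true), (Gen.h, true), (Gen.b, true), (Gen.c, true), (Gen.d, true), (Gen.e, true), (Gen.f, true), (Gen.g, true), (Gen.h, true), (Gen.b, true), (Gen.c, true), (Gen.d, true), (Gen.e, true), (Gen.f, true), (Gen.g, true), (Gen.h, true), (Gen.b, true), (Gen.c, true), (Gen.d, true), (Gen.e, true), (Gen.f, true), (Gen.g, true), (Gen.h, true), (Gen.b, true), (Gen.c, true), (Gen.d, true), (Gen.e, true), (Gen.f, true), (Gen.g, true), (Gen.h, true), (Gen.b, true), (Gen.c, true), (Gen.d, true), (Gen.e, true), (Gen.f, true), (Gen.g, true), (Gen.h, true), (Gen.b, true), (Gen.c, true), (Gen.d, true), (Gen.e, true), (Gen.f, true), (Gen.g, true), (Gen.h, true), (Gen.b, true), (Gen.c, true), (Gen.d, true), (Gen.e, true), (Gen.f, true), (Gen.g, true), (Gen.h, true), (Gen.b, true), (Gen.c, true), (Gen.d, true), (Gen.e, true), (Gen.f, true), (Gen.g, true), (Gen.h, true),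 (Gen.b, true), (Gen.c, true), (Gen.d, true), (Gen.e, true)]
  (wG_rot rels [(Gen.b, true), (Gen.c, true), (Gen.d, true), (Gen.e, true), (Gen.f, true), (Gen.g, true), (Gen.h, true), (Gen.b, true), (Gen.c, true), (Gen.d, true), (Gen.e, true), (Gen.f, true), (Gen.g, true), (Gen.h, true), (Gen.b, true), (Gen.c, true), (Gen.d, true), (Gen.e, true), (Gen.f, true), (Gen.g, true), (Gen.h, true), (Gen.b, true), (Gen.c, true), (Gen.d, true), (Gen.e, true), (Gen.f, true), (Gen.g, true), (Gen.h, true), (Gen.b, true), (Gen.c, true), (Gen.d, true), (Gen.e, true)] (Gen.f, true) [(Gen.g, true), (Gen.h, true), (Gen.b, true), (Gen.c, true), (Gen.d, true), (Gen.e, true), (Gen.f, true), (Gen.g, true), (Gen.h, true), (Gen.b, true), (Gen.c, true), (Gen.d, true), (Gen.e, true), (Gen.f, true), (Gen.g, true), (Gen.h, true), (Gen.b, true), (Gen.c, true), (Gen.d, true), (Gen.e, true), (Gen.f, true), (Gen.g, true), (Gen.h, true), (Gen.b, true), (Gen.c, true), (Gen.d, true), (Gen.e, true), (Gen.f, true), (Gen.g,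 true), (Gen.h, true)] relone_47)
def rc_46_12 : Cert rels S Gen.f := Cert.rel true [(Gen.h, true), (Gen.a, true), (Gen.b, true), (Gen.c, true), (Gen.d, true), (Gen.e, true), (Gen.f, true), (Gen.h, true), (Gen.a, true), (Gen.b, true), (Gen.c, true), (Gen.d, true), (Gen.e, true), (Gen.f, true), (Gen.h, true), (Gen.a, true), (Gen.b, true), (Gen.c, true), (Gen.d, true), (Gen.e, true), (Gen.f, true), (Gen.h, true), (Gen.a, true), (Gen.b, true), (Gen.c, true), (Gen.d, true), (Gen.e, true), (Gen.f, true), (Gen.h, true), (Gen.a, true), (Gen.b, true), (Gen.c, true), (Gen.d, true), (Gen.e, true), (Gen.f, true), (Gen.h, true), (Gen.a, true), (Gen.b, true), (Gen.c, true), (Gen.d, true), (Gen.e, true), (Gen.f, true), (Gen.h, true), (Gen.a, true), (Gen.b, true), (Gen.c, true), (Gen.d, true), (Gen.e, true), (Gen.f, true), (Gen.h, true), (Gen.a, true), (Gen.b, true), (Gen.c, true), (Gen.d, true), (Gen.e, true), (Gen.f, true), (Gen.h, true), (Gen.a, true), (Gen.b, true), (Gen.c, true), (Gen.d, true),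 (Gen.e, true)]
  (wG_rot rels [(Gen.a, true), (Gen.b, true), (Gen.c, true), (Gen.d, true), (Gen.e, true), (Gen.f, true), (Gen.h, true), (Gen.a, true), (Gen.b, true), (Gen.c, true), (Gen.d, true), (Gen.e, true)] (Gen.f, true) [(Gen.h, true), (Gen.a, true), (Gen.b, true), (Gen.c, true), (Gen.d, true), (Gen.e, true), (Gen.f, true), (Gen.h, true), (Gen.a, true), (Gen.b, true), (Gen.c, true), (Gen.d, true), (Gen.e, true), (Gen.f, true), (Gen.h, true), (Gen.a, true), (Gen.b, true), (Gen.c, true), (Gen.d, true), (Gen.e, true), (Gen.f, true), (Gen.h, true), (Gen.a, true), (Gen.b, true), (Gen.c, true), (Gen.d, true), (Gen.e, true), (Gen.f, true), (Gen.h, true), (Gen.a, true), (Gen.b, true), (Gen.c, true), (Gen.d, true), (Gen.e, true), (Gen.f, true), (Gen.h, true), (Gen.a, true), (Gen.b, true), (Gen.c, true), (Gen.d, true), (Gen.e, true), (Gen.f, true), (Gen.h, true), (Gen.a, true), (Gen.b, true), (Gen.c, true), (Gen.d, true), (Gen.e, true), (Gen.f, true), (Gen.h, true)] relone_46)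
def rc_14_3 : Cert rels S Gen.f := Cert.rel true [(Gen.b, true), (Gen.f, true), (Gen.b, true)]
  (wG_rot rels [(Gen.b, true), (Gen.f, true), (Gen.b, true)] (Gen.f, true) [] relone_14)
def rc_6_3 : Cert rels S Gen.f := Cert.rel true [(Gen.a, true), (Gen.f, true), (Gen.a, true)]
  (wG_rot rels [(Gen.a, true), (Gen.f, true), (Gen.a, true)] (Gen.f, true) [] relone_6)
def rc_32_5 : Cert rels S Gen.f := Cert.rel true [(Gen.e, true), (Gen.f, true), (Gen.e, true), (Gen.f, true), (Gen.e, true)]
  (wG_rot rels [(Gen.e, true), (Gen.f, true), (Gen.e, true), (Gen.f, true), (Gen.e, true)] (Gen.f, true) [] relone_32)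
def rc_21_3 : Cert rels S Gen.f := Cert.rel true [(Gen.c, true), (Gen.f, true), (Gen.c, true)]
  (wG_rot rels [(Gen.c, true), (Gen.f, true), (Gen.c, true)] (Gen.f, true) [] relone_21)
def rc_27_3 : Cert rels S Gen.f := Cert.rel true [(Gen.d, true), (Gen.f, true), (Gen.d, true)]
  (wG_rot rels [(Gen.d, true), (Gen.f, true), (Gen.d, true)] (Gen.f, true) [] relone_27)
def rc_46_33 : Cert rels S Gen.f := Cert.rel true [(Gen.h, true), (Gen.a, true), (Gen.b, true), (Gen.c, true), (Gen.d, true), (Gen.e, true), (Gen.f, true), (Gen.h, true), (Gen.a, true), (Gen.b, true), (Gen.c, true), (Gen.d, true), (Gen.e, true), (Gen.f, true), (Gen.h, true), (Gen.a, true), (Gen.b, true), (Gen.c, true), (Gen.d, true), (Gen.e, true), (Gen.f, true), (Gen.h, true), (Gen.a, true), (Gen.b, true), (Gen.c, true), (Gen.d, true), (Gen.e, true), (Gen.f, true), (Gen.h, true), (Gen.a, true), (Gen.b, true), (Gen.c, true), (Gen.d, true), (Gen.e, true), (Gen.f, true), (Gen.h, true), (Gen.a, true), (Gen.b, true), (Gen.c,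 true), (Gen.d, true), (Gen.e, true), (Gen.f, true), (Gen.h, true), (Gen.a, true), (Gen.b, true), (Gen.c, true), (Gen.d, true), (Gen.e, true), (Gen.f, true), (Gen.h, true), (Gen.a, true), (Gen.b, true), (Gen.c, true), (Gen.d, true), (Gen.e, true), (Gen.f, true), (Gen.h, true), (Gen.a, true), (Gen.b, true), (Gen.c, true), (Gen.d, true), (Gen.e, true)]
  (wG_rot rels [(Gen.a, true), (Gen.b, true), (Gen.c, true), (Gen.d, true), (Gen.e, true), (Gen.f, true), (Gen.h, true), (Gen.a, true), (Gen.b, true), (Gen.c, true), (Gen.d, true), (Gen.e, true), (Gen.f, true), (Gen.h, true), (Gen.a, true), (Gen.b, true), (Gen.c, true), (Gen.d, true), (Gen.e, true), (Gen.f, true), (Gen.h, true), (Gen.a, true), (Gen.b, true), (Gen.c, true), (Gen.d, true), (Gen.e, true), (Gen.f, true), (Gen.h, true), (Gen.a, true), (Gen.b, true), (Gen.c, true), (Gen.d, true), (Gen.e, true)] (Gen.f, true) [(Gen.h, true), (Gen.a, true), (Gen.b, true), (Gen.c, true), (Gen.d, true), (Gen.e, true), (Gen.f, true), (Gen.h, true),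 (Gen.a, true), (Gen.b, true), (Gen.c, true), (Gen.d, true), (Gen.e, true), (Gen.f, true), (Gen.h, true), (Gen.a, true), (Gen.b, true), (Gen.c, true), (Gen.d, true), (Gen.e, true), (Gen.f, true), (Gen.h, true), (Gen.a, true), (Gen.b, true), (Gen.c, true), (Gen.d, true), (Gen.e, true), (Gen.f, true), (Gen.h, true)] relone_46)
def rc_40_0 : Cert rels S Gen.f := Cert.rel true [(Gen.i, true), (Gen.f, true), (Gen.i, true)]
  (wG_rot rels [] (Gen.f, true) [(Gen.i, true), (Gen.f, true), (Gen.i, true)] relone_40)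
def rc_32_1 : Cert rels S Gen.f := Cert.rel true [(Gen.e, true), (Gen.f, true), (Gen.e, true), (Gen.f, true), (Gen.e, true)]
  (wG_rot rels [(Gen.e, true)] (Gen.f, true) [(Gen.e, true), (Gen.f, true), (Gen.e, true), (Gen.f, true)] relone_32)
def rc_37_0 : Cert rels S Gen.f := Cert.rel true [(Gen.h, true), (Gen.f, true), (Gen.h, true)]
  (wG_rot rels [] (Gen.f, true) [(Gen.h, true), (Gen.f, true), (Gen.h, true)] relone_37)
def rc_39_4 : Cert rels S Gen.f := Cert.rel true [(Gen.g, true), (Gen.f, true), (Gen.g, true), (Gen.f, true), (Gen.g, true)]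
  (wG_rot rels [(Gen.f, true), (Gen.g, true), (Gen.f, true), (Gen.g, true)] (Gen.f, true) [(Gen.g, true)] relone_39)
def rc_46_26 : Cert rels S Gen.f := Cert.rel true [(Gen.h, true), (Gen.a, true), (Gen.b, true), (Gen.c, true), (Gen.d, true), (Gen.e, true), (Gen.f, true), (Gen.h, true), (Gen.a, true), (Gen.b, true), (Gen.c, true), (Gen.d, true), (Gen.e, true), (Gen.f, true), (Gen.h, true), (Gen.a, true), (Gen.b, true), (Gen.c, true), (Gen.d, true), (Gen.e, true), (Gen.f, true), (Gen.h, true), (Gen.a, true), (Gen.b, true), (Gen.c, true), (Gen.d, true), (Gen.e, true), (Gen.f, true), (Gen.h, true), (Gen.a, true), (Gen.b, true), (Gen.c, true), (Gen.d, true), (Gen.e, true), (Gen.f, true), (Gen.h, true), (Gen.a, true), (Gen.b, true), (Gen.c, true), (Gen.d, true), (Gen.e, true), (Gen.f, true), (Gen.h, true), (Gen.a, true), (Gen.b, true), (Gen.c, true), (Gen.d, true), (Gen.e, true), (Gen.f, true), (Gen.h, true), (Gen.a, true), (Gen.b, true), (Gen.c, true), (Gen.d, true), (Gen.e, true),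 (Gen.f, true), (Gen.h, true), (Gen.a, true), (Gen.b, true), (Gen.c, true), (Gen.d, true), (Gen.e, true)]
  (wG_rot rels [(Gen.a, true), (Gen.b, true), (Gen.c, true), (Gen.d, true), (Gen.e, true), (Gen.f, true), (Gen.h, true), (Gen.a, true), (Gen.b, true), (Gen.c, true), (Gen.d, true), (Gen.e, true), (Gen.f, true), (Gen.h, true), (Gen.a, true), (Gen.b, true), (Gen.c, true), (Gen.d, true), (Gen.e, true), (Gen.f, true), (Gen.h, true), (Gen.a, true), (Gen.b, true), (Gen.c, true), (Gen.d, true), (Gen.e, true)] (Gen.f, true) [(Gen.h, true), (Gen.a, true), (Gen.b, true), (Gen.c, true), (Gen.d, true), (Gen.e, true), (Gen.f, true), (Gen.h, true), (Gen.a, true), (Gen.b, true), (Gen.c, true), (Gen.d, true), (Gen.e, true), (Gen.f, true), (Gen.h, true), (Gen.a, true), (Gen.b, true), (Gen.c, true), (Gen.d, true), (Gen.e, true), (Gen.f, true), (Gen.h, true), (Gen.a, true), (Gen.b, true), (Gen.c, true), (Gen.d, true), (Gen.e, true), (Gen.f, true), (Gen.h, true), (Gen.a, true), (Gen.b, true), (Gen.c,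 true), (Gen.d, true), (Gen.e, true), (Gen.f, true), (Gen.h, true)] relone_46)
def rc_47_46 : Cert rels S Gen.f := Cert.rel true [(Gen.g, true), (Gen.h, true), (Gen.b, true), (Gen.c, true), (Gen.d, true), (Gen.e, true), (Gen.f, true), (Gen.g, true), (Gen.h, true), (Gen.b, true), (Gen.c, true), (Gen.d, true), (Gen.e, true), (Gen.f, true), (Gen.g, true), (Gen.h, true), (Gen.b, true), (Gen.c, true), (Gen.d, true), (Gen.e, true), (Gen.f, true), (Gen.g, true), (Gen.h, true), (Gen.b, true), (Gen.c, true), (Gen.d, true), (Gen.e, true), (Gen.f, true), (Gen.g, true), (Gen.h, true), (Gen.b, true), (Gen.c, true), (Gen.d, true), (Gen.e, true), (Gen.f, true), (Gen.g, true), (Gen.h, true), (Gen.b, true), (Gen.c, true), (Gen.d, true), (Gen.e, true), (Gen.f, true), (Gen.g, true), (Gen.h, true), (Gen.b, true), (Gen.c, true), (Gen.d, true), (Gen.e, true), (Gen.f, true), (Gen.g, true), (Gen.h, true), (Gen.b, true), (Gen.c, true), (Gen.d, true), (Gen.e, true), (Gen.f, true), (Gen.g, true), (Gen.h, true),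 (Gen.b, true), (Gen.c, true), (Gen.d, true), (Gen.e, true)]
  (wG_rot rels [(Gen.b, true), (Gen.c, true), (Gen.d, true), (Gen.e, true), (Gen.f, true), (Gen.g, true), (Gen.h, true), (Gen.b, true), (Gen.c, true), (Gen.d, true), (Gen.e, true), (Gen.f, true), (Gen.g, true), (Gen.h, true), (Gen.b, true), (Gen.c, true), (Gen.d, true), (Gen.e, true), (Gen.f, true), (Gen.g, true), (Gen.h, true), (Gen.b, true), (Gen.c, true), (Gen.d, true), (Gen.e, true), (Gen.f, true), (Gen.g, true), (Gen.h, true), (Gen.b, true), (Gen.c, true), (Gen.d, true), (Gen.e, true), (Gen.f, true), (Gen.g, true), (Gen.h, true), (Gen.b, true), (Gen.c, true), (Gen.d, true), (Gen.e, true), (Gen.f, true), (Gen.g, true), (Gen.h, true), (Gen.b, true), (Gen.c, true), (Gen.d, true), (Gen.e, true)] (Gen.f, true) [(Gen.g, true), (Gen.h, true), (Gen.b, true), (Gen.c, true), (Gen.d, true), (Gen.e, true), (Gen.f, true), (Gen.g, true), (Gen.h, true), (Gen.b, true), (Gen.c, true), (Gen.d, true), (Gen.e, true), (Gen.f, true), (Gen.g,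 true), (Gen.h, true)] relone_47)
def rc_46_54 : Cert rels S Gen.f := Cert.rel true [(Gen.h, true), (Gen.a, true), (Gen.b, true), (Gen.c, true), (Gen.d, true), (Gen.e, true), (Gen.f, true), (Gen.h, true), (Gen.a, true), (Gen.b, true), (Gen.c, true), (Gen.d, true), (Gen.e, true), (Gen.f, true), (Gen.h, true), (Gen.a, true), (Gen.b, true), (Gen.c, true), (Gen.d, true), (Gen.e, true), (Gen.f, true), (Gen.h, true), (Gen.a, true), (Gen.b, true), (Gen.c, true), (Gen.d, true), (Gen.e, true), (Gen.f, true), (Gen.h, true), (Gen.a, true), (Gen.b, true), (Gen.c, true), (Gen.d, true), (Gen.e, true), (Gen.f, true), (Gen.h, true), (Gen.a, true), (Gen.b, true), (Gen.c, true), (Gen.d, true), (Gen.e, true), (Gen.f, true), (Gen.h, true), (Gen.a, true), (Gen.b, true), (Gen.c, true), (Gen.d, true), (Gen.e, true), (Gen.f, true), (Gen.h, true), (Gen.a, true), (Gen.b, true), (Gen.c, true), (Gen.d, true), (Gen.e, true), (Gen.f, true), (Gen.h, true), (Gen.a, true), (Gen.b, true), (Gen.c, true), (Gen.d, true),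 (Gen.e, true)]
  (wG_rot rels [(Gen.a, true), (Gen.b, true), (Gen.c, true), (Gen.d, true), (Gen.e, true), (Gen.f, true), (Gen.h, true), (Gen.a, true), (Gen.b, true), (Gen.c, true), (Gen.d, true), (Gen.e, true), (Gen.f, true), (Gen.h, true), (Gen.a, true), (Gen.b, true), (Gen.c, true), (Gen.d, true), (Gen.e, true), (Gen.f, true), (Gen.h, true), (Gen.a, true), (Gen.b, true), (Gen.c, true), (Gen.d, true), (Gen.e, true), (Gen.f, true), (Gen.h, true), (Gen.a, true), (Gen.b, true), (Gen.c, true), (Gen.d, true), (Gen.e, true), (Gen.f, true), (Gen.h, true), (Gen.a, true), (Gen.b, true), (Gen.c, true), (Gen.d, true), (Gen.e, true), (Gen.f, true), (Gen.h, true), (Gen.a, true), (Gen.b, true), (Gen.c, true), (Gen.d, true), (Gen.e, true), (Gen.f, true), (Gen.h, true), (Gen.a, true), (Gen.b, true), (Gen.c, true), (Gen.d, true), (Gen.e, true)] (Gen.f, true) [(Gen.h, true), (Gen.a, true), (Gen.b, true), (Gen.c, true), (Gen.d, true), (Gen.e, true), (Gen.f, true), (Gen.h, true)] relone_46)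
def rc_15_1 : Cert rels S Gen.g := Cert.rel true [(Gen.b, true), (Gen.g, true), (Gen.b, true)]
  (wG_rot rels [(Gen.b, true)] (Gen.g, true) [(Gen.b, true), (Gen.g, true)] relone_15)
def rc_7_1 : Cert rels S Gen.g := Cert.rel true [(Gen.a, true), (Gen.g, true), (Gen.a, true)]
  (wG_rot rels [(Gen.a, true)] (Gen.g, true) [(Gen.a, true), (Gen.g, true)] relone_7)
def rc_22_1 : Cert rels S Gen.g := Cert.rel true [(Gen.c, true), (Gen.g, true), (Gen.c, true)]
  (wG_rot rels [(Gen.c, true)] (Gen.g, true) [(Gen.c, true), (Gen.g, true)] relone_22)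
def rc_28_1 : Cert rels S Gen.g := Cert.rel true [(Gen.d, true), (Gen.g, true), (Gen.d, true)]
  (wG_rot rels [(Gen.d, true)] (Gen.g, true) [(Gen.d, true), (Gen.g, true)] relone_28)
def rc_33_1 : Cert rels S Gen.g := Cert.rel true [(Gen.e, true), (Gen.g, true), (Gen.e, true)]
  (wG_rot rels [(Gen.e, true)] (Gen.g, true) [(Gen.e, true), (Gen.g, true)] relone_33)
def rc_41_2 : Cert rels S Gen.g := Cert.rel true [(Gen.h, true), (Gen.g, true), (Gen.h, true)]
  (wG_rot rels [(Gen.g, true), (Gen.h, true)] (Gen.g, true) [(Gen.h, true)] relone_41)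
def rc_43_2 : Cert rels S Gen.g := Cert.rel true [(Gen.i, true), (Gen.g, true), (Gen.i, true)]
  (wG_rot rels [(Gen.g, true), (Gen.i, true)] (Gen.g, true) [(Gen.i, true)] relone_43)
def rc_42_0 : Cert rels S Gen.g := Cert.rel true [(Gen.g, true)]
  (wG_rot rels [] (Gen.g, true) [(Gen.g, true)] relone_42)
def rc_42_1 : Cert rels S Gen.g := Cert.rel true [(Gen.g, true)]
  (wG_rot rels [(Gen.g, true)] (Gen.g, true) [] relone_42)
def rc_39_3 : Cert rels S Gen.g := Cert.rel true [(Gen.f, true), (Gen.g, true), (Gen.f, true), (Gen.g, true), (Gen.f, true)]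
  (wG_rot rels [(Gen.f, true), (Gen.g, true), (Gen.f, true)] (Gen.g, true) [(Gen.f, true), (Gen.g, true)] relone_39)
def rc_47_26 : Cert rels S Gen.g := Cert.rel true [(Gen.h, true), (Gen.b, true), (Gen.c, true), (Gen.d, true), (Gen.e, true), (Gen.f, true), (Gen.g, true), (Gen.h, true), (Gen.b, true), (Gen.c, true), (Gen.d, true), (Gen.e, true), (Gen.f, true), (Gen.g, true), (Gen.h, true), (Gen.b, true), (Gen.c, true), (Gen.d, true), (Gen.e, true), (Gen.f, true), (Gen.g, true), (Gen.h, true), (Gen.b, true), (Gen.c, true), (Gen.d, true), (Gen.e, true), (Gen.f, true), (Gen.g, true), (Gen.h, true), (Gen.b, true), (Gen.c, true), (Gen.d, true), (Gen.e, true), (Gen.f, true), (Gen.g, true), (Gen.h, true), (Gen.b, true), (Gen.c, true), (Gen.d, true), (Gen.e, true), (Gen.f, true), (Gen.g, true), (Gen.h, true), (Gen.b, true), (Gen.c, true), (Gen.d, true), (Gen.e, true), (Gen.f, true), (Gen.g, true), (Gen.h, true), (Gen.b, true), (Gen.c, true), (Gen.d, true), (Gen.e, true), (Gen.f, true),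 (Gen.g, true), (Gen.h, true), (Gen.b, true), (Gen.c, true), (Gen.d, true), (Gen.e, true), (Gen.f, true)]
  (wG_rot rels [(Gen.b, true), (Gen.c, true), (Gen.d, true), (Gen.e, true), (Gen.f, true), (Gen.g, true), (Gen.h, true), (Gen.b, true), (Gen.c, true), (Gen.d, true), (Gen.e, true), (Gen.f, true), (Gen.g, true), (Gen.h, true), (Gen.b, true), (Gen.c, true), (Gen.d, true), (Gen.e, true), (Gen.f, true), (Gen.g, true), (Gen.h, true), (Gen.b, true), (Gen.c, true), (Gen.d, true), (Gen.e, true), (Gen.f, true)] (Gen.g, true) [(Gen.h, true), (Gen.b, true), (Gen.c, true), (Gen.d, true), (Gen.e, true), (Gen.f, true), (Gen.g, true), (Gen.h, true), (Gen.b, true), (Gen.c, true), (Gen.d, true), (Gen.e, true), (Gen.f, true), (Gen.g, true), (Gen.h, true), (Gen.b, true), (Gen.c, true), (Gen.d, true), (Gen.e, true), (Gen.f, true), (Gen.g, true), (Gen.h, true), (Gen.b, true), (Gen.c, true), (Gen.d, true), (Gen.e, true), (Gen.f, true), (Gen.g, true), (Gen.h, true), (Gen.b, true), (Gen.c, true), (Gen.d,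 true), (Gen.e, true), (Gen.f, true), (Gen.g, true), (Gen.h, true)] relone_47)
def rc_39_5 : Cert rels S Gen.g := Cert.rel true [(Gen.f, true), (Gen.g, true), (Gen.f, true), (Gen.g, true), (Gen.f, true)]
  (wG_rot rels [(Gen.f, true), (Gen.g, true), (Gen.f, true), (Gen.g, true), (Gen.f, true)] (Gen.g, true) [] relone_39)
def rc_39_1 : Cert rels S Gen.g := Cert.rel true [(Gen.f, true), (Gen.g, true), (Gen.f, true), (Gen.g, true), (Gen.f, true)]
  (wG_rot rels [(Gen.f, true)] (Gen.g, true) [(Gen.f, true), (Gen.g, true), (Gen.f, true), (Gen.g, true)] relone_39)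
def rc_28_3 : Cert rels S Gen.g := Cert.rel true [(Gen.d, true), (Gen.g, true), (Gen.d, true)]
  (wG_rot rels [(Gen.d, true), (Gen.g, true), (Gen.d, true)] (Gen.g, true) [] relone_28)
def rc_22_3 : Cert rels S Gen.g := Cert.rel true [(Gen.c, true), (Gen.g, true), (Gen.c, true)]
  (wG_rot rels [(Gen.c, true), (Gen.g, true), (Gen.c, true)] (Gen.g, true) [] relone_22)
def rc_43_0 : Cert rels S Gen.g := Cert.rel true [(Gen.i, true), (Gen.g, true), (Gen.i, true)]
  (wG_rot rels [] (Gen.g, true) [(Gen.i, true), (Gen.g, true), (Gen.i, true)] relone_43)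
def rc_41_0 : Cert rels S Gen.g := Cert.rel true [(Gen.h, true), (Gen.g, true), (Gen.h, true)]
  (wG_rot rels [] (Gen.g, true) [(Gen.h, true), (Gen.g, true), (Gen.h, true)] relone_41)
def rc_47_12 : Cert rels S Gen.g := Cert.rel true [(Gen.h, true), (Gen.b, true), (Gen.c, true), (Gen.d, true), (Gen.e, true), (Gen.f, true), (Gen.g, true), (Gen.h, true), (Gen.b, true), (Gen.c, true), (Gen.d, true), (Gen.e, true), (Gen.f, true), (Gen.g, true), (Gen.h, true), (Gen.b, true), (Gen.c, true), (Gen.d, true), (Gen.e, true), (Gen.f, true), (Gen.g, true), (Gen.h, true), (Gen.b, true), (Gen.c, true), (Gen.d, true), (Gen.e, true), (Gen.f, true), (Gen.g, true), (Gen.h, true), (Gen.b, true), (Gen.c, true), (Gen.d, true), (Gen.e, true), (Gen.f, true), (Gen.g, true), (Gen.h, true), (Gen.b, true), (Gen.c, true), (Gen.d, true), (Gen.e, true), (Gen.f, true), (Gen.g, true), (Gen.h, true), (Gen.b, true), (Gen.c, true), (Gen.d, true), (Gen.e, true), (Gen.f, true), (Gen.g, true), (Gen.h, true), (Gen.b,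 true), (Gen.c, true), (Gen.d, true), (Gen.e, true), (Gen.f, true), (Gen.g, true), (Gen.h, true), (Gen.b, true), (Gen.c, true), (Gen.d, true), (Gen.e, true), (Gen.f, true)]
  (wG_rot rels [(Gen.b, true), (Gen.c, true), (Gen.d, true), (Gen.e, true), (Gen.f, true), (Gen.g, true), (Gen.h, true), (Gen.b, true), (Gen.c, true), (Gen.d, true), (Gen.e, true), (Gen.f, true)] (Gen.g, true) [(Gen.h, true), (Gen.b, true), (Gen.c, true), (Gen.d, true), (Gen.e, true), (Gen.f, true), (Gen.g, true), (Gen.h, true), (Gen.b, true), (Gen.c, true), (Gen.d, true), (Gen.e, true), (Gen.f, true), (Gen.g, true), (Gen.h, true), (Gen.b, true), (Gen.c, true), (Gen.d, true), (Gen.e, true), (Gen.f, true), (Gen.g, true), (Gen.h, true), (Gen.b, true), (Gen.c, true), (Gen.d, true), (Gen.e, true), (Gen.f, true), (Gen.g, true), (Gen.h, true), (Gen.b, true), (Gen.c, true), (Gen.d, true), (Gen.e, true), (Gen.f, true), (Gen.g, true), (Gen.h, true), (Gen.b, true), (Gen.c, true), (Gen.d, true), (Gen.e, true), (Gen.f, true),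 (Gen.g, true), (Gen.h, true), (Gen.b, true), (Gen.c, true), (Gen.d, true), (Gen.e, true), (Gen.f, true), (Gen.g, true), (Gen.h, true)] relone_47)
def rc_15_3 : Cert rels S Gen.g := Cert.rel true [(Gen.b, true), (Gen.g, true), (Gen.b, true)]
  (wG_rot rels [(Gen.b, true), (Gen.g, true), (Gen.b, true)] (Gen.g, true) [] relone_15)
def rc_33_3 : Cert rels S Gen.g := Cert.rel true [(Gen.e, true), (Gen.g, true), (Gen.e, true)]
  (wG_rot rels [(Gen.e, true), (Gen.g, true), (Gen.e, true)] (Gen.g, true) [] relone_33)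
def rc_7_3 : Cert rels S Gen.g := Cert.rel true [(Gen.a, true), (Gen.g, true), (Gen.a, true)]
  (wG_rot rels [(Gen.a, true), (Gen.g, true), (Gen.a, true)] (Gen.g, true) [] relone_7)
def rc_47_47 : Cert rels S Gen.g := Cert.rel true [(Gen.h, true), (Gen.b, true), (Gen.c, true), (Gen.d, true), (Gen.e, true), (Gen.f, true), (Gen.g, true), (Gen.h, true), (Gen.b, true), (Gen.c, true), (Gen.d, true), (Gen.e, true), (Gen.f, true), (Gen.g, true), (Gen.h, true), (Gen.b, true), (Gen.c, true), (Gen.d, true), (Gen.e, true), (Gen.f, true), (Gen.g, true), (Gen.h, true), (Gen.b, true), (Gen.c, true), (Gen.d, true), (Gen.e, true), (Gen.f, true), (Gen.g, true), (Gen.h, true), (Gen.b, true), (Gen.c, true), (Gen.d, true), (Gen.e, true), (Gen.f, true), (Gen.g, true), (Gen.h, true), (Gen.b, true), (Gen.c, true), (Gen.d, true), (Gen.e, true), (Gen.f, true), (Gen.g, true), (Gen.h, true), (Gen.b, true), (Gen.c, true), (Gen.d, true), (Gen.e, true), (Gen.f, true), (Gen.g, true), (Gen.h, true), (Gen.b, true),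 (Gen.c, true), (Gen.d, true), (Gen.e, true), (Gen.f, true), (Gen.g, true), (Gen.h, true), (Gen.b, true), (Gen.c, true), (Gen.d, true), (Gen.e, true), (Gen.f, true)]
  (wG_rot rels [(Gen.b, true), (Gen.c, true), (Gen.d, true), (Gen.e, true), (Gen.f, true), (Gen.g, true), (Gen.h, true), (Gen.b, true), (Gen.c, true), (Gen.d, true), (Gen.e, true), (Gen.f, true), (Gen.g, true), (Gen.h, true), (Gen.b, true), (Gen.c, true), (Gen.d, true), (Gen.e, true), (Gen.f, true), (Gen.g, true), (Gen.h, true), (Gen.b, true), (Gen.c, true), (Gen.d, true), (Gen.e, true), (Gen.f, true), (Gen.g, true), (Gen.h, true), (Gen.b, true), (Gen.c, true), (Gen.d, true), (Gen.e, true), (Gen.f, true), (Gen.g, true), (Gen.h, true), (Gen.b, true), (Gen.c, true), (Gen.d, true), (Gen.e, true), (Gen.f, true), (Gen.g, true), (Gen.h, true), (Gen.b, true), (Gen.c, true), (Gen.d, true), (Gen.e, true), (Gen.f, true)] (Gen.g, true) [(Gen.h, true), (Gen.b, true), (Gen.c, true), (Gen.d, true), (Gen.e, true), (Gen.f, true), (Gen.g,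 true), (Gen.h, true), (Gen.b, true), (Gen.c, true), (Gen.d, true), (Gen.e, true), (Gen.f, true), (Gen.g, true), (Gen.h, true)] relone_47)
def rc_47_33 : Cert rels S Gen.g := Cert.rel true [(Gen.h, true), (Gen.b, true), (Gen.c, true), (Gen.d, true), (Gen.e, true), (Gen.f, true), (Gen.g, true), (Gen.h, true), (Gen.b, true), (Gen.c, true), (Gen.d, true), (Gen.e, true), (Gen.f, true), (Gen.g, true), (Gen.h, true), (Gen.b, true), (Gen.c, true), (Gen.d, true), (Gen.e, true), (Gen.f, true), (Gen.g, true), (Gen.h, true), (Gen.b, true), (Gen.c, true), (Gen.d, true), (Gen.e, true), (Gen.f, true), (Gen.g, true), (Gen.h, true), (Gen.b, true), (Gen.c, true), (Gen.d, true), (Gen.e, true), (Gen.f, true), (Gen.g, true), (Gen.h, true), (Gen.b, true), (Gen.c, true), (Gen.d, true), (Gen.e, true), (Gen.f, true), (Gen.g, true), (Gen.h, true), (Gen.b, true), (Gen.c, true), (Gen.d, true), (Gen.e, true), (Gen.f, true), (Gen.g, true), (Gen.h, true), (Gen.b, true), (Gen.c, true), (Gen.d, true), (Gen.e, true),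 (Gen.f, true), (Gen.g, true), (Gen.h, true), (Gen.b, true), (Gen.c, true), (Gen.d, true), (Gen.e, true), (Gen.f, true)]
  (wG_rot rels [(Gen.b, true), (Gen.c, true), (Gen.d, true), (Gen.e, true), (Gen.f, true), (Gen.g, true), (Gen.h, true), (Gen.b, true), (Gen.c, true), (Gen.d, true), (Gen.e, true), (Gen.f, true), (Gen.g, true), (Gen.h, true), (Gen.b, true), (Gen.c, true), (Gen.d, true), (Gen.e, true), (Gen.f, true), (Gen.g, true), (Gen.h, true), (Gen.b, true), (Gen.c, true), (Gen.d, true), (Gen.e, true), (Gen.f, true), (Gen.g, true), (Gen.h, true), (Gen.b, true), (Gen.c, true), (Gen.d, true), (Gen.e, true), (Gen.f, true)] (Gen.g, true) [(Gen.h, true), (Gen.b, true), (Gen.c, true), (Gen.d, true), (Gen.e, true), (Gen.f, true), (Gen.g, true), (Gen.h, true), (Gen.b, true), (Gen.c, true), (Gen.d, true), (Gen.e, true), (Gen.f, true), (Gen.g, true), (Gen.h, true), (Gen.b, true), (Gen.c, true), (Gen.d, true), (Gen.e, true), (Gen.f, true), (Gen.g, true), (Gen.h, true), (Gen.b, true), (Gen.c,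 true), (Gen.d, true), (Gen.e, true), (Gen.f, true), (Gen.g, true), (Gen.h, true)] relone_47)
def rc_47_40 : Cert rels S Gen.g := Cert.rel true [(Gen.h, true), (Gen.b, true), (Gen.c, true), (Gen.d, true), (Gen.e, true), (Gen.f, true), (Gen.g, true), (Gen.h, true), (Gen.b, true), (Gen.c, true), (Gen.d, true), (Gen.e, true), (Gen.f, true), (Gen.g, true), (Gen.h, true), (Gen.b, true), (Gen.c, true), (Gen.d, true), (Gen.e, true), (Gen.f, true), (Gen.g, true), (Gen.h, true), (Gen.b, true), (Gen.c, true), (Gen.d, true), (Gen.e, true), (Gen.f, true), (Gen.g, true), (Gen.h, true), (Gen.b, true), (Gen.c, true), (Gen.d, true), (Gen.e, true), (Gen.f, true), (Gen.g, true), (Gen.h, true), (Gen.b, true), (Gen.c, true), (Gen.d, true), (Gen.e, true), (Gen.f, true), (Gen.g, true), (Gen.h, true), (Gen.b, true), (Gen.c, true), (Gen.d, true), (Gen.e, true), (Gen.f, true), (Gen.g, true), (Gen.h, true), (Gen.b, true), (Gen.c, true), (Gen.d, true), (Gen.e, true), (Gen.f, true), (Gen.g, true), (Gen.h, true),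 (Gen.b, true), (Gen.c, true), (Gen.d, true), (Gen.e, true), (Gen.f, true)]
  (wG_rot rels [(Gen.b, true), (Gen.c, true), (Gen.d, true), (Gen.e, true), (Gen.f, true), (Gen.g, true), (Gen.h, true), (Gen.b, true), (Gen.c, true), (Gen.d, true), (Gen.e, true), (Gen.f, true), (Gen.g, true), (Gen.h, true), (Gen.b, true), (Gen.c, true), (Gen.d, true), (Gen.e, true), (Gen.f, true), (Gen.g, true), (Gen.h, true), (Gen.b, true), (Gen.c, true), (Gen.d, true), (Gen.e, true), (Gen.f, true), (Gen.g, true), (Gen.h, true), (Gen.b, true), (Gen.c, true), (Gen.d, true), (Gen.e, true), (Gen.f, true), (Gen.g, true), (Gen.h, true), (Gen.b, true), (Gen.c, true), (Gen.d, true), (Gen.e, true), (Gen.f, true)] (Gen.g, true) [(Gen.h, true), (Gen.b, true), (Gen.c, true), (Gen.d, true), (Gen.e, true), (Gen.f, true), (Gen.g, true), (Gen.h, true), (Gen.b, true), (Gen.c, true), (Gen.d, true), (Gen.e, true), (Gen.f, true), (Gen.g, true), (Gen.h, true), (Gen.b, true), (Gen.c, true), (Gen.d, true), (Gen.e, true), (Gen.f,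 true), (Gen.g, true), (Gen.h, true)] relone_47)
def rc_13_1 : Cert rels S Gen.h := Cert.rel true [(Gen.b, true), (Gen.h, true), (Gen.b, true)]
  (wG_rot rels [(Gen.b, true)] (Gen.h, true) [(Gen.b, true), (Gen.h, true)] relone_13)
def rc_5_1 : Cert rels S Gen.h := Cert.rel true [(Gen.a, true), (Gen.h, true), (Gen.a, true)]
  (wG_rot rels [(Gen.a, true)] (Gen.h, true) [(Gen.a, true), (Gen.h, true)] relone_5)
def rc_20_1 : Cert rels S Gen.h := Cert.rel true [(Gen.c, true), (Gen.h, true), (Gen.c, true)]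
  (wG_rot rels [(Gen.c, true)] (Gen.h, true) [(Gen.c, true), (Gen.h, true)] relone_20)
def rc_35_0 : Cert rels S Gen.h := Cert.rel true [(Gen.h, true)]
  (wG_rot rels [] (Gen.h, true) [(Gen.h, true)] relone_35)
def rc_36_2 : Cert rels S Gen.h := Cert.rel true [(Gen.i, true), (Gen.h, true), (Gen.i, true), (Gen.h, true), (Gen.i, true)]
  (wG_rot rels [(Gen.h, true), (Gen.i, true)] (Gen.h, true) [(Gen.i, true), (Gen.h, true), (Gen.i, true)] relone_36)
def rc_26_3 : Cert rels S Gen.h := Cert.rel true [(Gen.d, true), (Gen.h, true), (Gen.d, true), (Gen.h, true), (Gen.d, true)]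
  (wG_rot rels [(Gen.d, true), (Gen.h, true), (Gen.d, true)] (Gen.h, true) [(Gen.d, true), (Gen.h, true)] relone_26)
def rc_37_1 : Cert rels S Gen.h := Cert.rel true [(Gen.f, true), (Gen.h, true), (Gen.f, true)]
  (wG_rot rels [(Gen.f, true)] (Gen.h, true) [(Gen.f, true), (Gen.h, true)] relone_37)
def rc_26_1 : Cert rels S Gen.h := Cert.rel true [(Gen.d, true), (Gen.h, true), (Gen.d, true), (Gen.h, true), (Gen.d, true)]
  (wG_rot rels [(Gen.d, true)] (Gen.h, true) [(Gen.d, true), (Gen.h, true), (Gen.d, true), (Gen.h, true)] relone_26)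
def rc_41_1 : Cert rels S Gen.h := Cert.rel true [(Gen.g, true), (Gen.h, true), (Gen.g, true)]
  (wG_rot rels [(Gen.g, true)] (Gen.h, true) [(Gen.g, true), (Gen.h, true)] relone_41)
def rc_31_1 : Cert rels S Gen.h := Cert.rel true [(Gen.e, true), (Gen.h, true), (Gen.e, true)]
  (wG_rot rels [(Gen.e, true)] (Gen.h, true) [(Gen.e, true), (Gen.h, true)] relone_31)
def rc_46_13 : Cert rels S Gen.h := Cert.rel true [(Gen.a, true), (Gen.b, true), (Gen.c, true), (Gen.d, true), (Gen.e, true), (Gen.f, true), (Gen.h, true), (Gen.a, true), (Gen.b, true), (Gen.c, true), (Gen.d, true), (Gen.e, true), (Gen.f, true), (Gen.h, true), (Gen.a, true), (Gen.b, true), (Gen.c, true), (Gen.d, true), (Gen.e, true), (Gen.f, true), (Gen.h, true), (Gen.a, true), (Gen.b, true), (Gen.c, true), (Gen.d, true), (Gen.e, true), (Gen.f, true), (Gen.h, true), (Gen.a, true), (Gen.b, true), (Gen.c, true), (Gen.d, true), (Gen.e, true), (Gen.f, true), (Gen.h, true), (Gen.a, true), (Gen.b, true), (Gen.c, true), (Gen.d,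 true), (Gen.e, true), (Gen.f, true), (Gen.h, true), (Gen.a, true), (Gen.b, true), (Gen.c, true), (Gen.d, true), (Gen.e, true), (Gen.f, true), (Gen.h, true), (Gen.a, true), (Gen.b, true), (Gen.c, true), (Gen.d, true), (Gen.e, true), (Gen.f, true), (Gen.h, true), (Gen.a, true), (Gen.b, true), (Gen.c, true), (Gen.d, true), (Gen.e, true), (Gen.f, true)]
  (wG_rot rels [(Gen.a, true), (Gen.b, true), (Gen.c, true), (Gen.d, true), (Gen.e, true), (Gen.f, true), (Gen.h, true), (Gen.a, true), (Gen.b, true), (Gen.c, true), (Gen.d, true), (Gen.e, true), (Gen.f, true)] (Gen.h, true) [(Gen.a, true), (Gen.b, true), (Gen.c, true), (Gen.d, true), (Gen.e, true), (Gen.f, true), (Gen.h, true), (Gen.a, true), (Gen.b, true), (Gen.c, true), (Gen.d, true), (Gen.e, true), (Gen.f, true), (Gen.h, true), (Gen.a, true), (Gen.b, true), (Gen.c, true), (Gen.d, true), (Gen.e, true), (Gen.f, true), (Gen.h, true), (Gen.a, true), (Gen.b, true), (Gen.c, true), (Gen.d, true), (Gen.e, true), (Gen.f, true), (Gen.h, true),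 (Gen.a, true), (Gen.b, true), (Gen.c, true), (Gen.d, true), (Gen.e, true), (Gen.f, true), (Gen.h, true), (Gen.a, true), (Gen.b, true), (Gen.c, true), (Gen.d, true), (Gen.e, true), (Gen.f, true), (Gen.h, true), (Gen.a, true), (Gen.b, true), (Gen.c, true), (Gen.d, true), (Gen.e, true), (Gen.f, true), (Gen.h, true)] relone_46)
def rc_47_13 : Cert rels S Gen.h := Cert.rel true [(Gen.b, true), (Gen.c, true), (Gen.d, true), (Gen.e, true), (Gen.f, true), (Gen.g, true), (Gen.h, true), (Gen.b, true), (Gen.c, true), (Gen.d, true), (Gen.e, true), (Gen.f, true), (Gen.g, true), (Gen.h, true), (Gen.b, true), (Gen.c, true), (Gen.d, true), (Gen.e, true), (Gen.f, true), (Gen.g, true), (Gen.h, true), (Gen.b, true), (Gen.c, true), (Gen.d, true), (Gen.e, true), (Gen.f, true), (Gen.g, true), (Gen.h, true), (Gen.b, true), (Gen.c, true), (Gen.d, true), (Gen.e, true), (Gen.f, true), (Gen.g, true), (Gen.h, true), (Gen.b, true), (Gen.c, true), (Gen.d, true), (Gen.e, true), (Gen.f, true), (Gen.g, true), (Gen.h,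 true), (Gen.b, true), (Gen.c, true), (Gen.d, true), (Gen.e, true), (Gen.f, true), (Gen.g, true), (Gen.h, true), (Gen.b, true), (Gen.c, true), (Gen.d, true), (Gen.e, true), (Gen.f, true), (Gen.g, true), (Gen.h, true), (Gen.b, true), (Gen.c, true), (Gen.d, true), (Gen.e, true), (Gen.f, true), (Gen.g, true)]
  (wG_rot rels [(Gen.b, true), (Gen.c, true), (Gen.d, true), (Gen.e, true), (Gen.f, true), (Gen.g, true), (Gen.h, true), (Gen.b, true), (Gen.c, true), (Gen.d, true), (Gen.e, true), (Gen.f, true), (Gen.g, true)] (Gen.h, true) [(Gen.b, true), (Gen.c, true), (Gen.d, true), (Gen.e, true), (Gen.f, true), (Gen.g, true), (Gen.h, true), (Gen.b, true), (Gen.c, true), (Gen.d, true), (Gen.e, true), (Gen.f, true), (Gen.g, true), (Gen.h, true), (Gen.b, true), (Gen.c, true), (Gen.d, true), (Gen.e, true), (Gen.f, true), (Gen.g, true), (Gen.h, true), (Gen.b, true), (Gen.c, true), (Gen.d, true), (Gen.e, true), (Gen.f, true), (Gen.g, true), (Gen.h, true), (Gen.b, true), (Gen.c, true), (Gen.d, true),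 (Gen.e, true), (Gen.f, true), (Gen.g, true), (Gen.h, true), (Gen.b, true), (Gen.c, true), (Gen.d, true), (Gen.e, true), (Gen.f, true), (Gen.g, true), (Gen.h, true), (Gen.b, true), (Gen.c, true), (Gen.d, true), (Gen.e, true), (Gen.f, true), (Gen.g, true), (Gen.h, true)] relone_47)
def rc_5_3 : Cert rels S Gen.h := Cert.rel true [(Gen.a, true), (Gen.h, true), (Gen.a, true)]
  (wG_rot rels [(Gen.a, true), (Gen.h, true), (Gen.a, true)] (Gen.h, true) [] relone_5)
def rc_47_27 : Cert rels S Gen.h := Cert.rel true [(Gen.b, true), (Gen.c, true), (Gen.d, true), (Gen.e, true), (Gen.f, true), (Gen.g, true), (Gen.h, true), (Gen.b, true), (Gen.c, true), (Gen.d, true), (Gen.e, true), (Gen.f, true), (Gen.g, true), (Gen.h, true), (Gen.b, true), (Gen.c, true), (Gen.d, true), (Gen.e, true), (Gen.f, true), (Gen.g, true), (Gen.h, true), (Gen.b, true), (Gen.c, true), (Gen.d, true), (Gen.e, true), (Gen.f, true), (Gen.g, true), (Gen.h, true), (Gen.b, true), (Gen.c, true), (Gen.d, true), (Gen.e, true),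 (Gen.f, true), (Gen.g, true), (Gen.h, true), (Gen.b, true), (Gen.c, true), (Gen.d, true), (Gen.e, true), (Gen.f, true), (Gen.g, true), (Gen.h, true), (Gen.b, true), (Gen.c, true), (Gen.d, true), (Gen.e, true), (Gen.f, true), (Gen.g, true), (Gen.h, true), (Gen.b, true), (Gen.c, true), (Gen.d, true), (Gen.e, true), (Gen.f, true), (Gen.g, true), (Gen.h, true), (Gen.b, true), (Gen.c, true), (Gen.d, true), (Gen.e, true), (Gen.f, true), (Gen.g, true)]
  (wG_rot rels [(Gen.b, true), (Gen.c, true), (Gen.d, true), (Gen.e, true), (Gen.f, true), (Gen.g, true), (Gen.h, true), (Gen.b, true), (Gen.c, true), (Gen.d, true), (Gen.e, true), (Gen.f, true), (Gen.g, true), (Gen.h, true), (Gen.b, true), (Gen.c, true), (Gen.d, true), (Gen.e, true), (Gen.f, true), (Gen.g, true), (Gen.h, true), (Gen.b, true), (Gen.c, true), (Gen.d, true), (Gen.e, true), (Gen.f, true), (Gen.g, true)] (Gen.h, true) [(Gen.b, true), (Gen.c, true), (Gen.d, true), (Gen.e, true), (Gen.f, true), (Gen.g, true), (Gen.h, true), (Gen.b,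 true), (Gen.c, true), (Gen.d, true), (Gen.e, true), (Gen.f, true), (Gen.g, true), (Gen.h, true), (Gen.b, true), (Gen.c, true), (Gen.d, true), (Gen.e, true), (Gen.f, true), (Gen.g, true), (Gen.h, true), (Gen.b, true), (Gen.c, true), (Gen.d, true), (Gen.e, true), (Gen.f, true), (Gen.g, true), (Gen.h, true), (Gen.b, true), (Gen.c, true), (Gen.d, true), (Gen.e, true), (Gen.f, true), (Gen.g, true), (Gen.h, true)] relone_47)
def rc_45_70 : Cert rels S Gen.h := Cert.rel true [(Gen.i, true), (Gen.d, true), (Gen.c, true), (Gen.b, true), (Gen.d, true), (Gen.e, true), (Gen.f, true), (Gen.d, true), (Gen.h, true), (Gen.i, true), (Gen.d, true), (Gen.c, true), (Gen.b, true), (Gen.d, true), (Gen.e, true), (Gen.f, true), (Gen.d, true), (Gen.h, true), (Gen.i, true), (Gen.d, true), (Gen.c, true), (Gen.b, true), (Gen.d, true), (Gen.e, true), (Gen.f, true), (Gen.d, true), (Gen.h, true), (Gen.i, true), (Gen.d, true), (Gen.c, true), (Gen.b, true), (Gen.d, true), (Gen.e, true), (Gen.f, true), (Gen.d, true),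 (Gen.h, true), (Gen.i, true), (Gen.d, true), (Gen.c, true), (Gen.b, true), (Gen.d, true), (Gen.e, true), (Gen.f, true), (Gen.d, true), (Gen.h, true), (Gen.i, true), (Gen.d, true), (Gen.c, true), (Gen.b, true), (Gen.d, true), (Gen.e, true), (Gen.f, true), (Gen.d, true), (Gen.h, true), (Gen.i, true), (Gen.d, true), (Gen.c, true), (Gen.b, true), (Gen.d, true), (Gen.e, true), (Gen.f, true), (Gen.d, true), (Gen.h, true), (Gen.i, true), (Gen.d, true), (Gen.c, true), (Gen.b, true), (Gen.d, true), (Gen.e, true), (Gen.f, true), (Gen.d, true), (Gen.h, true), (Gen.i, true), (Gen.d, true), (Gen.c, true), (Gen.b, true), (Gen.d, true), (Gen.e, true), (Gen.f, true), (Gen.d, true), (Gen.h, true), (Gen.i, true), (Gen.d, true), (Gen.c, true), (Gen.b, true), (Gen.d, true), (Gen.e, true), (Gen.f, true), (Gen.d, true)]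
  (wG_rot rels [(Gen.d, true), (Gen.c, true), (Gen.b, true), (Gen.d, true), (Gen.e, true), (Gen.f, true), (Gen.d, true), (Gen.h, true), (Gen.i, true), (Gen.d, true), (Gen.c, true), (Gen.b, true), (Gen.d, true), (Gen.e, true), (Gen.f, true), (Gen.d, true), (Gen.h, true), (Gen.i, true), (Gen.d, true), (Gen.c, true), (Gen.b, true), (Gen.d, true), (Gen.e, true), (Gen.f, true), (Gen.d, true), (Gen.h, true), (Gen.i, true), (Gen.d, true), (Gen.c, true), (Gen.b, true), (Gen.d, true), (Gen.e, true), (Gen.f, true), (Gen.d, true), (Gen.h, true), (Gen.i, true), (Gen.d, true), (Gen.c, true), (Gen.b, true), (Gen.d, true), (Gen.e, true), (Gen.f, true), (Gen.d, true), (Gen.h, true), (Gen.i, true), (Gen.d, true), (Gen.c, true), (Gen.b, true), (Gen.d, true), (Gen.e, true), (Gen.f, true), (Gen.d, true), (Gen.h, true), (Gen.i, true), (Gen.d, true), (Gen.c, true), (Gen.b, true), (Gen.d, true), (Gen.e, true), (Gen.f, true), (Gen.d, true), (Gen.h, true), (Gen.i, true), (Gen.d, true), (Gen.c, true), (Gen.b,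 true), (Gen.d, true), (Gen.e, true), (Gen.f, true), (Gen.d, true)] (Gen.h, true) [(Gen.i, true), (Gen.d, true), (Gen.c, true), (Gen.b, true), (Gen.d, true), (Gen.e, true), (Gen.f, true), (Gen.d, true), (Gen.h, true), (Gen.i, true), (Gen.d, true), (Gen.c, true), (Gen.b, true), (Gen.d, true), (Gen.e, true), (Gen.f, true), (Gen.d, true), (Gen.h, true), (Gen.i, true)] relone_45)
def rc_13_3 : Cert rels S Gen.h := Cert.rel true [(Gen.b, true), (Gen.h, true), (Gen.b, true)]
  (wG_rot rels [(Gen.b, true), (Gen.h, true), (Gen.b, true)] (Gen.h, true) [] relone_13)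
def rc_41_3 : Cert rels S Gen.h := Cert.rel true [(Gen.g, true), (Gen.h, true), (Gen.g, true)]
  (wG_rot rels [(Gen.g, true), (Gen.h, true), (Gen.g, true)] (Gen.h, true) [] relone_41)
def rc_37_3 : Cert rels S Gen.h := Cert.rel true [(Gen.f, true), (Gen.h, true), (Gen.f, true)]
  (wG_rot rels [(Gen.f, true), (Gen.h, true), (Gen.f, true)] (Gen.h, true) [] relone_37)
def rc_31_3 : Cert rels S Gen.h := Cert.rel true [(Gen.e, true), (Gen.h, true), (Gen.e, true)]
  (wG_rot rels [(Gen.e, true), (Gen.h, true), (Gen.e, true)] (Gen.h, true) [] relone_31)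
def rc_47_34 : Cert rels S Gen.h := Cert.rel true [(Gen.b, true), (Gen.c, true), (Gen.d, true), (Gen.e, true), (Gen.f, true), (Gen.g, true), (Gen.h, true), (Gen.b, true), (Gen.c, true), (Gen.d, true), (Gen.e, true), (Gen.f, true), (Gen.g, true), (Gen.h, true), (Gen.b, true), (Gen.c, true), (Gen.d, true), (Gen.e, true), (Gen.f, true), (Gen.g, true), (Gen.h, true), (Gen.b, true), (Gen.c, true), (Gen.d, true), (Gen.e, true), (Gen.f, true), (Gen.g, true), (Gen.h, true), (Gen.b, true), (Gen.c, true), (Gen.d, true), (Gen.e, true), (Gen.f, true), (Gen.g, true), (Gen.h, true), (Gen.b, true), (Gen.c, true), (Gen.d, true), (Gen.e, true), (Gen.f, true), (Gen.g, true), (Gen.h, true), (Gen.b, true), (Gen.c, true), (Gen.d, true), (Gen.e, true), (Gen.f, true), (Gen.g, true), (Gen.h, true), (Gen.b, true), (Gen.c, true), (Gen.d, true), (Gen.e, true), (Gen.f, true), (Gen.g, true), (Gen.h, true), (Gen.b, true), (Gen.c, true), (Gen.d, true), (Gen.e, true), (Gen.f, true), (Gen.g, true)]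
  (wG_rot rels [(Gen.b, true), (Gen.c, true), (Gen.d, true), (Gen.e, true), (Gen.f, true), (Gen.g, true), (Gen.h, true), (Gen.b, true), (Gen.c, true), (Gen.d, true), (Gen.e, true), (Gen.f, true), (Gen.g, true), (Gen.h, true), (Gen.b, true), (Gen.c, true), (Gen.d, true), (Gen.e, true), (Gen.f, true), (Gen.g, true), (Gen.h, true), (Gen.b, true), (Gen.c, true), (Gen.d, true), (Gen.e, true), (Gen.f, true), (Gen.g, true), (Gen.h, true), (Gen.b, true), (Gen.c, true), (Gen.d, true), (Gen.e, true), (Gen.f, true), (Gen.g, true)] (Gen.h, true) [(Gen.b, true), (Gen.c, true), (Gen.d, true), (Gen.e, true), (Gen.f, true), (Gen.g, true), (Gen.h, true), (Gen.b, true), (Gen.c, true), (Gen.d, true), (Gen.e, true), (Gen.f, true), (Gen.g, true), (Gen.h, true), (Gen.b, true), (Gen.c, true), (Gen.d, true), (Gen.e, true), (Gen.f, true), (Gen.g, true), (Gen.h, true), (Gen.b, true), (Gen.c, true), (Gen.d, true), (Gen.e, true), (Gen.f, true), (Gen.g, true), (Gen.h, true)] relone_47)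
def rc_26_5 : Cert rels S Gen.h := Cert.rel true [(Gen.d, true), (Gen.h, true), (Gen.d, true), (Gen.h, true), (Gen.d, true)]
  (wG_rot rels [(Gen.d, true), (Gen.h, true), (Gen.d, true), (Gen.h, true), (Gen.d, true)] (Gen.h, true) [] relone_26)
def rc_45_61 : Cert rels S Gen.h := Cert.rel true [(Gen.i, true), (Gen.d, true), (Gen.c, true), (Gen.b, true), (Gen.d, true), (Gen.e, true), (Gen.f, true), (Gen.d, true), (Gen.h, true), (Gen.i, true), (Gen.d, true), (Gen.c, true), (Gen.b, true), (Gen.d, true), (Gen.e, true), (Gen.f, true), (Gen.d, true), (Gen.h, true), (Gen.i, true), (Gen.d, true), (Gen.c, true), (Gen.b, true), (Gen.d, true), (Gen.e, true), (Gen.f, true), (Gen.d, true), (Gen.h, true), (Gen.i, true), (Gen.d, true), (Gen.c, true), (Gen.b, true), (Gen.d, true), (Gen.e, true), (Gen.f, true), (Gen.d, true), (Gen.h, true), (Gen.i, true), (Gen.d, true), (Gen.c, true), (Gen.b, true), (Gen.d, true), (Gen.e, true), (Gen.f, true), (Gen.d, true), (Gen.h, true), (Gen.i, true), (Gen.d,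 true), (Gen.c, true), (Gen.b, true), (Gen.d, true), (Gen.e, true), (Gen.f, true), (Gen.d, true), (Gen.h, true), (Gen.i, true), (Gen.d, true), (Gen.c, true), (Gen.b, true), (Gen.d, true), (Gen.e, true), (Gen.f, true), (Gen.d, true), (Gen.h, true), (Gen.i, true), (Gen.d, true), (Gen.c, true), (Gen.b, true), (Gen.d, true), (Gen.e, true), (Gen.f, true), (Gen.d, true), (Gen.h, true), (Gen.i, true), (Gen.d, true), (Gen.c, true), (Gen.b, true), (Gen.d, true), (Gen.e, true), (Gen.f, true), (Gen.d, true), (Gen.h, true), (Gen.i, true), (Gen.d, true), (Gen.c, true), (Gen.b, true), (Gen.d, true), (Gen.e, true), (Gen.f, true), (Gen.d, true)]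
  (wG_rot rels [(Gen.d, true), (Gen.c, true), (Gen.b, true), (Gen.d, true), (Gen.e, true), (Gen.f, true), (Gen.d, true), (Gen.h, true), (Gen.i, true), (Gen.d, true), (Gen.c, true), (Gen.b, true), (Gen.d, true), (Gen.e, true), (Gen.f, true), (Gen.d, true), (Gen.h, true), (Gen.i, true), (Gen.d, true), (Gen.c, true), (Gen.b, true), (Gen.d, true), (Gen.e, true), (Gen.f, true), (Gen.d, true), (Gen.h, true), (Gen.i, true), (Gen.d, true), (Gen.c, true), (Gen.b, true), (Gen.d, true), (Gen.e, true), (Gen.f, true), (Gen.d, true), (Gen.h, true), (Gen.i, true), (Gen.d, true), (Gen.c, true), (Gen.b, true), (Gen.d, true), (Gen.e, true), (Gen.f, true), (Gen.d, true), (Gen.h, true), (Gen.i, true), (Gen.d, true), (Gen.c, true), (Gen.b, true), (Gen.d, true), (Gen.e, true), (Gen.f, true), (Gen.d, true), (Gen.h, true), (Gen.i, true), (Gen.d, true), (Gen.c, true), (Gen.b, true), (Gen.d, true), (Gen.e, true), (Gen.f, true), (Gen.d, true)] (Gen.h, true) [(Gen.i, true), (Gen.d, true), (Gen.c, true), (Gen.b,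 true), (Gen.d, true), (Gen.e, true), (Gen.f, true), (Gen.d, true), (Gen.h, true), (Gen.i, true), (Gen.d, true), (Gen.c, true), (Gen.b, true), (Gen.d, true), (Gen.e, true), (Gen.f, true), (Gen.d, true), (Gen.h, true), (Gen.i, true), (Gen.d, true), (Gen.c, true), (Gen.b, true), (Gen.d, true), (Gen.e, true), (Gen.f, true), (Gen.d, true), (Gen.h, true), (Gen.i, true)] relone_45)
def rc_36_4 : Cert rels S Gen.h := Cert.rel true [(Gen.i, true), (Gen.h, true), (Gen.i, true), (Gen.h, true), (Gen.i, true)]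
  (wG_rot rels [(Gen.h, true), (Gen.i, true), (Gen.h, true), (Gen.i, true)] (Gen.h, true) [(Gen.i, true)] relone_36)
def rc_35_1 : Cert rels S Gen.h := Cert.rel true [(Gen.h, true)]
  (wG_rot rels [(Gen.h, true)] (Gen.h, true) [] relone_35)
def rc_47_48 : Cert rels S Gen.h := Cert.rel true [(Gen.b, true), (Gen.c, true), (Gen.d, true), (Gen.e, true), (Gen.f, true), (Gen.g, true), (Gen.h, true), (Gen.b, true), (Gen.c, true), (Gen.d, true), (Gen.e, true), (Gen.f, true), (Gen.g, true), (Gen.h, true), (Gen.b, true), (Gen.c, true), (Gen.d, true), (Gen.e, true), (Gen.f, true), (Gen.g, true), (Gen.h, true), (Gen.b, true), (Gen.c, true), (Gen.d, true), (Gen.e, true), (Gen.f, true), (Gen.g, true), (Gen.h, true), (Gen.b, true), (Gen.c, true), (Gen.d, true), (Gen.e, true), (Gen.f, true), (Gen.g, true), (Gen.h, true), (Gen.b, true), (Gen.c, true), (Gen.d, true), (Gen.e, true), (Gen.f, true), (Gen.g, true), (Gen.h, true), (Gen.b, true), (Gen.c, true), (Gen.d, true), (Gen.e, true), (Gen.f, true),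 (Gen.g, true), (Gen.h, true), (Gen.b, true), (Gen.c, true), (Gen.d, true), (Gen.e, true), (Gen.f, true), (Gen.g, true), (Gen.h, true), (Gen.b, true), (Gen.c, true), (Gen.d, true), (Gen.e, true), (Gen.f, true), (Gen.g, true)]
  (wG_rot rels [(Gen.b, true), (Gen.c, true), (Gen.d, true), (Gen.e, true), (Gen.f, true), (Gen.g, true), (Gen.h, true), (Gen.b, true), (Gen.c, true), (Gen.d, true), (Gen.e, true), (Gen.f, true), (Gen.g, true), (Gen.h, true), (Gen.b, true), (Gen.c, true), (Gen.d, true), (Gen.e, true), (Gen.f, true), (Gen.g, true), (Gen.h, true), (Gen.b, true), (Gen.c, true), (Gen.d, true), (Gen.e, true), (Gen.f, true), (Gen.g, true), (Gen.h, true), (Gen.b, true), (Gen.c, true), (Gen.d, true), (Gen.e, true), (Gen.f, true), (Gen.g, true), (Gen.h, true), (Gen.b, true), (Gen.c, true), (Gen.d, true), (Gen.e, true), (Gen.f, true), (Gen.g, true), (Gen.h, true), (Gen.b, true), (Gen.c, true), (Gen.d, true), (Gen.e, true), (Gen.f, true), (Gen.g, true)] (Gen.h, true) [(Gen.b, true), (Gen.c,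 true), (Gen.d, true), (Gen.e, true), (Gen.f, true), (Gen.g, true), (Gen.h, true), (Gen.b, true), (Gen.c, true), (Gen.d, true), (Gen.e, true), (Gen.f, true), (Gen.g, true), (Gen.h, true)] relone_47)
def rc_36_0 : Cert rels S Gen.h := Cert.rel true [(Gen.i, true), (Gen.h, true), (Gen.i, true), (Gen.h, true), (Gen.i, true)]
  (wG_rot rels [] (Gen.h, true) [(Gen.i, true), (Gen.h, true), (Gen.i, true), (Gen.h, true), (Gen.i, true)] relone_36)
def rc_46_34 : Cert rels S Gen.h := Cert.rel true [(Gen.a, true), (Gen.b, true), (Gen.c, true), (Gen.d, true), (Gen.e, true), (Gen.f, true), (Gen.h, true), (Gen.a, true), (Gen.b, true), (Gen.c, true), (Gen.d, true), (Gen.e, true), (Gen.f, true), (Gen.h, true), (Gen.a, true), (Gen.b, true), (Gen.c, true), (Gen.d, true), (Gen.e, true), (Gen.f, true), (Gen.h, true), (Gen.a, true), (Gen.b, true), (Gen.c, true), (Gen.d, true), (Gen.e, true), (Gen.f, true), (Gen.h, true), (Gen.a, true), (Gen.b, true), (Gen.c, true), (Gen.d, true), (Gen.e, true), (Gen.f,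 true), (Gen.h, true), (Gen.a, true), (Gen.b, true), (Gen.c, true), (Gen.d, true), (Gen.e, true), (Gen.f, true), (Gen.h, true), (Gen.a, true), (Gen.b, true), (Gen.c, true), (Gen.d, true), (Gen.e, true), (Gen.f, true), (Gen.h, true), (Gen.a, true), (Gen.b, true), (Gen.c, true), (Gen.d, true), (Gen.e, true), (Gen.f, true), (Gen.h, true), (Gen.a, true), (Gen.b, true), (Gen.c, true), (Gen.d, true), (Gen.e, true), (Gen.f, true)]
  (wG_rot rels [(Gen.a, true), (Gen.b, true), (Gen.c, true), (Gen.d, true), (Gen.e, true), (Gen.f, true), (Gen.h, true), (Gen.a, true), (Gen.b, true), (Gen.c, true), (Gen.d, true), (Gen.e, true), (Gen.f, true), (Gen.h, true), (Gen.a, true), (Gen.b, true), (Gen.c, true), (Gen.d, true), (Gen.e, true), (Gen.f, true), (Gen.h, true), (Gen.a, true), (Gen.b, true), (Gen.c, true), (Gen.d, true), (Gen.e, true), (Gen.f, true), (Gen.h, true), (Gen.a, true), (Gen.b, true), (Gen.c, true), (Gen.d, true), (Gen.e, true), (Gen.f, true)] (Gen.h, true) [(Gen.a, true), (Gen.b, true),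 (Gen.c, true), (Gen.d, true), (Gen.e, true), (Gen.f, true), (Gen.h, true), (Gen.a, true), (Gen.b, true), (Gen.c, true), (Gen.d, true), (Gen.e, true), (Gen.f, true), (Gen.h, true), (Gen.a, true), (Gen.b, true), (Gen.c, true), (Gen.d, true), (Gen.e, true), (Gen.f, true), (Gen.h, true), (Gen.a, true), (Gen.b, true), (Gen.c, true), (Gen.d, true), (Gen.e, true), (Gen.f, true), (Gen.h, true)] relone_46)
def rc_20_3 : Cert rels S Gen.h := Cert.rel true [(Gen.c, true), (Gen.h, true), (Gen.c, true)]
  (wG_rot rels [(Gen.c, true), (Gen.h, true), (Gen.c, true)] (Gen.h, true) [] relone_20)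
def rc_45_52 : Cert rels S Gen.h := Cert.rel true [(Gen.i, true), (Gen.d, true), (Gen.c, true), (Gen.b, true), (Gen.d, true), (Gen.e, true), (Gen.f, true), (Gen.d, true), (Gen.h, true), (Gen.i, true), (Gen.d, true), (Gen.c, true), (Gen.b, true), (Gen.d, true), (Gen.e, true), (Gen.f, true), (Gen.d, true), (Gen.h, true), (Gen.i, true), (Gen.d, true), (Gen.c, true), (Gen.b, true), (Gen.d, true), (Gen.e, true), (Gen.f, true), (Gen.d, true), (Gen.h, true), (Gen.i, true), (Gen.d, true), (Gen.c, true), (Gen.b, true), (Gen.d, true), (Gen.e, true), (Gen.f, true), (Gen.d, true), (Gen.h, true), (Gen.i, true), (Gen.d, true), (Gen.c, true), (Gen.b, true), (Gen.d, true), (Gen.e, true), (Gen.f, true), (Gen.d, true), (Gen.h, true), (Gen.i, true), (Gen.d, true), (Gen.c, true), (Gen.b, true), (Gen.d, true), (Gen.e, true), (Gen.f, true), (Gen.d, true), (Gen.h, true), (Gen.i, true), (Gen.d, true), (Gen.c, true), (Gen.b, true), (Gen.d, true), (Gen.e, true), (Gen.f, true), (Gen.d, true), (Gen.h, true),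 (Gen.i, true), (Gen.d, true), (Gen.c, true), (Gen.b, true), (Gen.d, true), (Gen.e, true), (Gen.f, true), (Gen.d, true), (Gen.h, true), (Gen.i, true), (Gen.d, true), (Gen.c, true), (Gen.b, true), (Gen.d, true), (Gen.e, true), (Gen.f, true), (Gen.d, true), (Gen.h, true), (Gen.i, true), (Gen.d, true), (Gen.c, true), (Gen.b, true), (Gen.d, true), (Gen.e, true), (Gen.f, true), (Gen.d, true)]
  (wG_rot rels [(Gen.d, true), (Gen.c, true), (Gen.b, true), (Gen.d, true), (Gen.e, true), (Gen.f, true), (Gen.d, true), (Gen.h, true), (Gen.i, true), (Gen.d, true), (Gen.c, true), (Gen.b, true), (Gen.d, true), (Gen.e, true), (Gen.f, true), (Gen.d, true), (Gen.h, true), (Gen.i, true), (Gen.d, true), (Gen.c, true), (Gen.b, true), (Gen.d, true), (Gen.e, true), (Gen.f, true), (Gen.d, true), (Gen.h, true), (Gen.i, true), (Gen.d, true), (Gen.c, true), (Gen.b, true), (Gen.d, true), (Gen.e, true), (Gen.f, true), (Gen.d, true), (Gen.h, true), (Gen.i, true), (Gen.d, true), (Gen.c, true), (Gen.b, true), (Gen.d,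 true), (Gen.e, true), (Gen.f, true), (Gen.d, true), (Gen.h, true), (Gen.i, true), (Gen.d, true), (Gen.c, true), (Gen.b, true), (Gen.d, true), (Gen.e, true), (Gen.f, true), (Gen.d, true)] (Gen.h, true) [(Gen.i, true), (Gen.d, true), (Gen.c, true), (Gen.b, true), (Gen.d, true), (Gen.e, true), (Gen.f, true), (Gen.d, true), (Gen.h, true), (Gen.i, true), (Gen.d, true), (Gen.c, true), (Gen.b, true), (Gen.d, true), (Gen.e, true), (Gen.f, true), (Gen.d, true), (Gen.h, true), (Gen.i, true), (Gen.d, true), (Gen.c, true), (Gen.b, true), (Gen.d, true), (Gen.e, true), (Gen.f, true), (Gen.d, true), (Gen.h, true), (Gen.i, true), (Gen.d, true), (Gen.c, true), (Gen.b, true), (Gen.d, true), (Gen.e, true), (Gen.f, true), (Gen.d, true), (Gen.h, true), (Gen.i, true)] relone_45)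
def rc_16_1 : Cert rels S Gen.i := Cert.rel true [(Gen.b, true), (Gen.i, true), (Gen.b, true)]
  (wG_rot rels [(Gen.b, true)] (Gen.i, true) [(Gen.b, true), (Gen.i, true)] relone_16)
def rc_8_1 : Cert rels S Gen.i := Cert.rel true [(Gen.a, true), (Gen.i, true), (Gen.a, true)]
  (wG_rot rels [(Gen.a, true)] (Gen.i, true) [(Gen.a, true), (Gen.i, true)] relone_8)
def rc_23_1 : Cert rels S Gen.i := Cert.rel true [(Gen.c, true), (Gen.i, true), (Gen.c, true)]
  (wG_rot rels [(Gen.c, true)] (Gen.i, true) [(Gen.c, true), (Gen.i, true)] relone_23)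
def rc_29_1 : Cert rels S Gen.i := Cert.rel true [(Gen.d, true), (Gen.i, true), (Gen.d, true)]
  (wG_rot rels [(Gen.d, true)] (Gen.i, true) [(Gen.d, true), (Gen.i, true)] relone_29)
def rc_34_1 : Cert rels S Gen.i := Cert.rel true [(Gen.e, true), (Gen.i, true), (Gen.e, true)]
  (wG_rot rels [(Gen.e, true)] (Gen.i, true) [(Gen.e, true), (Gen.i, true)] relone_34)
def rc_40_1 : Cert rels S Gen.i := Cert.rel true [(Gen.f, true), (Gen.i, true), (Gen.f, true)]
  (wG_rot rels [(Gen.f, true)] (Gen.i, true) [(Gen.f, true), (Gen.i, true)] relone_40)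
def rc_44_0 : Cert rels S Gen.i := Cert.rel true [(Gen.i, true)]
  (wG_rot rels [] (Gen.i, true) [(Gen.i, true)] relone_44)
def rc_43_1 : Cert rels S Gen.i := Cert.rel true [(Gen.g, true), (Gen.i, true), (Gen.g, true)]
  (wG_rot rels [(Gen.g, true)] (Gen.i, true) [(Gen.g, true), (Gen.i, true)] relone_43)
def rc_36_3 : Cert rels S Gen.i := Cert.rel true [(Gen.h, true), (Gen.i, true), (Gen.h, true), (Gen.i, true), (Gen.h, true)]
  (wG_rot rels [(Gen.h, true), (Gen.i, true), (Gen.h, true)] (Gen.i, true) [(Gen.h, true), (Gen.i, true)] relone_36)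
def rc_40_3 : Cert rels S Gen.i := Cert.rel true [(Gen.f, true), (Gen.i, true), (Gen.f, true)]
  (wG_rot rels [(Gen.f, true), (Gen.i, true), (Gen.f, true)] (Gen.i, true) [] relone_40)
def rc_16_3 : Cert rels S Gen.i := Cert.rel true [(Gen.b, true), (Gen.i, true), (Gen.b, true)]
  (wG_rot rels [(Gen.b, true), (Gen.i, true), (Gen.b, true)] (Gen.i, true) [] relone_16)
def rc_34_3 : Cert rels S Gen.i := Cert.rel true [(Gen.e, true), (Gen.i, true), (Gen.e, true)]
  (wG_rot rels [(Gen.e, true), (Gen.i, true), (Gen.e, true)] (Gen.i, true) [] relone_34)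
def rc_36_1 : Cert rels S Gen.i := Cert.rel true [(Gen.h, true), (Gen.i, true), (Gen.h, true), (Gen.i, true), (Gen.h, true)]
  (wG_rot rels [(Gen.h, true)] (Gen.i, true) [(Gen.h, true), (Gen.i, true), (Gen.h, true), (Gen.i, true)] relone_36)
def rc_45_35 : Cert rels S Gen.i := Cert.rel true [(Gen.d, true), (Gen.c, true), (Gen.b, true), (Gen.d, true), (Gen.e, true), (Gen.f, true), (Gen.d, true), (Gen.h, true), (Gen.i, true), (Gen.d, true), (Gen.c, true), (Gen.b, true), (Gen.d, true), (Gen.e, true), (Gen.f, true), (Gen.d, true), (Gen.h, true), (Gen.i, true), (Gen.d, true), (Gen.c, true), (Gen.b, true), (Gen.d, true), (Gen.e, true), (Gen.f, true), (Gen.d, true), (Gen.h, true), (Gen.i, true), (Gen.d, true), (Gen.c, true), (Gen.b, true), (Gen.d, true), (Gen.e, true), (Gen.f, true), (Gen.d, true), (Gen.h, true), (Gen.i, true), (Gen.d, true), (Gen.c, true), (Gen.b, true), (Gen.d, true), (Gen.e, true), (Gen.f, true), (Gen.d, true), (Gen.h, true), (Gen.i, true), (Gen.d, true), (Gen.c, true),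 (Gen.b, true), (Gen.d, true), (Gen.e, true), (Gen.f, true), (Gen.d, true), (Gen.h, true), (Gen.i, true), (Gen.d, true), (Gen.c, true), (Gen.b, true), (Gen.d, true), (Gen.e, true), (Gen.f, true), (Gen.d, true), (Gen.h, true), (Gen.i, true), (Gen.d, true), (Gen.c, true), (Gen.b, true), (Gen.d, true), (Gen.e, true), (Gen.f, true), (Gen.d, true), (Gen.h, true), (Gen.i, true), (Gen.d, true), (Gen.c, true), (Gen.b, true), (Gen.d, true), (Gen.e, true), (Gen.f, true), (Gen.d, true), (Gen.h, true), (Gen.i, true), (Gen.d, true), (Gen.c, true), (Gen.b, true), (Gen.d, true), (Gen.e, true), (Gen.f, true), (Gen.d, true), (Gen.h, true)]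
  (wG_rot rels [(Gen.d, true), (Gen.c, true), (Gen.b, true), (Gen.d, true), (Gen.e, true), (Gen.f, true), (Gen.d, true), (Gen.h, true), (Gen.i, true), (Gen.d, true), (Gen.c, true), (Gen.b, true), (Gen.d, true), (Gen.e, true), (Gen.f, true), (Gen.d, true), (Gen.h, true), (Gen.i, true), (Gen.d, true), (Gen.c, true), (Gen.b, true), (Gen.d, true), (Gen.e, true), (Gen.f, true), (Gen.d, true), (Gen.h, true), (Gen.i, true), (Gen.d, true), (Gen.c, true), (Gen.b, true), (Gen.d, true), (Gen.e, true), (Gen.f, true), (Gen.d, true), (Gen.h, true)] (Gen.i, true) [(Gen.d, true), (Gen.c, true), (Gen.b, true), (Gen.d, true), (Gen.e, true), (Gen.f, true), (Gen.d, true), (Gen.h, true), (Gen.i, true), (Gen.d, true), (Gen.c, true), (Gen.b, true), (Gen.d, true), (Gen.e, true), (Gen.f, true), (Gen.d, true), (Gen.h, true), (Gen.i, true), (Gen.d, true), (Gen.c, true), (Gen.b, true), (Gen.d, true), (Gen.e, true), (Gen.f, true), (Gen.d, true), (Gen.h, true), (Gen.i, true), (Gen.d, true), (Gen.c, true), (Gen.b,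 true), (Gen.d, true), (Gen.e, true), (Gen.f, true), (Gen.d, true), (Gen.h, true), (Gen.i, true), (Gen.d, true), (Gen.c, true), (Gen.b, true), (Gen.d, true), (Gen.e, true), (Gen.f, true), (Gen.d, true), (Gen.h, true), (Gen.i, true), (Gen.d, true), (Gen.c, true), (Gen.b, true), (Gen.d, true), (Gen.e, true), (Gen.f, true), (Gen.d, true), (Gen.h, true), (Gen.i, true)] relone_45)
def rc_43_3 : Cert rels S Gen.i := Cert.rel true [(Gen.g, true), (Gen.i, true), (Gen.g, true)]
  (wG_rot rels [(Gen.g, true), (Gen.i, true), (Gen.g, true)] (Gen.i, true) [] relone_43)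
def rc_23_3 : Cert rels S Gen.i := Cert.rel true [(Gen.c, true), (Gen.i, true), (Gen.c, true)]
  (wG_rot rels [(Gen.c, true), (Gen.i, true), (Gen.c, true)] (Gen.i, true) [] relone_23)
def rc_8_3 : Cert rels S Gen.i := Cert.rel true [(Gen.a, true), (Gen.i, true), (Gen.a, true)]
  (wG_rot rels [(Gen.a, true), (Gen.i, true), (Gen.a, true)] (Gen.i, true) [] relone_8)
def rc_36_5 : Cert rels S Gen.i := Cert.rel true [(Gen.h, true), (Gen.i, true), (Gen.h, true), (Gen.i, true), (Gen.h, true)]
  (wG_rot rels [(Gen.h, true), (Gen.i, true), (Gen.h, true), (Gen.i, true), (Gen.h, true)] (Gen.i, true) [] relone_36)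
def rc_29_3 : Cert rels S Gen.i := Cert.rel true [(Gen.d, true), (Gen.i, true), (Gen.d, true)]
  (wG_rot rels [(Gen.d, true), (Gen.i, true), (Gen.d, true)] (Gen.i, true) [] relone_29)
def sc_0_0 : Cert rels S Gen.a := Cert.sub true [] []
  (sub_valid rels S [] (Gen.a, true) [] subH_0)
def sc_1_0 : Cert rels S Gen.c := Cert.sub true [] []
  (sub_valid rels S [] (Gen.c, true) [] subH_1)
def sc_2_0 : Cert rels S Gen.d := Cert.sub true [] []
  (sub_valid rels S [] (Gen.d, true) [] subH_2)
def sc_8_9 : Cert rels S Gen.d := Cert.sub true [(Gen.c, false), (Gen.b, false), (Gen.a, false), (Gen.h, false), (Gen.e, false), (Gen.d, false), (Gen.c, false), (Gen.b, false), (Gen.a, false)] [(Gen.e, true), (Gen.h, true), (Gen.a, true), (Gen.b, true), (Gen.c, true), (Gen.d, true), (Gen.e, true), (Gen.h, true), (Gen.a, true), (Gen.b, true), (Gen.c, true), (Gen.d, true), (Gen.e, true), (Gen.h, true), (Gen.a, true), (Gen.b, true), (Gen.c, true), (Gen.d, true), (Gen.e, true), (Gen.h, true)]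
  (sub_valid rels S [(Gen.a, true), (Gen.b, true), (Gen.c, true), (Gen.d, true), (Gen.e, true), (Gen.h, true), (Gen.a, true), (Gen.b, true), (Gen.c, true)] (Gen.d, true) [(Gen.e, true), (Gen.h, true), (Gen.a, true), (Gen.b, true), (Gen.c, true), (Gen.d, true), (Gen.e, true), (Gen.h, true), (Gen.a, true), (Gen.b, true), (Gen.c, true), (Gen.d, true), (Gen.e, true), (Gen.h, true), (Gen.a, true), (Gen.b, true), (Gen.c, true), (Gen.d, true), (Gen.e, true), (Gen.h, true)] subH_8)
def sc_3_0 : Cert rels S Gen.e := Cert.sub true [] []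
  (sub_valid rels S [] (Gen.e, true) [] subH_3)
def sc_4_0 : Cert rels S Gen.f := Cert.sub true [] []
  (sub_valid rels S [] (Gen.f, true) [] subH_4)
def sc_5_0 : Cert rels S Gen.g := Cert.sub true [] []
  (sub_valid rels S [] (Gen.g, true) [] subH_5)
def sc_6_0 : Cert rels S Gen.h := Cert.sub true [] []
  (sub_valid rels S [] (Gen.h, true) [] subH_6)
def sc_7_0 : Cert rels S Gen.i := Cert.sub true [] []
  (sub_valid rels S [] (Gen.i, true) [] subH_7)

end

end Cfsg.Agent.Helper28.S1687
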