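import Cfsg.Agent.Lib.Helper28.TCEnum
import Cfsg.Prelude.Def_Spor_Fi22

set_option autoImplicit false
set_option maxRecDepth 100000

namespace Cfsg.Agent.Helper28.S1687

open Cfsg.Agent.Helper28
open Cfsg.Spor.Fi22 (Gen)

abbrev rels : Set (FreeGroup Gen) := Cfsg.Spor.coxRelators Cfsg.Spor.Fi22.edges ∪ {r | r ∈ Cfsg.Spor.Fi22.extra}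

abbrev S : Set (FreeGroup Gen) := ({Cfsg.Spor.Fi22.a, Cfsg.Spor.Fi22.c, Cfsg.Spor.Fi22.d, Cfsg.Spor.Fi22.e, Cfsg.Spor.Fi22.f, Cfsg.Spor.Fi22.g, Cfsg.Spor.Fi22.h, Cfsg.Spor.Fi22.i, (Cfsg.Spor.Fi22.a * Cfsg.Spor.Fi22.b * Cfsg.Spor.Fi22.c * Cfsg.Spor.Fi22.d * Cfsg.Spor.Fi22.e * Cfsg.Spor.Fi22.h) ^ 5} : Set (FreeGroup Cfsg.Spor.Fi22.Gen))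

inductive D1
  | c0
  | c1
  | c2
  | c3
  | c4
  | c5
  | c6
  | c7
  | c8
  | c9
  | c10
  | c11
  | c12
  deriving DecidableEq

inductive D2
  | c0
  | c1
  | c2
  | c3
  | c4
  | c5
  | c6
  | c7
  | c8
  | c9
  | c10
  | c11
  | c12
  | c13
  | c14
  deriving DecidableEq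

inductive D3
  | c0
  | c1
  | c2
  | c3
  | c4
  | c5
  | c6
  | c7
  | c8
  | c9
  | c10
  | c11
  | c12
  | c13
  | c14
  | c15
  | c16
  | c17
  deriving DecidableEq

structure Pt where
  a : D1
  b : D2
  c : D3

noncomputable section

def idx1 : D1 → Nat := @D1.rec (fun _ => Nat) 0 1 2 3 4 5 6 7 8 9 10 11 12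
def dl1 : List D1 := [D1.c0, D1.c1, D1.c2, D1.c3, D1.c4, D1.c5, D1.c6, D1.c7, D1.c8, D1.c9, D1.c10, D1.c11, D1.c12]
theorem dl1_complete : ∀ a : D1, a ∈ dl1 := by
  intro a; cases a <;> decide
theorem dl1_nodup : dl1.Nodup := by decide
theorem idx1_get : ∀ a : D1, dl1.getD (idx1 a) D1.c0 = a := by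
  intro a; cases a <;> rfl
theorem idx1_inj (a b : D1) (h : idx1 a = idx1 b) : a = b := by
  rw [← idx1_get a, ← idx1_get b, h]
instance : Fintype D1 := ⟨⟨↑dl1, dl1_nodup⟩, dl1_complete⟩

def idx2 : D2 → Nat := @D2.rec (fun _ => Nat) 0 1 2 3 4 5 6 7 8 9 10 11 12 13 14
def dl2 : List D2 := [D2.c0, D2.c1, D2.c2, D2.c3, D2.c4, D2.c5, D2.c6, D2.c7, D2.c8, D2.c9, D2.c10, D2.c11, D2.c12, D2.c13, D2.c14]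
theorem dl2_complete : ∀ a : D2, a ∈ dl2 := by
  intro a; cases a <;> decide
theorem dl2_nodup : dl2.Nodup := by decide
theorem idx2_get : ∀ a : D2, dl2.getD (idx2 a) D2.c0 = a := by
  intro a; cases a <;> rfl
theorem idx2_inj (a b : D2) (h : idx2 a = idx2 b) : a = b := by
  rw [← idx2_get a, ← idx2_get b, h]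
instance : Fintype D2 := ⟨⟨↑dl2, dl2_nodup⟩, dl2_complete⟩

def idx3 : D3 → Nat := @D3.rec (fun _ => Nat) 0 1 2 3 4 5 6 7 8 9 10 11 12 13 14 15 16 17
def dl3 : List D3 := [D3.c0, D3.c1, D3.c2, D3.c3, D3.c4, D3.c5, D3.c6, D3.c7, D3.c8, D3.c9, D3.c10, D3.c11, D3.c12, D3.c13, D3.c14, D3.c15, D3.c16, D3.c17]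
theorem dl3_complete : ∀ a : D3, a ∈ dl3 := by
  intro a; cases a <;> decide
theorem dl3_nodup : dl3.Nodup := by decide
theorem idx3_get : ∀ a : D3, dl3.getD (idx3 a) D3.c0 = a := by
  intro a; cases a <;> rfl
theorem idx3_inj (a b : D3) (h : idx3 a = idx3 b) : a = b := by
  rw [← idx3_get a, ← idx3_get b, h]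
instance : Fintype D3 := ⟨⟨↑dl3, dl3_nodup⟩, dl3_complete⟩

def idx (p : Pt) : Nat := Nat.add (Nat.mul (Nat.add (Nat.mul (idx1 p.a) 15) (idx2 p.b)) 18) (idx3 p.c)

def beqPt (p q : Pt) : Bool :=
  andB (Nat.beq (idx1 p.a) (idx1 q.a)) (andB (Nat.beq (idx2 p.b) (idx2 q.b)) (Nat.beq (idx3 p.c) (idx3 q.c)))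

theorem beqPt_sound (p q : Pt) (h : beqPt p q = true) : p = q := by
  obtain ⟨h1, h23⟩ := andB_true h
  obtain ⟨h2, h3⟩ := andB_true h23
  cases p; cases q
  simp only [Pt.mk.injEq]
  exact ⟨idx1_inj _ _ (Nat.eq_of_beq_eq_true h1), idx2_inj _ _ (Nat.eq_of_beq_eq_true h2),
    idx3_inj _ _ (Nat.eq_of_beq_eq_true h3)⟩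

def leq (l m : Gen × Bool) : Bool := decide (l = m)

theorem leq_sound (l m : Gen × Bool) (h : leq l m = true) : l = m := of_decide_eq_true h

def ptEquiv : D1 × D2 × D3 ≃ Pt where
  toFun t := ⟨t.1, t.2.1, t.2.2⟩
  invFun p := (p.a, p.b, p.c)
  left_inv _ := rfl
  right_inv _ := rfl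

instance : Fintype Pt := Fintype.ofEquiv _ ptEquiv

theorem card_Pt : Fintype.card Pt = 3510 := by
  rw [Fintype.ofEquiv_card, Fintype.card_prod, Fintype.card_prod]
  rfl

def allPts (f : Pt → Bool) : Bool := all3 dl1 dl2 dl3 Pt.mk f

theorem allPts_sound (f : Pt → Bool) (h : allPts f = true) : ∀ p, f p = true :=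
  all3_sound dl1 dl2 dl3 Pt.mk
    (fun p => ⟨p.a, dl1_complete _, p.b, dl2_complete _, p.c, dl3_complete _, rfl⟩) f h

def countPts (f : Pt → Bool) : Nat := count3 dl1 dl2 dl3 Pt.mk f

theorem countPts_eq (f : Pt → Bool) : ({p | f p = true} : Set Pt).ncard = countPts f :=
  count3_eq dl1 dl2 dl3 Pt.mk ptEquiv (fun _ _ _ => rfl) dl1_nodup dl2_nodup dl3_nodup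
    dl1_complete dl2_complete dl3_complete f

def o : Pt := ⟨.c0, .c0, .c0⟩

def f_a_0 : D2 → D3 → Pt := @D2.rec (fun _ => D3 → Pt) (@D3.rec (fun _ => Pt) ⟨.c0, .c0, .c0⟩ ⟨.c0, .c0, .c2⟩ ⟨.c0, .c0, .c1⟩ ⟨.c0, .c0, .c4⟩ ⟨.c0, .c0, .c3⟩ ⟨.c0, .c0, .c7⟩ ⟨.c0, .c0, .c6⟩ ⟨.c0, .c0, .c5⟩ ⟨.c0, .c0, .c11⟩ ⟨.c0, .c0, .c12⟩ ⟨.c0, .c0, .c10⟩ ⟨.c0, .c0, .c8⟩ ⟨.c0, .c0, .c9⟩ ⟨.c0, .c1, .c1⟩ ⟨.c0, .c1, .c2⟩ ⟨.c0, .c1, .c3⟩ ⟨.c0, .c0, .c16⟩ ⟨.c0, .c0, .c17⟩) (@D3.rec (fun _ => Pt) ⟨.c0, .c1, .c0⟩ ⟨.c0, .c0, .c13⟩ ⟨.c0, .c0, .c14⟩ ⟨.c0, .c0, .c15⟩ ⟨.c0, .c1, .c13⟩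 ⟨.c0, .c1, .c14⟩ ⟨.c0, .c1, .c15⟩ ⟨.c0, .c1, .c16⟩ ⟨.c0, .c1, .c8⟩ ⟨.c0, .c1, .c9⟩ ⟨.c0, .c1, .c10⟩ ⟨.c0, .c1, .c11⟩ ⟨.c0, .c1, .c12⟩ ⟨.c0, .c1, .c4⟩ ⟨.c0, .c1, .c5⟩ ⟨.c0, .c1, .c6⟩ ⟨.c0, .c1, .c7⟩ ⟨.c0, .c2, .c13⟩) (@D3.rec (fun _ => Pt) ⟨.c0, .c2, .c14⟩ ⟨.c0, .c2, .c15⟩ ⟨.c0, .c2, .c16⟩ ⟨.c0, .c2, .c17⟩ ⟨.c0, .c2, .c4⟩ ⟨.c0, .c2, .c5⟩ ⟨.c0, .c2, .c6⟩ ⟨.c0, .c2, .c7⟩ ⟨.c0, .c2, .c8⟩ ⟨.c0, .c2, .c9⟩ ⟨.c0, .c2, .c10⟩ ⟨.c0, .c2, .c11⟩ ⟨.c0, .c2, .c12⟩ ⟨.c0, .c1, .c17⟩ ⟨.c0, .c2, .c0⟩ ⟨.c0, .c2, .c1⟩ ⟨.c0, .c2, .c2⟩ ⟨.c0, .c2, .c3⟩) (@D3.rec (fun _ => Pt)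 ⟨.c0, .c3, .c17⟩ ⟨.c0, .c4, .c0⟩ ⟨.c0, .c4, .c1⟩ ⟨.c0, .c4, .c2⟩ ⟨.c0, .c4, .c3⟩ ⟨.c0, .c3, .c5⟩ ⟨.c0, .c4, .c4⟩ ⟨.c0, .c4, .c5⟩ ⟨.c0, .c3, .c8⟩ ⟨.c0, .c3, .c9⟩ ⟨.c0, .c3, .c10⟩ ⟨.c0, .c3, .c11⟩ ⟨.c0, .c3, .c12⟩ ⟨.c0, .c3, .c13⟩ ⟨.c0, .c3, .c14⟩ ⟨.c0, .c3, .c15⟩ ⟨.c0, .c3, .c16⟩ ⟨.c0, .c3, .c0⟩) (@D3.rec (fun _ => Pt) ⟨.c0, .c3, .c1⟩ ⟨.c0, .c3, .c2⟩ ⟨.c0, .c3, .c3⟩ ⟨.c0, .c3, .c4⟩ ⟨.c0, .c3, .c6⟩ ⟨.c0, .c3, .c7⟩ ⟨.c0, .c5, .c8⟩ ⟨.c0, .c5, .c9⟩ ⟨.c0, .c5, .c10⟩ ⟨.c0, .c4, .c9⟩ ⟨.c0, .c5, .c11⟩ ⟨.c0, .c5, .c12⟩ ⟨.c0, .c5, .c13⟩ ⟨.c0, .c5, .c14⟩ ⟨.c0, .c4,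 .c14⟩ ⟨.c0, .c5, .c15⟩ ⟨.c0, .c4, .c16⟩ ⟨.c0, .c4, .c17⟩) (@D3.rec (fun _ => Pt) ⟨.c0, .c5, .c0⟩ ⟨.c0, .c5, .c1⟩ ⟨.c0, .c5, .c2⟩ ⟨.c0, .c5, .c3⟩ ⟨.c0, .c5, .c4⟩ ⟨.c0, .c5, .c5⟩ ⟨.c0, .c5, .c6⟩ ⟨.c0, .c5, .c7⟩ ⟨.c0, .c4, .c6⟩ ⟨.c0, .c4, .c7⟩ ⟨.c0, .c4, .c8⟩ ⟨.c0, .c4, .c10⟩ ⟨.c0, .c4, .c11⟩ ⟨.c0, .c4, .c12⟩ ⟨.c0, .c4, .c13⟩ ⟨.c0, .c4, .c15⟩ ⟨.c0, .c5, .c16⟩ ⟨.c0, .c7, .c0⟩) (@D3.rec (fun _ => Pt) ⟨.c0, .c7, .c1⟩ ⟨.c0, .c7, .c2⟩ ⟨.c0, .c7, .c3⟩ ⟨.c0, .c7, .c4⟩ ⟨.c0, .c6, .c4⟩ ⟨.c0, .c6, .c5⟩ ⟨.c0, .c7, .c5⟩ ⟨.c0, .c7, .c6⟩ ⟨.c0, .c7, .c7⟩ ⟨.c0, .c7, .c8⟩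 ⟨.c0, .c6, .c10⟩ ⟨.c0, .c7, .c9⟩ ⟨.c0, .c6, .c12⟩ ⟨.c0, .c6, .c13⟩ ⟨.c0, .c6, .c14⟩ ⟨.c0, .c6, .c15⟩ ⟨.c0, .c6, .c16⟩ ⟨.c0, .c6, .c17⟩) (@D3.rec (fun _ => Pt) ⟨.c0, .c5, .c17⟩ ⟨.c0, .c6, .c0⟩ ⟨.c0, .c6, .c1⟩ ⟨.c0, .c6, .c2⟩ ⟨.c0, .c6, .c3⟩ ⟨.c0, .c6, .c6⟩ ⟨.c0, .c6, .c7⟩ ⟨.c0, .c6, .c8⟩ ⟨.c0, .c6, .c9⟩ ⟨.c0, .c6, .c11⟩ ⟨.c0, .c7, .c10⟩ ⟨.c0, .c7, .c11⟩ ⟨.c0, .c8, .c15⟩ ⟨.c0, .c8, .c16⟩ ⟨.c0, .c8, .c17⟩ ⟨.c0, .c9, .c0⟩ ⟨.c0, .c9, .c1⟩ ⟨.c0, .c9, .c2⟩) (@D3.rec (fun _ => Pt) ⟨.c0, .c8, .c0⟩ ⟨.c0, .c8, .c1⟩ ⟨.c0, .c8, .c2⟩ ⟨.c0, .c9, .c3⟩ ⟨.c0, .c9, .c4⟩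 ⟨.c0, .c9, .c5⟩ ⟨.c0, .c9, .c6⟩ ⟨.c0, .c9, .c7⟩ ⟨.c0, .c8, .c8⟩ ⟨.c0, .c9, .c8⟩ ⟨.c0, .c8, .c10⟩ ⟨.c0, .c8, .c11⟩ ⟨.c0, .c8, .c12⟩ ⟨.c0, .c8, .c13⟩ ⟨.c0, .c8, .c14⟩ ⟨.c0, .c7, .c12⟩ ⟨.c0, .c7, .c13⟩ ⟨.c0, .c7, .c14⟩) (@D3.rec (fun _ => Pt) ⟨.c0, .c7, .c15⟩ ⟨.c0, .c7, .c16⟩ ⟨.c0, .c7, .c17⟩ ⟨.c0, .c8, .c3⟩ ⟨.c0, .c8, .c4⟩ ⟨.c0, .c8, .c5⟩ ⟨.c0, .c8, .c6⟩ ⟨.c0, .c8, .c7⟩ ⟨.c0, .c8, .c9⟩ ⟨.c0, .c9, .c9⟩ ⟨.c0, .c9, .c10⟩ ⟨.c0, .c9, .c11⟩ ⟨.c0, .c9, .c12⟩ ⟨.c0, .c11, .c1⟩ ⟨.c0, .c11, .c2⟩ ⟨.c0, .c11, .c3⟩ ⟨.c0, .c11, .c4⟩ ⟨.c0, .c11, .c5⟩) (@D3.rec (fun _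 => Pt) ⟨.c0, .c11, .c6⟩ ⟨.c0, .c11, .c7⟩ ⟨.c0, .c11, .c8⟩ ⟨.c0, .c10, .c3⟩ ⟨.c0, .c10, .c4⟩ ⟨.c0, .c10, .c5⟩ ⟨.c0, .c10, .c6⟩ ⟨.c0, .c10, .c7⟩ ⟨.c0, .c11, .c9⟩ ⟨.c0, .c11, .c10⟩ ⟨.c0, .c11, .c11⟩ ⟨.c0, .c11, .c12⟩ ⟨.c0, .c11, .c13⟩ ⟨.c0, .c10, .c13⟩ ⟨.c0, .c10, .c14⟩ ⟨.c0, .c11, .c14⟩ ⟨.c0, .c10, .c16⟩ ⟨.c0, .c10, .c17⟩) (@D3.rec (fun _ => Pt) ⟨.c0, .c11, .c0⟩ ⟨.c0, .c9, .c13⟩ ⟨.c0, .c9, .c14⟩ ⟨.c0, .c9, .c15⟩ ⟨.c0, .c9, .c16⟩ ⟨.c0, .c9, .c17⟩ ⟨.c0, .c10, .c0⟩ ⟨.c0, .c10, .c1⟩ ⟨.c0, .c10, .c2⟩ ⟨.c0, .c10, .c8⟩ ⟨.c0, .c10, .c9⟩ ⟨.c0, .c10, .c10⟩ ⟨.c0,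 .c10, .c11⟩ ⟨.c0, .c10, .c12⟩ ⟨.c0, .c10, .c15⟩ ⟨.c0, .c11, .c15⟩ ⟨.c0, .c11, .c16⟩ ⟨.c0, .c11, .c17⟩) (@D3.rec (fun _ => Pt) ⟨.c0, .c12, .c0⟩ ⟨.c0, .c12, .c1⟩ ⟨.c0, .c12, .c2⟩ ⟨.c0, .c12, .c3⟩ ⟨.c0, .c13, .c15⟩ ⟨.c0, .c13, .c16⟩ ⟨.c0, .c13, .c17⟩ ⟨.c0, .c14, .c0⟩ ⟨.c0, .c14, .c1⟩ ⟨.c0, .c14, .c2⟩ ⟨.c0, .c14, .c3⟩ ⟨.c0, .c14, .c4⟩ ⟨.c0, .c14, .c5⟩ ⟨.c0, .c14, .c6⟩ ⟨.c0, .c12, .c14⟩ ⟨.c0, .c12, .c15⟩ ⟨.c0, .c12, .c16⟩ ⟨.c0, .c12, .c17⟩) (@D3.rec (fun _ => Pt) ⟨.c0, .c13, .c0⟩ ⟨.c0, .c13, .c1⟩ ⟨.c0, .c13, .c2⟩ ⟨.c0, .c14, .c7⟩ ⟨.c0, .c14, .c8⟩ ⟨.c0, .c14,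 .c9⟩ ⟨.c0, .c14, .c10⟩ ⟨.c0, .c14, .c11⟩ ⟨.c1, .c2, .c1⟩ ⟨.c0, .c13, .c9⟩ ⟨.c0, .c13, .c10⟩ ⟨.c0, .c14, .c13⟩ ⟨.c0, .c13, .c12⟩ ⟨.c0, .c13, .c13⟩ ⟨.c0, .c13, .c14⟩ ⟨.c0, .c12, .c4⟩ ⟨.c0, .c12, .c5⟩ ⟨.c0, .c12, .c6⟩) (@D3.rec (fun _ => Pt) ⟨.c0, .c12, .c7⟩ ⟨.c0, .c12, .c8⟩ ⟨.c0, .c12, .c9⟩ ⟨.c0, .c12, .c10⟩ ⟨.c0, .c12, .c11⟩ ⟨.c0, .c12, .c12⟩ ⟨.c0, .c12, .c13⟩ ⟨.c0, .c13, .c3⟩ ⟨.c0, .c13, .c4⟩ ⟨.c0, .c13, .c5⟩ ⟨.c0, .c13, .c6⟩ ⟨.c0, .c13, .c7⟩ ⟨.c1, .c3, .c10⟩ ⟨.c0, .c13, .c11⟩ ⟨.c0, .c14, .c14⟩ ⟨.c0, .c14, .c15⟩ ⟨.c0, .c14, .c16⟩ ⟨.c0, .c14, .c17⟩)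
def f_a_1 : D2 → D3 → Pt := @D2.rec (fun _ => D3 → Pt) (@D3.rec (fun _ => Pt) ⟨.c1, .c0, .c0⟩ ⟨.c1, .c0, .c1⟩ ⟨.c1, .c0, .c2⟩ ⟨.c1, .c0, .c3⟩ ⟨.c1, .c0, .c4⟩ ⟨.c1, .c0, .c5⟩ ⟨.c1, .c0, .c6⟩ ⟨.c1, .c0, .c7⟩ ⟨.c1, .c2, .c8⟩ ⟨.c1, .c2, .c9⟩ ⟨.c1, .c2, .c10⟩ ⟨.c1, .c2, .c11⟩ ⟨.c1, .c2, .c12⟩ ⟨.c1, .c2, .c13⟩ ⟨.c1, .c2, .c14⟩ ⟨.c1, .c2, .c15⟩ ⟨.c1, .c2, .c16⟩ ⟨.c1, .c2, .c17⟩) (@D3.rec (fun _ => Pt) ⟨.c1, .c3, .c0⟩ ⟨.c1, .c3, .c1⟩ ⟨.c1, .c5, .c8⟩ ⟨.c1, .c1, .c3⟩ ⟨.c1, .c1, .c4⟩ ⟨.c1, .c1, .c5⟩ ⟨.c1, .c1, .c6⟩ ⟨.c1, .c1, .c7⟩ ⟨.c1, .c1, .c8⟩ ⟨.c1, .c1, .c9⟩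 ⟨.c1, .c1, .c10⟩ ⟨.c1, .c1, .c11⟩ ⟨.c1, .c3, .c3⟩ ⟨.c1, .c3, .c4⟩ ⟨.c1, .c3, .c5⟩ ⟨.c1, .c6, .c9⟩ ⟨.c1, .c3, .c7⟩ ⟨.c1, .c3, .c8⟩) (@D3.rec (fun _ => Pt) ⟨.c1, .c3, .c9⟩ ⟨.c0, .c13, .c8⟩ ⟨.c1, .c2, .c2⟩ ⟨.c1, .c2, .c3⟩ ⟨.c1, .c2, .c4⟩ ⟨.c1, .c2, .c5⟩ ⟨.c1, .c2, .c6⟩ ⟨.c1, .c7, .c1⟩ ⟨.c1, .c0, .c8⟩ ⟨.c1, .c0, .c9⟩ ⟨.c1, .c0, .c10⟩ ⟨.c1, .c0, .c11⟩ ⟨.c1, .c0, .c12⟩ ⟨.c1, .c0, .c13⟩ ⟨.c1, .c0, .c14⟩ ⟨.c1, .c0, .c15⟩ ⟨.c1, .c0, .c16⟩ ⟨.c1, .c0, .c17⟩) (@D3.rec (fun _ => Pt) ⟨.c1, .c1, .c0⟩ ⟨.c1, .c1, .c1⟩ ⟨.c1, .c8, .c0⟩ ⟨.c1, .c1, .c12⟩ ⟨.c1, .c1, .c13⟩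 ⟨.c1, .c1, .c14⟩ ⟨.c1, .c8, .c6⟩ ⟨.c1, .c1, .c16⟩ ⟨.c1, .c1, .c17⟩ ⟨.c1, .c2, .c0⟩ ⟨.c0, .c14, .c12⟩ ⟨.c1, .c3, .c11⟩ ⟨.c1, .c3, .c12⟩ ⟨.c1, .c3, .c13⟩ ⟨.c1, .c3, .c14⟩ ⟨.c1, .c3, .c15⟩ ⟨.c1, .c3, .c16⟩ ⟨.c1, .c3, .c17⟩) (@D3.rec (fun _ => Pt) ⟨.c1, .c4, .c0⟩ ⟨.c1, .c4, .c1⟩ ⟨.c1, .c4, .c2⟩ ⟨.c1, .c4, .c3⟩ ⟨.c1, .c4, .c4⟩ ⟨.c1, .c4, .c5⟩ ⟨.c1, .c4, .c6⟩ ⟨.c1, .c4, .c7⟩ ⟨.c1, .c4, .c8⟩ ⟨.c1, .c4, .c9⟩ ⟨.c1, .c7, .c2⟩ ⟨.c1, .c7, .c3⟩ ⟨.c1, .c7, .c4⟩ ⟨.c1, .c7, .c5⟩ ⟨.c1, .c7, .c6⟩ ⟨.c1, .c7, .c7⟩ ⟨.c1, .c7, .c8⟩ ⟨.c1, .c7, .c9⟩) (@D3.rec (fun _ => Pt)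 ⟨.c1, .c7, .c10⟩ ⟨.c1, .c7, .c11⟩ ⟨.c1, .c10, .c15⟩ ⟨.c1, .c7, .c13⟩ ⟨.c1, .c7, .c14⟩ ⟨.c1, .c7, .c15⟩ ⟨.c1, .c11, .c1⟩ ⟨.c1, .c7, .c17⟩ ⟨.c1, .c1, .c2⟩ ⟨.c1, .c5, .c9⟩ ⟨.c1, .c5, .c10⟩ ⟨.c1, .c5, .c11⟩ ⟨.c1, .c5, .c12⟩ ⟨.c1, .c5, .c13⟩ ⟨.c1, .c5, .c14⟩ ⟨.c1, .c5, .c15⟩ ⟨.c1, .c11, .c15⟩ ⟨.c1, .c5, .c17⟩) (@D3.rec (fun _ => Pt) ⟨.c1, .c6, .c0⟩ ⟨.c1, .c6, .c1⟩ ⟨.c1, .c6, .c2⟩ ⟨.c1, .c6, .c3⟩ ⟨.c1, .c8, .c1⟩ ⟨.c1, .c8, .c2⟩ ⟨.c1, .c12, .c8⟩ ⟨.c1, .c8, .c4⟩ ⟨.c1, .c8, .c5⟩ ⟨.c1, .c1, .c15⟩ ⟨.c1, .c12, .c13⟩ ⟨.c1, .c8, .c8⟩ ⟨.c1, .c8, .c9⟩ ⟨.c1, .c6, .c13⟩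 ⟨.c1, .c6, .c14⟩ ⟨.c1, .c6, .c15⟩ ⟨.c1, .c6, .c16⟩ ⟨.c1, .c6, .c17⟩) (@D3.rec (fun _ => Pt) ⟨.c1, .c13, .c1⟩ ⟨.c1, .c2, .c7⟩ ⟨.c1, .c4, .c10⟩ ⟨.c1, .c4, .c11⟩ ⟨.c1, .c4, .c12⟩ ⟨.c1, .c4, .c13⟩ ⟨.c1, .c4, .c14⟩ ⟨.c1, .c4, .c15⟩ ⟨.c1, .c4, .c16⟩ ⟨.c1, .c4, .c17⟩ ⟨.c1, .c5, .c0⟩ ⟨.c1, .c5, .c1⟩ ⟨.c1, .c13, .c17⟩ ⟨.c1, .c5, .c3⟩ ⟨.c1, .c5, .c4⟩ ⟨.c1, .c5, .c5⟩ ⟨.c1, .c14, .c3⟩ ⟨.c1, .c5, .c7⟩) (@D3.rec (fun _ => Pt) ⟨.c1, .c3, .c2⟩ ⟨.c1, .c6, .c4⟩ ⟨.c1, .c6, .c5⟩ ⟨.c1, .c14, .c9⟩ ⟨.c1, .c6, .c7⟩ ⟨.c1, .c6, .c8⟩ ⟨.c1, .c3, .c6⟩ ⟨.c1, .c14, .c14⟩ ⟨.c1, .c6,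 .c11⟩ ⟨.c1, .c6, .c12⟩ ⟨.c1, .c8, .c10⟩ ⟨.c1, .c8, .c11⟩ ⟨.c1, .c8, .c12⟩ ⟨.c1, .c8, .c13⟩ ⟨.c1, .c8, .c14⟩ ⟨.c1, .c8, .c15⟩ ⟨.c1, .c8, .c16⟩ ⟨.c1, .c8, .c17⟩) (@D3.rec (fun _ => Pt) ⟨.c1, .c9, .c0⟩ ⟨.c1, .c9, .c1⟩ ⟨.c1, .c9, .c2⟩ ⟨.c1, .c9, .c3⟩ ⟨.c1, .c9, .c4⟩ ⟨.c1, .c9, .c5⟩ ⟨.c1, .c9, .c6⟩ ⟨.c1, .c9, .c7⟩ ⟨.c1, .c9, .c8⟩ ⟨.c1, .c9, .c9⟩ ⟨.c1, .c9, .c10⟩ ⟨.c1, .c9, .c11⟩ ⟨.c2, .c1, .c6⟩ ⟨.c1, .c9, .c13⟩ ⟨.c1, .c9, .c14⟩ ⟨.c1, .c9, .c15⟩ ⟨.c1, .c9, .c16⟩ ⟨.c1, .c9, .c17⟩) (@D3.rec (fun _ => Pt) ⟨.c1, .c13, .c2⟩ ⟨.c1, .c13, .c3⟩ ⟨.c1, .c13, .c4⟩ ⟨.c1,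 .c13, .c5⟩ ⟨.c1, .c13, .c6⟩ ⟨.c1, .c13, .c7⟩ ⟨.c1, .c13, .c8⟩ ⟨.c1, .c13, .c9⟩ ⟨.c1, .c13, .c10⟩ ⟨.c2, .c2, .c9⟩ ⟨.c1, .c13, .c12⟩ ⟨.c1, .c13, .c13⟩ ⟨.c2, .c2, .c14⟩ ⟨.c1, .c13, .c15⟩ ⟨.c1, .c13, .c16⟩ ⟨.c1, .c5, .c2⟩ ⟨.c2, .c3, .c1⟩ ⟨.c1, .c14, .c1⟩) (@D3.rec (fun _ => Pt) ⟨.c1, .c14, .c2⟩ ⟨.c1, .c5, .c6⟩ ⟨.c2, .c3, .c4⟩ ⟨.c1, .c14, .c5⟩ ⟨.c1, .c11, .c4⟩ ⟨.c1, .c11, .c5⟩ ⟨.c1, .c11, .c6⟩ ⟨.c1, .c11, .c7⟩ ⟨.c1, .c11, .c8⟩ ⟨.c1, .c11, .c9⟩ ⟨.c1, .c11, .c10⟩ ⟨.c1, .c11, .c11⟩ ⟨.c2, .c3, .c16⟩ ⟨.c1, .c11, .c13⟩ ⟨.c1, .c11, .c14⟩ ⟨.c1, .c5, .c16⟩ ⟨.c2, .c4,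 .c3⟩ ⟨.c1, .c11, .c17⟩) (@D3.rec (fun _ => Pt) ⟨.c1, .c12, .c0⟩ ⟨.c1, .c12, .c1⟩ ⟨.c1, .c12, .c2⟩ ⟨.c1, .c12, .c3⟩ ⟨.c1, .c12, .c4⟩ ⟨.c2, .c4, .c10⟩ ⟨.c1, .c14, .c7⟩ ⟨.c1, .c14, .c8⟩ ⟨.c1, .c6, .c6⟩ ⟨.c2, .c4, .c15⟩ ⟨.c1, .c14, .c11⟩ ⟨.c1, .c14, .c12⟩ ⟨.c1, .c14, .c13⟩ ⟨.c1, .c6, .c10⟩ ⟨.c2, .c5, .c2⟩ ⟨.c1, .c14, .c16⟩ ⟨.c1, .c12, .c16⟩ ⟨.c2, .c5, .c4⟩) (@D3.rec (fun _ => Pt) ⟨.c1, .c13, .c0⟩ ⟨.c1, .c7, .c0⟩ ⟨.c1, .c10, .c0⟩ ⟨.c1, .c10, .c1⟩ ⟨.c1, .c10, .c2⟩ ⟨.c1, .c10, .c3⟩ ⟨.c1, .c10, .c4⟩ ⟨.c1, .c10, .c5⟩ ⟨.c1, .c10, .c6⟩ ⟨.c1, .c10, .c7⟩ ⟨.c1, .c10,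 .c8⟩ ⟨.c2, .c6, .c3⟩ ⟨.c1, .c10, .c10⟩ ⟨.c1, .c10, .c11⟩ ⟨.c2, .c6, .c8⟩ ⟨.c1, .c10, .c13⟩ ⟨.c1, .c10, .c14⟩ ⟨.c1, .c7, .c12⟩) (@D3.rec (fun _ => Pt) ⟨.c2, .c6, .c13⟩ ⟨.c1, .c10, .c17⟩ ⟨.c1, .c11, .c0⟩ ⟨.c1, .c7, .c16⟩ ⟨.c2, .c6, .c16⟩ ⟨.c1, .c11, .c3⟩ ⟨.c2, .c7, .c1⟩ ⟨.c1, .c12, .c6⟩ ⟨.c1, .c12, .c7⟩ ⟨.c1, .c8, .c3⟩ ⟨.c2, .c7, .c6⟩ ⟨.c1, .c12, .c10⟩ ⟨.c1, .c12, .c11⟩ ⟨.c1, .c12, .c12⟩ ⟨.c1, .c8, .c7⟩ ⟨.c2, .c7, .c8⟩ ⟨.c1, .c12, .c15⟩ ⟨.c1, .c14, .c17⟩)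
def f_a_2 : D2 → D3 → Pt := @D2.rec (fun _ => D3 → Pt) (@D3.rec (fun _ => Pt) ⟨.c2, .c0, .c0⟩ ⟨.c2, .c0, .c1⟩ ⟨.c2, .c0, .c2⟩ ⟨.c2, .c0, .c3⟩ ⟨.c2, .c0, .c4⟩ ⟨.c2, .c0, .c5⟩ ⟨.c2, .c0, .c6⟩ ⟨.c2, .c0, .c7⟩ ⟨.c2, .c0, .c8⟩ ⟨.c2, .c0, .c9⟩ ⟨.c2, .c0, .c10⟩ ⟨.c2, .c0, .c11⟩ ⟨.c2, .c0, .c12⟩ ⟨.c2, .c0, .c13⟩ ⟨.c2, .c0, .c14⟩ ⟨.c2, .c0, .c15⟩ ⟨.c2, .c0, .c16⟩ ⟨.c2, .c0, .c17⟩) (@D3.rec (fun _ => Pt) ⟨.c2, .c8, .c17⟩ ⟨.c2, .c1, .c1⟩ ⟨.c2, .c1, .c2⟩ ⟨.c2, .c9, .c4⟩ ⟨.c2, .c1, .c4⟩ ⟨.c2, .c1, .c5⟩ ⟨.c1, .c9, .c12⟩ ⟨.c2, .c9, .c9⟩ ⟨.c2, .c1, .c8⟩ ⟨.c2, .c1, .c9⟩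 ⟨.c2, .c1, .c10⟩ ⟨.c2, .c1, .c11⟩ ⟨.c2, .c1, .c12⟩ ⟨.c2, .c1, .c13⟩ ⟨.c2, .c5, .c8⟩ ⟨.c2, .c5, .c9⟩ ⟨.c2, .c5, .c10⟩ ⟨.c2, .c5, .c11⟩) (@D3.rec (fun _ => Pt) ⟨.c2, .c5, .c12⟩ ⟨.c2, .c5, .c13⟩ ⟨.c2, .c5, .c14⟩ ⟨.c2, .c10, .c11⟩ ⟨.c2, .c5, .c16⟩ ⟨.c2, .c5, .c17⟩ ⟨.c2, .c10, .c16⟩ ⟨.c2, .c6, .c1⟩ ⟨.c2, .c6, .c2⟩ ⟨.c1, .c10, .c9⟩ ⟨.c2, .c11, .c3⟩ ⟨.c2, .c6, .c5⟩ ⟨.c2, .c6, .c6⟩ ⟨.c2, .c6, .c7⟩ ⟨.c1, .c10, .c12⟩ ⟨.c2, .c11, .c8⟩ ⟨.c2, .c6, .c10⟩ ⟨.c2, .c6, .c11⟩) (@D3.rec (fun _ => Pt) ⟨.c2, .c6, .c12⟩ ⟨.c1, .c10, .c16⟩ ⟨.c2, .c11, .c14⟩ ⟨.c2, .c6, .c15⟩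 ⟨.c1, .c11, .c2⟩ ⟨.c2, .c11, .c16⟩ ⟨.c2, .c7, .c0⟩ ⟨.c2, .c3, .c7⟩ ⟨.c2, .c3, .c8⟩ ⟨.c2, .c3, .c9⟩ ⟨.c2, .c12, .c5⟩ ⟨.c2, .c3, .c11⟩ ⟨.c2, .c3, .c12⟩ ⟨.c2, .c12, .c9⟩ ⟨.c2, .c3, .c14⟩ ⟨.c2, .c3, .c15⟩ ⟨.c1, .c11, .c12⟩ ⟨.c2, .c12, .c14⟩) (@D3.rec (fun _ => Pt) ⟨.c2, .c4, .c0⟩ ⟨.c2, .c4, .c1⟩ ⟨.c2, .c4, .c2⟩ ⟨.c1, .c11, .c16⟩ ⟨.c2, .c13, .c2⟩ ⟨.c2, .c13, .c3⟩ ⟨.c2, .c4, .c6⟩ ⟨.c2, .c4, .c7⟩ ⟨.c2, .c4, .c8⟩ ⟨.c2, .c4, .c9⟩ ⟨.c1, .c12, .c5⟩ ⟨.c2, .c13, .c8⟩ ⟨.c2, .c7, .c3⟩ ⟨.c2, .c7, .c4⟩ ⟨.c2, .c7, .c5⟩ ⟨.c1, .c12, .c9⟩ ⟨.c2, .c13, .c10⟩ ⟨.c2, .c13, .c9⟩)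 (@D3.rec (fun _ => Pt) ⟨.c2, .c7, .c2⟩ ⟨.c2, .c7, .c7⟩ ⟨.c1, .c12, .c14⟩ ⟨.c2, .c13, .c15⟩ ⟨.c1, .c12, .c17⟩ ⟨.c2, .c13, .c16⟩ ⟨.c2, .c5, .c6⟩ ⟨.c2, .c5, .c7⟩ ⟨.c2, .c1, .c14⟩ ⟨.c2, .c1, .c15⟩ ⟨.c2, .c1, .c16⟩ ⟨.c2, .c1, .c17⟩ ⟨.c2, .c2, .c0⟩ ⟨.c2, .c2, .c1⟩ ⟨.c2, .c2, .c2⟩ ⟨.c2, .c14, .c10⟩ ⟨.c2, .c2, .c4⟩ ⟨.c2, .c2, .c5⟩) (@D3.rec (fun _ => Pt) ⟨.c2, .c14, .c15⟩ ⟨.c2, .c2, .c7⟩ ⟨.c2, .c2, .c8⟩ ⟨.c1, .c13, .c11⟩ ⟨.c3, .c0, .c2⟩ ⟨.c2, .c2, .c11⟩ ⟨.c2, .c2, .c12⟩ ⟨.c2, .c2, .c13⟩ ⟨.c1, .c13, .c14⟩ ⟨.c3, .c0, .c7⟩ ⟨.c2, .c2, .c16⟩ ⟨.c2, .c2, .c17⟩ ⟨.c2,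 .c3, .c0⟩ ⟨.c1, .c14, .c0⟩ ⟨.c3, .c0, .c13⟩ ⟨.c2, .c3, .c3⟩ ⟨.c1, .c14, .c4⟩ ⟨.c3, .c0, .c15⟩) (@D3.rec (fun _ => Pt) ⟨.c2, .c3, .c6⟩ ⟨.c1, .c14, .c6⟩ ⟨.c2, .c5, .c0⟩ ⟨.c2, .c4, .c12⟩ ⟨.c2, .c4, .c13⟩ ⟨.c2, .c4, .c14⟩ ⟨.c1, .c14, .c10⟩ ⟨.c2, .c5, .c1⟩ ⟨.c1, .c14, .c15⟩ ⟨.c3, .c0, .c16⟩ ⟨.c2, .c7, .c10⟩ ⟨.c2, .c7, .c11⟩ ⟨.c2, .c7, .c12⟩ ⟨.c2, .c7, .c13⟩ ⟨.c2, .c7, .c14⟩ ⟨.c2, .c7, .c15⟩ ⟨.c2, .c7, .c16⟩ ⟨.c2, .c7, .c17⟩) (@D3.rec (fun _ => Pt) ⟨.c2, .c8, .c0⟩ ⟨.c2, .c8, .c1⟩ ⟨.c3, .c1, .c13⟩ ⟨.c2, .c8, .c3⟩ ⟨.c2, .c8, .c4⟩ ⟨.c2, .c8, .c5⟩ ⟨.c2, .c8, .c6⟩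 ⟨.c2, .c8, .c7⟩ ⟨.c2, .c8, .c8⟩ ⟨.c2, .c8, .c9⟩ ⟨.c2, .c8, .c10⟩ ⟨.c3, .c2, .c9⟩ ⟨.c2, .c8, .c12⟩ ⟨.c2, .c8, .c13⟩ ⟨.c3, .c2, .c14⟩ ⟨.c2, .c8, .c15⟩ ⟨.c2, .c8, .c16⟩ ⟨.c2, .c1, .c0⟩) (@D3.rec (fun _ => Pt) ⟨.c3, .c3, .c1⟩ ⟨.c2, .c9, .c1⟩ ⟨.c2, .c9, .c2⟩ ⟨.c2, .c9, .c3⟩ ⟨.c2, .c1, .c3⟩ ⟨.c3, .c3, .c7⟩ ⟨.c2, .c9, .c6⟩ ⟨.c2, .c9, .c7⟩ ⟨.c2, .c9, .c8⟩ ⟨.c2, .c1, .c7⟩ ⟨.c3, .c3, .c13⟩ ⟨.c3, .c3, .c14⟩ ⟨.c2, .c9, .c12⟩ ⟨.c2, .c9, .c13⟩ ⟨.c2, .c9, .c14⟩ ⟨.c2, .c9, .c15⟩ ⟨.c2, .c9, .c16⟩ ⟨.c2, .c9, .c17⟩) (@D3.rec (fun _ => Pt) ⟨.c2, .c10, .c0⟩ ⟨.c2, .c13, .c17⟩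 ⟨.c2, .c14, .c1⟩ ⟨.c2, .c14, .c2⟩ ⟨.c2, .c14, .c3⟩ ⟨.c3, .c4, .c10⟩ ⟨.c2, .c14, .c5⟩ ⟨.c2, .c14, .c6⟩ ⟨.c3, .c4, .c15⟩ ⟨.c2, .c14, .c8⟩ ⟨.c2, .c14, .c9⟩ ⟨.c2, .c2, .c3⟩ ⟨.c3, .c5, .c2⟩ ⟨.c2, .c14, .c12⟩ ⟨.c2, .c14, .c13⟩ ⟨.c2, .c14, .c14⟩ ⟨.c2, .c2, .c6⟩ ⟨.c3, .c5, .c8⟩) (@D3.rec (fun _ => Pt) ⟨.c2, .c14, .c17⟩ ⟨.c3, .c0, .c0⟩ ⟨.c3, .c0, .c1⟩ ⟨.c2, .c2, .c10⟩ ⟨.c3, .c5, .c13⟩ ⟨.c3, .c5, .c14⟩ ⟨.c3, .c0, .c5⟩ ⟨.c3, .c0, .c6⟩ ⟨.c2, .c2, .c15⟩ ⟨.c3, .c6, .c2⟩ ⟨.c3, .c6, .c3⟩ ⟨.c3, .c0, .c10⟩ ⟨.c3, .c0, .c11⟩ ⟨.c3, .c0, .c12⟩ ⟨.c2, .c3, .c2⟩ ⟨.c3, .c6, .c11⟩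 ⟨.c2, .c3, .c5⟩ ⟨.c3, .c6, .c12⟩) (@D3.rec (fun _ => Pt) ⟨.c3, .c4, .c7⟩ ⟨.c2, .c14, .c4⟩ ⟨.c2, .c12, .c2⟩ ⟨.c3, .c6, .c15⟩ ⟨.c2, .c12, .c4⟩ ⟨.c2, .c3, .c10⟩ ⟨.c3, .c7, .c0⟩ ⟨.c2, .c12, .c7⟩ ⟨.c2, .c12, .c8⟩ ⟨.c2, .c3, .c13⟩ ⟨.c3, .c7, .c5⟩ ⟨.c2, .c12, .c11⟩ ⟨.c2, .c12, .c12⟩ ⟨.c2, .c12, .c13⟩ ⟨.c2, .c3, .c17⟩ ⟨.c3, .c7, .c11⟩ ⟨.c3, .c7, .c12⟩ ⟨.c2, .c12, .c17⟩) (@D3.rec (fun _ => Pt) ⟨.c2, .c13, .c0⟩ ⟨.c2, .c13, .c1⟩ ⟨.c2, .c4, .c4⟩ ⟨.c2, .c4, .c5⟩ ⟨.c3, .c8, .c0⟩ ⟨.c3, .c8, .c1⟩ ⟨.c3, .c8, .c2⟩ ⟨.c2, .c13, .c7⟩ ⟨.c2, .c4, .c11⟩ ⟨.c2, .c4, .c17⟩ ⟨.c2,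 .c4, .c16⟩ ⟨.c3, .c0, .c3⟩ ⟨.c3, .c7, .c7⟩ ⟨.c3, .c5, .c9⟩ ⟨.c2, .c14, .c16⟩ ⟨.c2, .c5, .c3⟩ ⟨.c2, .c5, .c5⟩ ⟨.c2, .c10, .c1⟩) (@D3.rec (fun _ => Pt) ⟨.c2, .c14, .c0⟩ ⟨.c2, .c10, .c2⟩ ⟨.c2, .c10, .c3⟩ ⟨.c2, .c10, .c4⟩ ⟨.c2, .c12, .c1⟩ ⟨.c2, .c10, .c6⟩ ⟨.c2, .c10, .c7⟩ ⟨.c3, .c8, .c11⟩ ⟨.c2, .c10, .c9⟩ ⟨.c2, .c10, .c10⟩ ⟨.c2, .c5, .c15⟩ ⟨.c3, .c8, .c16⟩ ⟨.c2, .c10, .c13⟩ ⟨.c2, .c10, .c14⟩ ⟨.c2, .c10, .c15⟩ ⟨.c2, .c6, .c0⟩ ⟨.c2, .c13, .c14⟩ ⟨.c2, .c11, .c0⟩)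
def f_a_3 : D2 → D3 → Pt := @D2.rec (fun _ => D3 → Pt) (@D3.rec (fun _ => Pt) ⟨.c2, .c11, .c1⟩ ⟨.c2, .c11, .c2⟩ ⟨.c2, .c6, .c4⟩ ⟨.c2, .c13, .c11⟩ ⟨.c3, .c9, .c7⟩ ⟨.c2, .c11, .c6⟩ ⟨.c2, .c11, .c7⟩ ⟨.c2, .c6, .c9⟩ ⟨.c3, .c9, .c9⟩ ⟨.c3, .c9, .c10⟩ ⟨.c2, .c11, .c11⟩ ⟨.c2, .c11, .c12⟩ ⟨.c2, .c11, .c13⟩ ⟨.c2, .c6, .c14⟩ ⟨.c3, .c9, .c15⟩ ⟨.c2, .c6, .c17⟩ ⟨.c2, .c7, .c9⟩ ⟨.c3, .c0, .c17⟩) (@D3.rec (fun _ => Pt) ⟨.c3, .c1, .c0⟩ ⟨.c3, .c1, .c1⟩ ⟨.c3, .c1, .c2⟩ ⟨.c3, .c1, .c3⟩ ⟨.c3, .c1, .c4⟩ ⟨.c3, .c1, .c5⟩ ⟨.c3, .c10, .c10⟩ ⟨.c3, .c1, .c7⟩ ⟨.c3, .c1, .c8⟩ ⟨.c3,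 .c1, .c9⟩ ⟨.c3, .c10, .c16⟩ ⟨.c3, .c1, .c11⟩ ⟨.c3, .c1, .c12⟩ ⟨.c2, .c8, .c2⟩ ⟨.c3, .c11, .c2⟩ ⟨.c3, .c1, .c15⟩ ⟨.c3, .c1, .c16⟩ ⟨.c3, .c1, .c17⟩) (@D3.rec (fun _ => Pt) ⟨.c3, .c2, .c0⟩ ⟨.c3, .c2, .c1⟩ ⟨.c3, .c2, .c2⟩ ⟨.c3, .c11, .c13⟩ ⟨.c3, .c2, .c4⟩ ⟨.c3, .c2, .c5⟩ ⟨.c3, .c12, .c0⟩ ⟨.c3, .c2, .c7⟩ ⟨.c3, .c2, .c8⟩ ⟨.c2, .c8, .c11⟩ ⟨.c3, .c12, .c5⟩ ⟨.c3, .c2, .c11⟩ ⟨.c3, .c2, .c12⟩ ⟨.c3, .c2, .c13⟩ ⟨.c2, .c8, .c14⟩ ⟨.c3, .c12, .c11⟩ ⟨.c3, .c2, .c16⟩ ⟨.c3, .c2, .c17⟩) (@D3.rec (fun _ => Pt) ⟨.c3, .c3, .c0⟩ ⟨.c2, .c9, .c0⟩ ⟨.c3, .c12, .c17⟩ ⟨.c3, .c13,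 .c0⟩ ⟨.c3, .c3, .c4⟩ ⟨.c3, .c3, .c5⟩ ⟨.c3, .c3, .c6⟩ ⟨.c2, .c9, .c5⟩ ⟨.c3, .c13, .c9⟩ ⟨.c3, .c13, .c10⟩ ⟨.c3, .c3, .c10⟩ ⟨.c3, .c3, .c11⟩ ⟨.c3, .c3, .c12⟩ ⟨.c2, .c9, .c10⟩ ⟨.c2, .c9, .c11⟩ ⟨.c3, .c14, .c1⟩ ⟨.c3, .c14, .c2⟩ ⟨.c3, .c14, .c3⟩) (@D3.rec (fun _ => Pt) ⟨.c3, .c4, .c0⟩ ⟨.c3, .c4, .c1⟩ ⟨.c3, .c4, .c2⟩ ⟨.c3, .c4, .c3⟩ ⟨.c3, .c4, .c4⟩ ⟨.c3, .c4, .c5⟩ ⟨.c3, .c8, .c4⟩ ⟨.c2, .c12, .c0⟩ ⟨.c3, .c8, .c5⟩ ⟨.c3, .c8, .c6⟩ ⟨.c2, .c10, .c5⟩ ⟨.c3, .c14, .c16⟩ ⟨.c3, .c8, .c8⟩ ⟨.c3, .c8, .c9⟩ ⟨.c3, .c8, .c10⟩ ⟨.c2, .c10, .c8⟩ ⟨.c4, .c0, .c4⟩ ⟨.c3, .c8, .c13⟩)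 (@D3.rec (fun _ => Pt) ⟨.c3, .c8, .c14⟩ ⟨.c3, .c8, .c15⟩ ⟨.c2, .c10, .c12⟩ ⟨.c4, .c0, .c10⟩ ⟨.c4, .c0, .c11⟩ ⟨.c3, .c9, .c1⟩ ⟨.c3, .c9, .c2⟩ ⟨.c3, .c9, .c3⟩ ⟨.c2, .c10, .c17⟩ ⟨.c2, .c13, .c13⟩ ⟨.c4, .c1, .c2⟩ ⟨.c3, .c9, .c5⟩ ⟨.c3, .c9, .c6⟩ ⟨.c2, .c11, .c4⟩ ⟨.c2, .c11, .c5⟩ ⟨.c4, .c1, .c7⟩ ⟨.c4, .c1, .c5⟩ ⟨.c4, .c1, .c4⟩) (@D3.rec (fun _ => Pt) ⟨.c3, .c9, .c8⟩ ⟨.c3, .c9, .c4⟩ ⟨.c2, .c11, .c9⟩ ⟨.c2, .c11, .c10⟩ ⟨.c4, .c1, .c11⟩ ⟨.c4, .c1, .c12⟩ ⟨.c3, .c14, .c12⟩ ⟨.c4, .c1, .c13⟩ ⟨.c3, .c9, .c13⟩ ⟨.c3, .c9, .c14⟩ ⟨.c3, .c8, .c7⟩ ⟨.c2, .c11, .c15⟩ ⟨.c2,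 .c11, .c17⟩ ⟨.c3, .c11, .c10⟩ ⟨.c4, .c2, .c3⟩ ⟨.c2, .c12, .c3⟩ ⟨.c4, .c2, .c4⟩ ⟨.c3, .c6, .c17⟩) (@D3.rec (fun _ => Pt) ⟨.c2, .c12, .c6⟩ ⟨.c4, .c2, .c6⟩ ⟨.c4, .c2, .c7⟩ ⟨.c3, .c7, .c3⟩ ⟨.c3, .c7, .c4⟩ ⟨.c2, .c12, .c10⟩ ⟨.c4, .c2, .c13⟩ ⟨.c2, .c13, .c12⟩ ⟨.c3, .c7, .c8⟩ ⟨.c3, .c7, .c9⟩ ⟨.c3, .c7, .c10⟩ ⟨.c2, .c12, .c15⟩ ⟨.c2, .c12, .c16⟩ ⟨.c4, .c2, .c15⟩ ⟨.c4, .c2, .c14⟩ ⟨.c4, .c3, .c0⟩ ⟨.c4, .c1, .c3⟩ ⟨.c3, .c7, .c17⟩) (@D3.rec (fun _ => Pt) ⟨.c2, .c13, .c4⟩ ⟨.c2, .c13, .c5⟩ ⟨.c2, .c13, .c6⟩ ⟨.c4, .c3, .c3⟩ ⟨.c3, .c4, .c6⟩ ⟨.c3, .c4, .c8⟩ ⟨.c3, .c4,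 .c9⟩ ⟨.c3, .c6, .c10⟩ ⟨.c3, .c4, .c12⟩ ⟨.c3, .c4, .c13⟩ ⟨.c3, .c4, .c14⟩ ⟨.c2, .c14, .c7⟩ ⟨.c4, .c3, .c13⟩ ⟨.c3, .c4, .c17⟩ ⟨.c3, .c5, .c0⟩ ⟨.c3, .c5, .c1⟩ ⟨.c2, .c14, .c11⟩ ⟨.c4, .c4, .c1⟩) (@D3.rec (fun _ => Pt) ⟨.c4, .c4, .c2⟩ ⟨.c3, .c5, .c5⟩ ⟨.c3, .c5, .c6⟩ ⟨.c3, .c5, .c7⟩ ⟨.c3, .c6, .c1⟩ ⟨.c3, .c5, .c11⟩ ⟨.c3, .c5, .c12⟩ ⟨.c3, .c0, .c4⟩ ⟨.c3, .c6, .c0⟩ ⟨.c3, .c0, .c8⟩ ⟨.c3, .c0, .c9⟩ ⟨.c4, .c4, .c8⟩ ⟨.c4, .c4, .c9⟩ ⟨.c3, .c6, .c8⟩ ⟨.c3, .c6, .c9⟩ ⟨.c3, .c0, .c14⟩ ⟨.c3, .c9, .c16⟩ ⟨.c3, .c9, .c17⟩) (@D3.rec (fun _ => Pt) ⟨.c3, .c10, .c0⟩ ⟨.c3, .c10,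 .c1⟩ ⟨.c4, .c5, .c0⟩ ⟨.c3, .c10, .c3⟩ ⟨.c3, .c10, .c4⟩ ⟨.c3, .c10, .c5⟩ ⟨.c3, .c10, .c6⟩ ⟨.c4, .c5, .c7⟩ ⟨.c3, .c10, .c8⟩ ⟨.c3, .c10, .c9⟩ ⟨.c3, .c1, .c6⟩ ⟨.c4, .c5, .c11⟩ ⟨.c3, .c10, .c12⟩ ⟨.c3, .c10, .c13⟩ ⟨.c3, .c10, .c14⟩ ⟨.c4, .c5, .c17⟩ ⟨.c3, .c1, .c10⟩ ⟨.c4, .c6, .c0⟩) (@D3.rec (fun _ => Pt) ⟨.c3, .c11, .c0⟩ ⟨.c3, .c11, .c1⟩ ⟨.c3, .c1, .c14⟩ ⟨.c4, .c6, .c4⟩ ⟨.c4, .c6, .c5⟩ ⟨.c3, .c11, .c5⟩ ⟨.c3, .c11, .c6⟩ ⟨.c3, .c11, .c7⟩ ⟨.c3, .c11, .c8⟩ ⟨.c3, .c11, .c9⟩ ⟨.c3, .c6, .c13⟩ ⟨.c3, .c11, .c11⟩ ⟨.c3, .c11, .c12⟩ ⟨.c3, .c2, .c3⟩ ⟨.c4, .c7, .c2⟩ ⟨.c3,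 .c11, .c15⟩ ⟨.c3, .c11, .c16⟩ ⟨.c3, .c11, .c17⟩) (@D3.rec (fun _ => Pt) ⟨.c3, .c2, .c6⟩ ⟨.c4, .c7, .c8⟩ ⟨.c3, .c12, .c2⟩ ⟨.c3, .c12, .c3⟩ ⟨.c3, .c12, .c4⟩ ⟨.c3, .c2, .c10⟩ ⟨.c4, .c7, .c14⟩ ⟨.c4, .c7, .c15⟩ ⟨.c3, .c12, .c8⟩ ⟨.c3, .c12, .c9⟩ ⟨.c3, .c12, .c10⟩ ⟨.c3, .c2, .c15⟩ ⟨.c4, .c8, .c6⟩ ⟨.c4, .c8, .c7⟩ ⟨.c3, .c12, .c14⟩ ⟨.c3, .c12, .c15⟩ ⟨.c3, .c12, .c16⟩ ⟨.c3, .c3, .c2⟩) (@D3.rec (fun _ => Pt) ⟨.c3, .c3, .c3⟩ ⟨.c4, .c8, .c16⟩ ⟨.c4, .c8, .c17⟩ ⟨.c4, .c9, .c0⟩ ⟨.c4, .c9, .c1⟩ ⟨.c3, .c13, .c5⟩ ⟨.c3, .c13, .c6⟩ ⟨.c3, .c13, .c7⟩ ⟨.c3, .c13, .c8⟩ ⟨.c3,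 .c3, .c8⟩ ⟨.c3, .c3, .c9⟩ ⟨.c4, .c9, .c10⟩ ⟨.c4, .c9, .c11⟩ ⟨.c4, .c9, .c12⟩ ⟨.c4, .c9, .c13⟩ ⟨.c3, .c13, .c15⟩ ⟨.c3, .c13, .c16⟩ ⟨.c3, .c13, .c17⟩) (@D3.rec (fun _ => Pt) ⟨.c3, .c14, .c0⟩ ⟨.c3, .c3, .c15⟩ ⟨.c3, .c3, .c16⟩ ⟨.c3, .c3, .c17⟩ ⟨.c4, .c10, .c6⟩ ⟨.c4, .c10, .c7⟩ ⟨.c4, .c10, .c8⟩ ⟨.c4, .c10, .c9⟩ ⟨.c3, .c14, .c8⟩ ⟨.c3, .c14, .c9⟩ ⟨.c3, .c14, .c10⟩ ⟨.c4, .c3, .c4⟩ ⟨.c3, .c6, .c6⟩ ⟨.c4, .c3, .c5⟩ ⟨.c4, .c3, .c6⟩ ⟨.c4, .c3, .c7⟩ ⟨.c3, .c4, .c11⟩ ⟨.c4, .c11, .c1⟩)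
def f_a_4 : D2 → D3 → Pt := @D2.rec (fun _ => D3 → Pt) (@D3.rec (fun _ => Pt) ⟨.c4, .c11, .c2⟩ ⟨.c4, .c3, .c10⟩ ⟨.c4, .c3, .c11⟩ ⟨.c4, .c3, .c12⟩ ⟨.c3, .c4, .c16⟩ ⟨.c4, .c11, .c11⟩ ⟨.c4, .c11, .c12⟩ ⟨.c4, .c3, .c16⟩ ⟨.c4, .c3, .c17⟩ ⟨.c4, .c4, .c0⟩ ⟨.c3, .c5, .c3⟩ ⟨.c3, .c5, .c4⟩ ⟨.c4, .c12, .c3⟩ ⟨.c4, .c12, .c4⟩ ⟨.c4, .c10, .c15⟩ ⟨.c4, .c12, .c5⟩ ⟨.c4, .c4, .c5⟩ ⟨.c4, .c4, .c6⟩) (@D3.rec (fun _ => Pt) ⟨.c4, .c4, .c7⟩ ⟨.c4, .c3, .c8⟩ ⟨.c3, .c5, .c10⟩ ⟨.c3, .c7, .c16⟩ ⟨.c3, .c5, .c17⟩ ⟨.c3, .c5, .c16⟩ ⟨.c4, .c4, .c4⟩ ⟨.c3, .c5, .c15⟩ ⟨.c4, .c8, .c11⟩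 ⟨.c4, .c11, .c16⟩ ⟨.c4, .c3, .c15⟩ ⟨.c3, .c6, .c4⟩ ⟨.c3, .c6, .c5⟩ ⟨.c3, .c6, .c7⟩ ⟨.c4, .c12, .c16⟩ ⟨.c4, .c6, .c16⟩ ⟨.c4, .c12, .c17⟩ ⟨.c4, .c10, .c16⟩) (@D3.rec (fun _ => Pt) ⟨.c4, .c4, .c11⟩ ⟨.c4, .c3, .c9⟩ ⟨.c4, .c4, .c15⟩ ⟨.c3, .c6, .c14⟩ ⟨.c3, .c6, .c16⟩ ⟨.c4, .c13, .c6⟩ ⟨.c3, .c7, .c1⟩ ⟨.c3, .c7, .c2⟩ ⟨.c4, .c13, .c8⟩ ⟨.c4, .c13, .c9⟩ ⟨.c4, .c13, .c10⟩ ⟨.c4, .c2, .c11⟩ ⟨.c4, .c2, .c12⟩ ⟨.c3, .c7, .c6⟩ ⟨.c3, .c7, .c14⟩ ⟨.c3, .c7, .c13⟩ ⟨.c4, .c13, .c7⟩ ⟨.c4, .c2, .c17⟩) (@D3.rec (fun _ => Pt) ⟨.c3, .c7, .c15⟩ ⟨.c4, .c13, .c11⟩ ⟨.c4, .c8, .c8⟩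 ⟨.c3, .c8, .c3⟩ ⟨.c3, .c14, .c11⟩ ⟨.c3, .c14, .c13⟩ ⟨.c3, .c14, .c14⟩ ⟨.c3, .c14, .c15⟩ ⟨.c4, .c1, .c1⟩ ⟨.c4, .c2, .c1⟩ ⟨.c4, .c0, .c1⟩ ⟨.c4, .c0, .c2⟩ ⟨.c4, .c0, .c3⟩ ⟨.c3, .c8, .c12⟩ ⟨.c4, .c14, .c4⟩ ⟨.c4, .c1, .c10⟩ ⟨.c4, .c0, .c7⟩ ⟨.c4, .c0, .c8⟩) (@D3.rec (fun _ => Pt) ⟨.c4, .c0, .c9⟩ ⟨.c3, .c8, .c17⟩ ⟨.c3, .c9, .c0⟩ ⟨.c4, .c14, .c9⟩ ⟨.c4, .c1, .c6⟩ ⟨.c4, .c0, .c16⟩ ⟨.c4, .c0, .c17⟩ ⟨.c4, .c1, .c0⟩ ⟨.c3, .c9, .c11⟩ ⟨.c3, .c9, .c12⟩ ⟨.c4, .c14, .c12⟩ ⟨.c4, .c2, .c0⟩ ⟨.c4, .c14, .c13⟩ ⟨.c4, .c4, .c13⟩ ⟨.c4, .c4, .c14⟩ ⟨.c4, .c2, .c2⟩ ⟨.c4, .c4, .c16⟩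 ⟨.c4, .c4, .c17⟩) (@D3.rec (fun _ => Pt) ⟨.c3, .c10, .c2⟩ ⟨.c5, .c0, .c3⟩ ⟨.c4, .c5, .c2⟩ ⟨.c4, .c5, .c3⟩ ⟨.c4, .c5, .c4⟩ ⟨.c5, .c0, .c9⟩ ⟨.c4, .c5, .c6⟩ ⟨.c3, .c10, .c7⟩ ⟨.c5, .c0, .c12⟩ ⟨.c4, .c5, .c9⟩ ⟨.c4, .c5, .c10⟩ ⟨.c3, .c10, .c11⟩ ⟨.c5, .c0, .c17⟩ ⟨.c5, .c1, .c0⟩ ⟨.c4, .c5, .c14⟩ ⟨.c4, .c5, .c15⟩ ⟨.c4, .c5, .c16⟩ ⟨.c3, .c10, .c15⟩) (@D3.rec (fun _ => Pt) ⟨.c3, .c10, .c17⟩ ⟨.c5, .c1, .c9⟩ ⟨.c5, .c1, .c10⟩ ⟨.c4, .c6, .c3⟩ ⟨.c3, .c11, .c3⟩ ⟨.c3, .c11, .c4⟩ ⟨.c5, .c1, .c14⟩ ⟨.c5, .c1, .c15⟩ ⟨.c5, .c1, .c16⟩ ⟨.c5, .c1, .c17⟩ ⟨.c4, .c6, .c10⟩ ⟨.c4,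 .c6, .c11⟩ ⟨.c4, .c6, .c12⟩ ⟨.c4, .c6, .c13⟩ ⟨.c4, .c6, .c14⟩ ⟨.c4, .c6, .c15⟩ ⟨.c4, .c1, .c15⟩ ⟨.c4, .c6, .c17⟩) (@D3.rec (fun _ => Pt) ⟨.c4, .c7, .c0⟩ ⟨.c4, .c7, .c1⟩ ⟨.c3, .c11, .c14⟩ ⟨.c5, .c3, .c0⟩ ⟨.c5, .c3, .c1⟩ ⟨.c4, .c7, .c5⟩ ⟨.c4, .c7, .c6⟩ ⟨.c4, .c7, .c7⟩ ⟨.c3, .c12, .c1⟩ ⟨.c5, .c3, .c10⟩ ⟨.c5, .c3, .c11⟩ ⟨.c4, .c7, .c11⟩ ⟨.c4, .c7, .c12⟩ ⟨.c4, .c7, .c13⟩ ⟨.c3, .c12, .c6⟩ ⟨.c3, .c12, .c7⟩ ⟨.c5, .c4, .c2⟩ ⟨.c5, .c4, .c3⟩) (@D3.rec (fun _ => Pt) ⟨.c5, .c4, .c4⟩ ⟨.c5, .c4, .c5⟩ ⟨.c4, .c8, .c2⟩ ⟨.c4, .c8, .c3⟩ ⟨.c4, .c8, .c4⟩ ⟨.c4, .c8, .c5⟩ ⟨.c3,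 .c12, .c12⟩ ⟨.c3, .c12, .c13⟩ ⟨.c4, .c3, .c2⟩ ⟨.c5, .c4, .c16⟩ ⟨.c5, .c1, .c11⟩ ⟨.c4, .c1, .c8⟩ ⟨.c4, .c8, .c12⟩ ⟨.c4, .c8, .c13⟩ ⟨.c4, .c8, .c14⟩ ⟨.c4, .c8, .c15⟩ ⟨.c3, .c13, .c1⟩ ⟨.c3, .c13, .c2⟩) (@D3.rec (fun _ => Pt) ⟨.c3, .c13, .c3⟩ ⟨.c3, .c13, .c4⟩ ⟨.c5, .c5, .c1⟩ ⟨.c5, .c2, .c5⟩ ⟨.c5, .c5, .c5⟩ ⟨.c5, .c4, .c17⟩ ⟨.c5, .c5, .c6⟩ ⟨.c5, .c2, .c1⟩ ⟨.c4, .c9, .c8⟩ ⟨.c4, .c9, .c9⟩ ⟨.c3, .c13, .c11⟩ ⟨.c3, .c13, .c12⟩ ⟨.c3, .c13, .c13⟩ ⟨.c3, .c13, .c14⟩ ⟨.c5, .c5, .c12⟩ ⟨.c5, .c5, .c13⟩ ⟨.c5, .c5, .c14⟩ ⟨.c5, .c5, .c15⟩) (@D3.rec (fun _ => Pt) ⟨.c5, .c5,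 .c16⟩ ⟨.c5, .c5, .c17⟩ ⟨.c4, .c10, .c2⟩ ⟨.c4, .c10, .c3⟩ ⟨.c4, .c10, .c4⟩ ⟨.c4, .c10, .c5⟩ ⟨.c3, .c14, .c4⟩ ⟨.c3, .c14, .c5⟩ ⟨.c3, .c14, .c6⟩ ⟨.c3, .c14, .c7⟩ ⟨.c5, .c6, .c13⟩ ⟨.c5, .c6, .c14⟩ ⟨.c4, .c10, .c12⟩ ⟨.c4, .c10, .c13⟩ ⟨.c4, .c13, .c12⟩ ⟨.c4, .c0, .c14⟩ ⟨.c4, .c1, .c17⟩ ⟨.c4, .c13, .c13⟩) (@D3.rec (fun _ => Pt) ⟨.c4, .c13, .c14⟩ ⟨.c3, .c14, .c17⟩ ⟨.c4, .c0, .c0⟩ ⟨.c5, .c7, .c5⟩ ⟨.c5, .c7, .c6⟩ ⟨.c5, .c7, .c7⟩ ⟨.c5, .c7, .c8⟩ ⟨.c4, .c14, .c1⟩ ⟨.c4, .c14, .c2⟩ ⟨.c4, .c14, .c3⟩ ⟨.c4, .c13, .c15⟩ ⟨.c4, .c0, .c5⟩ ⟨.c4, .c0, .c6⟩ ⟨.c5, .c8, .c1⟩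 ⟨.c5, .c8, .c2⟩ ⟨.c5, .c7, .c14⟩ ⟨.c4, .c1, .c9⟩ ⟨.c4, .c14, .c6⟩) (@D3.rec (fun _ => Pt) ⟨.c4, .c14, .c7⟩ ⟨.c4, .c14, .c8⟩ ⟨.c4, .c13, .c17⟩ ⟨.c4, .c0, .c12⟩ ⟨.c4, .c0, .c13⟩ ⟨.c4, .c0, .c15⟩ ⟨.c5, .c8, .c8⟩ ⟨.c5, .c7, .c0⟩ ⟨.c5, .c8, .c6⟩ ⟨.c5, .c8, .c5⟩ ⟨.c5, .c7, .c1⟩ ⟨.c4, .c14, .c5⟩ ⟨.c4, .c14, .c10⟩ ⟨.c4, .c14, .c11⟩ ⟨.c4, .c13, .c16⟩ ⟨.c5, .c3, .c15⟩ ⟨.c4, .c1, .c14⟩ ⟨.c4, .c1, .c16⟩) (@D3.rec (fun _ => Pt) ⟨.c5, .c8, .c16⟩ ⟨.c5, .c2, .c14⟩ ⟨.c5, .c2, .c13⟩ ⟨.c5, .c7, .c2⟩ ⟨.c4, .c14, .c0⟩ ⟨.c5, .c0, .c0⟩ ⟨.c4, .c2, .c5⟩ ⟨.c4, .c2, .c16⟩ ⟨.c4,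 .c2, .c8⟩ ⟨.c4, .c2, .c9⟩ ⟨.c4, .c2, .c10⟩ ⟨.c4, .c3, .c1⟩ ⟨.c4, .c10, .c14⟩ ⟨.c4, .c10, .c17⟩ ⟨.c4, .c11, .c0⟩ ⟨.c4, .c11, .c10⟩ ⟨.c4, .c12, .c14⟩ ⟨.c4, .c12, .c2⟩) (@D3.rec (fun _ => Pt) ⟨.c4, .c13, .c4⟩ ⟨.c4, .c11, .c7⟩ ⟨.c4, .c11, .c8⟩ ⟨.c4, .c11, .c9⟩ ⟨.c4, .c3, .c14⟩ ⟨.c4, .c12, .c11⟩ ⟨.c4, .c11, .c17⟩ ⟨.c4, .c12, .c0⟩ ⟨.c4, .c12, .c1⟩ ⟨.c4, .c4, .c3⟩ ⟨.c4, .c12, .c12⟩ ⟨.c4, .c12, .c13⟩ ⟨.c4, .c4, .c10⟩ ⟨.c4, .c4, .c12⟩ ⟨.c5, .c9, .c9⟩ ⟨.c4, .c14, .c15⟩ ⟨.c4, .c14, .c16⟩ ⟨.c4, .c14, .c17⟩)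
def f_a_5 : D2 → D3 → Pt := @D2.rec (fun _ => D3 → Pt) (@D3.rec (fun _ => Pt) ⟨.c4, .c13, .c5⟩ ⟨.c5, .c0, .c1⟩ ⟨.c5, .c0, .c2⟩ ⟨.c4, .c5, .c1⟩ ⟨.c5, .c10, .c1⟩ ⟨.c5, .c10, .c2⟩ ⟨.c5, .c0, .c6⟩ ⟨.c5, .c0, .c7⟩ ⟨.c5, .c0, .c8⟩ ⟨.c4, .c5, .c5⟩ ⟨.c5, .c10, .c11⟩ ⟨.c5, .c0, .c11⟩ ⟨.c4, .c5, .c8⟩ ⟨.c5, .c10, .c14⟩ ⟨.c5, .c10, .c15⟩ ⟨.c5, .c0, .c15⟩ ⟨.c5, .c0, .c16⟩ ⟨.c4, .c5, .c12⟩) (@D3.rec (fun _ => Pt) ⟨.c4, .c5, .c13⟩ ⟨.c5, .c11, .c4⟩ ⟨.c5, .c11, .c5⟩ ⟨.c5, .c11, .c6⟩ ⟨.c5, .c11, .c7⟩ ⟨.c5, .c1, .c5⟩ ⟨.c5, .c1, .c6⟩ ⟨.c5, .c1, .c7⟩ ⟨.c5, .c1, .c8⟩ ⟨.c4,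 .c6, .c1⟩ ⟨.c4, .c6, .c2⟩ ⟨.c4, .c8, .c10⟩ ⟨.c5, .c12, .c0⟩ ⟨.c5, .c1, .c13⟩ ⟨.c4, .c6, .c6⟩ ⟨.c4, .c6, .c7⟩ ⟨.c4, .c6, .c8⟩ ⟨.c4, .c6, .c9⟩) (@D3.rec (fun _ => Pt) ⟨.c5, .c12, .c3⟩ ⟨.c4, .c9, .c7⟩ ⟨.c5, .c12, .c4⟩ ⟨.c5, .c12, .c5⟩ ⟨.c5, .c12, .c6⟩ ⟨.c4, .c9, .c3⟩ ⟨.c5, .c2, .c6⟩ ⟨.c5, .c2, .c7⟩ ⟨.c5, .c2, .c8⟩ ⟨.c5, .c2, .c9⟩ ⟨.c5, .c2, .c10⟩ ⟨.c5, .c2, .c11⟩ ⟨.c5, .c2, .c12⟩ ⟨.c4, .c13, .c2⟩ ⟨.c4, .c13, .c1⟩ ⟨.c5, .c2, .c15⟩ ⟨.c5, .c2, .c16⟩ ⟨.c5, .c2, .c17⟩) (@D3.rec (fun _ => Pt) ⟨.c4, .c7, .c3⟩ ⟨.c4, .c7, .c4⟩ ⟨.c5, .c13, .c7⟩ ⟨.c5, .c13, .c8⟩ ⟨.c5,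 .c13, .c9⟩ ⟨.c5, .c13, .c10⟩ ⟨.c5, .c3, .c6⟩ ⟨.c5, .c3, .c7⟩ ⟨.c5, .c3, .c8⟩ ⟨.c5, .c3, .c9⟩ ⟨.c4, .c7, .c9⟩ ⟨.c4, .c7, .c10⟩ ⟨.c5, .c14, .c3⟩ ⟨.c5, .c14, .c4⟩ ⟨.c5, .c14, .c5⟩ ⟨.c4, .c12, .c15⟩ ⟨.c5, .c3, .c16⟩ ⟨.c5, .c3, .c17⟩) (@D3.rec (fun _ => Pt) ⟨.c5, .c4, .c0⟩ ⟨.c5, .c4, .c1⟩ ⟨.c4, .c7, .c16⟩ ⟨.c4, .c7, .c17⟩ ⟨.c4, .c8, .c0⟩ ⟨.c4, .c8, .c1⟩ ⟨.c5, .c14, .c17⟩ ⟨.c6, .c0, .c0⟩ ⟨.c6, .c0, .c1⟩ ⟨.c6, .c0, .c2⟩ ⟨.c6, .c0, .c3⟩ ⟨.c6, .c0, .c4⟩ ⟨.c5, .c4, .c12⟩ ⟨.c5, .c4, .c13⟩ ⟨.c5, .c4, .c14⟩ ⟨.c5, .c4, .c15⟩ ⟨.c4, .c8, .c9⟩ ⟨.c4, .c9, .c5⟩) (@D3.rec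 (fun _ => Pt) ⟨.c6, .c1, .c1⟩ ⟨.c4, .c9, .c2⟩ ⟨.c5, .c12, .c1⟩ ⟨.c5, .c5, .c3⟩ ⟨.c5, .c5, .c4⟩ ⟨.c4, .c9, .c4⟩ ⟨.c4, .c9, .c6⟩ ⟨.c6, .c1, .c3⟩ ⟨.c5, .c12, .c10⟩ ⟨.c6, .c1, .c2⟩ ⟨.c6, .c1, .c5⟩ ⟨.c5, .c5, .c11⟩ ⟨.c4, .c9, .c14⟩ ⟨.c4, .c9, .c15⟩ ⟨.c4, .c9, .c16⟩ ⟨.c4, .c9, .c17⟩ ⟨.c4, .c10, .c0⟩ ⟨.c4, .c10, .c1⟩) (@D3.rec (fun _ => Pt) ⟨.c6, .c1, .c10⟩ ⟨.c6, .c1, .c11⟩ ⟨.c6, .c1, .c12⟩ ⟨.c5, .c13, .c1⟩ ⟨.c6, .c1, .c13⟩ ⟨.c6, .c1, .c14⟩ ⟨.c6, .c1, .c15⟩ ⟨.c6, .c1, .c16⟩ ⟨.c6, .c1, .c17⟩ ⟨.c5, .c6, .c9⟩ ⟨.c5, .c6, .c10⟩ ⟨.c5, .c6, .c11⟩ ⟨.c5, .c6, .c12⟩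 ⟨.c4, .c10, .c10⟩ ⟨.c4, .c10, .c11⟩ ⟨.c6, .c2, .c14⟩ ⟨.c5, .c6, .c16⟩ ⟨.c6, .c2, .c17⟩) (@D3.rec (fun _ => Pt) ⟨.c4, .c12, .c7⟩ ⟨.c4, .c12, .c10⟩ ⟨.c4, .c13, .c3⟩ ⟨.c5, .c9, .c3⟩ ⟨.c5, .c9, .c4⟩ ⟨.c4, .c11, .c3⟩ ⟨.c4, .c11, .c4⟩ ⟨.c4, .c11, .c5⟩ ⟨.c4, .c11, .c6⟩ ⟨.c6, .c3, .c4⟩ ⟨.c6, .c3, .c5⟩ ⟨.c6, .c3, .c6⟩ ⟨.c6, .c3, .c7⟩ ⟨.c6, .c3, .c8⟩ ⟨.c4, .c11, .c15⟩ ⟨.c5, .c9, .c8⟩ ⟨.c5, .c9, .c7⟩ ⟨.c5, .c9, .c6⟩) (@D3.rec (fun _ => Pt) ⟨.c5, .c9, .c5⟩ ⟨.c4, .c11, .c13⟩ ⟨.c4, .c11, .c14⟩ ⟨.c6, .c3, .c14⟩ ⟨.c6, .c3, .c3⟩ ⟨.c4, .c12, .c9⟩ ⟨.c4, .c12, .c8⟩ ⟨.c6,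 .c3, .c13⟩ ⟨.c4, .c12, .c6⟩ ⟨.c6, .c3, .c16⟩ ⟨.c6, .c3, .c15⟩ ⟨.c6, .c3, .c0⟩ ⟨.c5, .c12, .c17⟩ ⟨.c6, .c3, .c1⟩ ⟨.c6, .c3, .c2⟩ ⟨.c5, .c14, .c9⟩ ⟨.c4, .c13, .c0⟩ ⟨.c5, .c13, .c2⟩) (@D3.rec (fun _ => Pt) ⟨.c5, .c13, .c0⟩ ⟨.c5, .c9, .c15⟩ ⟨.c5, .c9, .c16⟩ ⟨.c5, .c7, .c3⟩ ⟨.c5, .c7, .c4⟩ ⟨.c5, .c8, .c0⟩ ⟨.c5, .c7, .c17⟩ ⟨.c5, .c7, .c16⟩ ⟨.c5, .c7, .c15⟩ ⟨.c4, .c14, .c14⟩ ⟨.c6, .c4, .c9⟩ ⟨.c6, .c4, .c10⟩ ⟨.c5, .c9, .c12⟩ ⟨.c5, .c9, .c13⟩ ⟨.c5, .c9, .c14⟩ ⟨.c5, .c9, .c1⟩ ⟨.c5, .c9, .c2⟩ ⟨.c5, .c9, .c17⟩) (@D3.rec (fun _ => Pt) ⟨.c5, .c10, .c0⟩ ⟨.c5, .c0,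 .c4⟩ ⟨.c5, .c0, .c5⟩ ⟨.c6, .c5, .c7⟩ ⟨.c6, .c5, .c8⟩ ⟨.c6, .c5, .c9⟩ ⟨.c6, .c5, .c10⟩ ⟨.c5, .c10, .c7⟩ ⟨.c5, .c10, .c8⟩ ⟨.c5, .c10, .c9⟩ ⟨.c5, .c10, .c10⟩ ⟨.c5, .c0, .c10⟩ ⟨.c6, .c6, .c3⟩ ⟨.c5, .c10, .c13⟩ ⟨.c5, .c0, .c13⟩ ⟨.c5, .c0, .c14⟩ ⟨.c6, .c6, .c7⟩ ⟨.c6, .c6, .c8⟩) (@D3.rec (fun _ => Pt) ⟨.c6, .c6, .c9⟩ ⟨.c5, .c11, .c1⟩ ⟨.c5, .c11, .c2⟩ ⟨.c5, .c11, .c3⟩ ⟨.c5, .c1, .c1⟩ ⟨.c5, .c1, .c2⟩ ⟨.c5, .c1, .c3⟩ ⟨.c5, .c1, .c4⟩ ⟨.c6, .c7, .c0⟩ ⟨.c6, .c7, .c1⟩ ⟨.c6, .c7, .c2⟩ ⟨.c6, .c7, .c3⟩ ⟨.c6, .c7, .c4⟩ ⟨.c6, .c7, .c5⟩ ⟨.c5, .c11, .c14⟩ ⟨.c5, .c11, .c15⟩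 ⟨.c5, .c11, .c16⟩ ⟨.c5, .c11, .c17⟩) (@D3.rec (fun _ => Pt) ⟨.c5, .c1, .c12⟩ ⟨.c5, .c5, .c2⟩ ⟨.c6, .c8, .c2⟩ ⟨.c5, .c2, .c0⟩ ⟨.c5, .c2, .c2⟩ ⟨.c5, .c2, .c3⟩ ⟨.c5, .c2, .c4⟩ ⟨.c6, .c8, .c4⟩ ⟨.c6, .c8, .c5⟩ ⟨.c6, .c8, .c6⟩ ⟨.c5, .c5, .c8⟩ ⟨.c5, .c12, .c11⟩ ⟨.c5, .c12, .c12⟩ ⟨.c5, .c12, .c13⟩ ⟨.c5, .c12, .c14⟩ ⟨.c5, .c12, .c15⟩ ⟨.c5, .c12, .c16⟩ ⟨.c5, .c8, .c12⟩) (@D3.rec (fun _ => Pt) ⟨.c5, .c9, .c0⟩ ⟨.c5, .c6, .c3⟩ ⟨.c5, .c8, .c17⟩ ⟨.c5, .c13, .c3⟩ ⟨.c5, .c13, .c4⟩ ⟨.c5, .c13, .c5⟩ ⟨.c5, .c13, .c6⟩ ⟨.c5, .c3, .c2⟩ ⟨.c5, .c3, .c3⟩ ⟨.c5, .c3, .c4⟩ ⟨.c5,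 .c3, .c5⟩ ⟨.c6, .c9, .c9⟩ ⟨.c6, .c9, .c10⟩ ⟨.c6, .c9, .c11⟩ ⟨.c6, .c9, .c12⟩ ⟨.c6, .c9, .c13⟩ ⟨.c6, .c9, .c14⟩ ⟨.c5, .c13, .c17⟩) (@D3.rec (fun _ => Pt) ⟨.c5, .c14, .c0⟩ ⟨.c5, .c14, .c1⟩ ⟨.c5, .c14, .c2⟩ ⟨.c5, .c3, .c12⟩ ⟨.c5, .c3, .c13⟩ ⟨.c5, .c3, .c14⟩ ⟨.c6, .c10, .c12⟩ ⟨.c6, .c10, .c13⟩ ⟨.c6, .c10, .c14⟩ ⟨.c5, .c8, .c15⟩ ⟨.c6, .c10, .c15⟩ ⟨.c6, .c10, .c16⟩ ⟨.c5, .c14, .c12⟩ ⟨.c5, .c14, .c13⟩ ⟨.c5, .c14, .c14⟩ ⟨.c5, .c14, .c15⟩ ⟨.c6, .c9, .c8⟩ ⟨.c5, .c4, .c6⟩)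
def f_a_6 : D2 → D3 → Pt := @D2.rec (fun _ => D3 → Pt) (@D3.rec (fun _ => Pt) ⟨.c5, .c4, .c7⟩ ⟨.c5, .c4, .c8⟩ ⟨.c5, .c4, .c9⟩ ⟨.c5, .c4, .c10⟩ ⟨.c5, .c4, .c11⟩ ⟨.c6, .c11, .c13⟩ ⟨.c6, .c11, .c14⟩ ⟨.c6, .c11, .c15⟩ ⟨.c6, .c8, .c17⟩ ⟨.c6, .c11, .c16⟩ ⟨.c6, .c11, .c17⟩ ⟨.c6, .c12, .c0⟩ ⟨.c6, .c12, .c1⟩ ⟨.c6, .c12, .c2⟩ ⟨.c6, .c0, .c14⟩ ⟨.c6, .c0, .c15⟩ ⟨.c6, .c0, .c16⟩ ⟨.c6, .c0, .c17⟩) (@D3.rec (fun _ => Pt) ⟨.c6, .c1, .c0⟩ ⟨.c5, .c5, .c0⟩ ⟨.c5, .c5, .c9⟩ ⟨.c5, .c5, .c7⟩ ⟨.c6, .c8, .c3⟩ ⟨.c5, .c5, .c10⟩ ⟨.c6, .c11, .c4⟩ ⟨.c6, .c8, .c8⟩ ⟨.c6, .c13, .c1⟩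 ⟨.c6, .c1, .c9⟩ ⟨.c5, .c6, .c0⟩ ⟨.c5, .c6, .c1⟩ ⟨.c5, .c6, .c2⟩ ⟨.c5, .c6, .c4⟩ ⟨.c5, .c6, .c5⟩ ⟨.c5, .c6, .c6⟩ ⟨.c5, .c6, .c7⟩ ⟨.c5, .c6, .c8⟩) (@D3.rec (fun _ => Pt) ⟨.c6, .c13, .c6⟩ ⟨.c6, .c13, .c7⟩ ⟨.c6, .c13, .c8⟩ ⟨.c6, .c9, .c2⟩ ⟨.c6, .c13, .c9⟩ ⟨.c6, .c5, .c3⟩ ⟨.c6, .c9, .c3⟩ ⟨.c6, .c13, .c10⟩ ⟨.c6, .c13, .c11⟩ ⟨.c6, .c13, .c12⟩ ⟨.c6, .c13, .c13⟩ ⟨.c6, .c2, .c11⟩ ⟨.c6, .c2, .c12⟩ ⟨.c6, .c2, .c13⟩ ⟨.c5, .c6, .c15⟩ ⟨.c6, .c14, .c10⟩ ⟨.c6, .c14, .c12⟩ ⟨.c5, .c6, .c17⟩) (@D3.rec (fun _ => Pt) ⟨.c5, .c8, .c11⟩ ⟨.c5, .c8, .c13⟩ ⟨.c5, .c8, .c14⟩ ⟨.c5,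 .c8, .c4⟩ ⟨.c5, .c7, .c9⟩ ⟨.c5, .c7, .c10⟩ ⟨.c5, .c7, .c11⟩ ⟨.c5, .c7, .c12⟩ ⟨.c5, .c7, .c13⟩ ⟨.c6, .c14, .c16⟩ ⟨.c6, .c14, .c17⟩ ⟨.c7, .c0, .c0⟩ ⟨.c6, .c10, .c11⟩ ⟨.c5, .c8, .c7⟩ ⟨.c5, .c8, .c3⟩ ⟨.c5, .c8, .c10⟩ ⟨.c5, .c8, .c9⟩ ⟨.c6, .c14, .c15⟩) (@D3.rec (fun _ => Pt) ⟨.c6, .c11, .c0⟩ ⟨.c6, .c14, .c13⟩ ⟨.c6, .c14, .c14⟩ ⟨.c6, .c8, .c16⟩ ⟨.c6, .c5, .c1⟩ ⟨.c6, .c11, .c6⟩ ⟨.c6, .c9, .c1⟩ ⟨.c6, .c9, .c0⟩ ⟨.c6, .c5, .c2⟩ ⟨.c5, .c9, .c10⟩ ⟨.c5, .c9, .c11⟩ ⟨.c7, .c0, .c12⟩ ⟨.c7, .c0, .c13⟩ ⟨.c7, .c0, .c14⟩ ⟨.c7, .c0, .c15⟩ ⟨.c6, .c4, .c15⟩ ⟨.c6, .c4, .c16⟩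 ⟨.c6, .c4, .c17⟩) (@D3.rec (fun _ => Pt) ⟨.c6, .c5, .c0⟩ ⟨.c6, .c4, .c4⟩ ⟨.c6, .c4, .c8⟩ ⟨.c6, .c2, .c5⟩ ⟨.c6, .c5, .c4⟩ ⟨.c6, .c5, .c5⟩ ⟨.c6, .c5, .c6⟩ ⟨.c5, .c10, .c3⟩ ⟨.c5, .c10, .c4⟩ ⟨.c5, .c10, .c5⟩ ⟨.c5, .c10, .c6⟩ ⟨.c7, .c1, .c16⟩ ⟨.c7, .c1, .c17⟩ ⟨.c7, .c2, .c0⟩ ⟨.c7, .c2, .c1⟩ ⟨.c7, .c2, .c2⟩ ⟨.c7, .c2, .c3⟩ ⟨.c6, .c5, .c17⟩) (@D3.rec (fun _ => Pt) ⟨.c6, .c6, .c0⟩ ⟨.c6, .c6, .c1⟩ ⟨.c6, .c6, .c2⟩ ⟨.c5, .c10, .c12⟩ ⟨.c7, .c3, .c0⟩ ⟨.c7, .c3, .c1⟩ ⟨.c6, .c6, .c6⟩ ⟨.c5, .c10, .c16⟩ ⟨.c5, .c10, .c17⟩ ⟨.c5, .c11, .c0⟩ ⟨.c7, .c3, .c5⟩ ⟨.c7, .c3, .c6⟩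 ⟨.c7, .c3, .c7⟩ ⟨.c7, .c3, .c8⟩ ⟨.c7, .c3, .c9⟩ ⟨.c6, .c6, .c15⟩ ⟨.c6, .c6, .c16⟩ ⟨.c7, .c1, .c15⟩) (@D3.rec (fun _ => Pt) ⟨.c5, .c11, .c8⟩ ⟨.c5, .c11, .c9⟩ ⟨.c5, .c11, .c10⟩ ⟨.c5, .c11, .c11⟩ ⟨.c5, .c11, .c12⟩ ⟨.c5, .c11, .c13⟩ ⟨.c7, .c4, .c1⟩ ⟨.c7, .c4, .c2⟩ ⟨.c7, .c4, .c3⟩ ⟨.c7, .c4, .c4⟩ ⟨.c7, .c4, .c5⟩ ⟨.c7, .c4, .c6⟩ ⟨.c7, .c4, .c7⟩ ⟨.c7, .c4, .c8⟩ ⟨.c7, .c4, .c9⟩ ⟨.c6, .c7, .c15⟩ ⟨.c6, .c7, .c16⟩ ⟨.c6, .c7, .c17⟩) (@D3.rec (fun _ => Pt) ⟨.c6, .c8, .c0⟩ ⟨.c6, .c8, .c1⟩ ⟨.c5, .c12, .c2⟩ ⟨.c6, .c1, .c4⟩ ⟨.c5, .c12, .c7⟩ ⟨.c5, .c12, .c8⟩ ⟨.c5, .c12,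 .c9⟩ ⟨.c7, .c5, .c11⟩ ⟨.c6, .c1, .c7⟩ ⟨.c7, .c5, .c12⟩ ⟨.c6, .c8, .c10⟩ ⟨.c6, .c8, .c11⟩ ⟨.c6, .c8, .c12⟩ ⟨.c6, .c8, .c13⟩ ⟨.c6, .c8, .c14⟩ ⟨.c6, .c8, .c15⟩ ⟨.c6, .c4, .c3⟩ ⟨.c6, .c0, .c8⟩) (@D3.rec (fun _ => Pt) ⟨.c6, .c4, .c7⟩ ⟨.c6, .c4, .c6⟩ ⟨.c6, .c2, .c3⟩ ⟨.c6, .c2, .c6⟩ ⟨.c6, .c9, .c4⟩ ⟨.c6, .c9, .c5⟩ ⟨.c6, .c9, .c6⟩ ⟨.c6, .c9, .c7⟩ ⟨.c5, .c14, .c16⟩ ⟨.c5, .c13, .c11⟩ ⟨.c5, .c13, .c12⟩ ⟨.c5, .c13, .c13⟩ ⟨.c5, .c13, .c14⟩ ⟨.c5, .c13, .c15⟩ ⟨.c5, .c13, .c16⟩ ⟨.c7, .c6, .c17⟩ ⟨.c7, .c7, .c0⟩ ⟨.c7, .c7, .c1⟩) (@D3.rec (fun _ => Pt) ⟨.c7, .c7, .c2⟩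 ⟨.c7, .c7, .c3⟩ ⟨.c7, .c7, .c4⟩ ⟨.c7, .c7, .c5⟩ ⟨.c7, .c7, .c6⟩ ⟨.c7, .c7, .c7⟩ ⟨.c6, .c10, .c6⟩ ⟨.c6, .c10, .c7⟩ ⟨.c6, .c10, .c8⟩ ⟨.c6, .c10, .c9⟩ ⟨.c6, .c10, .c10⟩ ⟨.c6, .c3, .c12⟩ ⟨.c5, .c14, .c6⟩ ⟨.c5, .c14, .c7⟩ ⟨.c5, .c14, .c8⟩ ⟨.c5, .c14, .c10⟩ ⟨.c5, .c14, .c11⟩ ⟨.c7, .c8, .c9⟩) (@D3.rec (fun _ => Pt) ⟨.c6, .c4, .c0⟩ ⟨.c7, .c8, .c10⟩ ⟨.c7, .c6, .c16⟩ ⟨.c7, .c8, .c11⟩ ⟨.c6, .c1, .c6⟩ ⟨.c7, .c8, .c12⟩ ⟨.c6, .c4, .c5⟩ ⟨.c7, .c8, .c13⟩ ⟨.c6, .c11, .c8⟩ ⟨.c6, .c11, .c9⟩ ⟨.c6, .c11, .c10⟩ ⟨.c6, .c11, .c11⟩ ⟨.c7, .c6, .c15⟩ ⟨.c6, .c0, .c5⟩ ⟨.c6, .c0,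 .c6⟩ ⟨.c6, .c0, .c7⟩ ⟨.c6, .c0, .c9⟩ ⟨.c6, .c0, .c10⟩) (@D3.rec (fun _ => Pt) ⟨.c6, .c0, .c11⟩ ⟨.c6, .c0, .c12⟩ ⟨.c6, .c0, .c13⟩ ⟨.c7, .c8, .c15⟩ ⟨.c7, .c8, .c14⟩ ⟨.c7, .c9, .c11⟩ ⟨.c7, .c9, .c12⟩ ⟨.c7, .c6, .c5⟩ ⟨.c7, .c9, .c13⟩ ⟨.c7, .c1, .c9⟩ ⟨.c7, .c6, .c6⟩ ⟨.c7, .c5, .c10⟩ ⟨.c7, .c9, .c14⟩ ⟨.c7, .c9, .c15⟩ ⟨.c7, .c9, .c16⟩ ⟨.c7, .c9, .c17⟩ ⟨.c6, .c12, .c16⟩ ⟨.c6, .c12, .c17⟩) (@D3.rec (fun _ => Pt) ⟨.c6, .c13, .c0⟩ ⟨.c6, .c1, .c8⟩ ⟨.c7, .c9, .c3⟩ ⟨.c7, .c5, .c0⟩ ⟨.c7, .c10, .c16⟩ ⟨.c7, .c11, .c3⟩ ⟨.c6, .c2, .c0⟩ ⟨.c6, .c2, .c1⟩ ⟨.c6, .c2, .c2⟩ ⟨.c6,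 .c2, .c4⟩ ⟨.c6, .c2, .c7⟩ ⟨.c6, .c2, .c8⟩ ⟨.c6, .c2, .c9⟩ ⟨.c6, .c2, .c10⟩ ⟨.c7, .c11, .c4⟩ ⟨.c7, .c11, .c5⟩ ⟨.c7, .c11, .c6⟩ ⟨.c7, .c6, .c9⟩) (@D3.rec (fun _ => Pt) ⟨.c7, .c11, .c7⟩ ⟨.c7, .c6, .c8⟩ ⟨.c7, .c6, .c10⟩ ⟨.c7, .c1, .c11⟩ ⟨.c7, .c1, .c12⟩ ⟨.c7, .c11, .c8⟩ ⟨.c7, .c11, .c9⟩ ⟨.c7, .c11, .c10⟩ ⟨.c7, .c12, .c2⟩ ⟨.c6, .c14, .c9⟩ ⟨.c6, .c2, .c15⟩ ⟨.c7, .c12, .c8⟩ ⟨.c6, .c2, .c16⟩ ⟨.c6, .c4, .c1⟩ ⟨.c6, .c4, .c2⟩ ⟨.c6, .c3, .c17⟩ ⟨.c6, .c3, .c9⟩ ⟨.c6, .c3, .c10⟩)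
def f_a_7 : D2 → D3 → Pt := @D2.rec (fun _ => D3 → Pt) (@D3.rec (fun _ => Pt) ⟨.c6, .c3, .c11⟩ ⟨.c7, .c12, .c9⟩ ⟨.c7, .c8, .c8⟩ ⟨.c7, .c3, .c4⟩ ⟨.c7, .c8, .c17⟩ ⟨.c7, .c9, .c10⟩ ⟨.c7, .c6, .c4⟩ ⟨.c7, .c6, .c3⟩ ⟨.c7, .c1, .c8⟩ ⟨.c7, .c9, .c6⟩ ⟨.c7, .c6, .c7⟩ ⟨.c7, .c1, .c10⟩ ⟨.c6, .c4, .c11⟩ ⟨.c6, .c4, .c12⟩ ⟨.c6, .c4, .c13⟩ ⟨.c6, .c4, .c14⟩ ⟨.c7, .c13, .c2⟩ ⟨.c7, .c13, .c3⟩) (@D3.rec (fun _ => Pt) ⟨.c7, .c13, .c4⟩ ⟨.c7, .c13, .c5⟩ ⟨.c7, .c13, .c6⟩ ⟨.c7, .c13, .c7⟩ ⟨.c7, .c1, .c4⟩ ⟨.c7, .c1, .c5⟩ ⟨.c7, .c1, .c6⟩ ⟨.c7, .c1, .c7⟩ ⟨.c7, .c0, .c8⟩ ⟨.c6, .c12,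 .c9⟩ ⟨.c7, .c0, .c11⟩ ⟨.c6, .c14, .c3⟩ ⟨.c6, .c14, .c4⟩ ⟨.c7, .c1, .c13⟩ ⟨.c7, .c1, .c14⟩ ⟨.c6, .c6, .c17⟩ ⟨.c6, .c5, .c11⟩ ⟨.c6, .c5, .c12⟩) (@D3.rec (fun _ => Pt) ⟨.c6, .c5, .c13⟩ ⟨.c6, .c5, .c14⟩ ⟨.c6, .c5, .c15⟩ ⟨.c6, .c5, .c16⟩ ⟨.c7, .c14, .c10⟩ ⟨.c7, .c14, .c11⟩ ⟨.c7, .c14, .c12⟩ ⟨.c7, .c14, .c13⟩ ⟨.c7, .c14, .c14⟩ ⟨.c7, .c14, .c15⟩ ⟨.c7, .c14, .c16⟩ ⟨.c7, .c14, .c17⟩ ⟨.c8, .c0, .c0⟩ ⟨.c7, .c2, .c13⟩ ⟨.c7, .c2, .c14⟩ ⟨.c7, .c2, .c15⟩ ⟨.c7, .c2, .c16⟩ ⟨.c7, .c2, .c17⟩) (@D3.rec (fun _ => Pt) ⟨.c6, .c6, .c4⟩ ⟨.c6, .c6, .c5⟩ ⟨.c8, .c1, .c2⟩ ⟨.c8,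 .c1, .c3⟩ ⟨.c7, .c0, .c3⟩ ⟨.c6, .c6, .c10⟩ ⟨.c6, .c6, .c11⟩ ⟨.c6, .c6, .c12⟩ ⟨.c6, .c6, .c13⟩ ⟨.c6, .c6, .c14⟩ ⟨.c8, .c1, .c8⟩ ⟨.c8, .c1, .c9⟩ ⟨.c8, .c1, .c10⟩ ⟨.c8, .c1, .c11⟩ ⟨.c8, .c1, .c12⟩ ⟨.c8, .c1, .c13⟩ ⟨.c7, .c3, .c16⟩ ⟨.c7, .c14, .c8⟩) (@D3.rec (fun _ => Pt) ⟨.c7, .c14, .c9⟩ ⟨.c6, .c7, .c6⟩ ⟨.c6, .c7, .c7⟩ ⟨.c6, .c7, .c8⟩ ⟨.c6, .c7, .c9⟩ ⟨.c6, .c7, .c10⟩ ⟨.c6, .c7, .c11⟩ ⟨.c6, .c7, .c12⟩ ⟨.c6, .c7, .c13⟩ ⟨.c6, .c7, .c14⟩ ⟨.c8, .c2, .c7⟩ ⟨.c8, .c2, .c8⟩ ⟨.c8, .c2, .c9⟩ ⟨.c8, .c2, .c10⟩ ⟨.c8, .c2, .c11⟩ ⟨.c8, .c2, .c12⟩ ⟨.c7, .c14, .c2⟩ ⟨.c8,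 .c2, .c13⟩) (@D3.rec (fun _ => Pt) ⟨.c6, .c13, .c3⟩ ⟨.c8, .c2, .c14⟩ ⟨.c8, .c2, .c15⟩ ⟨.c8, .c2, .c16⟩ ⟨.c8, .c2, .c17⟩ ⟨.c7, .c5, .c5⟩ ⟨.c7, .c5, .c6⟩ ⟨.c7, .c5, .c7⟩ ⟨.c7, .c5, .c8⟩ ⟨.c7, .c5, .c9⟩ ⟨.c6, .c12, .c11⟩ ⟨.c6, .c8, .c7⟩ ⟨.c6, .c8, .c9⟩ ⟨.c8, .c3, .c14⟩ ⟨.c8, .c3, .c0⟩ ⟨.c7, .c5, .c15⟩ ⟨.c8, .c4, .c9⟩ ⟨.c7, .c5, .c17⟩) (@D3.rec (fun _ => Pt) ⟨.c7, .c6, .c0⟩ ⟨.c7, .c6, .c1⟩ ⟨.c7, .c6, .c2⟩ ⟨.c7, .c0, .c7⟩ ⟨.c7, .c0, .c6⟩ ⟨.c6, .c12, .c7⟩ ⟨.c6, .c12, .c10⟩ ⟨.c7, .c0, .c10⟩ ⟨.c6, .c14, .c1⟩ ⟨.c6, .c13, .c17⟩ ⟨.c6, .c14, .c2⟩ ⟨.c7, .c6, .c11⟩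 ⟨.c7, .c6, .c12⟩ ⟨.c7, .c6, .c13⟩ ⟨.c7, .c6, .c14⟩ ⟨.c6, .c11, .c12⟩ ⟨.c6, .c11, .c2⟩ ⟨.c6, .c9, .c15⟩) (@D3.rec (fun _ => Pt) ⟨.c6, .c9, .c16⟩ ⟨.c6, .c9, .c17⟩ ⟨.c6, .c10, .c0⟩ ⟨.c6, .c10, .c1⟩ ⟨.c6, .c10, .c2⟩ ⟨.c6, .c10, .c3⟩ ⟨.c6, .c10, .c4⟩ ⟨.c6, .c10, .c5⟩ ⟨.c8, .c5, .c12⟩ ⟨.c8, .c5, .c13⟩ ⟨.c8, .c5, .c14⟩ ⟨.c8, .c5, .c15⟩ ⟨.c8, .c5, .c16⟩ ⟨.c8, .c5, .c17⟩ ⟨.c8, .c1, .c7⟩ ⟨.c8, .c6, .c0⟩ ⟨.c8, .c6, .c1⟩ ⟨.c8, .c6, .c2⟩) (@D3.rec (fun _ => Pt) ⟨.c8, .c6, .c3⟩ ⟨.c8, .c6, .c4⟩ ⟨.c8, .c6, .c5⟩ ⟨.c7, .c8, .c3⟩ ⟨.c7, .c8, .c4⟩ ⟨.c7, .c8, .c5⟩ ⟨.c7, .c8,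 .c6⟩ ⟨.c7, .c8, .c7⟩ ⟨.c7, .c0, .c2⟩ ⟨.c6, .c10, .c17⟩ ⟨.c6, .c11, .c1⟩ ⟨.c6, .c11, .c3⟩ ⟨.c6, .c11, .c5⟩ ⟨.c6, .c11, .c7⟩ ⟨.c6, .c12, .c4⟩ ⟨.c6, .c12, .c3⟩ ⟨.c8, .c7, .c10⟩ ⟨.c7, .c0, .c4⟩) (@D3.rec (fun _ => Pt) ⟨.c8, .c5, .c10⟩ ⟨.c8, .c7, .c11⟩ ⟨.c8, .c5, .c11⟩ ⟨.c6, .c13, .c2⟩ ⟨.c8, .c4, .c5⟩ ⟨.c8, .c7, .c12⟩ ⟨.c7, .c0, .c9⟩ ⟨.c7, .c9, .c7⟩ ⟨.c7, .c9, .c8⟩ ⟨.c8, .c5, .c9⟩ ⟨.c7, .c0, .c5⟩ ⟨.c6, .c12, .c5⟩ ⟨.c6, .c12, .c6⟩ ⟨.c6, .c12, .c8⟩ ⟨.c6, .c12, .c12⟩ ⟨.c6, .c12, .c13⟩ ⟨.c6, .c12, .c14⟩ ⟨.c6, .c12, .c15⟩) (@D3.rec (fun _ => Pt) ⟨.c8, .c7, .c14⟩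 ⟨.c8, .c1, .c14⟩ ⟨.c8, .c7, .c13⟩ ⟨.c8, .c8, .c6⟩ ⟨.c8, .c8, .c7⟩ ⟨.c8, .c4, .c17⟩ ⟨.c8, .c8, .c8⟩ ⟨.c8, .c4, .c16⟩ ⟨.c8, .c5, .c0⟩ ⟨.c7, .c14, .c1⟩ ⟨.c7, .c14, .c3⟩ ⟨.c8, .c8, .c9⟩ ⟨.c8, .c8, .c10⟩ ⟨.c8, .c8, .c11⟩ ⟨.c8, .c9, .c9⟩ ⟨.c7, .c10, .c15⟩ ⟨.c6, .c13, .c4⟩ ⟨.c8, .c3, .c13⟩) (@D3.rec (fun _ => Pt) ⟨.c8, .c8, .c3⟩ ⟨.c8, .c3, .c2⟩ ⟨.c8, .c9, .c15⟩ ⟨.c6, .c13, .c5⟩ ⟨.c6, .c13, .c14⟩ ⟨.c6, .c13, .c15⟩ ⟨.c6, .c13, .c16⟩ ⟨.c6, .c14, .c0⟩ ⟨.c6, .c14, .c5⟩ ⟨.c6, .c14, .c6⟩ ⟨.c6, .c14, .c7⟩ ⟨.c8, .c9, .c16⟩ ⟨.c8, .c9, .c17⟩ ⟨.c8, .c10, .c0⟩ ⟨.c8, .c5,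 .c2⟩ ⟨.c8, .c10, .c1⟩ ⟨.c8, .c5, .c1⟩ ⟨.c8, .c5, .c4⟩) (@D3.rec (fun _ => Pt) ⟨.c7, .c14, .c4⟩ ⟨.c8, .c5, .c3⟩ ⟨.c6, .c14, .c8⟩ ⟨.c7, .c14, .c5⟩ ⟨.c8, .c9, .c5⟩ ⟨.c8, .c10, .c3⟩ ⟨.c8, .c10, .c15⟩ ⟨.c8, .c10, .c17⟩ ⟨.c6, .c14, .c11⟩ ⟨.c7, .c0, .c1⟩ ⟨.c8, .c6, .c12⟩ ⟨.c8, .c6, .c6⟩ ⟨.c8, .c1, .c6⟩ ⟨.c8, .c7, .c17⟩ ⟨.c8, .c8, .c0⟩ ⟨.c8, .c4, .c14⟩ ⟨.c8, .c4, .c15⟩ ⟨.c7, .c14, .c0⟩) (@D3.rec (fun _ => Pt) ⟨.c8, .c4, .c8⟩ ⟨.c7, .c13, .c1⟩ ⟨.c7, .c0, .c16⟩ ⟨.c7, .c0, .c17⟩ ⟨.c7, .c1, .c0⟩ ⟨.c7, .c1, .c1⟩ ⟨.c7, .c1, .c2⟩ ⟨.c7, .c1, .c3⟩ ⟨.c8, .c11, .c7⟩ ⟨.c8,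 .c11, .c8⟩ ⟨.c8, .c11, .c9⟩ ⟨.c8, .c11, .c10⟩ ⟨.c8, .c11, .c11⟩ ⟨.c8, .c11, .c12⟩ ⟨.c7, .c13, .c14⟩ ⟨.c7, .c13, .c15⟩ ⟨.c7, .c13, .c16⟩ ⟨.c7, .c13, .c17⟩) (@D3.rec (fun _ => Pt) ⟨.c7, .c12, .c17⟩ ⟨.c7, .c10, .c9⟩ ⟨.c7, .c4, .c16⟩ ⟨.c7, .c10, .c10⟩ ⟨.c7, .c12, .c0⟩ ⟨.c7, .c12, .c3⟩ ⟨.c7, .c14, .c6⟩ ⟨.c7, .c14, .c7⟩ ⟨.c7, .c3, .c17⟩ ⟨.c7, .c4, .c0⟩ ⟨.c7, .c2, .c4⟩ ⟨.c7, .c2, .c5⟩ ⟨.c7, .c2, .c6⟩ ⟨.c7, .c2, .c7⟩ ⟨.c7, .c2, .c8⟩ ⟨.c7, .c2, .c9⟩ ⟨.c7, .c2, .c10⟩ ⟨.c7, .c2, .c11⟩)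
def f_a_8 : D2 → D3 → Pt := @D2.rec (fun _ => D3 → Pt) (@D3.rec (fun _ => Pt) ⟨.c7, .c2, .c12⟩ ⟨.c8, .c13, .c1⟩ ⟨.c8, .c13, .c2⟩ ⟨.c8, .c13, .c3⟩ ⟨.c8, .c13, .c4⟩ ⟨.c8, .c13, .c5⟩ ⟨.c8, .c13, .c6⟩ ⟨.c8, .c13, .c7⟩ ⟨.c8, .c13, .c8⟩ ⟨.c8, .c13, .c9⟩ ⟨.c8, .c13, .c10⟩ ⟨.c8, .c13, .c11⟩ ⟨.c8, .c13, .c12⟩ ⟨.c8, .c13, .c13⟩ ⟨.c8, .c0, .c14⟩ ⟨.c8, .c0, .c15⟩ ⟨.c8, .c0, .c16⟩ ⟨.c8, .c0, .c17⟩) (@D3.rec (fun _ => Pt) ⟨.c8, .c1, .c0⟩ ⟨.c8, .c1, .c1⟩ ⟨.c7, .c3, .c2⟩ ⟨.c7, .c3, .c3⟩ ⟨.c9, .c0, .c4⟩ ⟨.c9, .c0, .c5⟩ ⟨.c7, .c12, .c12⟩ ⟨.c7, .c7, .c14⟩ ⟨.c7, .c3, .c10⟩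 ⟨.c7, .c3, .c11⟩ ⟨.c7, .c3, .c12⟩ ⟨.c7, .c3, .c13⟩ ⟨.c7, .c3, .c14⟩ ⟨.c7, .c3, .c15⟩ ⟨.c7, .c10, .c1⟩ ⟨.c9, .c0, .c11⟩ ⟨.c9, .c0, .c12⟩ ⟨.c9, .c0, .c13⟩) (@D3.rec (fun _ => Pt) ⟨.c8, .c12, .c17⟩ ⟨.c9, .c0, .c14⟩ ⟨.c9, .c0, .c15⟩ ⟨.c8, .c12, .c14⟩ ⟨.c8, .c12, .c15⟩ ⟨.c8, .c12, .c16⟩ ⟨.c8, .c13, .c0⟩ ⟨.c7, .c4, .c10⟩ ⟨.c7, .c4, .c11⟩ ⟨.c7, .c4, .c12⟩ ⟨.c7, .c4, .c13⟩ ⟨.c7, .c4, .c14⟩ ⟨.c7, .c4, .c15⟩ ⟨.c7, .c4, .c17⟩ ⟨.c7, .c5, .c1⟩ ⟨.c7, .c5, .c2⟩ ⟨.c7, .c5, .c3⟩ ⟨.c7, .c5, .c4⟩) (@D3.rec (fun _ => Pt) ⟨.c7, .c5, .c14⟩ ⟨.c9, .c1, .c11⟩ ⟨.c7, .c11, .c1⟩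 ⟨.c9, .c1, .c12⟩ ⟨.c9, .c1, .c13⟩ ⟨.c9, .c1, .c14⟩ ⟨.c9, .c1, .c15⟩ ⟨.c9, .c1, .c16⟩ ⟨.c9, .c1, .c17⟩ ⟨.c9, .c2, .c0⟩ ⟨.c8, .c12, .c8⟩ ⟨.c8, .c12, .c10⟩ ⟨.c9, .c2, .c1⟩ ⟨.c7, .c10, .c17⟩ ⟨.c7, .c5, .c13⟩ ⟨.c9, .c2, .c2⟩ ⟨.c9, .c2, .c3⟩ ⟨.c9, .c2, .c4⟩) (@D3.rec (fun _ => Pt) ⟨.c8, .c4, .c0⟩ ⟨.c8, .c4, .c1⟩ ⟨.c8, .c4, .c2⟩ ⟨.c9, .c3, .c9⟩ ⟨.c8, .c4, .c4⟩ ⟨.c7, .c9, .c4⟩ ⟨.c9, .c3, .c4⟩ ⟨.c9, .c3, .c12⟩ ⟨.c7, .c13, .c0⟩ ⟨.c7, .c5, .c16⟩ ⟨.c8, .c4, .c10⟩ ⟨.c8, .c4, .c11⟩ ⟨.c8, .c4, .c12⟩ ⟨.c8, .c4, .c13⟩ ⟨.c7, .c12, .c15⟩ ⟨.c7, .c12, .c16⟩ ⟨.c7, .c10, .c7⟩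 ⟨.c7, .c10, .c5⟩) (@D3.rec (fun _ => Pt) ⟨.c7, .c10, .c8⟩ ⟨.c7, .c11, .c16⟩ ⟨.c7, .c11, .c14⟩ ⟨.c7, .c12, .c1⟩ ⟨.c7, .c11, .c17⟩ ⟨.c8, .c5, .c5⟩ ⟨.c8, .c5, .c6⟩ ⟨.c8, .c5, .c7⟩ ⟨.c8, .c5, .c8⟩ ⟨.c7, .c9, .c9⟩ ⟨.c7, .c9, .c0⟩ ⟨.c7, .c9, .c2⟩ ⟨.c7, .c7, .c8⟩ ⟨.c7, .c7, .c9⟩ ⟨.c7, .c7, .c10⟩ ⟨.c7, .c7, .c11⟩ ⟨.c7, .c7, .c12⟩ ⟨.c7, .c7, .c13⟩) (@D3.rec (fun _ => Pt) ⟨.c7, .c7, .c15⟩ ⟨.c7, .c7, .c16⟩ ⟨.c7, .c7, .c17⟩ ⟨.c7, .c8, .c0⟩ ⟨.c7, .c8, .c1⟩ ⟨.c7, .c8, .c2⟩ ⟨.c7, .c12, .c11⟩ ⟨.c9, .c4, .c14⟩ ⟨.c9, .c4, .c15⟩ ⟨.c9, .c4, .c16⟩ ⟨.c9, .c4, .c17⟩ ⟨.c9,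 .c5, .c0⟩ ⟨.c7, .c12, .c10⟩ ⟨.c9, .c5, .c1⟩ ⟨.c9, .c5, .c2⟩ ⟨.c9, .c5, .c3⟩ ⟨.c9, .c0, .c9⟩ ⟨.c9, .c0, .c10⟩) (@D3.rec (fun _ => Pt) ⟨.c9, .c5, .c4⟩ ⟨.c9, .c5, .c5⟩ ⟨.c9, .c5, .c6⟩ ⟨.c9, .c5, .c7⟩ ⟨.c9, .c5, .c8⟩ ⟨.c8, .c7, .c5⟩ ⟨.c8, .c7, .c6⟩ ⟨.c9, .c6, .c11⟩ ⟨.c8, .c7, .c8⟩ ⟨.c8, .c7, .c9⟩ ⟨.c7, .c8, .c16⟩ ⟨.c7, .c9, .c1⟩ ⟨.c7, .c9, .c5⟩ ⟨.c7, .c10, .c2⟩ ⟨.c7, .c10, .c0⟩ ⟨.c9, .c6, .c14⟩ ⟨.c9, .c6, .c15⟩ ⟨.c7, .c12, .c13⟩) (@D3.rec (fun _ => Pt) ⟨.c7, .c12, .c14⟩ ⟨.c9, .c4, .c12⟩ ⟨.c9, .c4, .c13⟩ ⟨.c7, .c11, .c0⟩ ⟨.c9, .c0, .c16⟩ ⟨.c9, .c3, .c11⟩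 ⟨.c7, .c10, .c3⟩ ⟨.c7, .c10, .c4⟩ ⟨.c7, .c10, .c6⟩ ⟨.c7, .c10, .c11⟩ ⟨.c7, .c10, .c12⟩ ⟨.c7, .c10, .c13⟩ ⟨.c9, .c7, .c0⟩ ⟨.c9, .c7, .c1⟩ ⟨.c9, .c6, .c16⟩ ⟨.c9, .c6, .c17⟩ ⟨.c9, .c7, .c8⟩ ⟨.c9, .c4, .c1⟩) (@D3.rec (fun _ => Pt) ⟨.c9, .c7, .c9⟩ ⟨.c9, .c4, .c0⟩ ⟨.c9, .c4, .c3⟩ ⟨.c8, .c12, .c7⟩ ⟨.c9, .c4, .c2⟩ ⟨.c7, .c12, .c4⟩ ⟨.c8, .c12, .c9⟩ ⟨.c9, .c8, .c7⟩ ⟨.c9, .c7, .c11⟩ ⟨.c7, .c10, .c14⟩ ⟨.c9, .c8, .c11⟩ ⟨.c9, .c8, .c12⟩ ⟨.c9, .c2, .c7⟩ ⟨.c9, .c3, .c3⟩ ⟨.c9, .c8, .c15⟩ ⟨.c7, .c11, .c2⟩ ⟨.c7, .c11, .c11⟩ ⟨.c7, .c11, .c12⟩) (@D3.rec (fun _ => Pt) ⟨.c7,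 .c11, .c13⟩ ⟨.c7, .c11, .c15⟩ ⟨.c9, .c6, .c2⟩ ⟨.c7, .c12, .c5⟩ ⟨.c9, .c4, .c4⟩ ⟨.c9, .c8, .c16⟩ ⟨.c9, .c3, .c0⟩ ⟨.c9, .c4, .c6⟩ ⟨.c9, .c9, .c0⟩ ⟨.c8, .c12, .c11⟩ ⟨.c9, .c4, .c7⟩ ⟨.c9, .c9, .c1⟩ ⟨.c9, .c3, .c7⟩ ⟨.c9, .c4, .c5⟩ ⟨.c8, .c12, .c12⟩ ⟨.c7, .c12, .c6⟩ ⟨.c9, .c8, .c9⟩ ⟨.c7, .c12, .c7⟩) (@D3.rec (fun _ => Pt) ⟨.c9, .c5, .c17⟩ ⟨.c9, .c0, .c8⟩ ⟨.c9, .c3, .c17⟩ ⟨.c9, .c7, .c5⟩ ⟨.c8, .c12, .c6⟩ ⟨.c9, .c1, .c6⟩ ⟨.c8, .c11, .c6⟩ ⟨.c7, .c13, .c8⟩ ⟨.c7, .c13, .c9⟩ ⟨.c7, .c13, .c10⟩ ⟨.c7, .c13, .c11⟩ ⟨.c7, .c13, .c12⟩ ⟨.c7, .c13, .c13⟩ ⟨.c9, .c10, .c0⟩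 ⟨.c9, .c10, .c1⟩ ⟨.c9, .c10, .c2⟩ ⟨.c9, .c10, .c3⟩ ⟨.c9, .c10, .c4⟩) (@D3.rec (fun _ => Pt) ⟨.c9, .c10, .c5⟩ ⟨.c9, .c10, .c6⟩ ⟨.c8, .c12, .c2⟩ ⟨.c8, .c12, .c3⟩ ⟨.c8, .c12, .c4⟩ ⟨.c8, .c12, .c5⟩ ⟨.c8, .c11, .c4⟩ ⟨.c8, .c9, .c3⟩ ⟨.c8, .c3, .c10⟩ ⟨.c8, .c9, .c6⟩ ⟨.c8, .c3, .c11⟩ ⟨.c8, .c10, .c9⟩ ⟨.c8, .c10, .c14⟩ ⟨.c8, .c12, .c13⟩ ⟨.c8, .c2, .c3⟩ ⟨.c8, .c2, .c4⟩ ⟨.c8, .c2, .c5⟩ ⟨.c8, .c2, .c0⟩) (@D3.rec (fun _ => Pt) ⟨.c8, .c2, .c6⟩ ⟨.c8, .c0, .c1⟩ ⟨.c8, .c0, .c2⟩ ⟨.c8, .c0, .c3⟩ ⟨.c8, .c0, .c4⟩ ⟨.c8, .c0, .c5⟩ ⟨.c8, .c0, .c6⟩ ⟨.c8, .c0, .c7⟩ ⟨.c8, .c0,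 .c8⟩ ⟨.c8, .c0, .c9⟩ ⟨.c8, .c0, .c10⟩ ⟨.c8, .c0, .c11⟩ ⟨.c8, .c0, .c12⟩ ⟨.c8, .c0, .c13⟩ ⟨.c9, .c11, .c17⟩ ⟨.c9, .c12, .c0⟩ ⟨.c9, .c12, .c1⟩ ⟨.c9, .c12, .c2⟩) (@D3.rec (fun _ => Pt) ⟨.c9, .c12, .c3⟩ ⟨.c9, .c12, .c4⟩ ⟨.c9, .c10, .c12⟩ ⟨.c9, .c12, .c5⟩ ⟨.c9, .c12, .c6⟩ ⟨.c9, .c12, .c7⟩ ⟨.c9, .c12, .c8⟩ ⟨.c9, .c12, .c9⟩ ⟨.c9, .c12, .c10⟩ ⟨.c9, .c12, .c11⟩ ⟨.c9, .c10, .c7⟩ ⟨.c9, .c12, .c12⟩ ⟨.c9, .c12, .c13⟩ ⟨.c9, .c12, .c14⟩ ⟨.c8, .c14, .c14⟩ ⟨.c8, .c14, .c15⟩ ⟨.c8, .c14, .c16⟩ ⟨.c8, .c14, .c17⟩)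
def f_a_9 : D2 → D3 → Pt := @D2.rec (fun _ => D3 → Pt) (@D3.rec (fun _ => Pt) ⟨.c9, .c14, .c6⟩ ⟨.c9, .c0, .c1⟩ ⟨.c9, .c0, .c2⟩ ⟨.c9, .c0, .c3⟩ ⟨.c8, .c1, .c4⟩ ⟨.c8, .c1, .c5⟩ ⟨.c9, .c11, .c15⟩ ⟨.c9, .c14, .c11⟩ ⟨.c8, .c11, .c1⟩ ⟨.c8, .c6, .c16⟩ ⟨.c8, .c6, .c17⟩ ⟨.c8, .c1, .c15⟩ ⟨.c8, .c1, .c16⟩ ⟨.c8, .c1, .c17⟩ ⟨.c8, .c2, .c1⟩ ⟨.c8, .c2, .c2⟩ ⟨.c8, .c8, .c4⟩ ⟨.c9, .c14, .c17⟩) (@D3.rec (fun _ => Pt) ⟨.c10, .c0, .c0⟩ ⟨.c10, .c0, .c1⟩ ⟨.c10, .c0, .c2⟩ ⟨.c9, .c11, .c13⟩ ⟨.c9, .c11, .c16⟩ ⟨.c10, .c0, .c3⟩ ⟨.c8, .c11, .c5⟩ ⟨.c9, .c11, .c10⟩ ⟨.c9, .c11, .c11⟩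 ⟨.c9, .c11, .c12⟩ ⟨.c9, .c11, .c14⟩ ⟨.c8, .c3, .c1⟩ ⟨.c8, .c3, .c3⟩ ⟨.c8, .c3, .c4⟩ ⟨.c8, .c3, .c5⟩ ⟨.c8, .c3, .c6⟩ ⟨.c8, .c3, .c7⟩ ⟨.c8, .c3, .c8⟩) (@D3.rec (fun _ => Pt) ⟨.c8, .c3, .c9⟩ ⟨.c8, .c3, .c12⟩ ⟨.c8, .c3, .c15⟩ ⟨.c8, .c3, .c16⟩ ⟨.c8, .c3, .c17⟩ ⟨.c10, .c1, .c1⟩ ⟨.c10, .c1, .c2⟩ ⟨.c8, .c9, .c12⟩ ⟨.c10, .c1, .c3⟩ ⟨.c10, .c1, .c4⟩ ⟨.c10, .c1, .c5⟩ ⟨.c10, .c1, .c6⟩ ⟨.c10, .c1, .c7⟩ ⟨.c10, .c1, .c8⟩ ⟨.c10, .c1, .c9⟩ ⟨.c9, .c11, .c4⟩ ⟨.c10, .c1, .c10⟩ ⟨.c10, .c1, .c11⟩) (@D3.rec (fun _ => Pt) ⟨.c8, .c10, .c6⟩ ⟨.c9, .c11, .c5⟩ ⟨.c9, .c11, .c6⟩ ⟨.c8,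 .c9, .c13⟩ ⟨.c8, .c4, .c6⟩ ⟨.c10, .c2, .c15⟩ ⟨.c10, .c1, .c12⟩ ⟨.c8, .c10, .c12⟩ ⟨.c9, .c3, .c8⟩ ⟨.c8, .c4, .c3⟩ ⟨.c10, .c3, .c0⟩ ⟨.c8, .c8, .c5⟩ ⟨.c8, .c4, .c7⟩ ⟨.c9, .c3, .c13⟩ ⟨.c9, .c3, .c14⟩ ⟨.c9, .c3, .c15⟩ ⟨.c9, .c3, .c16⟩ ⟨.c8, .c11, .c2⟩) (@D3.rec (fun _ => Pt) ⟨.c8, .c9, .c1⟩ ⟨.c8, .c8, .c17⟩ ⟨.c8, .c9, .c4⟩ ⟨.c8, .c9, .c2⟩ ⟨.c8, .c10, .c4⟩ ⟨.c8, .c10, .c13⟩ ⟨.c8, .c10, .c7⟩ ⟨.c8, .c10, .c10⟩ ⟨.c9, .c4, .c8⟩ ⟨.c10, .c3, .c16⟩ ⟨.c9, .c4, .c10⟩ ⟨.c9, .c4, .c11⟩ ⟨.c8, .c8, .c1⟩ ⟨.c8, .c8, .c2⟩ ⟨.c8, .c6, .c7⟩ ⟨.c8, .c6, .c8⟩ ⟨.c8, .c6, .c9⟩ ⟨.c8,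 .c6, .c10⟩) (@D3.rec (fun _ => Pt) ⟨.c8, .c6, .c11⟩ ⟨.c8, .c6, .c13⟩ ⟨.c8, .c6, .c14⟩ ⟨.c8, .c6, .c15⟩ ⟨.c8, .c7, .c0⟩ ⟨.c8, .c7, .c1⟩ ⟨.c8, .c7, .c2⟩ ⟨.c8, .c7, .c3⟩ ⟨.c8, .c7, .c4⟩ ⟨.c10, .c4, .c3⟩ ⟨.c10, .c4, .c4⟩ ⟨.c10, .c4, .c5⟩ ⟨.c10, .c4, .c6⟩ ⟨.c10, .c4, .c7⟩ ⟨.c10, .c4, .c8⟩ ⟨.c10, .c4, .c9⟩ ⟨.c10, .c4, .c10⟩ ⟨.c8, .c11, .c0⟩) (@D3.rec (fun _ => Pt) ⟨.c9, .c14, .c15⟩ ⟨.c10, .c4, .c11⟩ ⟨.c8, .c10, .c2⟩ ⟨.c9, .c14, .c16⟩ ⟨.c10, .c4, .c12⟩ ⟨.c10, .c4, .c13⟩ ⟨.c10, .c4, .c14⟩ ⟨.c10, .c5, .c16⟩ ⟨.c10, .c4, .c15⟩ ⟨.c10, .c4, .c16⟩ ⟨.c9, .c6, .c10⟩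 ⟨.c8, .c7, .c7⟩ ⟨.c10, .c6, .c1⟩ ⟨.c9, .c6, .c13⟩ ⟨.c8, .c7, .c15⟩ ⟨.c8, .c7, .c16⟩ ⟨.c8, .c8, .c14⟩ ⟨.c8, .c8, .c15⟩) (@D3.rec (fun _ => Pt) ⟨.c8, .c8, .c12⟩ ⟨.c8, .c8, .c13⟩ ⟨.c10, .c0, .c4⟩ ⟨.c10, .c4, .c1⟩ ⟨.c10, .c6, .c3⟩ ⟨.c8, .c11, .c3⟩ ⟨.c10, .c4, .c2⟩ ⟨.c10, .c0, .c5⟩ ⟨.c8, .c8, .c16⟩ ⟨.c8, .c9, .c0⟩ ⟨.c10, .c5, .c11⟩ ⟨.c8, .c9, .c8⟩ ⟨.c10, .c1, .c15⟩ ⟨.c10, .c3, .c5⟩ ⟨.c10, .c6, .c5⟩ ⟨.c10, .c3, .c7⟩ ⟨.c10, .c6, .c4⟩ ⟨.c10, .c7, .c5⟩) (@D3.rec (fun _ => Pt) ⟨.c10, .c3, .c9⟩ ⟨.c10, .c6, .c11⟩ ⟨.c9, .c11, .c2⟩ ⟨.c10, .c3, .c10⟩ ⟨.c10, .c6, .c12⟩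 ⟨.c10, .c0, .c14⟩ ⟨.c10, .c3, .c8⟩ ⟨.c8, .c9, .c7⟩ ⟨.c9, .c11, .c3⟩ ⟨.c8, .c10, .c16⟩ ⟨.c10, .c7, .c14⟩ ⟨.c8, .c9, .c10⟩ ⟨.c8, .c9, .c11⟩ ⟨.c10, .c7, .c15⟩ ⟨.c10, .c1, .c16⟩ ⟨.c8, .c9, .c14⟩ ⟨.c8, .c10, .c5⟩ ⟨.c9, .c13, .c10⟩) (@D3.rec (fun _ => Pt) ⟨.c8, .c10, .c8⟩ ⟨.c8, .c10, .c11⟩ ⟨.c10, .c5, .c13⟩ ⟨.c9, .c14, .c3⟩ ⟨.c10, .c3, .c11⟩ ⟨.c10, .c7, .c17⟩ ⟨.c10, .c2, .c10⟩ ⟨.c10, .c2, .c13⟩ ⟨.c9, .c11, .c7⟩ ⟨.c10, .c3, .c13⟩ ⟨.c10, .c8, .c1⟩ ⟨.c9, .c11, .c8⟩ ⟨.c10, .c3, .c14⟩ ⟨.c10, .c2, .c17⟩ ⟨.c9, .c11, .c1⟩ ⟨.c10, .c3, .c6⟩ ⟨.c9, .c9, .c16⟩ ⟨.c9, .c9,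 .c17⟩) (@D3.rec (fun _ => Pt) ⟨.c8, .c11, .c13⟩ ⟨.c8, .c11, .c14⟩ ⟨.c8, .c11, .c15⟩ ⟨.c8, .c11, .c16⟩ ⟨.c8, .c11, .c17⟩ ⟨.c8, .c12, .c0⟩ ⟨.c8, .c12, .c1⟩ ⟨.c8, .c14, .c10⟩ ⟨.c10, .c8, .c14⟩ ⟨.c10, .c8, .c15⟩ ⟨.c10, .c8, .c16⟩ ⟨.c10, .c8, .c17⟩ ⟨.c8, .c14, .c2⟩ ⟨.c10, .c9, .c0⟩ ⟨.c9, .c10, .c14⟩ ⟨.c9, .c10, .c15⟩ ⟨.c10, .c9, .c13⟩ ⟨.c9, .c10, .c17⟩) (@D3.rec (fun _ => Pt) ⟨.c9, .c11, .c0⟩ ⟨.c9, .c9, .c14⟩ ⟨.c9, .c8, .c2⟩ ⟨.c9, .c8, .c8⟩ ⟨.c9, .c2, .c15⟩ ⟨.c9, .c3, .c1⟩ ⟨.c9, .c3, .c2⟩ ⟨.c9, .c9, .c8⟩ ⟨.c9, .c9, .c11⟩ ⟨.c9, .c11, .c9⟩ ⟨.c9, .c1, .c7⟩ ⟨.c9,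 .c1, .c8⟩ ⟨.c9, .c1, .c9⟩ ⟨.c9, .c1, .c3⟩ ⟨.c9, .c1, .c10⟩ ⟨.c9, .c0, .c6⟩ ⟨.c9, .c1, .c4⟩ ⟨.c8, .c13, .c14⟩) (@D3.rec (fun _ => Pt) ⟨.c8, .c13, .c15⟩ ⟨.c8, .c13, .c16⟩ ⟨.c8, .c13, .c17⟩ ⟨.c8, .c14, .c0⟩ ⟨.c8, .c14, .c1⟩ ⟨.c8, .c14, .c3⟩ ⟨.c8, .c14, .c4⟩ ⟨.c8, .c14, .c5⟩ ⟨.c8, .c14, .c6⟩ ⟨.c8, .c14, .c7⟩ ⟨.c8, .c14, .c8⟩ ⟨.c8, .c14, .c9⟩ ⟨.c8, .c14, .c11⟩ ⟨.c8, .c14, .c12⟩ ⟨.c8, .c14, .c13⟩ ⟨.c10, .c10, .c15⟩ ⟨.c10, .c10, .c16⟩ ⟨.c10, .c10, .c17⟩) (@D3.rec (fun _ => Pt) ⟨.c10, .c11, .c0⟩ ⟨.c10, .c11, .c1⟩ ⟨.c10, .c11, .c2⟩ ⟨.c10, .c11, .c3⟩ ⟨.c10, .c11,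 .c4⟩ ⟨.c10, .c11, .c5⟩ ⟨.c10, .c9, .c8⟩ ⟨.c10, .c11, .c6⟩ ⟨.c10, .c11, .c7⟩ ⟨.c10, .c11, .c8⟩ ⟨.c9, .c8, .c17⟩ ⟨.c10, .c11, .c9⟩ ⟨.c10, .c11, .c10⟩ ⟨.c10, .c9, .c1⟩ ⟨.c10, .c11, .c11⟩ ⟨.c10, .c9, .c2⟩ ⟨.c10, .c12, .c17⟩ ⟨.c10, .c11, .c12⟩) (@D3.rec (fun _ => Pt) ⟨.c10, .c11, .c13⟩ ⟨.c9, .c14, .c1⟩ ⟨.c9, .c14, .c2⟩ ⟨.c9, .c9, .c3⟩ ⟨.c9, .c14, .c4⟩ ⟨.c9, .c14, .c5⟩ ⟨.c9, .c0, .c0⟩ ⟨.c10, .c13, .c6⟩ ⟨.c9, .c14, .c8⟩ ⟨.c9, .c14, .c9⟩ ⟨.c9, .c14, .c10⟩ ⟨.c9, .c0, .c7⟩ ⟨.c10, .c9, .c10⟩ ⟨.c10, .c10, .c13⟩ ⟨.c10, .c13, .c9⟩ ⟨.c9, .c6, .c0⟩ ⟨.c9, .c6, .c3⟩ ⟨.c9,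 .c0, .c17⟩)
def f_a_10 : D2 → D3 → Pt := @D2.rec (fun _ => D3 → Pt) (@D3.rec (fun _ => Pt) ⟨.c9, .c1, .c0⟩ ⟨.c9, .c1, .c1⟩ ⟨.c9, .c1, .c2⟩ ⟨.c9, .c1, .c5⟩ ⟨.c9, .c7, .c2⟩ ⟨.c9, .c7, .c7⟩ ⟨.c10, .c13, .c14⟩ ⟨.c10, .c13, .c15⟩ ⟨.c10, .c10, .c11⟩ ⟨.c10, .c13, .c16⟩ ⟨.c10, .c13, .c17⟩ ⟨.c10, .c9, .c7⟩ ⟨.c10, .c10, .c12⟩ ⟨.c10, .c10, .c14⟩ ⟨.c9, .c8, .c5⟩ ⟨.c10, .c10, .c7⟩ ⟨.c10, .c10, .c8⟩ ⟨.c10, .c10, .c9⟩) (@D3.rec (fun _ => Pt) ⟨.c10, .c10, .c10⟩ ⟨.c9, .c2, .c5⟩ ⟨.c9, .c2, .c6⟩ ⟨.c9, .c2, .c8⟩ ⟨.c9, .c2, .c9⟩ ⟨.c9, .c2, .c10⟩ ⟨.c9, .c2, .c11⟩ ⟨.c9, .c2,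 .c12⟩ ⟨.c9, .c2, .c13⟩ ⟨.c9, .c2, .c14⟩ ⟨.c9, .c2, .c16⟩ ⟨.c9, .c2, .c17⟩ ⟨.c9, .c3, .c6⟩ ⟨.c10, .c14, .c15⟩ ⟨.c10, .c14, .c16⟩ ⟨.c9, .c7, .c12⟩ ⟨.c9, .c8, .c14⟩ ⟨.c10, .c14, .c17⟩) (@D3.rec (fun _ => Pt) ⟨.c11, .c0, .c0⟩ ⟨.c11, .c0, .c17⟩ ⟨.c11, .c0, .c1⟩ ⟨.c11, .c0, .c2⟩ ⟨.c10, .c10, .c1⟩ ⟨.c11, .c0, .c3⟩ ⟨.c11, .c0, .c4⟩ ⟨.c11, .c0, .c5⟩ ⟨.c11, .c0, .c6⟩ ⟨.c11, .c0, .c7⟩ ⟨.c9, .c9, .c6⟩ ⟨.c10, .c10, .c3⟩ ⟨.c11, .c0, .c8⟩ ⟨.c9, .c9, .c7⟩ ⟨.c10, .c10, .c4⟩ ⟨.c9, .c3, .c5⟩ ⟨.c11, .c1, .c15⟩ ⟨.c9, .c9, .c13⟩) (@D3.rec (fun _ => Pt) ⟨.c9, .c3, .c10⟩ ⟨.c10,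 .c3, .c1⟩ ⟨.c10, .c9, .c4⟩ ⟨.c10, .c3, .c3⟩ ⟨.c10, .c3, .c4⟩ ⟨.c9, .c7, .c13⟩ ⟨.c9, .c9, .c15⟩ ⟨.c9, .c7, .c15⟩ ⟨.c9, .c8, .c6⟩ ⟨.c9, .c8, .c0⟩ ⟨.c9, .c8, .c3⟩ ⟨.c9, .c9, .c4⟩ ⟨.c10, .c12, .c10⟩ ⟨.c9, .c9, .c9⟩ ⟨.c9, .c9, .c12⟩ ⟨.c10, .c3, .c15⟩ ⟨.c9, .c4, .c9⟩ ⟨.c11, .c2, .c9⟩) (@D3.rec (fun _ => Pt) ⟨.c10, .c4, .c0⟩ ⟨.c9, .c7, .c3⟩ ⟨.c9, .c7, .c6⟩ ⟨.c9, .c5, .c9⟩ ⟨.c9, .c5, .c10⟩ ⟨.c9, .c5, .c11⟩ ⟨.c9, .c5, .c12⟩ ⟨.c9, .c5, .c13⟩ ⟨.c9, .c5, .c14⟩ ⟨.c9, .c5, .c15⟩ ⟨.c9, .c5, .c16⟩ ⟨.c9, .c6, .c1⟩ ⟨.c9, .c6, .c4⟩ ⟨.c9, .c6, .c5⟩ ⟨.c9, .c6, .c6⟩ ⟨.c9,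 .c6, .c8⟩ ⟨.c9, .c6, .c9⟩ ⟨.c11, .c2, .c12⟩) (@D3.rec (fun _ => Pt) ⟨.c11, .c2, .c13⟩ ⟨.c11, .c2, .c14⟩ ⟨.c11, .c2, .c15⟩ ⟨.c11, .c2, .c16⟩ ⟨.c11, .c2, .c17⟩ ⟨.c11, .c3, .c14⟩ ⟨.c11, .c3, .c0⟩ ⟨.c11, .c3, .c1⟩ ⟨.c10, .c13, .c12⟩ ⟨.c11, .c3, .c2⟩ ⟨.c11, .c3, .c3⟩ ⟨.c9, .c7, .c10⟩ ⟨.c10, .c13, .c13⟩ ⟨.c9, .c9, .c2⟩ ⟨.c11, .c3, .c4⟩ ⟨.c11, .c3, .c5⟩ ⟨.c9, .c6, .c7⟩ ⟨.c11, .c4, .c7⟩) (@D3.rec (fun _ => Pt) ⟨.c11, .c3, .c6⟩ ⟨.c9, .c6, .c12⟩ ⟨.c11, .c4, .c10⟩ ⟨.c9, .c7, .c4⟩ ⟨.c9, .c7, .c16⟩ ⟨.c9, .c7, .c14⟩ ⟨.c10, .c14, .c0⟩ ⟨.c10, .c14, .c1⟩ ⟨.c11, .c2,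 .c11⟩ ⟨.c11, .c4, .c11⟩ ⟨.c11, .c4, .c2⟩ ⟨.c9, .c8, .c1⟩ ⟨.c9, .c8, .c4⟩ ⟨.c11, .c4, .c5⟩ ⟨.c11, .c5, .c1⟩ ⟨.c11, .c0, .c12⟩ ⟨.c11, .c0, .c13⟩ ⟨.c10, .c9, .c16⟩) (@D3.rec (fun _ => Pt) ⟨.c11, .c2, .c1⟩ ⟨.c11, .c4, .c13⟩ ⟨.c10, .c14, .c9⟩ ⟨.c11, .c2, .c2⟩ ⟨.c11, .c4, .c12⟩ ⟨.c9, .c7, .c17⟩ ⟨.c11, .c1, .c5⟩ ⟨.c11, .c5, .c11⟩ ⟨.c10, .c10, .c0⟩ ⟨.c11, .c2, .c4⟩ ⟨.c11, .c5, .c0⟩ ⟨.c10, .c10, .c2⟩ ⟨.c11, .c2, .c5⟩ ⟨.c10, .c14, .c10⟩ ⟨.c9, .c8, .c10⟩ ⟨.c9, .c8, .c13⟩ ⟨.c11, .c6, .c0⟩ ⟨.c9, .c9, .c5⟩) (@D3.rec (fun _ => Pt) ⟨.c10, .c12, .c13⟩ ⟨.c9, .c9, .c10⟩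 ⟨.c10, .c13, .c4⟩ ⟨.c11, .c2, .c6⟩ ⟨.c11, .c1, .c8⟩ ⟨.c11, .c1, .c11⟩ ⟨.c11, .c1, .c14⟩ ⟨.c10, .c10, .c5⟩ ⟨.c11, .c2, .c8⟩ ⟨.c10, .c10, .c6⟩ ⟨.c10, .c9, .c17⟩ ⟨.c10, .c8, .c11⟩ ⟨.c10, .c8, .c12⟩ ⟨.c10, .c8, .c13⟩ ⟨.c9, .c10, .c8⟩ ⟨.c9, .c10, .c9⟩ ⟨.c9, .c10, .c10⟩ ⟨.c9, .c10, .c11⟩) (@D3.rec (fun _ => Pt) ⟨.c9, .c10, .c13⟩ ⟨.c9, .c13, .c13⟩ ⟨.c9, .c13, .c15⟩ ⟨.c11, .c6, .c10⟩ ⟨.c10, .c3, .c2⟩ ⟨.c11, .c6, .c11⟩ ⟨.c11, .c6, .c12⟩ ⟨.c10, .c0, .c11⟩ ⟨.c9, .c13, .c6⟩ ⟨.c11, .c6, .c13⟩ ⟨.c9, .c14, .c12⟩ ⟨.c10, .c9, .c11⟩ ⟨.c10, .c9, .c12⟩ ⟨.c9, .c10, .c16⟩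 ⟨.c11, .c7, .c5⟩ ⟨.c10, .c9, .c15⟩ ⟨.c10, .c6, .c17⟩ ⟨.c10, .c8, .c10⟩) (@D3.rec (fun _ => Pt) ⟨.c10, .c7, .c8⟩ ⟨.c10, .c2, .c4⟩ ⟨.c10, .c7, .c11⟩ ⟨.c10, .c2, .c11⟩ ⟨.c10, .c2, .c14⟩ ⟨.c10, .c8, .c7⟩ ⟨.c10, .c8, .c9⟩ ⟨.c10, .c0, .c15⟩ ⟨.c10, .c0, .c16⟩ ⟨.c10, .c0, .c17⟩ ⟨.c10, .c1, .c0⟩ ⟨.c10, .c0, .c8⟩ ⟨.c10, .c0, .c12⟩ ⟨.c9, .c14, .c13⟩ ⟨.c10, .c0, .c13⟩ ⟨.c9, .c12, .c15⟩ ⟨.c9, .c12, .c16⟩ ⟨.c9, .c12, .c17⟩) (@D3.rec (fun _ => Pt) ⟨.c9, .c13, .c0⟩ ⟨.c9, .c13, .c1⟩ ⟨.c9, .c13, .c2⟩ ⟨.c9, .c13, .c3⟩ ⟨.c9, .c13, .c4⟩ ⟨.c9, .c13, .c5⟩ ⟨.c9, .c13, .c7⟩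 ⟨.c9, .c13, .c8⟩ ⟨.c9, .c13, .c9⟩ ⟨.c9, .c13, .c11⟩ ⟨.c9, .c13, .c12⟩ ⟨.c9, .c13, .c14⟩ ⟨.c9, .c13, .c17⟩ ⟨.c9, .c14, .c0⟩ ⟨.c11, .c8, .c7⟩ ⟨.c11, .c8, .c8⟩ ⟨.c11, .c8, .c9⟩ ⟨.c11, .c8, .c10⟩) (@D3.rec (fun _ => Pt) ⟨.c11, .c8, .c11⟩ ⟨.c11, .c8, .c12⟩ ⟨.c11, .c8, .c13⟩ ⟨.c11, .c8, .c14⟩ ⟨.c11, .c9, .c14⟩ ⟨.c11, .c8, .c15⟩ ⟨.c11, .c8, .c16⟩ ⟨.c11, .c8, .c17⟩ ⟨.c11, .c9, .c0⟩ ⟨.c11, .c7, .c2⟩ ⟨.c10, .c3, .c12⟩ ⟨.c11, .c9, .c1⟩ ⟨.c11, .c9, .c2⟩ ⟨.c10, .c8, .c0⟩ ⟨.c11, .c9, .c3⟩ ⟨.c11, .c6, .c14⟩ ⟨.c11, .c6, .c15⟩ ⟨.c9, .c13, .c16⟩) (@D3.rec (fun _ => Pt)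 ⟨.c11, .c10, .c7⟩ ⟨.c11, .c9, .c4⟩ ⟨.c10, .c13, .c2⟩ ⟨.c10, .c13, .c3⟩ ⟨.c10, .c8, .c2⟩ ⟨.c10, .c13, .c5⟩ ⟨.c9, .c14, .c7⟩ ⟨.c11, .c10, .c12⟩ ⟨.c10, .c13, .c8⟩ ⟨.c9, .c14, .c14⟩ ⟨.c11, .c7, .c3⟩ ⟨.c11, .c8, .c6⟩ ⟨.c10, .c5, .c8⟩ ⟨.c10, .c5, .c12⟩ ⟨.c10, .c0, .c6⟩ ⟨.c10, .c0, .c7⟩ ⟨.c10, .c0, .c9⟩ ⟨.c10, .c0, .c10⟩) (@D3.rec (fun _ => Pt) ⟨.c10, .c6, .c6⟩ ⟨.c10, .c6, .c7⟩ ⟨.c11, .c8, .c2⟩ ⟨.c11, .c10, .c17⟩ ⟨.c11, .c11, .c0⟩ ⟨.c11, .c8, .c4⟩ ⟨.c11, .c11, .c1⟩ ⟨.c11, .c7, .c1⟩ ⟨.c11, .c8, .c5⟩ ⟨.c10, .c7, .c2⟩ ⟨.c10, .c7, .c13⟩ ⟨.c11, .c7, .c17⟩ ⟨.c11,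 .c8, .c0⟩ ⟨.c11, .c8, .c1⟩ ⟨.c11, .c8, .c3⟩ ⟨.c10, .c1, .c13⟩ ⟨.c10, .c1, .c14⟩ ⟨.c10, .c1, .c17⟩)
def f_a_11 : D2 → D3 → Pt := @D2.rec (fun _ => D3 → Pt) (@D3.rec (fun _ => Pt) ⟨.c10, .c2, .c0⟩ ⟨.c10, .c2, .c2⟩ ⟨.c10, .c2, .c3⟩ ⟨.c10, .c2, .c5⟩ ⟨.c10, .c2, .c6⟩ ⟨.c10, .c2, .c7⟩ ⟨.c10, .c2, .c8⟩ ⟨.c10, .c2, .c9⟩ ⟨.c10, .c2, .c12⟩ ⟨.c11, .c7, .c9⟩ ⟨.c11, .c11, .c13⟩ ⟨.c11, .c11, .c14⟩ ⟨.c10, .c6, .c15⟩ ⟨.c10, .c6, .c16⟩ ⟨.c11, .c11, .c15⟩ ⟨.c11, .c11, .c16⟩ ⟨.c11, .c11, .c17⟩ ⟨.c10, .c2, .c1⟩) (@D3.rec (fun _ => Pt) ⟨.c11, .c9, .c6⟩ ⟨.c11, .c12, .c14⟩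 ⟨.c11, .c7, .c11⟩ ⟨.c11, .c12, .c0⟩ ⟨.c11, .c12, .c1⟩ ⟨.c10, .c7, .c6⟩ ⟨.c11, .c7, .c13⟩ ⟨.c11, .c12, .c2⟩ ⟨.c10, .c8, .c4⟩ ⟨.c11, .c12, .c3⟩ ⟨.c11, .c12, .c4⟩ ⟨.c10, .c8, .c5⟩ ⟨.c11, .c7, .c15⟩ ⟨.c11, .c12, .c5⟩ ⟨.c10, .c8, .c6⟩ ⟨.c10, .c2, .c16⟩ ⟨.c11, .c1, .c16⟩ ⟨.c11, .c6, .c16⟩) (@D3.rec (fun _ => Pt) ⟨.c11, .c2, .c0⟩ ⟨.c10, .c7, .c0⟩ ⟨.c10, .c7, .c3⟩ ⟨.c11, .c9, .c17⟩ ⟨.c10, .c7, .c9⟩ ⟨.c10, .c7, .c12⟩ ⟨.c10, .c8, .c3⟩ ⟨.c11, .c10, .c2⟩ ⟨.c10, .c8, .c8⟩ ⟨.c10, .c3, .c17⟩ ⟨.c11, .c14, .c2⟩ ⟨.c10, .c6, .c8⟩ ⟨.c10, .c4, .c17⟩ ⟨.c10, .c5, .c0⟩ ⟨.c10,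 .c5, .c1⟩ ⟨.c10, .c5, .c2⟩ ⟨.c10, .c5, .c3⟩ ⟨.c10, .c5, .c4⟩) (@D3.rec (fun _ => Pt) ⟨.c10, .c5, .c6⟩ ⟨.c10, .c5, .c7⟩ ⟨.c10, .c5, .c9⟩ ⟨.c10, .c5, .c10⟩ ⟨.c10, .c5, .c14⟩ ⟨.c10, .c5, .c15⟩ ⟨.c10, .c6, .c0⟩ ⟨.c11, .c12, .c15⟩ ⟨.c11, .c14, .c4⟩ ⟨.c11, .c14, .c5⟩ ⟨.c11, .c9, .c8⟩ ⟨.c11, .c14, .c6⟩ ⟨.c11, .c14, .c7⟩ ⟨.c11, .c14, .c8⟩ ⟨.c10, .c5, .c5⟩ ⟨.c11, .c13, .c0⟩ ⟨.c12, .c0, .c1⟩ ⟨.c11, .c9, .c11⟩) (@D3.rec (fun _ => Pt) ⟨.c11, .c14, .c9⟩ ⟨.c11, .c14, .c10⟩ ⟨.c10, .c6, .c10⟩ ⟨.c11, .c10, .c16⟩ ⟨.c11, .c14, .c11⟩ ⟨.c10, .c6, .c13⟩ ⟨.c11, .c14, .c12⟩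 ⟨.c10, .c5, .c17⟩ ⟨.c12, .c0, .c10⟩ ⟨.c11, .c14, .c13⟩ ⟨.c10, .c6, .c2⟩ ⟨.c10, .c6, .c9⟩ ⟨.c10, .c7, .c4⟩ ⟨.c10, .c7, .c1⟩ ⟨.c11, .c11, .c2⟩ ⟨.c11, .c11, .c3⟩ ⟨.c11, .c14, .c3⟩ ⟨.c12, .c0, .c7⟩) (@D3.rec (fun _ => Pt) ⟨.c10, .c7, .c10⟩ ⟨.c10, .c6, .c14⟩ ⟨.c11, .c12, .c6⟩ ⟨.c12, .c0, .c15⟩ ⟨.c11, .c7, .c8⟩ ⟨.c11, .c12, .c9⟩ ⟨.c11, .c12, .c10⟩ ⟨.c11, .c7, .c10⟩ ⟨.c11, .c13, .c14⟩ ⟨.c11, .c11, .c9⟩ ⟨.c11, .c13, .c15⟩ ⟨.c10, .c7, .c7⟩ ⟨.c11, .c12, .c11⟩ ⟨.c11, .c13, .c3⟩ ⟨.c12, .c1, .c4⟩ ⟨.c11, .c7, .c12⟩ ⟨.c11, .c13, .c17⟩ ⟨.c11, .c7, .c14⟩) (@D3.rec (fun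 _ => Pt) ⟨.c10, .c7, .c16⟩ ⟨.c11, .c10, .c5⟩ ⟨.c11, .c10, .c11⟩ ⟨.c11, .c13, .c6⟩ ⟨.c11, .c13, .c9⟩ ⟨.c11, .c7, .c16⟩ ⟨.c11, .c14, .c1⟩ ⟨.c11, .c6, .c7⟩ ⟨.c11, .c6, .c8⟩ ⟨.c11, .c6, .c9⟩ ⟨.c10, .c9, .c3⟩ ⟨.c10, .c9, .c5⟩ ⟨.c10, .c9, .c6⟩ ⟨.c10, .c9, .c9⟩ ⟨.c10, .c12, .c15⟩ ⟨.c10, .c12, .c16⟩ ⟨.c11, .c1, .c17⟩ ⟨.c12, .c1, .c14⟩) (@D3.rec (fun _ => Pt) ⟨.c12, .c1, .c15⟩ ⟨.c10, .c14, .c7⟩ ⟨.c10, .c12, .c9⟩ ⟨.c10, .c13, .c10⟩ ⟨.c11, .c7, .c4⟩ ⟨.c10, .c9, .c14⟩ ⟨.c12, .c2, .c5⟩ ⟨.c11, .c7, .c7⟩ ⟨.c11, .c5, .c4⟩ ⟨.c11, .c0, .c9⟩ ⟨.c11, .c5, .c7⟩ ⟨.c11, .c1,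 .c2⟩ ⟨.c11, .c5, .c15⟩ ⟨.c11, .c1, .c6⟩ ⟨.c11, .c5, .c17⟩ ⟨.c11, .c1, .c12⟩ ⟨.c11, .c6, .c5⟩ ⟨.c10, .c14, .c11⟩) (@D3.rec (fun _ => Pt) ⟨.c10, .c14, .c12⟩ ⟨.c10, .c14, .c13⟩ ⟨.c10, .c14, .c2⟩ ⟨.c10, .c14, .c14⟩ ⟨.c10, .c14, .c5⟩ ⟨.c10, .c14, .c8⟩ ⟨.c10, .c13, .c11⟩ ⟨.c10, .c11, .c14⟩ ⟨.c10, .c11, .c15⟩ ⟨.c10, .c11, .c16⟩ ⟨.c10, .c11, .c17⟩ ⟨.c10, .c12, .c0⟩ ⟨.c10, .c12, .c1⟩ ⟨.c10, .c12, .c2⟩ ⟨.c10, .c12, .c3⟩ ⟨.c10, .c12, .c5⟩ ⟨.c10, .c12, .c6⟩ ⟨.c10, .c12, .c7⟩) (@D3.rec (fun _ => Pt) ⟨.c10, .c12, .c8⟩ ⟨.c10, .c12, .c11⟩ ⟨.c10, .c12, .c12⟩ ⟨.c10, .c12,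 .c14⟩ ⟨.c10, .c13, .c1⟩ ⟨.c12, .c3, .c3⟩ ⟨.c11, .c1, .c0⟩ ⟨.c12, .c3, .c4⟩ ⟨.c11, .c3, .c10⟩ ⟨.c12, .c3, .c5⟩ ⟨.c12, .c3, .c6⟩ ⟨.c11, .c3, .c17⟩ ⟨.c12, .c3, .c7⟩ ⟨.c12, .c3, .c8⟩ ⟨.c10, .c12, .c4⟩ ⟨.c12, .c4, .c4⟩ ⟨.c12, .c3, .c9⟩ ⟨.c11, .c2, .c3⟩) (@D3.rec (fun _ => Pt) ⟨.c12, .c3, .c10⟩ ⟨.c12, .c3, .c11⟩ ⟨.c11, .c2, .c7⟩ ⟨.c12, .c3, .c12⟩ ⟨.c12, .c3, .c13⟩ ⟨.c11, .c6, .c1⟩ ⟨.c12, .c1, .c16⟩ ⟨.c10, .c13, .c0⟩ ⟨.c12, .c4, .c13⟩ ⟨.c12, .c3, .c14⟩ ⟨.c11, .c10, .c10⟩ ⟨.c11, .c6, .c2⟩ ⟨.c10, .c13, .c7⟩ ⟨.c11, .c10, .c13⟩ ⟨.c12, .c2, .c3⟩ ⟨.c12, .c2, .c1⟩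 ⟨.c11, .c4, .c3⟩ ⟨.c10, .c14, .c3⟩) (@D3.rec (fun _ => Pt) ⟨.c10, .c14, .c4⟩ ⟨.c10, .c14, .c6⟩ ⟨.c11, .c4, .c14⟩ ⟨.c11, .c4, .c15⟩ ⟨.c12, .c3, .c0⟩ ⟨.c12, .c5, .c0⟩ ⟨.c12, .c3, .c2⟩ ⟨.c12, .c5, .c1⟩ ⟨.c12, .c2, .c2⟩ ⟨.c11, .c5, .c9⟩ ⟨.c12, .c2, .c16⟩ ⟨.c12, .c2, .c17⟩ ⟨.c12, .c3, .c1⟩ ⟨.c11, .c0, .c10⟩ ⟨.c11, .c0, .c11⟩ ⟨.c11, .c0, .c14⟩ ⟨.c11, .c0, .c15⟩ ⟨.c11, .c0, .c16⟩) (@D3.rec (fun _ => Pt) ⟨.c11, .c1, .c3⟩ ⟨.c11, .c1, .c4⟩ ⟨.c11, .c1, .c7⟩ ⟨.c11, .c1, .c9⟩ ⟨.c11, .c1, .c10⟩ ⟨.c11, .c1, .c13⟩ ⟨.c11, .c5, .c2⟩ ⟨.c12, .c2, .c9⟩ ⟨.c12, .c5, .c10⟩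 ⟨.c11, .c5, .c5⟩ ⟨.c11, .c5, .c6⟩ ⟨.c11, .c5, .c12⟩ ⟨.c12, .c5, .c11⟩ ⟨.c12, .c5, .c12⟩ ⟨.c11, .c1, .c1⟩ ⟨.c11, .c3, .c7⟩ ⟨.c12, .c3, .c16⟩ ⟨.c12, .c6, .c7⟩) (@D3.rec (fun _ => Pt) ⟨.c11, .c3, .c15⟩ ⟨.c12, .c2, .c11⟩ ⟨.c12, .c5, .c13⟩ ⟨.c11, .c5, .c13⟩ ⟨.c12, .c2, .c13⟩ ⟨.c12, .c5, .c14⟩ ⟨.c11, .c6, .c3⟩ ⟨.c12, .c5, .c15⟩ ⟨.c12, .c5, .c16⟩ ⟨.c11, .c6, .c4⟩ ⟨.c12, .c2, .c14⟩ ⟨.c12, .c5, .c17⟩ ⟨.c12, .c1, .c17⟩ ⟨.c11, .c13, .c13⟩ ⟨.c11, .c5, .c8⟩ ⟨.c11, .c5, .c10⟩ ⟨.c12, .c4, .c7⟩ ⟨.c11, .c5, .c16⟩) (@D3.rec (fun _ => Pt) ⟨.c12, .c4, .c10⟩ ⟨.c11, .c6,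 .c6⟩ ⟨.c11, .c2, .c10⟩ ⟨.c11, .c4, .c16⟩ ⟨.c11, .c3, .c8⟩ ⟨.c11, .c3, .c9⟩ ⟨.c11, .c3, .c11⟩ ⟨.c11, .c3, .c12⟩ ⟨.c11, .c3, .c13⟩ ⟨.c11, .c4, .c0⟩ ⟨.c11, .c4, .c1⟩ ⟨.c11, .c4, .c4⟩ ⟨.c11, .c4, .c6⟩ ⟨.c11, .c4, .c9⟩ ⟨.c12, .c6, .c8⟩ ⟨.c12, .c7, .c7⟩ ⟨.c12, .c4, .c0⟩ ⟨.c12, .c7, .c8⟩)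
def f_a_12 : D2 → D3 → Pt := @D2.rec (fun _ => D3 → Pt) (@D3.rec (fun _ => Pt) ⟨.c12, .c7, .c9⟩ ⟨.c11, .c3, .c16⟩ ⟨.c12, .c6, .c10⟩ ⟨.c12, .c7, .c16⟩ ⟨.c12, .c4, .c2⟩ ⟨.c12, .c7, .c10⟩ ⟨.c12, .c7, .c11⟩ ⟨.c11, .c4, .c17⟩ ⟨.c12, .c4, .c17⟩ ⟨.c12, .c5, .c6⟩ ⟨.c11, .c4, .c8⟩ ⟨.c12, .c4, .c12⟩ ⟨.c12, .c7, .c0⟩ ⟨.c12, .c5, .c2⟩ ⟨.c12, .c8, .c4⟩ ⟨.c11, .c5, .c3⟩ ⟨.c12, .c6, .c0⟩ ⟨.c12, .c8, .c6⟩) (@D3.rec (fun _ => Pt) ⟨.c12, .c2, .c8⟩ ⟨.c12, .c6, .c3⟩ ⟨.c12, .c2, .c10⟩ ⟨.c12, .c5, .c7⟩ ⟨.c11, .c5, .c14⟩ ⟨.c12, .c6, .c4⟩ ⟨.c12, .c6, .c13⟩ ⟨.c12, .c2, .c12⟩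 ⟨.c12, .c7, .c5⟩ ⟨.c12, .c6, .c16⟩ ⟨.c12, .c4, .c15⟩ ⟨.c12, .c2, .c15⟩ ⟨.c12, .c1, .c12⟩ ⟨.c12, .c1, .c13⟩ ⟨.c11, .c6, .c17⟩ ⟨.c11, .c7, .c0⟩ ⟨.c11, .c10, .c6⟩ ⟨.c11, .c13, .c12⟩) (@D3.rec (fun _ => Pt) ⟨.c12, .c8, .c17⟩ ⟨.c11, .c10, .c15⟩ ⟨.c11, .c11, .c8⟩ ⟨.c11, .c10, .c14⟩ ⟨.c12, .c2, .c4⟩ ⟨.c11, .c7, .c6⟩ ⟨.c12, .c9, .c2⟩ ⟨.c12, .c2, .c7⟩ ⟨.c12, .c1, .c0⟩ ⟨.c11, .c12, .c7⟩ ⟨.c12, .c1, .c2⟩ ⟨.c11, .c13, .c1⟩ ⟨.c12, .c1, .c7⟩ ⟨.c11, .c13, .c4⟩ ⟨.c11, .c13, .c10⟩ ⟨.c12, .c1, .c11⟩ ⟨.c11, .c11, .c10⟩ ⟨.c11, .c11, .c11⟩) (@D3.rec (fun _ => Pt) ⟨.c11,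 .c11, .c4⟩ ⟨.c11, .c11, .c12⟩ ⟨.c11, .c11, .c6⟩ ⟨.c11, .c9, .c5⟩ ⟨.c11, .c9, .c7⟩ ⟨.c11, .c9, .c9⟩ ⟨.c11, .c9, .c10⟩ ⟨.c11, .c9, .c12⟩ ⟨.c11, .c9, .c13⟩ ⟨.c11, .c9, .c16⟩ ⟨.c11, .c10, .c0⟩ ⟨.c11, .c10, .c1⟩ ⟨.c11, .c10, .c3⟩ ⟨.c11, .c10, .c4⟩ ⟨.c11, .c10, .c9⟩ ⟨.c12, .c9, .c14⟩ ⟨.c11, .c12, .c16⟩ ⟨.c12, .c9, .c15⟩) (@D3.rec (fun _ => Pt) ⟨.c11, .c14, .c16⟩ ⟨.c12, .c9, .c16⟩ ⟨.c12, .c0, .c4⟩ ⟨.c12, .c9, .c17⟩ ⟨.c11, .c9, .c15⟩ ⟨.c12, .c10, .c9⟩ ⟨.c12, .c10, .c0⟩ ⟨.c11, .c13, .c16⟩ ⟨.c12, .c10, .c1⟩ ⟨.c12, .c10, .c2⟩ ⟨.c11, .c14, .c0⟩ ⟨.c12, .c10, .c3⟩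 ⟨.c12, .c0, .c11⟩ ⟨.c11, .c10, .c8⟩ ⟨.c12, .c10, .c16⟩ ⟨.c12, .c1, .c10⟩ ⟨.c12, .c9, .c1⟩ ⟨.c12, .c0, .c8⟩) (@D3.rec (fun _ => Pt) ⟨.c11, .c11, .c5⟩ ⟨.c11, .c11, .c7⟩ ⟨.c12, .c0, .c13⟩ ⟨.c12, .c9, .c12⟩ ⟨.c12, .c11, .c1⟩ ⟨.c12, .c9, .c13⟩ ⟨.c12, .c0, .c9⟩ ⟨.c12, .c1, .c3⟩ ⟨.c12, .c9, .c10⟩ ⟨.c12, .c9, .c11⟩ ⟨.c11, .c12, .c8⟩ ⟨.c11, .c12, .c12⟩ ⟨.c11, .c12, .c13⟩ ⟨.c11, .c13, .c2⟩ ⟨.c11, .c13, .c5⟩ ⟨.c11, .c13, .c7⟩ ⟨.c11, .c13, .c8⟩ ⟨.c11, .c13, .c11⟩) (@D3.rec (fun _ => Pt) ⟨.c12, .c0, .c16⟩ ⟨.c12, .c9, .c4⟩ ⟨.c12, .c11, .c6⟩ ⟨.c12, .c1, .c1⟩ ⟨.c12,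 .c1, .c5⟩ ⟨.c12, .c11, .c7⟩ ⟨.c12, .c11, .c8⟩ ⟨.c11, .c12, .c17⟩ ⟨.c11, .c14, .c14⟩ ⟨.c12, .c10, .c4⟩ ⟨.c12, .c0, .c2⟩ ⟨.c12, .c9, .c5⟩ ⟨.c12, .c11, .c9⟩ ⟨.c12, .c1, .c6⟩ ⟨.c12, .c9, .c7⟩ ⟨.c12, .c11, .c10⟩ ⟨.c12, .c1, .c9⟩ ⟨.c12, .c10, .c17⟩) (@D3.rec (fun _ => Pt) ⟨.c12, .c0, .c12⟩ ⟨.c12, .c9, .c8⟩ ⟨.c12, .c12, .c7⟩ ⟨.c12, .c9, .c0⟩ ⟨.c12, .c10, .c12⟩ ⟨.c12, .c1, .c8⟩ ⟨.c12, .c10, .c15⟩ ⟨.c11, .c14, .c15⟩ ⟨.c11, .c14, .c17⟩ ⟨.c12, .c0, .c0⟩ ⟨.c12, .c0, .c5⟩ ⟨.c12, .c0, .c6⟩ ⟨.c12, .c12, .c0⟩ ⟨.c12, .c12, .c10⟩ ⟨.c12, .c10, .c6⟩ ⟨.c12, .c11, .c4⟩ ⟨.c12,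 .c0, .c3⟩ ⟨.c12, .c12, .c2⟩) (@D3.rec (fun _ => Pt) ⟨.c12, .c10, .c14⟩ ⟨.c12, .c10, .c8⟩ ⟨.c12, .c12, .c11⟩ ⟨.c12, .c11, .c17⟩ ⟨.c12, .c0, .c14⟩ ⟨.c12, .c11, .c2⟩ ⟨.c12, .c0, .c17⟩ ⟨.c12, .c11, .c11⟩ ⟨.c12, .c9, .c3⟩ ⟨.c12, .c11, .c14⟩ ⟨.c12, .c11, .c15⟩ ⟨.c12, .c10, .c11⟩ ⟨.c12, .c9, .c6⟩ ⟨.c12, .c11, .c0⟩ ⟨.c12, .c9, .c9⟩ ⟨.c12, .c8, .c15⟩ ⟨.c12, .c8, .c16⟩ ⟨.c12, .c2, .c0⟩) (@D3.rec (fun _ => Pt) ⟨.c12, .c7, .c3⟩ ⟨.c12, .c4, .c16⟩ ⟨.c12, .c2, .c6⟩ ⟨.c12, .c8, .c8⟩ ⟨.c12, .c6, .c1⟩ ⟨.c12, .c6, .c11⟩ ⟨.c12, .c8, .c12⟩ ⟨.c12, .c6, .c14⟩ ⟨.c12, .c7, .c1⟩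 ⟨.c12, .c8, .c14⟩ ⟨.c12, .c5, .c8⟩ ⟨.c12, .c5, .c9⟩ ⟨.c12, .c5, .c3⟩ ⟨.c12, .c5, .c5⟩ ⟨.c12, .c3, .c15⟩ ⟨.c12, .c3, .c17⟩ ⟨.c12, .c4, .c1⟩ ⟨.c12, .c4, .c3⟩) (@D3.rec (fun _ => Pt) ⟨.c12, .c4, .c6⟩ ⟨.c12, .c4, .c8⟩ ⟨.c12, .c4, .c9⟩ ⟨.c12, .c4, .c11⟩ ⟨.c12, .c6, .c9⟩ ⟨.c12, .c13, .c10⟩ ⟨.c12, .c7, .c14⟩ ⟨.c12, .c13, .c11⟩ ⟨.c12, .c8, .c1⟩ ⟨.c12, .c4, .c5⟩ ⟨.c12, .c14, .c0⟩ ⟨.c12, .c8, .c11⟩ ⟨.c12, .c7, .c4⟩ ⟨.c12, .c13, .c12⟩ ⟨.c12, .c8, .c0⟩ ⟨.c12, .c7, .c6⟩ ⟨.c12, .c4, .c14⟩ ⟨.c12, .c6, .c17⟩) (@D3.rec (fun _ => Pt) ⟨.c12, .c8, .c13⟩ ⟨.c12, .c5, .c4⟩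 ⟨.c12, .c8, .c5⟩ ⟨.c12, .c13, .c9⟩ ⟨.c12, .c7, .c15⟩ ⟨.c12, .c13, .c8⟩ ⟨.c12, .c6, .c2⟩ ⟨.c12, .c6, .c5⟩ ⟨.c12, .c6, .c6⟩ ⟨.c12, .c6, .c12⟩ ⟨.c12, .c6, .c15⟩ ⟨.c12, .c8, .c7⟩ ⟨.c12, .c13, .c3⟩ ⟨.c12, .c14, .c4⟩ ⟨.c12, .c8, .c9⟩ ⟨.c12, .c8, .c10⟩ ⟨.c12, .c14, .c3⟩ ⟨.c12, .c8, .c3⟩) (@D3.rec (fun _ => Pt) ⟨.c12, .c7, .c12⟩ ⟨.c12, .c13, .c13⟩ ⟨.c12, .c7, .c17⟩ ⟨.c12, .c13, .c4⟩ ⟨.c12, .c14, .c5⟩ ⟨.c12, .c13, .c6⟩ ⟨.c12, .c14, .c8⟩ ⟨.c12, .c7, .c2⟩ ⟨.c12, .c13, .c7⟩ ⟨.c12, .c14, .c1⟩ ⟨.c12, .c7, .c13⟩ ⟨.c12, .c8, .c2⟩ ⟨.c12, .c13, .c16⟩ ⟨.c12, .c13, .c15⟩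 ⟨.c12, .c14, .c10⟩ ⟨.c12, .c13, .c17⟩ ⟨.c12, .c13, .c14⟩ ⟨.c12, .c13, .c2⟩) (@D3.rec (fun _ => Pt) ⟨.c12, .c14, .c2⟩ ⟨.c12, .c13, .c5⟩ ⟨.c12, .c12, .c17⟩ ⟨.c12, .c11, .c12⟩ ⟨.c12, .c12, .c3⟩ ⟨.c12, .c13, .c1⟩ ⟨.c12, .c12, .c5⟩ ⟨.c12, .c12, .c8⟩ ⟨.c12, .c11, .c5⟩ ⟨.c12, .c11, .c3⟩ ⟨.c12, .c10, .c5⟩ ⟨.c12, .c10, .c7⟩ ⟨.c12, .c10, .c13⟩ ⟨.c12, .c12, .c1⟩ ⟨.c12, .c12, .c16⟩ ⟨.c12, .c12, .c13⟩ ⟨.c12, .c12, .c12⟩ ⟨.c12, .c12, .c15⟩) (@D3.rec (fun _ => Pt) ⟨.c12, .c10, .c10⟩ ⟨.c12, .c12, .c9⟩ ⟨.c12, .c13, .c0⟩ ⟨.c12, .c11, .c16⟩ ⟨.c12, .c11, .c13⟩ ⟨.c12, .c12,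 .c4⟩ ⟨.c12, .c14, .c14⟩ ⟨.c12, .c14, .c15⟩ ⟨.c12, .c12, .c6⟩ ⟨.c12, .c14, .c17⟩ ⟨.c12, .c12, .c14⟩ ⟨.c12, .c14, .c16⟩ ⟨.c12, .c14, .c13⟩ ⟨.c12, .c14, .c12⟩ ⟨.c12, .c14, .c6⟩ ⟨.c12, .c14, .c7⟩ ⟨.c12, .c14, .c11⟩ ⟨.c12, .c14, .c9⟩)
def f_a : Pt → Pt := @Pt.rec (fun _ => Pt) (@D1.rec (fun _ => D2 → D3 → Pt) f_a_0 f_a_1 f_a_2 f_a_3 f_a_4 f_a_5 f_a_6 f_a_7 f_a_8 f_a_9 f_a_10 f_a_11 f_a_12)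
def fi_a : Pt → Pt := f_a
def f_b_0 : D2 → D3 → Pt := @D2.rec (fun _ => D3 → Pt) (@D3.rec (fun _ => Pt) ⟨.c0, .c0, .c1⟩ ⟨.c0, .c0, .c0⟩ ⟨.c0, .c0, .c2⟩ ⟨.c0, .c0, .c3⟩ ⟨.c0, .c0, .c6⟩ ⟨.c0, .c0, .c5⟩ ⟨.c0, .c0, .c4⟩ ⟨.c0, .c0, .c10⟩ ⟨.c0, .c0, .c8⟩ ⟨.c0, .c0, .c9⟩ ⟨.c0, .c0, .c7⟩ ⟨.c0, .c0, .c17⟩ ⟨.c0, .c1, .c0⟩ ⟨.c0, .c0, .c13⟩ ⟨.c0, .c0, .c14⟩ ⟨.c0, .c0, .c15⟩ ⟨.c0, .c0, .c16⟩ ⟨.c0, .c0, .c11⟩) (@D3.rec (fun _ => Pt) ⟨.c0, .c0, .c12⟩ ⟨.c0, .c1, .c10⟩ ⟨.c0, .c1, .c11⟩ ⟨.c0, .c1, .c12⟩ ⟨.c0, .c1, .c4⟩ ⟨.c0, .c1, .c5⟩ ⟨.c0, .c1, .c6⟩ ⟨.c0, .c1, .c7⟩ ⟨.c0,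 .c1, .c8⟩ ⟨.c0, .c1, .c9⟩ ⟨.c0, .c1, .c1⟩ ⟨.c0, .c1, .c2⟩ ⟨.c0, .c1, .c3⟩ ⟨.c0, .c2, .c9⟩ ⟨.c0, .c2, .c10⟩ ⟨.c0, .c2, .c11⟩ ⟨.c0, .c2, .c12⟩ ⟨.c0, .c1, .c17⟩) (@D3.rec (fun _ => Pt) ⟨.c0, .c2, .c0⟩ ⟨.c0, .c2, .c1⟩ ⟨.c0, .c3, .c5⟩ ⟨.c0, .c2, .c3⟩ ⟨.c0, .c2, .c4⟩ ⟨.c0, .c2, .c5⟩ ⟨.c0, .c2, .c6⟩ ⟨.c0, .c2, .c7⟩ ⟨.c0, .c2, .c8⟩ ⟨.c0, .c1, .c13⟩ ⟨.c0, .c1, .c14⟩ ⟨.c0, .c1, .c15⟩ ⟨.c0, .c1, .c16⟩ ⟨.c0, .c3, .c13⟩ ⟨.c0, .c3, .c14⟩ ⟨.c0, .c3, .c15⟩ ⟨.c0, .c2, .c16⟩ ⟨.c0, .c3, .c16⟩) (@D3.rec (fun _ => Pt) ⟨.c0, .c3, .c0⟩ ⟨.c0, .c3, .c1⟩ ⟨.c0, .c4, .c9⟩ ⟨.c0,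 .c3, .c3⟩ ⟨.c0, .c3, .c4⟩ ⟨.c0, .c2, .c2⟩ ⟨.c0, .c4, .c14⟩ ⟨.c0, .c3, .c7⟩ ⟨.c0, .c3, .c8⟩ ⟨.c0, .c3, .c9⟩ ⟨.c0, .c3, .c10⟩ ⟨.c0, .c3, .c11⟩ ⟨.c0, .c3, .c12⟩ ⟨.c0, .c2, .c13⟩ ⟨.c0, .c2, .c14⟩ ⟨.c0, .c2, .c15⟩ ⟨.c0, .c2, .c17⟩ ⟨.c0, .c5, .c3⟩) (@D3.rec (fun _ => Pt) ⟨.c0, .c5, .c4⟩ ⟨.c0, .c4, .c1⟩ ⟨.c0, .c5, .c5⟩ ⟨.c0, .c5, .c6⟩ ⟨.c0, .c4, .c4⟩ ⟨.c0, .c5, .c7⟩ ⟨.c0, .c5, .c16⟩ ⟨.c0, .c4, .c7⟩ ⟨.c0, .c4, .c8⟩ ⟨.c0, .c3, .c2⟩ ⟨.c0, .c6, .c4⟩ ⟨.c0, .c6, .c5⟩ ⟨.c0, .c4, .c12⟩ ⟨.c0, .c4, .c13⟩ ⟨.c0, .c3, .c6⟩ ⟨.c0, .c6, .c10⟩ ⟨.c0, .c4, .c16⟩ ⟨.c0, .c4, .c17⟩)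 (@D3.rec (fun _ => Pt) ⟨.c0, .c5, .c0⟩ ⟨.c0, .c5, .c1⟩ ⟨.c0, .c5, .c2⟩ ⟨.c0, .c3, .c17⟩ ⟨.c0, .c4, .c0⟩ ⟨.c0, .c4, .c2⟩ ⟨.c0, .c4, .c3⟩ ⟨.c0, .c4, .c5⟩ ⟨.c0, .c5, .c8⟩ ⟨.c0, .c6, .c14⟩ ⟨.c0, .c6, .c15⟩ ⟨.c0, .c5, .c11⟩ ⟨.c0, .c5, .c12⟩ ⟨.c0, .c6, .c16⟩ ⟨.c0, .c6, .c17⟩ ⟨.c0, .c5, .c15⟩ ⟨.c0, .c4, .c6⟩ ⟨.c0, .c7, .c10⟩) (@D3.rec (fun _ => Pt) ⟨.c0, .c7, .c11⟩ ⟨.c0, .c6, .c1⟩ ⟨.c0, .c6, .c2⟩ ⟨.c0, .c6, .c3⟩ ⟨.c0, .c4, .c10⟩ ⟨.c0, .c4, .c11⟩ ⟨.c0, .c8, .c0⟩ ⟨.c0, .c8, .c1⟩ ⟨.c0, .c8, .c2⟩ ⟨.c0, .c6, .c9⟩ ⟨.c0, .c4, .c15⟩ ⟨.c0, .c8, .c8⟩ ⟨.c0, .c6, .c12⟩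 ⟨.c0, .c6, .c13⟩ ⟨.c0, .c5, .c9⟩ ⟨.c0, .c5, .c10⟩ ⟨.c0, .c5, .c13⟩ ⟨.c0, .c5, .c14⟩) (@D3.rec (fun _ => Pt) ⟨.c0, .c7, .c0⟩ ⟨.c0, .c7, .c1⟩ ⟨.c0, .c8, .c11⟩ ⟨.c0, .c8, .c12⟩ ⟨.c0, .c8, .c13⟩ ⟨.c0, .c7, .c5⟩ ⟨.c0, .c7, .c6⟩ ⟨.c0, .c7, .c7⟩ ⟨.c0, .c8, .c14⟩ ⟨.c0, .c7, .c9⟩ ⟨.c0, .c5, .c17⟩ ⟨.c0, .c6, .c0⟩ ⟨.c0, .c9, .c9⟩ ⟨.c0, .c9, .c10⟩ ⟨.c0, .c9, .c11⟩ ⟨.c0, .c9, .c12⟩ ⟨.c0, .c7, .c16⟩ ⟨.c0, .c7, .c17⟩) (@D3.rec (fun _ => Pt) ⟨.c0, .c6, .c6⟩ ⟨.c0, .c6, .c7⟩ ⟨.c0, .c6, .c8⟩ ⟨.c0, .c10, .c4⟩ ⟨.c0, .c10, .c5⟩ ⟨.c0, .c10, .c6⟩ ⟨.c0, .c10, .c7⟩ ⟨.c0, .c8,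 .c7⟩ ⟨.c0, .c6, .c11⟩ ⟨.c0, .c10, .c14⟩ ⟨.c0, .c8, .c10⟩ ⟨.c0, .c7, .c2⟩ ⟨.c0, .c7, .c3⟩ ⟨.c0, .c7, .c4⟩ ⟨.c0, .c7, .c8⟩ ⟨.c0, .c8, .c15⟩ ⟨.c0, .c8, .c16⟩ ⟨.c0, .c8, .c17⟩) (@D3.rec (fun _ => Pt) ⟨.c0, .c9, .c0⟩ ⟨.c0, .c10, .c16⟩ ⟨.c0, .c10, .c17⟩ ⟨.c0, .c9, .c3⟩ ⟨.c0, .c9, .c4⟩ ⟨.c0, .c9, .c5⟩ ⟨.c0, .c9, .c6⟩ ⟨.c0, .c11, .c0⟩ ⟨.c0, .c9, .c8⟩ ⟨.c0, .c7, .c12⟩ ⟨.c0, .c7, .c13⟩ ⟨.c0, .c7, .c14⟩ ⟨.c0, .c7, .c15⟩ ⟨.c0, .c11, .c16⟩ ⟨.c0, .c11, .c17⟩ ⟨.c0, .c12, .c0⟩ ⟨.c0, .c12, .c1⟩ ⟨.c0, .c12, .c2⟩) (@D3.rec (fun _ => Pt) ⟨.c0, .c12, .c3⟩ ⟨.c0, .c10, .c1⟩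 ⟨.c0, .c10, .c2⟩ ⟨.c0, .c10, .c3⟩ ⟨.c0, .c8, .c3⟩ ⟨.c0, .c8, .c4⟩ ⟨.c0, .c8, .c5⟩ ⟨.c0, .c8, .c6⟩ ⟨.c0, .c12, .c16⟩ ⟨.c0, .c12, .c17⟩ ⟨.c0, .c13, .c0⟩ ⟨.c0, .c13, .c2⟩ ⟨.c0, .c13, .c8⟩ ⟨.c0, .c10, .c13⟩ ⟨.c0, .c8, .c9⟩ ⟨.c0, .c13, .c10⟩ ⟨.c0, .c9, .c1⟩ ⟨.c0, .c9, .c2⟩) (@D3.rec (fun _ => Pt) ⟨.c0, .c9, .c7⟩ ⟨.c0, .c11, .c1⟩ ⟨.c0, .c11, .c2⟩ ⟨.c0, .c11, .c3⟩ ⟨.c0, .c11, .c4⟩ ⟨.c0, .c11, .c5⟩ ⟨.c0, .c11, .c6⟩ ⟨.c0, .c13, .c12⟩ ⟨.c0, .c13, .c13⟩ ⟨.c0, .c11, .c9⟩ ⟨.c0, .c11, .c10⟩ ⟨.c0, .c11, .c11⟩ ⟨.c0, .c11, .c12⟩ ⟨.c0, .c14, .c12⟩ ⟨.c0, .c11, .c14⟩ ⟨.c0,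 .c11, .c15⟩ ⟨.c0, .c9, .c13⟩ ⟨.c0, .c9, .c14⟩) (@D3.rec (fun _ => Pt) ⟨.c0, .c9, .c15⟩ ⟨.c0, .c9, .c16⟩ ⟨.c0, .c9, .c17⟩ ⟨.c0, .c10, .c0⟩ ⟨.c0, .c14, .c17⟩ ⟨.c1, .c0, .c0⟩ ⟨.c1, .c0, .c1⟩ ⟨.c1, .c0, .c2⟩ ⟨.c1, .c0, .c3⟩ ⟨.c1, .c0, .c4⟩ ⟨.c1, .c0, .c5⟩ ⟨.c1, .c0, .c7⟩ ⟨.c0, .c12, .c12⟩ ⟨.c1, .c1, .c2⟩ ⟨.c0, .c12, .c14⟩ ⟨.c0, .c12, .c15⟩ ⟨.c0, .c10, .c8⟩ ⟨.c0, .c10, .c9⟩) (@D3.rec (fun _ => Pt) ⟨.c0, .c10, .c10⟩ ⟨.c0, .c13, .c1⟩ ⟨.c0, .c10, .c11⟩ ⟨.c1, .c1, .c6⟩ ⟨.c1, .c1, .c7⟩ ⟨.c1, .c1, .c15⟩ ⟨.c1, .c1, .c9⟩ ⟨.c1, .c1, .c11⟩ ⟨.c0, .c10, .c12⟩ ⟨.c0, .c13,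 .c9⟩ ⟨.c0, .c10, .c15⟩ ⟨.c1, .c2, .c4⟩ ⟨.c0, .c11, .c7⟩ ⟨.c0, .c11, .c8⟩ ⟨.c1, .c2, .c7⟩ ⟨.c0, .c13, .c15⟩ ⟨.c0, .c13, .c16⟩ ⟨.c0, .c13, .c17⟩) (@D3.rec (fun _ => Pt) ⟨.c0, .c14, .c0⟩ ⟨.c0, .c14, .c1⟩ ⟨.c0, .c14, .c2⟩ ⟨.c0, .c14, .c3⟩ ⟨.c0, .c14, .c4⟩ ⟨.c1, .c2, .c5⟩ ⟨.c1, .c3, .c2⟩ ⟨.c0, .c14, .c7⟩ ⟨.c0, .c14, .c8⟩ ⟨.c1, .c3, .c6⟩ ⟨.c0, .c14, .c10⟩ ⟨.c0, .c14, .c11⟩ ⟨.c0, .c11, .c13⟩ ⟨.c0, .c14, .c13⟩ ⟨.c0, .c14, .c14⟩ ⟨.c0, .c14, .c15⟩ ⟨.c0, .c14, .c16⟩ ⟨.c0, .c12, .c4⟩)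
def f_b_1 : D2 → D3 → Pt := @D2.rec (fun _ => D3 → Pt) (@D3.rec (fun _ => Pt) ⟨.c0, .c12, .c5⟩ ⟨.c0, .c12, .c6⟩ ⟨.c0, .c12, .c7⟩ ⟨.c0, .c12, .c8⟩ ⟨.c0, .c12, .c9⟩ ⟨.c0, .c12, .c10⟩ ⟨.c1, .c0, .c6⟩ ⟨.c0, .c12, .c11⟩ ⟨.c1, .c3, .c17⟩ ⟨.c1, .c4, .c0⟩ ⟨.c1, .c4, .c1⟩ ⟨.c1, .c4, .c2⟩ ⟨.c1, .c4, .c3⟩ ⟨.c1, .c4, .c4⟩ ⟨.c1, .c4, .c5⟩ ⟨.c1, .c5, .c2⟩ ⟨.c1, .c4, .c7⟩ ⟨.c1, .c4, .c9⟩) (@D3.rec (fun _ => Pt) ⟨.c1, .c5, .c6⟩ ⟨.c1, .c1, .c1⟩ ⟨.c0, .c12, .c13⟩ ⟨.c1, .c1, .c3⟩ ⟨.c1, .c1, .c4⟩ ⟨.c1, .c1, .c5⟩ ⟨.c0, .c13, .c3⟩ ⟨.c0, .c13, .c4⟩ ⟨.c1, .c5, .c16⟩ ⟨.c0, .c13,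 .c6⟩ ⟨.c1, .c1, .c10⟩ ⟨.c0, .c13, .c7⟩ ⟨.c1, .c5, .c13⟩ ⟨.c1, .c6, .c6⟩ ⟨.c1, .c5, .c15⟩ ⟨.c0, .c13, .c5⟩ ⟨.c1, .c6, .c10⟩ ⟨.c1, .c6, .c0⟩) (@D3.rec (fun _ => Pt) ⟨.c1, .c6, .c3⟩ ⟨.c1, .c3, .c10⟩ ⟨.c1, .c2, .c2⟩ ⟨.c1, .c2, .c3⟩ ⟨.c0, .c13, .c11⟩ ⟨.c0, .c14, .c5⟩ ⟨.c1, .c7, .c0⟩ ⟨.c0, .c13, .c14⟩ ⟨.c1, .c2, .c8⟩ ⟨.c1, .c2, .c9⟩ ⟨.c1, .c2, .c10⟩ ⟨.c1, .c2, .c11⟩ ⟨.c1, .c2, .c12⟩ ⟨.c1, .c2, .c13⟩ ⟨.c1, .c2, .c14⟩ ⟨.c1, .c7, .c12⟩ ⟨.c1, .c2, .c16⟩ ⟨.c1, .c2, .c17⟩) (@D3.rec (fun _ => Pt) ⟨.c1, .c7, .c16⟩ ⟨.c1, .c6, .c17⟩ ⟨.c0, .c14, .c6⟩ ⟨.c1, .c3, .c3⟩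 ⟨.c1, .c8, .c3⟩ ⟨.c1, .c3, .c5⟩ ⟨.c0, .c14, .c9⟩ ⟨.c1, .c8, .c7⟩ ⟨.c1, .c3, .c8⟩ ⟨.c1, .c3, .c9⟩ ⟨.c1, .c2, .c1⟩ ⟨.c1, .c3, .c11⟩ ⟨.c1, .c3, .c12⟩ ⟨.c1, .c3, .c13⟩ ⟨.c1, .c3, .c14⟩ ⟨.c1, .c3, .c15⟩ ⟨.c1, .c3, .c16⟩ ⟨.c1, .c0, .c8⟩) (@D3.rec (fun _ => Pt) ⟨.c1, .c0, .c9⟩ ⟨.c1, .c0, .c10⟩ ⟨.c1, .c0, .c11⟩ ⟨.c1, .c0, .c12⟩ ⟨.c1, .c0, .c13⟩ ⟨.c1, .c0, .c14⟩ ⟨.c1, .c9, .c12⟩ ⟨.c1, .c0, .c16⟩ ⟨.c1, .c4, .c8⟩ ⟨.c1, .c0, .c17⟩ ⟨.c1, .c9, .c2⟩ ⟨.c1, .c9, .c3⟩ ⟨.c1, .c9, .c4⟩ ⟨.c1, .c9, .c5⟩ ⟨.c1, .c9, .c6⟩ ⟨.c1, .c9, .c7⟩ ⟨.c1, .c10, .c9⟩ ⟨.c1, .c9, .c9⟩) (@D3.rec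 (fun _ => Pt) ⟨.c1, .c10, .c12⟩ ⟨.c1, .c9, .c11⟩ ⟨.c1, .c0, .c15⟩ ⟨.c1, .c10, .c16⟩ ⟨.c1, .c9, .c14⟩ ⟨.c1, .c9, .c17⟩ ⟨.c1, .c1, .c0⟩ ⟨.c1, .c11, .c2⟩ ⟨.c1, .c8, .c0⟩ ⟨.c1, .c5, .c9⟩ ⟨.c1, .c5, .c10⟩ ⟨.c1, .c5, .c11⟩ ⟨.c1, .c5, .c12⟩ ⟨.c1, .c1, .c12⟩ ⟨.c1, .c11, .c12⟩ ⟨.c1, .c1, .c14⟩ ⟨.c1, .c1, .c8⟩ ⟨.c1, .c11, .c16⟩) (@D3.rec (fun _ => Pt) ⟨.c1, .c1, .c17⟩ ⟨.c1, .c6, .c1⟩ ⟨.c1, .c6, .c2⟩ ⟨.c1, .c2, .c0⟩ ⟨.c1, .c12, .c5⟩ ⟨.c1, .c11, .c11⟩ ⟨.c1, .c1, .c13⟩ ⟨.c1, .c12, .c9⟩ ⟨.c1, .c11, .c14⟩ ⟨.c1, .c8, .c6⟩ ⟨.c1, .c1, .c16⟩ ⟨.c1, .c12, .c14⟩ ⟨.c1, .c12,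 .c1⟩ ⟨.c1, .c6, .c13⟩ ⟨.c1, .c6, .c14⟩ ⟨.c1, .c6, .c15⟩ ⟨.c1, .c12, .c17⟩ ⟨.c1, .c3, .c1⟩) (@D3.rec (fun _ => Pt) ⟨.c1, .c2, .c6⟩ ⟨.c1, .c7, .c1⟩ ⟨.c1, .c7, .c2⟩ ⟨.c1, .c7, .c3⟩ ⟨.c1, .c7, .c4⟩ ⟨.c1, .c7, .c5⟩ ⟨.c1, .c7, .c6⟩ ⟨.c1, .c7, .c7⟩ ⟨.c1, .c13, .c11⟩ ⟨.c1, .c7, .c9⟩ ⟨.c1, .c13, .c14⟩ ⟨.c1, .c7, .c11⟩ ⟨.c1, .c2, .c15⟩ ⟨.c1, .c14, .c0⟩ ⟨.c1, .c7, .c14⟩ ⟨.c1, .c7, .c15⟩ ⟨.c1, .c3, .c0⟩ ⟨.c1, .c14, .c4⟩) (@D3.rec (fun _ => Pt) ⟨.c1, .c5, .c8⟩ ⟨.c1, .c14, .c6⟩ ⟨.c1, .c8, .c2⟩ ⟨.c1, .c3, .c4⟩ ⟨.c1, .c14, .c10⟩ ⟨.c1, .c8, .c5⟩ ⟨.c1, .c6, .c9⟩ ⟨.c1,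 .c3, .c7⟩ ⟨.c1, .c14, .c15⟩ ⟨.c1, .c8, .c9⟩ ⟨.c1, .c8, .c10⟩ ⟨.c1, .c8, .c11⟩ ⟨.c1, .c8, .c12⟩ ⟨.c1, .c8, .c13⟩ ⟨.c1, .c8, .c14⟩ ⟨.c1, .c8, .c15⟩ ⟨.c1, .c8, .c16⟩ ⟨.c1, .c8, .c17⟩) (@D3.rec (fun _ => Pt) ⟨.c1, .c9, .c0⟩ ⟨.c1, .c9, .c1⟩ ⟨.c1, .c4, .c10⟩ ⟨.c1, .c4, .c11⟩ ⟨.c1, .c4, .c12⟩ ⟨.c1, .c4, .c13⟩ ⟨.c1, .c4, .c14⟩ ⟨.c1, .c4, .c15⟩ ⟨.c2, .c1, .c0⟩ ⟨.c1, .c4, .c17⟩ ⟨.c2, .c1, .c3⟩ ⟨.c1, .c5, .c1⟩ ⟨.c1, .c4, .c6⟩ ⟨.c2, .c1, .c7⟩ ⟨.c1, .c5, .c4⟩ ⟨.c1, .c9, .c15⟩ ⟨.c1, .c9, .c16⟩ ⟨.c1, .c5, .c5⟩) (@D3.rec (fun _ => Pt) ⟨.c1, .c10, .c0⟩ ⟨.c2, .c0, .c10⟩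 ⟨.c2, .c0, .c11⟩ ⟨.c2, .c0, .c12⟩ ⟨.c2, .c0, .c13⟩ ⟨.c2, .c2, .c3⟩ ⟨.c2, .c0, .c15⟩ ⟨.c2, .c2, .c6⟩ ⟨.c2, .c0, .c17⟩ ⟨.c1, .c4, .c16⟩ ⟨.c2, .c2, .c10⟩ ⟨.c2, .c1, .c2⟩ ⟨.c1, .c5, .c0⟩ ⟨.c2, .c2, .c15⟩ ⟨.c2, .c1, .c5⟩ ⟨.c1, .c13, .c17⟩ ⟨.c1, .c5, .c3⟩ ⟨.c2, .c3, .c2⟩) (@D3.rec (fun _ => Pt) ⟨.c2, .c1, .c10⟩ ⟨.c1, .c14, .c3⟩ ⟨.c1, .c5, .c7⟩ ⟨.c2, .c3, .c5⟩ ⟨.c1, .c11, .c4⟩ ⟨.c1, .c11, .c5⟩ ⟨.c1, .c11, .c6⟩ ⟨.c1, .c11, .c7⟩ ⟨.c2, .c3, .c10⟩ ⟨.c1, .c11, .c9⟩ ⟨.c2, .c3, .c13⟩ ⟨.c1, .c6, .c5⟩ ⟨.c1, .c5, .c14⟩ ⟨.c2, .c3, .c17⟩ ⟨.c1, .c6, .c8⟩ ⟨.c1, .c11, .c15⟩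 ⟨.c1, .c5, .c17⟩ ⟨.c2, .c4, .c4⟩) (@D3.rec (fun _ => Pt) ⟨.c2, .c4, .c5⟩ ⟨.c1, .c6, .c12⟩ ⟨.c1, .c12, .c2⟩ ⟨.c1, .c12, .c3⟩ ⟨.c1, .c12, .c4⟩ ⟨.c1, .c6, .c4⟩ ⟨.c2, .c4, .c11⟩ ⟨.c2, .c3, .c15⟩ ⟨.c1, .c14, .c9⟩ ⟨.c1, .c6, .c7⟩ ⟨.c2, .c4, .c16⟩ ⟨.c2, .c4, .c17⟩ ⟨.c2, .c4, .c2⟩ ⟨.c1, .c14, .c14⟩ ⟨.c1, .c6, .c11⟩ ⟨.c2, .c5, .c3⟩ ⟨.c1, .c12, .c16⟩ ⟨.c1, .c6, .c16⟩) (@D3.rec (fun _ => Pt) ⟨.c2, .c5, .c5⟩ ⟨.c1, .c13, .c1⟩ ⟨.c2, .c5, .c7⟩ ⟨.c1, .c13, .c3⟩ ⟨.c1, .c13, .c4⟩ ⟨.c1, .c13, .c5⟩ ⟨.c1, .c13, .c6⟩ ⟨.c2, .c5, .c15⟩ ⟨.c1, .c13, .c8⟩ ⟨.c2, .c6, .c0⟩ ⟨.c1,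 .c13, .c10⟩ ⟨.c1, .c7, .c8⟩ ⟨.c2, .c6, .c4⟩ ⟨.c1, .c13, .c13⟩ ⟨.c1, .c7, .c10⟩ ⟨.c2, .c6, .c9⟩ ⟨.c1, .c13, .c16⟩ ⟨.c1, .c10, .c15⟩) (@D3.rec (fun _ => Pt) ⟨.c1, .c7, .c13⟩ ⟨.c2, .c6, .c14⟩ ⟨.c1, .c14, .c2⟩ ⟨.c1, .c11, .c1⟩ ⟨.c1, .c7, .c17⟩ ⟨.c2, .c6, .c17⟩ ⟨.c1, .c8, .c1⟩ ⟨.c2, .c7, .c2⟩ ⟨.c1, .c14, .c8⟩ ⟨.c1, .c12, .c8⟩ ⟨.c1, .c8, .c4⟩ ⟨.c2, .c7, .c4⟩ ⟨.c2, .c7, .c3⟩ ⟨.c1, .c14, .c13⟩ ⟨.c1, .c12, .c13⟩ ⟨.c1, .c8, .c8⟩ ⟨.c2, .c7, .c9⟩ ⟨.c1, .c14, .c17⟩)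
def f_b_2 : D2 → D3 → Pt := @D2.rec (fun _ => D3 → Pt) (@D3.rec (fun _ => Pt) ⟨.c2, .c0, .c0⟩ ⟨.c2, .c0, .c1⟩ ⟨.c2, .c0, .c2⟩ ⟨.c2, .c0, .c3⟩ ⟨.c2, .c0, .c4⟩ ⟨.c2, .c0, .c5⟩ ⟨.c2, .c0, .c6⟩ ⟨.c2, .c0, .c7⟩ ⟨.c2, .c8, .c2⟩ ⟨.c2, .c0, .c9⟩ ⟨.c1, .c10, .c1⟩ ⟨.c1, .c10, .c2⟩ ⟨.c1, .c10, .c3⟩ ⟨.c1, .c10, .c4⟩ ⟨.c2, .c8, .c11⟩ ⟨.c1, .c10, .c6⟩ ⟨.c2, .c8, .c14⟩ ⟨.c1, .c10, .c8⟩) (@D3.rec (fun _ => Pt) ⟨.c1, .c9, .c8⟩ ⟨.c2, .c9, .c0⟩ ⟨.c1, .c10, .c11⟩ ⟨.c1, .c9, .c10⟩ ⟨.c2, .c9, .c5⟩ ⟨.c1, .c10, .c14⟩ ⟨.c2, .c1, .c6⟩ ⟨.c1, .c9, .c13⟩ ⟨.c2, .c9, .c10⟩ ⟨.c2, .c9,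 .c11⟩ ⟨.c1, .c11, .c0⟩ ⟨.c2, .c1, .c11⟩ ⟨.c2, .c1, .c12⟩ ⟨.c2, .c1, .c13⟩ ⟨.c2, .c1, .c14⟩ ⟨.c2, .c8, .c5⟩ ⟨.c2, .c8, .c6⟩ ⟨.c2, .c10, .c5⟩) (@D3.rec (fun _ => Pt) ⟨.c2, .c8, .c8⟩ ⟨.c2, .c10, .c8⟩ ⟨.c2, .c8, .c10⟩ ⟨.c1, .c10, .c5⟩ ⟨.c2, .c10, .c12⟩ ⟨.c2, .c8, .c13⟩ ⟨.c1, .c10, .c7⟩ ⟨.c2, .c10, .c17⟩ ⟨.c2, .c8, .c16⟩ ⟨.c2, .c6, .c3⟩ ⟨.c1, .c10, .c10⟩ ⟨.c2, .c11, .c4⟩ ⟨.c2, .c11, .c5⟩ ⟨.c2, .c9, .c3⟩ ⟨.c2, .c6, .c8⟩ ⟨.c1, .c10, .c13⟩ ⟨.c2, .c11, .c9⟩ ⟨.c2, .c11, .c10⟩) (@D3.rec (fun _ => Pt) ⟨.c2, .c9, .c8⟩ ⟨.c2, .c6, .c13⟩ ⟨.c1, .c10, .c17⟩ ⟨.c2, .c11,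 .c15⟩ ⟨.c2, .c6, .c16⟩ ⟨.c1, .c11, .c3⟩ ⟨.c2, .c12, .c0⟩ ⟨.c2, .c3, .c7⟩ ⟨.c2, .c12, .c3⟩ ⟨.c2, .c3, .c9⟩ ⟨.c1, .c11, .c8⟩ ⟨.c2, .c12, .c6⟩ ⟨.c2, .c3, .c12⟩ ⟨.c1, .c11, .c10⟩ ⟨.c2, .c12, .c10⟩ ⟨.c1, .c12, .c7⟩ ⟨.c2, .c3, .c16⟩ ⟨.c1, .c11, .c13⟩) (@D3.rec (fun _ => Pt) ⟨.c2, .c12, .c15⟩ ⟨.c2, .c12, .c16⟩ ⟨.c1, .c12, .c12⟩ ⟨.c2, .c4, .c3⟩ ⟨.c1, .c11, .c17⟩ ⟨.c1, .c12, .c0⟩ ⟨.c2, .c13, .c4⟩ ⟨.c2, .c13, .c5⟩ ⟨.c2, .c13, .c6⟩ ⟨.c2, .c4, .c9⟩ ⟨.c2, .c7, .c1⟩ ⟨.c1, .c12, .c6⟩ ⟨.c2, .c13, .c9⟩ ⟨.c2, .c13, .c10⟩ ⟨.c2, .c12, .c13⟩ ⟨.c2, .c7, .c6⟩ ⟨.c1, .c12, .c10⟩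 ⟨.c1, .c12, .c11⟩) (@D3.rec (fun _ => Pt) ⟨.c2, .c13, .c8⟩ ⟨.c2, .c13, .c13⟩ ⟨.c2, .c7, .c8⟩ ⟨.c1, .c12, .c15⟩ ⟨.c2, .c5, .c4⟩ ⟨.c1, .c13, .c0⟩ ⟨.c2, .c13, .c17⟩ ⟨.c1, .c13, .c2⟩ ⟨.c2, .c14, .c0⟩ ⟨.c2, .c5, .c9⟩ ⟨.c2, .c5, .c10⟩ ⟨.c2, .c14, .c4⟩ ⟨.c2, .c5, .c12⟩ ⟨.c2, .c14, .c7⟩ ⟨.c2, .c5, .c14⟩ ⟨.c1, .c13, .c7⟩ ⟨.c2, .c14, .c11⟩ ⟨.c2, .c5, .c17⟩) (@D3.rec (fun _ => Pt) ⟨.c1, .c13, .c9⟩ ⟨.c2, .c14, .c16⟩ ⟨.c2, .c6, .c2⟩ ⟨.c2, .c2, .c9⟩ ⟨.c1, .c13, .c12⟩ ⟨.c3, .c0, .c3⟩ ⟨.c3, .c0, .c4⟩ ⟨.c2, .c6, .c7⟩ ⟨.c2, .c2, .c14⟩ ⟨.c1, .c13, .c15⟩ ⟨.c3, .c0, .c8⟩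 ⟨.c3, .c0, .c9⟩ ⟨.c2, .c6, .c12⟩ ⟨.c2, .c3, .c1⟩ ⟨.c1, .c14, .c1⟩ ⟨.c3, .c0, .c14⟩ ⟨.c2, .c3, .c4⟩ ⟨.c1, .c14, .c5⟩) (@D3.rec (fun _ => Pt) ⟨.c2, .c14, .c2⟩ ⟨.c2, .c4, .c10⟩ ⟨.c1, .c14, .c7⟩ ⟨.c1, .c14, .c12⟩ ⟨.c1, .c14, .c11⟩ ⟨.c2, .c7, .c5⟩ ⟨.c2, .c4, .c15⟩ ⟨.c2, .c14, .c17⟩ ⟨.c2, .c5, .c2⟩ ⟨.c1, .c14, .c16⟩ ⟨.c2, .c7, .c10⟩ ⟨.c2, .c7, .c11⟩ ⟨.c2, .c7, .c12⟩ ⟨.c2, .c7, .c13⟩ ⟨.c2, .c7, .c14⟩ ⟨.c3, .c1, .c6⟩ ⟨.c2, .c7, .c16⟩ ⟨.c2, .c7, .c17⟩) (@D3.rec (fun _ => Pt) ⟨.c3, .c1, .c10⟩ ⟨.c2, .c8, .c1⟩ ⟨.c2, .c0, .c8⟩ ⟨.c3, .c1, .c14⟩ ⟨.c2, .c8, .c4⟩ ⟨.c2,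 .c1, .c15⟩ ⟨.c2, .c1, .c16⟩ ⟨.c3, .c2, .c3⟩ ⟨.c2, .c2, .c0⟩ ⟨.c3, .c2, .c6⟩ ⟨.c2, .c2, .c2⟩ ⟨.c2, .c0, .c14⟩ ⟨.c3, .c2, .c10⟩ ⟨.c2, .c2, .c5⟩ ⟨.c2, .c0, .c16⟩ ⟨.c3, .c2, .c15⟩ ⟨.c2, .c2, .c8⟩ ⟨.c2, .c8, .c17⟩) (@D3.rec (fun _ => Pt) ⟨.c2, .c1, .c1⟩ ⟨.c3, .c3, .c2⟩ ⟨.c3, .c3, .c3⟩ ⟨.c2, .c2, .c13⟩ ⟨.c2, .c9, .c4⟩ ⟨.c2, .c1, .c4⟩ ⟨.c3, .c3, .c8⟩ ⟨.c3, .c3, .c9⟩ ⟨.c2, .c3, .c0⟩ ⟨.c2, .c9, .c9⟩ ⟨.c2, .c1, .c8⟩ ⟨.c2, .c1, .c9⟩ ⟨.c3, .c3, .c15⟩ ⟨.c3, .c3, .c16⟩ ⟨.c3, .c3, .c17⟩ ⟨.c2, .c9, .c15⟩ ⟨.c2, .c9, .c16⟩ ⟨.c2, .c9, .c17⟩) (@D3.rec (fun _ => Pt) ⟨.c2,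 .c10, .c0⟩ ⟨.c2, .c10, .c1⟩ ⟨.c3, .c2, .c0⟩ ⟨.c3, .c4, .c7⟩ ⟨.c3, .c2, .c2⟩ ⟨.c2, .c1, .c17⟩ ⟨.c3, .c4, .c11⟩ ⟨.c3, .c2, .c5⟩ ⟨.c2, .c2, .c1⟩ ⟨.c3, .c4, .c16⟩ ⟨.c3, .c2, .c8⟩ ⟨.c2, .c14, .c10⟩ ⟨.c2, .c2, .c4⟩ ⟨.c3, .c5, .c3⟩ ⟨.c3, .c5, .c4⟩ ⟨.c3, .c2, .c13⟩ ⟨.c2, .c14, .c15⟩ ⟨.c2, .c2, .c7⟩) (@D3.rec (fun _ => Pt) ⟨.c3, .c5, .c9⟩ ⟨.c3, .c5, .c10⟩ ⟨.c3, .c3, .c0⟩ ⟨.c3, .c0, .c2⟩ ⟨.c2, .c2, .c11⟩ ⟨.c2, .c2, .c12⟩ ⟨.c3, .c5, .c16⟩ ⟨.c3, .c5, .c17⟩ ⟨.c3, .c0, .c7⟩ ⟨.c2, .c2, .c16⟩ ⟨.c2, .c2, .c17⟩ ⟨.c3, .c6, .c5⟩ ⟨.c3, .c6, .c6⟩ ⟨.c3, .c6, .c7⟩ ⟨.c3, .c0,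 .c13⟩ ⟨.c2, .c3, .c3⟩ ⟨.c3, .c0, .c15⟩ ⟨.c2, .c11, .c17⟩) (@D3.rec (fun _ => Pt) ⟨.c2, .c3, .c6⟩ ⟨.c3, .c4, .c10⟩ ⟨.c3, .c6, .c14⟩ ⟨.c2, .c3, .c8⟩ ⟨.c3, .c6, .c16⟩ ⟨.c2, .c12, .c5⟩ ⟨.c2, .c3, .c11⟩ ⟨.c3, .c7, .c1⟩ ⟨.c3, .c7, .c2⟩ ⟨.c2, .c12, .c9⟩ ⟨.c2, .c3, .c14⟩ ⟨.c3, .c7, .c6⟩ ⟨.c3, .c7, .c7⟩ ⟨.c2, .c4, .c14⟩ ⟨.c2, .c12, .c14⟩ ⟨.c2, .c4, .c0⟩ ⟨.c2, .c4, .c1⟩ ⟨.c3, .c7, .c14⟩) (@D3.rec (fun _ => Pt) ⟨.c3, .c7, .c15⟩ ⟨.c3, .c7, .c16⟩ ⟨.c2, .c13, .c2⟩ ⟨.c2, .c13, .c3⟩ ⟨.c2, .c4, .c6⟩ ⟨.c2, .c4, .c7⟩ ⟨.c2, .c4, .c8⟩ ⟨.c3, .c8, .c3⟩ ⟨.c2, .c5, .c0⟩ ⟨.c2,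 .c4, .c12⟩ ⟨.c2, .c4, .c13⟩ ⟨.c3, .c5, .c13⟩ ⟨.c2, .c13, .c12⟩ ⟨.c2, .c5, .c1⟩ ⟨.c3, .c5, .c8⟩ ⟨.c3, .c0, .c16⟩ ⟨.c2, .c13, .c16⟩ ⟨.c2, .c5, .c6⟩) (@D3.rec (fun _ => Pt) ⟨.c2, .c5, .c8⟩ ⟨.c2, .c14, .c1⟩ ⟨.c2, .c7, .c0⟩ ⟨.c2, .c14, .c3⟩ ⟨.c2, .c5, .c11⟩ ⟨.c3, .c8, .c7⟩ ⟨.c2, .c14, .c6⟩ ⟨.c2, .c5, .c13⟩ ⟨.c3, .c8, .c12⟩ ⟨.c2, .c14, .c9⟩ ⟨.c2, .c10, .c11⟩ ⟨.c2, .c5, .c16⟩ ⟨.c3, .c8, .c17⟩ ⟨.c3, .c9, .c0⟩ ⟨.c2, .c14, .c14⟩ ⟨.c2, .c10, .c16⟩ ⟨.c2, .c6, .c1⟩ ⟨.c2, .c7, .c7⟩)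
def f_b_3 : D2 → D3 → Pt := @D2.rec (fun _ => D3 → Pt) (@D3.rec (fun _ => Pt) ⟨.c3, .c9, .c4⟩ ⟨.c3, .c0, .c1⟩ ⟨.c2, .c11, .c3⟩ ⟨.c2, .c6, .c5⟩ ⟨.c2, .c6, .c6⟩ ⟨.c3, .c9, .c6⟩ ⟨.c3, .c9, .c5⟩ ⟨.c2, .c11, .c8⟩ ⟨.c2, .c6, .c10⟩ ⟨.c2, .c6, .c11⟩ ⟨.c3, .c9, .c11⟩ ⟨.c3, .c8, .c5⟩ ⟨.c3, .c9, .c12⟩ ⟨.c2, .c11, .c14⟩ ⟨.c2, .c6, .c15⟩ ⟨.c2, .c11, .c16⟩ ⟨.c2, .c13, .c15⟩ ⟨.c3, .c0, .c17⟩) (@D3.rec (fun _ => Pt) ⟨.c3, .c1, .c0⟩ ⟨.c3, .c10, .c2⟩ ⟨.c3, .c1, .c2⟩ ⟨.c3, .c1, .c3⟩ ⟨.c3, .c10, .c7⟩ ⟨.c3, .c1, .c5⟩ ⟨.c2, .c7, .c15⟩ ⟨.c3, .c10, .c11⟩ ⟨.c3, .c1, .c8⟩ ⟨.c3,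 .c10, .c15⟩ ⟨.c2, .c8, .c0⟩ ⟨.c3, .c10, .c17⟩ ⟨.c3, .c1, .c12⟩ ⟨.c3, .c1, .c13⟩ ⟨.c2, .c8, .c3⟩ ⟨.c3, .c11, .c3⟩ ⟨.c3, .c11, .c4⟩ ⟨.c3, .c1, .c17⟩) (@D3.rec (fun _ => Pt) ⟨.c2, .c10, .c2⟩ ⟨.c3, .c11, .c10⟩ ⟨.c2, .c10, .c4⟩ ⟨.c2, .c8, .c7⟩ ⟨.c3, .c11, .c14⟩ ⟨.c2, .c10, .c7⟩ ⟨.c2, .c8, .c9⟩ ⟨.c3, .c12, .c1⟩ ⟨.c2, .c10, .c10⟩ ⟨.c3, .c2, .c9⟩ ⟨.c2, .c8, .c12⟩ ⟨.c3, .c12, .c6⟩ ⟨.c3, .c12, .c7⟩ ⟨.c2, .c10, .c15⟩ ⟨.c3, .c2, .c14⟩ ⟨.c2, .c8, .c15⟩ ⟨.c3, .c12, .c12⟩ ⟨.c3, .c12, .c13⟩) (@D3.rec (fun _ => Pt) ⟨.c2, .c11, .c2⟩ ⟨.c3, .c3, .c1⟩ ⟨.c2, .c9, .c1⟩ ⟨.c2,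 .c9, .c2⟩ ⟨.c3, .c13, .c2⟩ ⟨.c3, .c13, .c3⟩ ⟨.c3, .c13, .c4⟩ ⟨.c3, .c3, .c7⟩ ⟨.c2, .c9, .c6⟩ ⟨.c2, .c9, .c7⟩ ⟨.c3, .c13, .c12⟩ ⟨.c3, .c13, .c13⟩ ⟨.c3, .c13, .c14⟩ ⟨.c3, .c3, .c13⟩ ⟨.c3, .c3, .c14⟩ ⟨.c2, .c9, .c12⟩ ⟨.c2, .c9, .c13⟩ ⟨.c2, .c9, .c14⟩) (@D3.rec (fun _ => Pt) ⟨.c3, .c14, .c4⟩ ⟨.c3, .c14, .c5⟩ ⟨.c3, .c14, .c6⟩ ⟨.c3, .c14, .c7⟩ ⟨.c3, .c4, .c4⟩ ⟨.c3, .c4, .c5⟩ ⟨.c3, .c11, .c9⟩ ⟨.c2, .c10, .c3⟩ ⟨.c3, .c14, .c12⟩ ⟨.c3, .c11, .c12⟩ ⟨.c2, .c12, .c1⟩ ⟨.c2, .c10, .c6⟩ ⟨.c3, .c14, .c17⟩ ⟨.c4, .c0, .c0⟩ ⟨.c3, .c11, .c17⟩ ⟨.c3, .c8, .c11⟩ ⟨.c2, .c10,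 .c9⟩ ⟨.c4, .c0, .c5⟩) (@D3.rec (fun _ => Pt) ⟨.c4, .c0, .c6⟩ ⟨.c3, .c12, .c4⟩ ⟨.c3, .c8, .c16⟩ ⟨.c2, .c10, .c13⟩ ⟨.c2, .c10, .c14⟩ ⟨.c4, .c0, .c13⟩ ⟨.c4, .c0, .c14⟩ ⟨.c4, .c0, .c15⟩ ⟨.c2, .c13, .c14⟩ ⟨.c2, .c11, .c0⟩ ⟨.c2, .c11, .c1⟩ ⟨.c4, .c1, .c4⟩ ⟨.c4, .c1, .c5⟩ ⟨.c2, .c13, .c11⟩ ⟨.c3, .c9, .c7⟩ ⟨.c3, .c5, .c15⟩ ⟨.c2, .c11, .c6⟩ ⟨.c2, .c11, .c7⟩) (@D3.rec (fun _ => Pt) ⟨.c4, .c1, .c9⟩ ⟨.c4, .c1, .c2⟩ ⟨.c3, .c9, .c9⟩ ⟨.c3, .c9, .c10⟩ ⟨.c3, .c6, .c4⟩ ⟨.c2, .c11, .c11⟩ ⟨.c2, .c11, .c12⟩ ⟨.c2, .c11, .c13⟩ ⟨.c4, .c1, .c16⟩ ⟨.c4, .c1, .c17⟩ ⟨.c3, .c14,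 .c16⟩ ⟨.c3, .c9, .c15⟩ ⟨.c3, .c11, .c8⟩ ⟨.c3, .c6, .c13⟩ ⟨.c2, .c12, .c2⟩ ⟨.c3, .c6, .c15⟩ ⟨.c2, .c12, .c4⟩ ⟨.c4, .c2, .c5⟩) (@D3.rec (fun _ => Pt) ⟨.c3, .c7, .c0⟩ ⟨.c2, .c12, .c7⟩ ⟨.c2, .c12, .c8⟩ ⟨.c4, .c2, .c9⟩ ⟨.c4, .c2, .c10⟩ ⟨.c3, .c7, .c5⟩ ⟨.c2, .c12, .c11⟩ ⟨.c2, .c12, .c12⟩ ⟨.c4, .c2, .c15⟩ ⟨.c4, .c2, .c16⟩ ⟨.c4, .c1, .c7⟩ ⟨.c3, .c7, .c11⟩ ⟨.c3, .c7, .c12⟩ ⟨.c3, .c7, .c13⟩ ⟨.c2, .c12, .c17⟩ ⟨.c2, .c13, .c0⟩ ⟨.c2, .c13, .c1⟩ ⟨.c4, .c3, .c2⟩) (@D3.rec (fun _ => Pt) ⟨.c3, .c8, .c0⟩ ⟨.c3, .c8, .c1⟩ ⟨.c3, .c8, .c2⟩ ⟨.c2, .c13, .c7⟩ ⟨.c3, .c8, .c4⟩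 ⟨.c3, .c0, .c11⟩ ⟨.c3, .c8, .c6⟩ ⟨.c2, .c14, .c5⟩ ⟨.c4, .c3, .c8⟩ ⟨.c4, .c3, .c9⟩ ⟨.c3, .c8, .c10⟩ ⟨.c3, .c4, .c15⟩ ⟨.c2, .c14, .c8⟩ ⟨.c4, .c3, .c14⟩ ⟨.c4, .c3, .c15⟩ ⟨.c3, .c8, .c15⟩ ⟨.c3, .c5, .c2⟩ ⟨.c2, .c14, .c12⟩) (@D3.rec (fun _ => Pt) ⟨.c2, .c14, .c13⟩ ⟨.c4, .c4, .c3⟩ ⟨.c4, .c3, .c5⟩ ⟨.c4, .c4, .c4⟩ ⟨.c3, .c0, .c0⟩ ⟨.c3, .c0, .c6⟩ ⟨.c3, .c0, .c5⟩ ⟨.c3, .c5, .c14⟩ ⟨.c4, .c4, .c0⟩ ⟨.c3, .c6, .c2⟩ ⟨.c3, .c6, .c3⟩ ⟨.c3, .c0, .c10⟩ ⟨.c3, .c0, .c12⟩ ⟨.c4, .c4, .c10⟩ ⟨.c4, .c3, .c6⟩ ⟨.c3, .c6, .c11⟩ ⟨.c4, .c4, .c12⟩ ⟨.c3, .c9, .c17⟩) (@D3.rec (fun _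 => Pt) ⟨.c4, .c4, .c15⟩ ⟨.c3, .c10, .c1⟩ ⟨.c3, .c1, .c1⟩ ⟨.c4, .c5, .c1⟩ ⟨.c3, .c10, .c4⟩ ⟨.c4, .c5, .c5⟩ ⟨.c3, .c10, .c6⟩ ⟨.c3, .c1, .c4⟩ ⟨.c4, .c5, .c8⟩ ⟨.c3, .c10, .c9⟩ ⟨.c3, .c10, .c10⟩ ⟨.c3, .c1, .c7⟩ ⟨.c4, .c5, .c12⟩ ⟨.c4, .c5, .c13⟩ ⟨.c3, .c10, .c14⟩ ⟨.c3, .c1, .c9⟩ ⟨.c3, .c10, .c16⟩ ⟨.c3, .c1, .c11⟩) (@D3.rec (fun _ => Pt) ⟨.c4, .c6, .c1⟩ ⟨.c4, .c6, .c2⟩ ⟨.c3, .c11, .c2⟩ ⟨.c3, .c1, .c15⟩ ⟨.c3, .c1, .c16⟩ ⟨.c4, .c6, .c7⟩ ⟨.c4, .c6, .c8⟩ ⟨.c4, .c6, .c9⟩ ⟨.c3, .c6, .c12⟩ ⟨.c3, .c4, .c6⟩ ⟨.c3, .c2, .c1⟩ ⟨.c4, .c6, .c16⟩ ⟨.c3, .c4, .c9⟩ ⟨.c3, .c11,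 .c13⟩ ⟨.c3, .c2, .c4⟩ ⟨.c4, .c7, .c3⟩ ⟨.c4, .c7, .c4⟩ ⟨.c3, .c4, .c14⟩) (@D3.rec (fun _ => Pt) ⟨.c3, .c12, .c0⟩ ⟨.c3, .c2, .c7⟩ ⟨.c4, .c7, .c9⟩ ⟨.c4, .c7, .c10⟩ ⟨.c3, .c5, .c1⟩ ⟨.c3, .c12, .c5⟩ ⟨.c3, .c2, .c11⟩ ⟨.c3, .c2, .c12⟩ ⟨.c4, .c7, .c17⟩ ⟨.c4, .c8, .c0⟩ ⟨.c4, .c8, .c1⟩ ⟨.c3, .c12, .c11⟩ ⟨.c3, .c2, .c16⟩ ⟨.c3, .c2, .c17⟩ ⟨.c4, .c8, .c9⟩ ⟨.c4, .c8, .c10⟩ ⟨.c4, .c8, .c11⟩ ⟨.c3, .c12, .c17⟩) (@D3.rec (fun _ => Pt) ⟨.c3, .c13, .c0⟩ ⟨.c3, .c13, .c1⟩ ⟨.c3, .c3, .c4⟩ ⟨.c3, .c3, .c5⟩ ⟨.c3, .c3, .c6⟩ ⟨.c4, .c9, .c4⟩ ⟨.c4, .c9, .c5⟩ ⟨.c4, .c9, .c6⟩ ⟨.c4,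 .c9, .c7⟩ ⟨.c3, .c13, .c9⟩ ⟨.c3, .c13, .c10⟩ ⟨.c3, .c13, .c11⟩ ⟨.c3, .c3, .c10⟩ ⟨.c3, .c3, .c11⟩ ⟨.c3, .c3, .c12⟩ ⟨.c4, .c9, .c16⟩ ⟨.c4, .c9, .c17⟩ ⟨.c4, .c10, .c0⟩) (@D3.rec (fun _ => Pt) ⟨.c4, .c10, .c1⟩ ⟨.c3, .c14, .c1⟩ ⟨.c3, .c14, .c2⟩ ⟨.c3, .c14, .c3⟩ ⟨.c3, .c4, .c0⟩ ⟨.c3, .c4, .c1⟩ ⟨.c3, .c4, .c2⟩ ⟨.c3, .c4, .c3⟩ ⟨.c4, .c10, .c10⟩ ⟨.c4, .c10, .c11⟩ ⟨.c3, .c14, .c10⟩ ⟨.c4, .c6, .c15⟩ ⟨.c3, .c4, .c8⟩ ⟨.c4, .c10, .c15⟩ ⟨.c4, .c10, .c16⟩ ⟨.c4, .c7, .c1⟩ ⟨.c3, .c6, .c10⟩ ⟨.c3, .c4, .c12⟩)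
def f_b_4 : D2 → D3 → Pt := @D2.rec (fun _ => D3 → Pt) (@D3.rec (fun _ => Pt) ⟨.c3, .c4, .c13⟩ ⟨.c4, .c11, .c4⟩ ⟨.c4, .c11, .c5⟩ ⟨.c4, .c11, .c6⟩ ⟨.c4, .c3, .c13⟩ ⟨.c3, .c4, .c17⟩ ⟨.c3, .c5, .c0⟩ ⟨.c4, .c11, .c14⟩ ⟨.c4, .c11, .c15⟩ ⟨.c4, .c11, .c16⟩ ⟨.c4, .c4, .c1⟩ ⟨.c4, .c4, .c2⟩ ⟨.c4, .c11, .c3⟩ ⟨.c3, .c5, .c5⟩ ⟨.c3, .c5, .c6⟩ ⟨.c3, .c5, .c7⟩ ⟨.c4, .c12, .c8⟩ ⟨.c4, .c12, .c9⟩) (@D3.rec (fun _ => Pt) ⟨.c4, .c12, .c10⟩ ⟨.c4, .c11, .c1⟩ ⟨.c3, .c6, .c1⟩ ⟨.c4, .c1, .c3⟩ ⟨.c3, .c5, .c11⟩ ⟨.c3, .c5, .c12⟩ ⟨.c4, .c12, .c5⟩ ⟨.c3, .c7, .c10⟩ ⟨.c4, .c1, .c8⟩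 ⟨.c3, .c6, .c0⟩ ⟨.c4, .c11, .c12⟩ ⟨.c4, .c6, .c14⟩ ⟨.c4, .c4, .c8⟩ ⟨.c4, .c4, .c9⟩ ⟨.c4, .c1, .c14⟩ ⟨.c4, .c1, .c15⟩ ⟨.c3, .c6, .c8⟩ ⟨.c3, .c6, .c9⟩) (@D3.rec (fun _ => Pt) ⟨.c4, .c13, .c3⟩ ⟨.c4, .c11, .c2⟩ ⟨.c4, .c2, .c2⟩ ⟨.c4, .c2, .c3⟩ ⟨.c4, .c2, .c4⟩ ⟨.c3, .c6, .c17⟩ ⟨.c4, .c2, .c6⟩ ⟨.c4, .c2, .c7⟩ ⟨.c4, .c2, .c8⟩ ⟨.c3, .c7, .c3⟩ ⟨.c3, .c7, .c4⟩ ⟨.c4, .c13, .c11⟩ ⟨.c4, .c13, .c8⟩ ⟨.c4, .c2, .c13⟩ ⟨.c4, .c2, .c14⟩ ⟨.c3, .c7, .c8⟩ ⟨.c3, .c7, .c9⟩ ⟨.c4, .c8, .c16⟩) (@D3.rec (fun _ => Pt) ⟨.c4, .c3, .c0⟩ ⟨.c4, .c3, .c1⟩ ⟨.c3, .c7, .c17⟩ ⟨.c4, .c3, .c3⟩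 ⟨.c4, .c3, .c4⟩ ⟨.c3, .c9, .c2⟩ ⟨.c3, .c9, .c14⟩ ⟨.c4, .c3, .c7⟩ ⟨.c3, .c8, .c8⟩ ⟨.c3, .c8, .c9⟩ ⟨.c4, .c13, .c16⟩ ⟨.c4, .c13, .c17⟩ ⟨.c4, .c14, .c0⟩ ⟨.c4, .c0, .c4⟩ ⟨.c3, .c8, .c13⟩ ⟨.c3, .c8, .c14⟩ ⟨.c4, .c14, .c5⟩ ⟨.c4, .c13, .c15⟩) (@D3.rec (fun _ => Pt) ⟨.c3, .c9, .c8⟩ ⟨.c4, .c0, .c10⟩ ⟨.c4, .c0, .c11⟩ ⟨.c3, .c9, .c1⟩ ⟨.c3, .c9, .c3⟩ ⟨.c4, .c14, .c7⟩ ⟨.c4, .c14, .c6⟩ ⟨.c4, .c13, .c13⟩ ⟨.c4, .c1, .c12⟩ ⟨.c4, .c1, .c13⟩ ⟨.c3, .c9, .c13⟩ ⟨.c4, .c13, .c14⟩ ⟨.c3, .c9, .c16⟩ ⟨.c4, .c14, .c14⟩ ⟨.c4, .c4, .c14⟩ ⟨.c3, .c10, .c0⟩ ⟨.c5, .c0, .c0⟩ ⟨.c4, .c4,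 .c17⟩) (@D3.rec (fun _ => Pt) ⟨.c4, .c5, .c0⟩ ⟨.c3, .c10, .c3⟩ ⟨.c5, .c0, .c4⟩ ⟨.c5, .c0, .c5⟩ ⟨.c4, .c5, .c4⟩ ⟨.c3, .c10, .c5⟩ ⟨.c5, .c0, .c10⟩ ⟨.c4, .c5, .c7⟩ ⟨.c3, .c10, .c8⟩ ⟨.c5, .c0, .c13⟩ ⟨.c5, .c0, .c14⟩ ⟨.c4, .c5, .c11⟩ ⟨.c3, .c10, .c12⟩ ⟨.c3, .c10, .c13⟩ ⟨.c5, .c1, .c2⟩ ⟨.c5, .c1, .c3⟩ ⟨.c5, .c1, .c4⟩ ⟨.c4, .c5, .c17⟩) (@D3.rec (fun _ => Pt) ⟨.c4, .c6, .c0⟩ ⟨.c3, .c11, .c0⟩ ⟨.c3, .c11, .c1⟩ ⟨.c5, .c1, .c12⟩ ⟨.c4, .c6, .c4⟩ ⟨.c4, .c6, .c5⟩ ⟨.c4, .c6, .c6⟩ ⟨.c3, .c11, .c5⟩ ⟨.c3, .c11, .c6⟩ ⟨.c3, .c11, .c7⟩ ⟨.c5, .c2, .c2⟩ ⟨.c5, .c2, .c3⟩ ⟨.c5,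 .c2, .c4⟩ ⟨.c5, .c2, .c5⟩ ⟨.c4, .c1, .c11⟩ ⟨.c3, .c14, .c11⟩ ⟨.c3, .c11, .c11⟩ ⟨.c5, .c2, .c13⟩) (@D3.rec (fun _ => Pt) ⟨.c5, .c2, .c14⟩ ⟨.c3, .c14, .c15⟩ ⟨.c4, .c7, .c2⟩ ⟨.c3, .c11, .c15⟩ ⟨.c3, .c11, .c16⟩ ⟨.c5, .c3, .c3⟩ ⟨.c5, .c3, .c4⟩ ⟨.c5, .c3, .c5⟩ ⟨.c4, .c7, .c8⟩ ⟨.c3, .c12, .c2⟩ ⟨.c3, .c12, .c3⟩ ⟨.c5, .c3, .c13⟩ ⟨.c5, .c3, .c14⟩ ⟨.c5, .c3, .c15⟩ ⟨.c4, .c7, .c14⟩ ⟨.c4, .c7, .c15⟩ ⟨.c5, .c3, .c2⟩ ⟨.c3, .c12, .c8⟩) (@D3.rec (fun _ => Pt) ⟨.c3, .c12, .c9⟩ ⟨.c3, .c12, .c10⟩ ⟨.c5, .c4, .c8⟩ ⟨.c5, .c4, .c9⟩ ⟨.c5, .c4, .c10⟩ ⟨.c5, .c4, .c11⟩ ⟨.c4, .c8,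 .c6⟩ ⟨.c4, .c8, .c7⟩ ⟨.c4, .c8, .c8⟩ ⟨.c3, .c12, .c14⟩ ⟨.c3, .c12, .c15⟩ ⟨.c3, .c12, .c16⟩ ⟨.c5, .c5, .c0⟩ ⟨.c5, .c5, .c1⟩ ⟨.c5, .c5, .c2⟩ ⟨.c5, .c1, .c14⟩ ⟨.c4, .c2, .c17⟩ ⟨.c4, .c8, .c17⟩) (@D3.rec (fun _ => Pt) ⟨.c4, .c9, .c0⟩ ⟨.c4, .c9, .c1⟩ ⟨.c4, .c9, .c2⟩ ⟨.c4, .c9, .c3⟩ ⟨.c3, .c13, .c5⟩ ⟨.c3, .c13, .c6⟩ ⟨.c3, .c13, .c7⟩ ⟨.c3, .c13, .c8⟩ ⟨.c5, .c5, .c9⟩ ⟨.c5, .c5, .c10⟩ ⟨.c5, .c2, .c10⟩ ⟨.c4, .c9, .c11⟩ ⟨.c4, .c9, .c12⟩ ⟨.c4, .c9, .c13⟩ ⟨.c4, .c9, .c14⟩ ⟨.c4, .c9, .c15⟩ ⟨.c3, .c13, .c15⟩ ⟨.c3, .c13, .c16⟩) (@D3.rec (fun _ => Pt) ⟨.c3, .c13, .c17⟩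 ⟨.c3, .c14, .c0⟩ ⟨.c5, .c6, .c5⟩ ⟨.c5, .c6, .c6⟩ ⟨.c5, .c6, .c7⟩ ⟨.c5, .c6, .c8⟩ ⟨.c4, .c10, .c6⟩ ⟨.c4, .c10, .c7⟩ ⟨.c4, .c10, .c8⟩ ⟨.c4, .c10, .c9⟩ ⟨.c3, .c14, .c8⟩ ⟨.c3, .c14, .c9⟩ ⟨.c5, .c6, .c15⟩ ⟨.c5, .c6, .c17⟩ ⟨.c5, .c2, .c12⟩ ⟨.c3, .c14, .c13⟩ ⟨.c3, .c14, .c14⟩ ⟨.c5, .c7, .c1⟩) (@D3.rec (fun _ => Pt) ⟨.c5, .c7, .c2⟩ ⟨.c4, .c1, .c1⟩ ⟨.c4, .c2, .c1⟩ ⟨.c4, .c0, .c12⟩ ⟨.c4, .c0, .c1⟩ ⟨.c4, .c0, .c2⟩ ⟨.c4, .c0, .c3⟩ ⟨.c5, .c7, .c11⟩ ⟨.c5, .c7, .c12⟩ ⟨.c5, .c7, .c13⟩ ⟨.c5, .c7, .c14⟩ ⟨.c4, .c14, .c4⟩ ⟨.c4, .c1, .c10⟩ ⟨.c5, .c7, .c0⟩ ⟨.c4, .c0, .c7⟩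 ⟨.c4, .c0, .c8⟩ ⟨.c4, .c0, .c9⟩ ⟨.c5, .c8, .c5⟩) (@D3.rec (fun _ => Pt) ⟨.c5, .c8, .c6⟩ ⟨.c5, .c8, .c7⟩ ⟨.c5, .c7, .c7⟩ ⟨.c5, .c8, .c4⟩ ⟨.c4, .c14, .c9⟩ ⟨.c4, .c1, .c6⟩ ⟨.c5, .c7, .c9⟩ ⟨.c5, .c7, .c10⟩ ⟨.c4, .c0, .c16⟩ ⟨.c4, .c0, .c17⟩ ⟨.c4, .c1, .c0⟩ ⟨.c5, .c8, .c2⟩ ⟨.c5, .c8, .c13⟩ ⟨.c5, .c8, .c14⟩ ⟨.c5, .c7, .c6⟩ ⟨.c4, .c12, .c15⟩ ⟨.c5, .c2, .c11⟩ ⟨.c4, .c14, .c12⟩) (@D3.rec (fun _ => Pt) ⟨.c4, .c13, .c0⟩ ⟨.c4, .c13, .c1⟩ ⟨.c4, .c13, .c2⟩ ⟨.c4, .c2, .c0⟩ ⟨.c5, .c7, .c8⟩ ⟨.c4, .c13, .c5⟩ ⟨.c4, .c13, .c6⟩ ⟨.c4, .c13, .c7⟩ ⟨.c4, .c2, .c12⟩ ⟨.c4, .c13,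 .c9⟩ ⟨.c4, .c13, .c10⟩ ⟨.c4, .c2, .c11⟩ ⟨.c4, .c13, .c12⟩ ⟨.c4, .c4, .c7⟩ ⟨.c4, .c4, .c11⟩ ⟨.c4, .c3, .c17⟩ ⟨.c4, .c3, .c10⟩ ⟨.c4, .c3, .c11⟩) (@D3.rec (fun _ => Pt) ⟨.c4, .c3, .c12⟩ ⟨.c5, .c9, .c6⟩ ⟨.c5, .c9, .c7⟩ ⟨.c5, .c9, .c8⟩ ⟨.c4, .c11, .c11⟩ ⟨.c4, .c3, .c16⟩ ⟨.c4, .c4, .c6⟩ ⟨.c4, .c4, .c5⟩ ⟨.c5, .c9, .c5⟩ ⟨.c4, .c12, .c4⟩ ⟨.c5, .c9, .c3⟩ ⟨.c5, .c9, .c4⟩ ⟨.c4, .c12, .c17⟩ ⟨.c4, .c14, .c13⟩ ⟨.c4, .c4, .c13⟩ ⟨.c5, .c9, .c10⟩ ⟨.c5, .c9, .c11⟩ ⟨.c4, .c14, .c17⟩)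
def f_b_5 : D2 → D3 → Pt := @D2.rec (fun _ => D3 → Pt) (@D3.rec (fun _ => Pt) ⟨.c4, .c4, .c16⟩ ⟨.c5, .c9, .c15⟩ ⟨.c5, .c9, .c16⟩ ⟨.c5, .c0, .c3⟩ ⟨.c4, .c5, .c2⟩ ⟨.c4, .c5, .c3⟩ ⟨.c5, .c10, .c4⟩ ⟨.c5, .c10, .c5⟩ ⟨.c5, .c10, .c6⟩ ⟨.c5, .c0, .c9⟩ ⟨.c4, .c5, .c6⟩ ⟨.c5, .c10, .c12⟩ ⟨.c5, .c0, .c12⟩ ⟨.c4, .c5, .c9⟩ ⟨.c4, .c5, .c10⟩ ⟨.c5, .c10, .c17⟩ ⟨.c5, .c11, .c0⟩ ⟨.c5, .c0, .c17⟩) (@D3.rec (fun _ => Pt) ⟨.c5, .c1, .c0⟩ ⟨.c5, .c10, .c3⟩ ⟨.c4, .c5, .c14⟩ ⟨.c4, .c5, .c15⟩ ⟨.c4, .c5, .c16⟩ ⟨.c5, .c11, .c10⟩ ⟨.c5, .c11, .c11⟩ ⟨.c5, .c11, .c12⟩ ⟨.c5, .c11, .c13⟩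 ⟨.c5, .c1, .c9⟩ ⟨.c5, .c1, .c10⟩ ⟨.c5, .c1, .c11⟩ ⟨.c4, .c6, .c3⟩ ⟨.c5, .c12, .c2⟩ ⟨.c4, .c8, .c15⟩ ⟨.c5, .c1, .c15⟩ ⟨.c5, .c1, .c16⟩ ⟨.c5, .c1, .c17⟩) (@D3.rec (fun _ => Pt) ⟨.c5, .c2, .c0⟩ ⟨.c5, .c2, .c1⟩ ⟨.c4, .c6, .c10⟩ ⟨.c4, .c6, .c11⟩ ⟨.c4, .c6, .c12⟩ ⟨.c4, .c6, .c13⟩ ⟨.c5, .c12, .c8⟩ ⟨.c5, .c12, .c9⟩ ⟨.c5, .c12, .c3⟩ ⟨.c5, .c12, .c10⟩ ⟨.c4, .c9, .c10⟩ ⟨.c4, .c12, .c16⟩ ⟨.c4, .c10, .c14⟩ ⟨.c4, .c6, .c17⟩ ⟨.c4, .c7, .c0⟩ ⟨.c5, .c13, .c0⟩ ⟨.c5, .c13, .c1⟩ ⟨.c5, .c13, .c2⟩) (@D3.rec (fun _ => Pt) ⟨.c5, .c3, .c0⟩ ⟨.c5, .c3, .c1⟩ ⟨.c4, .c7, .c16⟩ ⟨.c4,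 .c7, .c5⟩ ⟨.c4, .c7, .c6⟩ ⟨.c4, .c7, .c7⟩ ⟨.c5, .c13, .c13⟩ ⟨.c5, .c13, .c14⟩ ⟨.c5, .c13, .c15⟩ ⟨.c5, .c13, .c16⟩ ⟨.c5, .c3, .c10⟩ ⟨.c5, .c3, .c11⟩ ⟨.c5, .c12, .c17⟩ ⟨.c4, .c7, .c11⟩ ⟨.c4, .c7, .c12⟩ ⟨.c4, .c7, .c13⟩ ⟨.c5, .c14, .c8⟩ ⟨.c5, .c14, .c9⟩) (@D3.rec (fun _ => Pt) ⟨.c5, .c14, .c10⟩ ⟨.c5, .c14, .c11⟩ ⟨.c5, .c14, .c16⟩ ⟨.c5, .c4, .c3⟩ ⟨.c5, .c4, .c4⟩ ⟨.c5, .c4, .c5⟩ ⟨.c5, .c13, .c11⟩ ⟨.c5, .c13, .c12⟩ ⟨.c4, .c8, .c2⟩ ⟨.c4, .c8, .c3⟩ ⟨.c4, .c8, .c4⟩ ⟨.c4, .c8, .c5⟩ ⟨.c6, .c0, .c10⟩ ⟨.c6, .c0, .c11⟩ ⟨.c6, .c0, .c12⟩ ⟨.c6, .c0, .c13⟩ ⟨.c5, .c4,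 .c16⟩ ⟨.c5, .c4, .c17⟩) (@D3.rec (fun _ => Pt) ⟨.c4, .c8, .c12⟩ ⟨.c4, .c8, .c13⟩ ⟨.c4, .c8, .c14⟩ ⟨.c6, .c1, .c3⟩ ⟨.c6, .c1, .c4⟩ ⟨.c5, .c5, .c5⟩ ⟨.c5, .c5, .c6⟩ ⟨.c5, .c5, .c7⟩ ⟨.c5, .c5, .c8⟩ ⟨.c4, .c9, .c8⟩ ⟨.c4, .c9, .c9⟩ ⟨.c6, .c1, .c8⟩ ⟨.c5, .c12, .c14⟩ ⟨.c5, .c12, .c15⟩ ⟨.c5, .c5, .c14⟩ ⟨.c5, .c5, .c15⟩ ⟨.c5, .c5, .c16⟩ ⟨.c5, .c5, .c17⟩) (@D3.rec (fun _ => Pt) ⟨.c5, .c6, .c0⟩ ⟨.c5, .c6, .c1⟩ ⟨.c5, .c6, .c2⟩ ⟨.c5, .c6, .c3⟩ ⟨.c5, .c6, .c4⟩ ⟨.c4, .c10, .c2⟩ ⟨.c4, .c10, .c3⟩ ⟨.c4, .c10, .c4⟩ ⟨.c4, .c10, .c5⟩ ⟨.c6, .c2, .c7⟩ ⟨.c6, .c2, .c8⟩ ⟨.c6,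 .c2, .c9⟩ ⟨.c6, .c2, .c10⟩ ⟨.c5, .c6, .c13⟩ ⟨.c5, .c6, .c14⟩ ⟨.c4, .c10, .c12⟩ ⟨.c6, .c2, .c16⟩ ⟨.c4, .c10, .c13⟩) (@D3.rec (fun _ => Pt) ⟨.c4, .c11, .c13⟩ ⟨.c4, .c10, .c17⟩ ⟨.c4, .c11, .c0⟩ ⟨.c6, .c3, .c1⟩ ⟨.c6, .c3, .c2⟩ ⟨.c6, .c3, .c3⟩ ⟨.c4, .c12, .c14⟩ ⟨.c4, .c12, .c2⟩ ⟨.c4, .c13, .c4⟩ ⟨.c4, .c12, .c6⟩ ⟨.c4, .c12, .c7⟩ ⟨.c4, .c11, .c7⟩ ⟨.c4, .c11, .c8⟩ ⟨.c4, .c11, .c9⟩ ⟨.c4, .c11, .c10⟩ ⟨.c6, .c3, .c8⟩ ⟨.c6, .c3, .c7⟩ ⟨.c6, .c3, .c6⟩) (@D3.rec (fun _ => Pt) ⟨.c6, .c3, .c13⟩ ⟨.c6, .c3, .c5⟩ ⟨.c4, .c12, .c11⟩ ⟨.c6, .c3, .c0⟩ ⟨.c4, .c12, .c3⟩ ⟨.c4,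 .c11, .c17⟩ ⟨.c4, .c12, .c0⟩ ⟨.c4, .c12, .c1⟩ ⟨.c6, .c3, .c17⟩ ⟨.c6, .c3, .c9⟩ ⟨.c6, .c3, .c10⟩ ⟨.c6, .c3, .c11⟩ ⟨.c6, .c3, .c12⟩ ⟨.c4, .c12, .c12⟩ ⟨.c4, .c12, .c13⟩ ⟨.c5, .c8, .c15⟩ ⟨.c5, .c12, .c16⟩ ⟨.c5, .c8, .c17⟩) (@D3.rec (fun _ => Pt) ⟨.c5, .c9, .c0⟩ ⟨.c5, .c9, .c1⟩ ⟨.c5, .c9, .c2⟩ ⟨.c4, .c14, .c10⟩ ⟨.c4, .c14, .c11⟩ ⟨.c4, .c14, .c8⟩ ⟨.c4, .c14, .c1⟩ ⟨.c4, .c14, .c2⟩ ⟨.c4, .c14, .c3⟩ ⟨.c5, .c9, .c9⟩ ⟨.c4, .c14, .c15⟩ ⟨.c4, .c14, .c16⟩ ⟨.c6, .c4, .c12⟩ ⟨.c6, .c4, .c13⟩ ⟨.c6, .c4, .c14⟩ ⟨.c5, .c0, .c1⟩ ⟨.c5, .c0, .c2⟩ ⟨.c6, .c5, .c2⟩) (@D3.rec (fun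 _ => Pt) ⟨.c6, .c5, .c3⟩ ⟨.c5, .c10, .c1⟩ ⟨.c5, .c10, .c2⟩ ⟨.c5, .c1, .c1⟩ ⟨.c5, .c0, .c6⟩ ⟨.c5, .c0, .c7⟩ ⟨.c5, .c0, .c8⟩ ⟨.c6, .c5, .c13⟩ ⟨.c6, .c5, .c14⟩ ⟨.c6, .c5, .c15⟩ ⟨.c6, .c5, .c16⟩ ⟨.c5, .c10, .c11⟩ ⟨.c5, .c0, .c11⟩ ⟨.c6, .c6, .c5⟩ ⟨.c5, .c10, .c14⟩ ⟨.c5, .c10, .c15⟩ ⟨.c6, .c5, .c1⟩ ⟨.c5, .c0, .c15⟩) (@D3.rec (fun _ => Pt) ⟨.c5, .c0, .c16⟩ ⟨.c6, .c6, .c12⟩ ⟨.c6, .c6, .c13⟩ ⟨.c6, .c6, .c14⟩ ⟨.c6, .c6, .c17⟩ ⟨.c5, .c11, .c5⟩ ⟨.c5, .c11, .c6⟩ ⟨.c5, .c11, .c7⟩ ⟨.c6, .c5, .c11⟩ ⟨.c6, .c5, .c12⟩ ⟨.c5, .c1, .c5⟩ ⟨.c5, .c1, .c6⟩ ⟨.c5, .c1, .c7⟩ ⟨.c5,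 .c1, .c8⟩ ⟨.c6, .c7, .c11⟩ ⟨.c6, .c7, .c12⟩ ⟨.c6, .c7, .c13⟩ ⟨.c6, .c7, .c14⟩) (@D3.rec (fun _ => Pt) ⟨.c5, .c12, .c0⟩ ⟨.c5, .c12, .c1⟩ ⟨.c5, .c1, .c13⟩ ⟨.c5, .c2, .c8⟩ ⟨.c5, .c12, .c4⟩ ⟨.c5, .c12, .c5⟩ ⟨.c5, .c12, .c6⟩ ⟨.c5, .c12, .c7⟩ ⟨.c5, .c2, .c6⟩ ⟨.c5, .c2, .c7⟩ ⟨.c5, .c2, .c9⟩ ⟨.c6, .c8, .c8⟩ ⟨.c6, .c8, .c4⟩ ⟨.c6, .c8, .c9⟩ ⟨.c5, .c5, .c12⟩ ⟨.c5, .c5, .c13⟩ ⟨.c5, .c8, .c16⟩ ⟨.c5, .c3, .c12⟩) (@D3.rec (fun _ => Pt) ⟨.c5, .c2, .c15⟩ ⟨.c5, .c2, .c16⟩ ⟨.c5, .c2, .c17⟩ ⟨.c6, .c9, .c0⟩ ⟨.c6, .c9, .c1⟩ ⟨.c6, .c9, .c2⟩ ⟨.c6, .c9, .c3⟩ ⟨.c6, .c9, .c8⟩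 ⟨.c5, .c13, .c8⟩ ⟨.c5, .c13, .c9⟩ ⟨.c5, .c13, .c10⟩ ⟨.c5, .c4, .c6⟩ ⟨.c5, .c4, .c7⟩ ⟨.c5, .c3, .c6⟩ ⟨.c5, .c3, .c7⟩ ⟨.c5, .c3, .c8⟩ ⟨.c5, .c3, .c9⟩ ⟨.c6, .c10, .c2⟩) (@D3.rec (fun _ => Pt) ⟨.c6, .c10, .c3⟩ ⟨.c6, .c10, .c4⟩ ⟨.c6, .c10, .c5⟩ ⟨.c6, .c10, .c11⟩ ⟨.c5, .c14, .c4⟩ ⟨.c5, .c14, .c5⟩ ⟨.c6, .c8, .c16⟩ ⟨.c6, .c8, .c17⟩ ⟨.c5, .c3, .c16⟩ ⟨.c5, .c3, .c17⟩ ⟨.c5, .c4, .c0⟩ ⟨.c5, .c4, .c1⟩ ⟨.c6, .c11, .c4⟩ ⟨.c6, .c11, .c5⟩ ⟨.c6, .c11, .c6⟩ ⟨.c6, .c11, .c7⟩ ⟨.c5, .c4, .c2⟩ ⟨.c6, .c11, .c12⟩)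
def f_b_6 : D2 → D3 → Pt := @D2.rec (fun _ => D3 → Pt) (@D3.rec (fun _ => Pt) ⟨.c6, .c11, .c2⟩ ⟨.c6, .c0, .c1⟩ ⟨.c6, .c0, .c2⟩ ⟨.c6, .c0, .c3⟩ ⟨.c6, .c0, .c4⟩ ⟨.c6, .c9, .c15⟩ ⟨.c6, .c9, .c16⟩ ⟨.c6, .c9, .c17⟩ ⟨.c6, .c10, .c0⟩ ⟨.c6, .c10, .c1⟩ ⟨.c5, .c4, .c12⟩ ⟨.c5, .c4, .c13⟩ ⟨.c5, .c4, .c14⟩ ⟨.c5, .c4, .c15⟩ ⟨.c6, .c12, .c11⟩ ⟨.c6, .c12, .c12⟩ ⟨.c6, .c12, .c13⟩ ⟨.c6, .c12, .c14⟩) (@D3.rec (fun _ => Pt) ⟨.c6, .c12, .c15⟩ ⟨.c6, .c1, .c1⟩ ⟨.c6, .c1, .c2⟩ ⟨.c5, .c5, .c3⟩ ⟨.c5, .c5, .c4⟩ ⟨.c6, .c1, .c5⟩ ⟨.c6, .c1, .c6⟩ ⟨.c6, .c1, .c7⟩ ⟨.c5, .c5, .c11⟩ ⟨.c6,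 .c13, .c5⟩ ⟨.c6, .c8, .c12⟩ ⟨.c6, .c8, .c13⟩ ⟨.c6, .c8, .c14⟩ ⟨.c6, .c8, .c15⟩ ⟨.c6, .c1, .c14⟩ ⟨.c6, .c1, .c15⟩ ⟨.c6, .c1, .c16⟩ ⟨.c6, .c1, .c17⟩) (@D3.rec (fun _ => Pt) ⟨.c6, .c2, .c0⟩ ⟨.c6, .c2, .c1⟩ ⟨.c6, .c2, .c2⟩ ⟨.c6, .c2, .c3⟩ ⟨.c6, .c2, .c4⟩ ⟨.c6, .c2, .c5⟩ ⟨.c6, .c2, .c6⟩ ⟨.c5, .c6, .c9⟩ ⟨.c5, .c6, .c10⟩ ⟨.c5, .c6, .c11⟩ ⟨.c5, .c6, .c12⟩ ⟨.c6, .c14, .c5⟩ ⟨.c6, .c14, .c8⟩ ⟨.c6, .c14, .c7⟩ ⟨.c6, .c2, .c14⟩ ⟨.c6, .c14, .c11⟩ ⟨.c5, .c6, .c16⟩ ⟨.c6, .c2, .c17⟩) (@D3.rec (fun _ => Pt) ⟨.c5, .c8, .c3⟩ ⟨.c5, .c7, .c3⟩ ⟨.c5, .c7, .c4⟩ ⟨.c5, .c7, .c5⟩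 ⟨.c6, .c14, .c15⟩ ⟨.c5, .c8, .c1⟩ ⟨.c5, .c7, .c17⟩ ⟨.c5, .c7, .c16⟩ ⟨.c5, .c7, .c15⟩ ⟨.c5, .c8, .c9⟩ ⟨.c5, .c8, .c10⟩ ⟨.c5, .c8, .c11⟩ ⟨.c5, .c8, .c12⟩ ⟨.c5, .c8, .c0⟩ ⟨.c7, .c0, .c0⟩ ⟨.c6, .c14, .c13⟩ ⟨.c6, .c14, .c14⟩ ⟨.c5, .c8, .c8⟩) (@D3.rec (fun _ => Pt) ⟨.c7, .c0, .c1⟩ ⟨.c6, .c14, .c17⟩ ⟨.c6, .c14, .c16⟩ ⟨.c7, .c0, .c2⟩ ⟨.c7, .c0, .c3⟩ ⟨.c6, .c4, .c5⟩ ⟨.c6, .c4, .c6⟩ ⟨.c6, .c4, .c7⟩ ⟨.c6, .c4, .c8⟩ ⟨.c6, .c4, .c9⟩ ⟨.c6, .c4, .c10⟩ ⟨.c6, .c4, .c11⟩ ⟨.c5, .c9, .c12⟩ ⟨.c5, .c9, .c13⟩ ⟨.c5, .c9, .c14⟩ ⟨.c7, .c1, .c0⟩ ⟨.c7, .c1, .c1⟩ ⟨.c7, .c1, .c2⟩)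 (@D3.rec (fun _ => Pt) ⟨.c7, .c1, .c3⟩ ⟨.c5, .c10, .c16⟩ ⟨.c5, .c9, .c17⟩ ⟨.c5, .c10, .c0⟩ ⟨.c7, .c1, .c10⟩ ⟨.c7, .c1, .c11⟩ ⟨.c7, .c1, .c12⟩ ⟨.c7, .c1, .c15⟩ ⟨.c6, .c5, .c8⟩ ⟨.c6, .c5, .c9⟩ ⟨.c6, .c5, .c10⟩ ⟨.c5, .c11, .c8⟩ ⟨.c5, .c11, .c9⟩ ⟨.c5, .c10, .c7⟩ ⟨.c5, .c10, .c8⟩ ⟨.c5, .c10, .c9⟩ ⟨.c5, .c10, .c10⟩ ⟨.c7, .c2, .c9⟩) (@D3.rec (fun _ => Pt) ⟨.c7, .c2, .c10⟩ ⟨.c7, .c2, .c11⟩ ⟨.c7, .c2, .c12⟩ ⟨.c6, .c6, .c3⟩ ⟨.c6, .c6, .c4⟩ ⟨.c5, .c10, .c13⟩ ⟨.c7, .c3, .c3⟩ ⟨.c7, .c3, .c4⟩ ⟨.c6, .c6, .c8⟩ ⟨.c6, .c6, .c9⟩ ⟨.c7, .c1, .c8⟩ ⟨.c7, .c1, .c9⟩ ⟨.c5, .c11,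 .c1⟩ ⟨.c5, .c11, .c2⟩ ⟨.c5, .c11, .c3⟩ ⟨.c7, .c3, .c14⟩ ⟨.c7, .c3, .c15⟩ ⟨.c5, .c11, .c4⟩) (@D3.rec (fun _ => Pt) ⟨.c7, .c3, .c17⟩ ⟨.c7, .c4, .c0⟩ ⟨.c6, .c7, .c2⟩ ⟨.c6, .c7, .c3⟩ ⟨.c6, .c7, .c4⟩ ⟨.c6, .c7, .c5⟩ ⟨.c7, .c2, .c4⟩ ⟨.c7, .c2, .c5⟩ ⟨.c7, .c2, .c6⟩ ⟨.c7, .c2, .c7⟩ ⟨.c7, .c2, .c8⟩ ⟨.c5, .c11, .c14⟩ ⟨.c5, .c11, .c15⟩ ⟨.c5, .c11, .c16⟩ ⟨.c5, .c11, .c17⟩ ⟨.c7, .c5, .c0⟩ ⟨.c7, .c5, .c1⟩ ⟨.c7, .c5, .c2⟩) (@D3.rec (fun _ => Pt) ⟨.c7, .c5, .c3⟩ ⟨.c7, .c5, .c4⟩ ⟨.c6, .c8, .c2⟩ ⟨.c6, .c8, .c3⟩ ⟨.c5, .c12, .c12⟩ ⟨.c6, .c8, .c5⟩ ⟨.c6, .c8, .c6⟩ ⟨.c6, .c8,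 .c7⟩ ⟨.c5, .c12, .c11⟩ ⟨.c5, .c12, .c13⟩ ⟨.c7, .c5, .c11⟩ ⟨.c7, .c5, .c16⟩ ⟨.c6, .c1, .c10⟩ ⟨.c6, .c1, .c11⟩ ⟨.c6, .c1, .c12⟩ ⟨.c6, .c1, .c13⟩ ⟨.c5, .c14, .c6⟩ ⟨.c5, .c14, .c7⟩) (@D3.rec (fun _ => Pt) ⟨.c5, .c13, .c3⟩ ⟨.c5, .c13, .c4⟩ ⟨.c5, .c13, .c5⟩ ⟨.c5, .c13, .c6⟩ ⟨.c7, .c6, .c7⟩ ⟨.c7, .c6, .c8⟩ ⟨.c7, .c6, .c9⟩ ⟨.c7, .c6, .c10⟩ ⟨.c5, .c13, .c7⟩ ⟨.c7, .c6, .c15⟩ ⟨.c7, .c6, .c16⟩ ⟨.c6, .c9, .c11⟩ ⟨.c6, .c9, .c12⟩ ⟨.c6, .c9, .c13⟩ ⟨.c6, .c9, .c14⟩ ⟨.c6, .c0, .c5⟩ ⟨.c6, .c0, .c6⟩ ⟨.c6, .c0, .c7⟩) (@D3.rec (fun _ => Pt) ⟨.c6, .c0, .c8⟩ ⟨.c6, .c0, .c9⟩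 ⟨.c5, .c13, .c17⟩ ⟨.c5, .c14, .c0⟩ ⟨.c5, .c14, .c1⟩ ⟨.c5, .c14, .c2⟩ ⟨.c7, .c7, .c16⟩ ⟨.c7, .c7, .c17⟩ ⟨.c7, .c8, .c0⟩ ⟨.c7, .c8, .c1⟩ ⟨.c7, .c8, .c2⟩ ⟨.c5, .c14, .c3⟩ ⟨.c7, .c8, .c8⟩ ⟨.c7, .c7, .c2⟩ ⟨.c6, .c10, .c14⟩ ⟨.c6, .c10, .c15⟩ ⟨.c6, .c10, .c16⟩ ⟨.c7, .c6, .c3⟩) (@D3.rec (fun _ => Pt) ⟨.c7, .c6, .c4⟩ ⟨.c7, .c6, .c5⟩ ⟨.c6, .c0, .c0⟩ ⟨.c7, .c6, .c6⟩ ⟨.c5, .c14, .c12⟩ ⟨.c5, .c14, .c13⟩ ⟨.c5, .c14, .c14⟩ ⟨.c5, .c14, .c15⟩ ⟨.c7, .c9, .c3⟩ ⟨.c7, .c9, .c4⟩ ⟨.c7, .c9, .c5⟩ ⟨.c7, .c9, .c6⟩ ⟨.c5, .c14, .c17⟩ ⟨.c7, .c9, .c9⟩ ⟨.c7, .c9, .c10⟩ ⟨.c7, .c9,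 .c0⟩ ⟨.c7, .c9, .c2⟩ ⟨.c6, .c11, .c17⟩) (@D3.rec (fun _ => Pt) ⟨.c6, .c12, .c0⟩ ⟨.c6, .c12, .c1⟩ ⟨.c6, .c12, .c2⟩ ⟨.c7, .c7, .c8⟩ ⟨.c7, .c7, .c9⟩ ⟨.c7, .c7, .c10⟩ ⟨.c7, .c7, .c11⟩ ⟨.c7, .c7, .c12⟩ ⟨.c7, .c7, .c13⟩ ⟨.c7, .c7, .c14⟩ ⟨.c7, .c7, .c15⟩ ⟨.c6, .c0, .c14⟩ ⟨.c6, .c0, .c15⟩ ⟨.c6, .c0, .c16⟩ ⟨.c6, .c0, .c17⟩ ⟨.c6, .c1, .c0⟩ ⟨.c7, .c10, .c11⟩ ⟨.c7, .c10, .c14⟩) (@D3.rec (fun _ => Pt) ⟨.c7, .c10, .c13⟩ ⟨.c6, .c13, .c1⟩ ⟨.c6, .c13, .c2⟩ ⟨.c6, .c13, .c3⟩ ⟨.c7, .c11, .c2⟩ ⟨.c6, .c1, .c9⟩ ⟨.c7, .c5, .c17⟩ ⟨.c7, .c6, .c0⟩ ⟨.c7, .c6, .c1⟩ ⟨.c7, .c6, .c2⟩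 ⟨.c6, .c13, .c10⟩ ⟨.c6, .c13, .c11⟩ ⟨.c6, .c13, .c12⟩ ⟨.c6, .c13, .c13⟩ ⟨.c6, .c13, .c14⟩ ⟨.c6, .c13, .c15⟩ ⟨.c6, .c13, .c16⟩ ⟨.c6, .c13, .c17⟩) (@D3.rec (fun _ => Pt) ⟨.c6, .c14, .c0⟩ ⟨.c6, .c14, .c1⟩ ⟨.c6, .c14, .c2⟩ ⟨.c6, .c14, .c3⟩ ⟨.c6, .c14, .c4⟩ ⟨.c6, .c2, .c11⟩ ⟨.c7, .c12, .c4⟩ ⟨.c6, .c2, .c13⟩ ⟨.c6, .c2, .c12⟩ ⟨.c7, .c12, .c6⟩ ⟨.c7, .c12, .c7⟩ ⟨.c6, .c2, .c15⟩ ⟨.c6, .c14, .c12⟩ ⟨.c6, .c3, .c15⟩ ⟨.c6, .c3, .c16⟩ ⟨.c6, .c3, .c4⟩ ⟨.c6, .c4, .c2⟩ ⟨.c6, .c4, .c1⟩)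
def f_b_7 : D2 → D3 → Pt := @D2.rec (fun _ => D3 → Pt) (@D3.rec (fun _ => Pt) ⟨.c6, .c3, .c14⟩ ⟨.c6, .c4, .c0⟩ ⟨.c6, .c4, .c3⟩ ⟨.c6, .c4, .c4⟩ ⟨.c7, .c12, .c10⟩ ⟨.c7, .c7, .c0⟩ ⟨.c7, .c12, .c9⟩ ⟨.c7, .c12, .c11⟩ ⟨.c7, .c12, .c12⟩ ⟨.c7, .c0, .c9⟩ ⟨.c7, .c0, .c10⟩ ⟨.c7, .c0, .c11⟩ ⟨.c7, .c13, .c1⟩ ⟨.c7, .c0, .c13⟩ ⟨.c7, .c0, .c14⟩ ⟨.c7, .c0, .c15⟩ ⟨.c7, .c0, .c16⟩ ⟨.c7, .c0, .c17⟩) (@D3.rec (fun _ => Pt) ⟨.c6, .c4, .c15⟩ ⟨.c6, .c4, .c16⟩ ⟨.c6, .c4, .c17⟩ ⟨.c6, .c5, .c0⟩ ⟨.c7, .c13, .c2⟩ ⟨.c7, .c13, .c11⟩ ⟨.c7, .c13, .c12⟩ ⟨.c7, .c13, .c13⟩ ⟨.c6, .c6, .c10⟩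 ⟨.c6, .c6, .c11⟩ ⟨.c6, .c5, .c4⟩ ⟨.c6, .c5, .c5⟩ ⟨.c6, .c5, .c6⟩ ⟨.c7, .c14, .c4⟩ ⟨.c7, .c14, .c5⟩ ⟨.c6, .c5, .c7⟩ ⟨.c7, .c14, .c8⟩ ⟨.c7, .c14, .c9⟩) (@D3.rec (fun _ => Pt) ⟨.c7, .c2, .c0⟩ ⟨.c7, .c2, .c1⟩ ⟨.c7, .c2, .c2⟩ ⟨.c7, .c2, .c3⟩ ⟨.c6, .c7, .c6⟩ ⟨.c6, .c7, .c7⟩ ⟨.c6, .c7, .c8⟩ ⟨.c6, .c7, .c9⟩ ⟨.c6, .c7, .c10⟩ ⟨.c6, .c5, .c17⟩ ⟨.c6, .c6, .c0⟩ ⟨.c6, .c6, .c1⟩ ⟨.c6, .c6, .c2⟩ ⟨.c8, .c0, .c9⟩ ⟨.c8, .c0, .c10⟩ ⟨.c8, .c0, .c11⟩ ⟨.c8, .c0, .c12⟩ ⟨.c8, .c0, .c13⟩) (@D3.rec (fun _ => Pt) ⟨.c8, .c1, .c1⟩ ⟨.c7, .c3, .c1⟩ ⟨.c7, .c3, .c2⟩ ⟨.c6, .c6, .c6⟩ ⟨.c6,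 .c6, .c7⟩ ⟨.c8, .c1, .c6⟩ ⟨.c8, .c1, .c7⟩ ⟨.c7, .c3, .c7⟩ ⟨.c7, .c3, .c8⟩ ⟨.c7, .c3, .c9⟩ ⟨.c7, .c14, .c0⟩ ⟨.c7, .c14, .c1⟩ ⟨.c7, .c14, .c2⟩ ⟨.c7, .c14, .c3⟩ ⟨.c6, .c6, .c15⟩ ⟨.c6, .c6, .c16⟩ ⟨.c8, .c2, .c2⟩ ⟨.c6, .c7, .c0⟩) (@D3.rec (fun _ => Pt) ⟨.c6, .c7, .c1⟩ ⟨.c8, .c2, .c3⟩ ⟨.c8, .c2, .c4⟩ ⟨.c8, .c2, .c5⟩ ⟨.c8, .c2, .c0⟩ ⟨.c8, .c2, .c6⟩ ⟨.c7, .c4, .c6⟩ ⟨.c7, .c4, .c7⟩ ⟨.c7, .c4, .c8⟩ ⟨.c7, .c4, .c9⟩ ⟨.c8, .c0, .c1⟩ ⟨.c8, .c0, .c2⟩ ⟨.c8, .c0, .c3⟩ ⟨.c8, .c0, .c4⟩ ⟨.c8, .c0, .c5⟩ ⟨.c8, .c0, .c6⟩ ⟨.c8, .c0, .c7⟩ ⟨.c8, .c0, .c8⟩) (@D3.rec (fun _ =>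 Pt) ⟨.c6, .c7, .c15⟩ ⟨.c6, .c7, .c16⟩ ⟨.c6, .c7, .c17⟩ ⟨.c6, .c8, .c0⟩ ⟨.c6, .c8, .c1⟩ ⟨.c8, .c3, .c13⟩ ⟨.c8, .c3, .c14⟩ ⟨.c8, .c3, .c15⟩ ⟨.c8, .c4, .c3⟩ ⟨.c8, .c3, .c17⟩ ⟨.c7, .c5, .c10⟩ ⟨.c6, .c8, .c10⟩ ⟨.c7, .c5, .c12⟩ ⟨.c7, .c5, .c13⟩ ⟨.c8, .c4, .c7⟩ ⟨.c8, .c4, .c8⟩ ⟨.c6, .c8, .c11⟩ ⟨.c6, .c13, .c6⟩) (@D3.rec (fun _ => Pt) ⟨.c6, .c13, .c7⟩ ⟨.c6, .c13, .c8⟩ ⟨.c6, .c13, .c9⟩ ⟨.c6, .c10, .c17⟩ ⟨.c6, .c11, .c0⟩ ⟨.c6, .c11, .c1⟩ ⟨.c6, .c11, .c3⟩ ⟨.c6, .c9, .c4⟩ ⟨.c6, .c9, .c5⟩ ⟨.c6, .c9, .c6⟩ ⟨.c6, .c9, .c7⟩ ⟨.c8, .c5, .c1⟩ ⟨.c8, .c5, .c2⟩ ⟨.c8, .c5,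 .c3⟩ ⟨.c8, .c5, .c4⟩ ⟨.c6, .c9, .c9⟩ ⟨.c6, .c9, .c10⟩ ⟨.c8, .c5, .c9⟩) (@D3.rec (fun _ => Pt) ⟨.c7, .c0, .c5⟩ ⟨.c8, .c5, .c10⟩ ⟨.c6, .c10, .c13⟩ ⟨.c8, .c5, .c11⟩ ⟨.c7, .c7, .c4⟩ ⟨.c7, .c7, .c5⟩ ⟨.c7, .c7, .c6⟩ ⟨.c7, .c7, .c7⟩ ⟨.c6, .c12, .c3⟩ ⟨.c6, .c12, .c4⟩ ⟨.c6, .c12, .c5⟩ ⟨.c6, .c12, .c6⟩ ⟨.c6, .c12, .c7⟩ ⟨.c6, .c12, .c8⟩ ⟨.c6, .c12, .c9⟩ ⟨.c6, .c12, .c10⟩ ⟨.c6, .c10, .c6⟩ ⟨.c6, .c10, .c7⟩) (@D3.rec (fun _ => Pt) ⟨.c6, .c10, .c8⟩ ⟨.c6, .c10, .c9⟩ ⟨.c6, .c10, .c10⟩ ⟨.c8, .c7, .c0⟩ ⟨.c8, .c7, .c1⟩ ⟨.c8, .c7, .c2⟩ ⟨.c8, .c7, .c7⟩ ⟨.c8, .c7, .c4⟩ ⟨.c6,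 .c10, .c12⟩ ⟨.c8, .c6, .c6⟩ ⟨.c8, .c5, .c16⟩ ⟨.c8, .c6, .c0⟩ ⟨.c7, .c8, .c12⟩ ⟨.c7, .c8, .c13⟩ ⟨.c8, .c4, .c14⟩ ⟨.c8, .c4, .c15⟩ ⟨.c8, .c4, .c16⟩ ⟨.c8, .c4, .c17⟩) (@D3.rec (fun _ => Pt) ⟨.c6, .c11, .c15⟩ ⟨.c8, .c5, .c0⟩ ⟨.c6, .c11, .c16⟩ ⟨.c6, .c11, .c8⟩ ⟨.c6, .c11, .c9⟩ ⟨.c6, .c11, .c10⟩ ⟨.c6, .c11, .c11⟩ ⟨.c8, .c8, .c3⟩ ⟨.c8, .c8, .c5⟩ ⟨.c6, .c11, .c13⟩ ⟨.c6, .c11, .c14⟩ ⟨.c8, .c8, .c1⟩ ⟨.c8, .c7, .c17⟩ ⟨.c8, .c8, .c2⟩ ⟨.c7, .c9, .c14⟩ ⟨.c7, .c9, .c15⟩ ⟨.c7, .c9, .c16⟩ ⟨.c7, .c9, .c17⟩) (@D3.rec (fun _ => Pt) ⟨.c8, .c6, .c7⟩ ⟨.c8, .c6, .c8⟩ ⟨.c8,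 .c6, .c9⟩ ⟨.c8, .c6, .c10⟩ ⟨.c8, .c6, .c11⟩ ⟨.c8, .c6, .c12⟩ ⟨.c8, .c6, .c13⟩ ⟨.c8, .c6, .c14⟩ ⟨.c8, .c6, .c15⟩ ⟨.c8, .c6, .c16⟩ ⟨.c8, .c6, .c17⟩ ⟨.c6, .c12, .c16⟩ ⟨.c8, .c9, .c7⟩ ⟨.c6, .c13, .c0⟩ ⟨.c6, .c12, .c17⟩ ⟨.c8, .c9, .c10⟩ ⟨.c8, .c9, .c11⟩ ⟨.c7, .c10, .c17⟩) (@D3.rec (fun _ => Pt) ⟨.c7, .c11, .c0⟩ ⟨.c8, .c9, .c14⟩ ⟨.c6, .c13, .c4⟩ ⟨.c7, .c11, .c3⟩ ⟨.c8, .c4, .c10⟩ ⟨.c8, .c4, .c11⟩ ⟨.c8, .c4, .c12⟩ ⟨.c8, .c4, .c13⟩ ⟨.c7, .c11, .c8⟩ ⟨.c8, .c10, .c2⟩ ⟨.c7, .c11, .c10⟩ ⟨.c7, .c11, .c11⟩ ⟨.c7, .c11, .c12⟩ ⟨.c8, .c10, .c6⟩ ⟨.c7, .c11, .c14⟩ ⟨.c7,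 .c11, .c15⟩ ⟨.c7, .c11, .c16⟩ ⟨.c7, .c11, .c17⟩) (@D3.rec (fun _ => Pt) ⟨.c7, .c12, .c0⟩ ⟨.c7, .c12, .c1⟩ ⟨.c7, .c12, .c2⟩ ⟨.c7, .c12, .c3⟩ ⟨.c6, .c14, .c6⟩ ⟨.c8, .c10, .c16⟩ ⟨.c6, .c14, .c9⟩ ⟨.c6, .c14, .c10⟩ ⟨.c8, .c10, .c17⟩ ⟨.c7, .c0, .c6⟩ ⟨.c7, .c0, .c4⟩ ⟨.c7, .c0, .c7⟩ ⟨.c7, .c0, .c8⟩ ⟨.c8, .c5, .c15⟩ ⟨.c8, .c11, .c0⟩ ⟨.c8, .c5, .c13⟩ ⟨.c8, .c5, .c12⟩ ⟨.c8, .c11, .c1⟩) (@D3.rec (fun _ => Pt) ⟨.c7, .c13, .c0⟩ ⟨.c7, .c0, .c12⟩ ⟨.c7, .c1, .c4⟩ ⟨.c8, .c11, .c6⟩ ⟨.c7, .c13, .c4⟩ ⟨.c7, .c13, .c5⟩ ⟨.c7, .c13, .c6⟩ ⟨.c7, .c13, .c7⟩ ⟨.c7, .c13, .c8⟩ ⟨.c7,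 .c13, .c9⟩ ⟨.c7, .c13, .c10⟩ ⟨.c7, .c1, .c5⟩ ⟨.c7, .c1, .c6⟩ ⟨.c7, .c1, .c7⟩ ⟨.c8, .c11, .c7⟩ ⟨.c8, .c11, .c17⟩ ⟨.c8, .c12, .c0⟩ ⟨.c8, .c12, .c1⟩) (@D3.rec (fun _ => Pt) ⟨.c7, .c3, .c10⟩ ⟨.c7, .c3, .c11⟩ ⟨.c7, .c3, .c12⟩ ⟨.c7, .c3, .c13⟩ ⟨.c7, .c1, .c13⟩ ⟨.c7, .c1, .c14⟩ ⟨.c8, .c12, .c11⟩ ⟨.c8, .c12, .c12⟩ ⟨.c7, .c1, .c16⟩ ⟨.c7, .c1, .c17⟩ ⟨.c8, .c12, .c14⟩ ⟨.c8, .c12, .c15⟩ ⟨.c8, .c12, .c16⟩ ⟨.c8, .c12, .c17⟩ ⟨.c8, .c13, .c0⟩ ⟨.c7, .c14, .c15⟩ ⟨.c7, .c14, .c16⟩ ⟨.c7, .c14, .c17⟩)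
def f_b_8 : D2 → D3 → Pt := @D2.rec (fun _ => D3 → Pt) (@D3.rec (fun _ => Pt) ⟨.c8, .c0, .c0⟩ ⟨.c7, .c4, .c10⟩ ⟨.c7, .c4, .c11⟩ ⟨.c7, .c4, .c12⟩ ⟨.c7, .c4, .c13⟩ ⟨.c7, .c4, .c14⟩ ⟨.c7, .c4, .c15⟩ ⟨.c7, .c4, .c16⟩ ⟨.c7, .c4, .c17⟩ ⟨.c7, .c2, .c13⟩ ⟨.c7, .c2, .c14⟩ ⟨.c7, .c2, .c15⟩ ⟨.c7, .c2, .c16⟩ ⟨.c7, .c2, .c17⟩ ⟨.c8, .c14, .c9⟩ ⟨.c8, .c14, .c10⟩ ⟨.c8, .c14, .c11⟩ ⟨.c9, .c0, .c0⟩) (@D3.rec (fun _ => Pt) ⟨.c8, .c14, .c13⟩ ⟨.c7, .c3, .c0⟩ ⟨.c9, .c0, .c3⟩ ⟨.c8, .c1, .c3⟩ ⟨.c8, .c1, .c4⟩ ⟨.c8, .c1, .c5⟩ ⟨.c7, .c3, .c5⟩ ⟨.c7, .c3, .c6⟩ ⟨.c9, .c0, .c8⟩ ⟨.c9,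 .c0, .c9⟩ ⟨.c8, .c13, .c7⟩ ⟨.c9, .c0, .c10⟩ ⟨.c8, .c1, .c12⟩ ⟨.c8, .c1, .c13⟩ ⟨.c8, .c12, .c6⟩ ⟨.c8, .c12, .c7⟩ ⟨.c8, .c12, .c8⟩ ⟨.c8, .c12, .c9⟩) (@D3.rec (fun _ => Pt) ⟨.c7, .c4, .c4⟩ ⟨.c8, .c12, .c10⟩ ⟨.c7, .c3, .c16⟩ ⟨.c7, .c4, .c1⟩ ⟨.c7, .c4, .c2⟩ ⟨.c7, .c4, .c3⟩ ⟨.c7, .c4, .c5⟩ ⟨.c9, .c1, .c6⟩ ⟨.c9, .c1, .c7⟩ ⟨.c9, .c1, .c8⟩ ⟨.c9, .c1, .c9⟩ ⟨.c9, .c1, .c3⟩ ⟨.c9, .c1, .c10⟩ ⟨.c9, .c1, .c4⟩ ⟨.c8, .c2, .c14⟩ ⟨.c8, .c2, .c15⟩ ⟨.c8, .c2, .c16⟩ ⟨.c8, .c2, .c17⟩) (@D3.rec (fun _ => Pt) ⟨.c8, .c13, .c14⟩ ⟨.c8, .c13, .c15⟩ ⟨.c8, .c13, .c16⟩ ⟨.c8, .c13,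 .c17⟩ ⟨.c8, .c14, .c0⟩ ⟨.c8, .c14, .c1⟩ ⟨.c8, .c14, .c2⟩ ⟨.c8, .c14, .c3⟩ ⟨.c8, .c14, .c4⟩ ⟨.c8, .c14, .c5⟩ ⟨.c8, .c14, .c6⟩ ⟨.c8, .c14, .c7⟩ ⟨.c8, .c14, .c8⟩ ⟨.c7, .c5, .c5⟩ ⟨.c7, .c5, .c6⟩ ⟨.c7, .c5, .c7⟩ ⟨.c9, .c3, .c5⟩ ⟨.c7, .c5, .c9⟩) (@D3.rec (fun _ => Pt) ⟨.c9, .c3, .c3⟩ ⟨.c9, .c3, .c7⟩ ⟨.c9, .c3, .c4⟩ ⟨.c7, .c5, .c8⟩ ⟨.c9, .c3, .c10⟩ ⟨.c8, .c4, .c5⟩ ⟨.c8, .c4, .c6⟩ ⟨.c7, .c5, .c14⟩ ⟨.c7, .c5, .c15⟩ ⟨.c8, .c4, .c9⟩ ⟨.c7, .c11, .c4⟩ ⟨.c7, .c11, .c5⟩ ⟨.c7, .c11, .c6⟩ ⟨.c7, .c11, .c7⟩ ⟨.c7, .c8, .c14⟩ ⟨.c7, .c8, .c15⟩ ⟨.c7, .c8, .c16⟩ ⟨.c7, .c8,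 .c17⟩) (@D3.rec (fun _ => Pt) ⟨.c7, .c9, .c1⟩ ⟨.c7, .c6, .c11⟩ ⟨.c7, .c6, .c12⟩ ⟨.c7, .c6, .c13⟩ ⟨.c7, .c6, .c14⟩ ⟨.c9, .c4, .c4⟩ ⟨.c9, .c4, .c5⟩ ⟨.c9, .c4, .c9⟩ ⟨.c9, .c4, .c7⟩ ⟨.c7, .c6, .c17⟩ ⟨.c7, .c7, .c1⟩ ⟨.c7, .c7, .c3⟩ ⟨.c7, .c12, .c16⟩ ⟨.c7, .c12, .c15⟩ ⟨.c9, .c4, .c12⟩ ⟨.c7, .c12, .c13⟩ ⟨.c7, .c8, .c10⟩ ⟨.c9, .c4, .c13⟩) (@D3.rec (fun _ => Pt) ⟨.c7, .c8, .c11⟩ ⟨.c8, .c6, .c1⟩ ⟨.c8, .c6, .c2⟩ ⟨.c8, .c6, .c3⟩ ⟨.c8, .c6, .c4⟩ ⟨.c8, .c6, .c5⟩ ⟨.c7, .c8, .c9⟩ ⟨.c7, .c10, .c0⟩ ⟨.c7, .c10, .c1⟩ ⟨.c7, .c10, .c2⟩ ⟨.c7, .c10, .c3⟩ ⟨.c7, .c10, .c4⟩ ⟨.c7,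 .c10, .c5⟩ ⟨.c7, .c10, .c6⟩ ⟨.c7, .c10, .c7⟩ ⟨.c7, .c10, .c8⟩ ⟨.c7, .c10, .c9⟩ ⟨.c7, .c10, .c10⟩) (@D3.rec (fun _ => Pt) ⟨.c7, .c8, .c3⟩ ⟨.c7, .c8, .c4⟩ ⟨.c7, .c8, .c5⟩ ⟨.c9, .c6, .c7⟩ ⟨.c7, .c8, .c7⟩ ⟨.c9, .c6, .c4⟩ ⟨.c9, .c6, .c6⟩ ⟨.c7, .c8, .c6⟩ ⟨.c9, .c6, .c12⟩ ⟨.c9, .c6, .c9⟩ ⟨.c9, .c5, .c2⟩ ⟨.c9, .c5, .c3⟩ ⟨.c8, .c7, .c12⟩ ⟨.c9, .c3, .c17⟩ ⟨.c9, .c4, .c0⟩ ⟨.c9, .c4, .c1⟩ ⟨.c9, .c4, .c2⟩ ⟨.c7, .c9, .c12⟩) (@D3.rec (fun _ => Pt) ⟨.c9, .c4, .c3⟩ ⟨.c7, .c9, .c11⟩ ⟨.c7, .c9, .c13⟩ ⟨.c7, .c9, .c7⟩ ⟨.c9, .c5, .c11⟩ ⟨.c7, .c9, .c8⟩ ⟨.c9, .c7, .c3⟩ ⟨.c9,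 .c7, .c6⟩ ⟨.c9, .c7, .c5⟩ ⟨.c8, .c8, .c9⟩ ⟨.c9, .c7, .c10⟩ ⟨.c8, .c8, .c11⟩ ⟨.c9, .c5, .c9⟩ ⟨.c9, .c5, .c10⟩ ⟨.c9, .c5, .c12⟩ ⟨.c9, .c5, .c13⟩ ⟨.c9, .c7, .c17⟩ ⟨.c9, .c5, .c15⟩) (@D3.rec (fun _ => Pt) ⟨.c9, .c5, .c16⟩ ⟨.c9, .c4, .c14⟩ ⟨.c9, .c5, .c17⟩ ⟨.c9, .c6, .c0⟩ ⟨.c9, .c6, .c1⟩ ⟨.c9, .c6, .c2⟩ ⟨.c9, .c6, .c3⟩ ⟨.c7, .c10, .c12⟩ ⟨.c9, .c8, .c10⟩ ⟨.c8, .c9, .c9⟩ ⟨.c7, .c10, .c15⟩ ⟨.c7, .c10, .c16⟩ ⟨.c9, .c8, .c13⟩ ⟨.c8, .c9, .c13⟩ ⟨.c7, .c11, .c1⟩ ⟨.c9, .c8, .c12⟩ ⟨.c9, .c3, .c13⟩ ⟨.c9, .c3, .c14⟩) (@D3.rec (fun _ => Pt) ⟨.c9, .c8, .c17⟩ ⟨.c9, .c3,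 .c16⟩ ⟨.c7, .c11, .c9⟩ ⟨.c9, .c9, .c2⟩ ⟨.c8, .c10, .c4⟩ ⟨.c8, .c10, .c5⟩ ⟨.c7, .c11, .c13⟩ ⟨.c9, .c9, .c6⟩ ⟨.c9, .c9, .c7⟩ ⟨.c8, .c10, .c9⟩ ⟨.c8, .c10, .c10⟩ ⟨.c8, .c10, .c11⟩ ⟨.c8, .c10, .c12⟩ ⟨.c8, .c10, .c13⟩ ⟨.c8, .c10, .c14⟩ ⟨.c8, .c10, .c15⟩ ⟨.c7, .c12, .c5⟩ ⟨.c7, .c12, .c8⟩) (@D3.rec (fun _ => Pt) ⟨.c7, .c12, .c14⟩ ⟨.c7, .c12, .c17⟩ ⟨.c9, .c4, .c16⟩ ⟨.c9, .c5, .c1⟩ ⟨.c9, .c4, .c15⟩ ⟨.c8, .c13, .c1⟩ ⟨.c7, .c13, .c3⟩ ⟨.c7, .c13, .c14⟩ ⟨.c9, .c9, .c16⟩ ⟨.c9, .c9, .c17⟩ ⟨.c8, .c11, .c10⟩ ⟨.c8, .c11, .c11⟩ ⟨.c8, .c11, .c12⟩ ⟨.c8, .c11, .c13⟩ ⟨.c8,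 .c11, .c14⟩ ⟨.c8, .c11, .c15⟩ ⟨.c8, .c11, .c16⟩ ⟨.c7, .c13, .c15⟩) (@D3.rec (fun _ => Pt) ⟨.c7, .c13, .c16⟩ ⟨.c7, .c13, .c17⟩ ⟨.c9, .c10, .c0⟩ ⟨.c9, .c10, .c1⟩ ⟨.c9, .c10, .c16⟩ ⟨.c9, .c10, .c13⟩ ⟨.c8, .c1, .c14⟩ ⟨.c8, .c1, .c15⟩ ⟨.c8, .c1, .c16⟩ ⟨.c8, .c1, .c17⟩ ⟨.c8, .c2, .c1⟩ ⟨.c7, .c14, .c6⟩ ⟨.c7, .c14, .c7⟩ ⟨.c9, .c11, .c8⟩ ⟨.c7, .c14, .c10⟩ ⟨.c7, .c14, .c11⟩ ⟨.c7, .c14, .c12⟩ ⟨.c7, .c14, .c13⟩) (@D3.rec (fun _ => Pt) ⟨.c7, .c14, .c14⟩ ⟨.c8, .c11, .c5⟩ ⟨.c9, .c11, .c10⟩ ⟨.c9, .c11, .c11⟩ ⟨.c9, .c11, .c12⟩ ⟨.c9, .c11, .c13⟩ ⟨.c9, .c11, .c14⟩ ⟨.c8,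 .c1, .c10⟩ ⟨.c9, .c11, .c16⟩ ⟨.c8, .c13, .c9⟩ ⟨.c8, .c13, .c10⟩ ⟨.c8, .c13, .c11⟩ ⟨.c8, .c13, .c12⟩ ⟨.c8, .c13, .c13⟩ ⟨.c8, .c3, .c0⟩ ⟨.c8, .c3, .c1⟩ ⟨.c8, .c3, .c2⟩ ⟨.c8, .c3, .c3⟩) (@D3.rec (fun _ => Pt) ⟨.c8, .c3, .c4⟩ ⟨.c8, .c3, .c5⟩ ⟨.c8, .c3, .c6⟩ ⟨.c8, .c3, .c7⟩ ⟨.c8, .c3, .c8⟩ ⟨.c8, .c3, .c9⟩ ⟨.c8, .c3, .c10⟩ ⟨.c8, .c3, .c11⟩ ⟨.c8, .c3, .c12⟩ ⟨.c8, .c0, .c14⟩ ⟨.c8, .c0, .c15⟩ ⟨.c8, .c0, .c16⟩ ⟨.c9, .c13, .c16⟩ ⟨.c8, .c1, .c0⟩ ⟨.c9, .c13, .c13⟩ ⟨.c9, .c13, .c14⟩ ⟨.c9, .c14, .c3⟩ ⟨.c9, .c13, .c15⟩)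
def f_b_9 : D2 → D3 → Pt := @D2.rec (fun _ => D3 → Pt) (@D3.rec (fun _ => Pt) ⟨.c8, .c0, .c17⟩ ⟨.c9, .c14, .c7⟩ ⟨.c9, .c14, .c0⟩ ⟨.c8, .c1, .c2⟩ ⟨.c9, .c14, .c9⟩ ⟨.c9, .c14, .c10⟩ ⟨.c9, .c0, .c6⟩ ⟨.c9, .c0, .c7⟩ ⟨.c8, .c1, .c8⟩ ⟨.c8, .c1, .c9⟩ ⟨.c8, .c1, .c11⟩ ⟨.c9, .c14, .c15⟩ ⟨.c9, .c12, .c8⟩ ⟨.c9, .c14, .c16⟩ ⟨.c9, .c12, .c9⟩ ⟨.c9, .c0, .c15⟩ ⟨.c9, .c11, .c1⟩ ⟨.c9, .c11, .c2⟩) (@D3.rec (fun _ => Pt) ⟨.c9, .c11, .c3⟩ ⟨.c9, .c11, .c4⟩ ⟨.c9, .c11, .c5⟩ ⟨.c8, .c2, .c11⟩ ⟨.c8, .c2, .c13⟩ ⟨.c9, .c11, .c6⟩ ⟨.c8, .c2, .c7⟩ ⟨.c8, .c2, .c8⟩ ⟨.c8, .c2, .c9⟩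 ⟨.c8, .c2, .c10⟩ ⟨.c8, .c2, .c12⟩ ⟨.c10, .c0, .c14⟩ ⟨.c10, .c0, .c15⟩ ⟨.c10, .c0, .c16⟩ ⟨.c10, .c0, .c17⟩ ⟨.c10, .c0, .c11⟩ ⟨.c10, .c1, .c0⟩ ⟨.c10, .c0, .c8⟩) (@D3.rec (fun _ => Pt) ⟨.c10, .c0, .c12⟩ ⟨.c10, .c0, .c13⟩ ⟨.c9, .c2, .c2⟩ ⟨.c9, .c12, .c15⟩ ⟨.c9, .c2, .c4⟩ ⟨.c9, .c12, .c16⟩ ⟨.c9, .c12, .c17⟩ ⟨.c9, .c13, .c0⟩ ⟨.c9, .c13, .c1⟩ ⟨.c9, .c13, .c2⟩ ⟨.c10, .c2, .c1⟩ ⟨.c9, .c13, .c4⟩ ⟨.c9, .c13, .c5⟩ ⟨.c9, .c12, .c13⟩ ⟨.c9, .c13, .c6⟩ ⟨.c9, .c13, .c7⟩ ⟨.c9, .c13, .c8⟩ ⟨.c9, .c13, .c9⟩) (@D3.rec (fun _ => Pt) ⟨.c9, .c13, .c10⟩ ⟨.c9, .c13, .c11⟩ ⟨.c9,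 .c13, .c12⟩ ⟨.c8, .c4, .c0⟩ ⟨.c8, .c4, .c2⟩ ⟨.c8, .c3, .c16⟩ ⟨.c10, .c2, .c16⟩ ⟨.c8, .c4, .c1⟩ ⟨.c10, .c2, .c17⟩ ⟨.c9, .c3, .c9⟩ ⟨.c8, .c4, .c4⟩ ⟨.c9, .c3, .c11⟩ ⟨.c9, .c11, .c17⟩ ⟨.c8, .c9, .c16⟩ ⟨.c8, .c9, .c17⟩ ⟨.c10, .c3, .c2⟩ ⟨.c8, .c10, .c1⟩ ⟨.c8, .c7, .c13⟩) (@D3.rec (fun _ => Pt) ⟨.c8, .c7, .c14⟩ ⟨.c8, .c7, .c15⟩ ⟨.c8, .c7, .c16⟩ ⟨.c8, .c8, .c0⟩ ⟨.c8, .c5, .c5⟩ ⟨.c8, .c5, .c6⟩ ⟨.c10, .c3, .c12⟩ ⟨.c8, .c5, .c8⟩ ⟨.c10, .c3, .c11⟩ ⟨.c8, .c5, .c7⟩ ⟨.c10, .c3, .c17⟩ ⟨.c10, .c3, .c14⟩ ⟨.c8, .c5, .c14⟩ ⟨.c8, .c5, .c17⟩ ⟨.c8, .c9, .c1⟩ ⟨.c8, .c11, .c4⟩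 ⟨.c8, .c11, .c2⟩ ⟨.c10, .c4, .c1⟩) (@D3.rec (fun _ => Pt) ⟨.c10, .c4, .c2⟩ ⟨.c8, .c11, .c3⟩ ⟨.c8, .c7, .c10⟩ ⟨.c8, .c7, .c11⟩ ⟨.c9, .c5, .c4⟩ ⟨.c9, .c5, .c5⟩ ⟨.c9, .c5, .c6⟩ ⟨.c10, .c2, .c7⟩ ⟨.c9, .c5, .c8⟩ ⟨.c8, .c8, .c12⟩ ⟨.c8, .c8, .c13⟩ ⟨.c8, .c8, .c4⟩ ⟨.c8, .c8, .c14⟩ ⟨.c8, .c8, .c15⟩ ⟨.c10, .c5, .c5⟩ ⟨.c8, .c8, .c17⟩ ⟨.c8, .c9, .c0⟩ ⟨.c8, .c9, .c2⟩) (@D3.rec (fun _ => Pt) ⟨.c8, .c9, .c3⟩ ⟨.c8, .c9, .c4⟩ ⟨.c8, .c9, .c5⟩ ⟨.c8, .c9, .c6⟩ ⟨.c8, .c7, .c5⟩ ⟨.c9, .c11, .c7⟩ ⟨.c8, .c7, .c6⟩ ⟨.c8, .c7, .c3⟩ ⟨.c10, .c5, .c17⟩ ⟨.c8, .c7, .c9⟩ ⟨.c10, .c5,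 .c15⟩ ⟨.c9, .c6, .c11⟩ ⟨.c8, .c7, .c8⟩ ⟨.c10, .c6, .c2⟩ ⟨.c10, .c4, .c9⟩ ⟨.c10, .c4, .c11⟩ ⟨.c10, .c3, .c5⟩ ⟨.c10, .c3, .c6⟩) (@D3.rec (fun _ => Pt) ⟨.c10, .c3, .c7⟩ ⟨.c10, .c3, .c8⟩ ⟨.c10, .c5, .c1⟩ ⟨.c8, .c8, .c6⟩ ⟨.c10, .c3, .c10⟩ ⟨.c8, .c8, .c8⟩ ⟨.c8, .c8, .c7⟩ ⟨.c10, .c5, .c2⟩ ⟨.c10, .c6, .c10⟩ ⟨.c10, .c6, .c8⟩ ⟨.c8, .c8, .c10⟩ ⟨.c10, .c6, .c13⟩ ⟨.c10, .c6, .c14⟩ ⟨.c10, .c4, .c6⟩ ⟨.c10, .c5, .c0⟩ ⟨.c10, .c4, .c3⟩ ⟨.c10, .c5, .c4⟩ ⟨.c8, .c8, .c16⟩) (@D3.rec (fun _ => Pt) ⟨.c10, .c7, .c6⟩ ⟨.c10, .c7, .c7⟩ ⟨.c10, .c5, .c8⟩ ⟨.c10, .c5, .c9⟩ ⟨.c10, .c5,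 .c10⟩ ⟨.c9, .c12, .c0⟩ ⟨.c10, .c4, .c4⟩ ⟨.c10, .c5, .c11⟩ ⟨.c10, .c5, .c12⟩ ⟨.c10, .c5, .c13⟩ ⟨.c8, .c9, .c8⟩ ⟨.c9, .c8, .c11⟩ ⟨.c8, .c9, .c15⟩ ⟨.c8, .c9, .c12⟩ ⟨.c10, .c7, .c16⟩ ⟨.c9, .c12, .c1⟩ ⟨.c10, .c3, .c1⟩ ⟨.c8, .c10, .c0⟩) (@D3.rec (fun _ => Pt) ⟨.c10, .c8, .c0⟩ ⟨.c10, .c3, .c4⟩ ⟨.c8, .c10, .c3⟩ ⟨.c9, .c9, .c3⟩ ⟨.c9, .c9, .c4⟩ ⟨.c9, .c9, .c5⟩ ⟨.c8, .c10, .c7⟩ ⟨.c8, .c10, .c8⟩ ⟨.c10, .c8, .c4⟩ ⟨.c10, .c8, .c5⟩ ⟨.c10, .c8, .c6⟩ ⟨.c9, .c9, .c11⟩ ⟨.c9, .c9, .c12⟩ ⟨.c9, .c9, .c13⟩ ⟨.c10, .c4, .c5⟩ ⟨.c10, .c4, .c7⟩ ⟨.c8, .c11, .c8⟩ ⟨.c8, .c11, .c9⟩)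 (@D3.rec (fun _ => Pt) ⟨.c8, .c12, .c2⟩ ⟨.c8, .c12, .c3⟩ ⟨.c10, .c8, .c12⟩ ⟨.c10, .c8, .c13⟩ ⟨.c9, .c10, .c4⟩ ⟨.c9, .c10, .c5⟩ ⟨.c9, .c10, .c6⟩ ⟨.c9, .c10, .c7⟩ ⟨.c9, .c10, .c8⟩ ⟨.c9, .c10, .c9⟩ ⟨.c9, .c10, .c10⟩ ⟨.c9, .c10, .c11⟩ ⟨.c10, .c9, .c7⟩ ⟨.c8, .c12, .c5⟩ ⟨.c10, .c9, .c10⟩ ⟨.c10, .c8, .c14⟩ ⟨.c8, .c12, .c4⟩ ⟨.c10, .c9, .c14⟩) (@D3.rec (fun _ => Pt) ⟨.c10, .c9, .c9⟩ ⟨.c9, .c0, .c16⟩ ⟨.c9, .c0, .c17⟩ ⟨.c9, .c1, .c0⟩ ⟨.c9, .c1, .c1⟩ ⟨.c9, .c1, .c2⟩ ⟨.c9, .c1, .c5⟩ ⟨.c9, .c6, .c5⟩ ⟨.c8, .c12, .c13⟩ ⟨.c10, .c10, .c6⟩ ⟨.c8, .c13, .c2⟩ ⟨.c8, .c13,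 .c3⟩ ⟨.c8, .c13, .c4⟩ ⟨.c8, .c13, .c5⟩ ⟨.c8, .c13, .c6⟩ ⟨.c10, .c8, .c11⟩ ⟨.c8, .c13, .c8⟩ ⟨.c9, .c3, .c12⟩) (@D3.rec (fun _ => Pt) ⟨.c9, .c8, .c5⟩ ⟨.c9, .c8, .c15⟩ ⟨.c10, .c10, .c7⟩ ⟨.c10, .c10, .c8⟩ ⟨.c10, .c10, .c9⟩ ⟨.c10, .c10, .c10⟩ ⟨.c10, .c10, .c11⟩ ⟨.c10, .c10, .c12⟩ ⟨.c9, .c0, .c12⟩ ⟨.c9, .c0, .c14⟩ ⟨.c10, .c10, .c14⟩ ⟨.c9, .c12, .c11⟩ ⟨.c9, .c12, .c12⟩ ⟨.c9, .c2, .c13⟩ ⟨.c9, .c12, .c14⟩ ⟨.c9, .c2, .c3⟩ ⟨.c9, .c2, .c5⟩ ⟨.c9, .c2, .c6⟩) (@D3.rec (fun _ => Pt) ⟨.c9, .c2, .c7⟩ ⟨.c9, .c2, .c8⟩ ⟨.c9, .c2, .c9⟩ ⟨.c10, .c12, .c4⟩ ⟨.c9, .c2, .c11⟩ ⟨.c9,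 .c2, .c12⟩ ⟨.c9, .c2, .c14⟩ ⟨.c9, .c2, .c15⟩ ⟨.c9, .c2, .c16⟩ ⟨.c9, .c2, .c17⟩ ⟨.c9, .c3, .c0⟩ ⟨.c9, .c3, .c1⟩ ⟨.c9, .c3, .c2⟩ ⟨.c8, .c14, .c14⟩ ⟨.c8, .c14, .c15⟩ ⟨.c8, .c14, .c17⟩ ⟨.c8, .c14, .c12⟩ ⟨.c10, .c13, .c0⟩) (@D3.rec (fun _ => Pt) ⟨.c9, .c0, .c2⟩ ⟨.c10, .c8, .c15⟩ ⟨.c10, .c12, .c15⟩ ⟨.c8, .c14, .c16⟩ ⟨.c10, .c13, .c4⟩ ⟨.c10, .c12, .c16⟩ ⟨.c9, .c14, .c6⟩ ⟨.c9, .c0, .c1⟩ ⟨.c10, .c13, .c7⟩ ⟨.c9, .c0, .c4⟩ ⟨.c9, .c0, .c5⟩ ⟨.c10, .c13, .c8⟩ ⟨.c9, .c14, .c12⟩ ⟨.c9, .c14, .c13⟩ ⟨.c9, .c14, .c14⟩ ⟨.c9, .c0, .c11⟩ ⟨.c9, .c0, .c13⟩ ⟨.c10, .c13, .c12⟩)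
def f_b_10 : D2 → D3 → Pt := @D2.rec (fun _ => D3 → Pt) (@D3.rec (fun _ => Pt) ⟨.c10, .c13, .c13⟩ ⟨.c10, .c11, .c6⟩ ⟨.c10, .c11, .c9⟩ ⟨.c10, .c11, .c10⟩ ⟨.c10, .c9, .c16⟩ ⟨.c10, .c9, .c17⟩ ⟨.c10, .c10, .c1⟩ ⟨.c10, .c10, .c2⟩ ⟨.c9, .c1, .c17⟩ ⟨.c10, .c10, .c3⟩ ⟨.c10, .c10, .c4⟩ ⟨.c9, .c1, .c15⟩ ⟨.c9, .c2, .c0⟩ ⟨.c9, .c2, .c1⟩ ⟨.c9, .c1, .c11⟩ ⟨.c9, .c1, .c12⟩ ⟨.c9, .c1, .c13⟩ ⟨.c9, .c1, .c14⟩) (@D3.rec (fun _ => Pt) ⟨.c9, .c1, .c16⟩ ⟨.c10, .c14, .c9⟩ ⟨.c10, .c14, .c10⟩ ⟨.c10, .c14, .c11⟩ ⟨.c10, .c14, .c12⟩ ⟨.c10, .c11, .c14⟩ ⟨.c10, .c14, .c2⟩ ⟨.c10, .c14,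 .c14⟩ ⟨.c10, .c12, .c17⟩ ⟨.c10, .c14, .c7⟩ ⟨.c10, .c14, .c5⟩ ⟨.c10, .c14, .c8⟩ ⟨.c10, .c11, .c15⟩ ⟨.c10, .c11, .c17⟩ ⟨.c10, .c12, .c0⟩ ⟨.c10, .c12, .c1⟩ ⟨.c10, .c12, .c2⟩ ⟨.c10, .c11, .c3⟩) (@D3.rec (fun _ => Pt) ⟨.c10, .c12, .c3⟩ ⟨.c9, .c2, .c10⟩ ⟨.c11, .c1, .c0⟩ ⟨.c11, .c1, .c1⟩ ⟨.c10, .c12, .c6⟩ ⟨.c10, .c12, .c7⟩ ⟨.c10, .c12, .c8⟩ ⟨.c9, .c5, .c7⟩ ⟨.c10, .c11, .c12⟩ ⟨.c10, .c12, .c9⟩ ⟨.c10, .c12, .c10⟩ ⟨.c10, .c12, .c11⟩ ⟨.c10, .c12, .c12⟩ ⟨.c10, .c12, .c13⟩ ⟨.c10, .c12, .c14⟩ ⟨.c10, .c10, .c15⟩ ⟨.c9, .c3, .c6⟩ ⟨.c9, .c3, .c8⟩) (@D3.rec (fun _ => Pt)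 ⟨.c10, .c3, .c0⟩ ⟨.c9, .c8, .c16⟩ ⟨.c9, .c3, .c15⟩ ⟨.c11, .c1, .c17⟩ ⟨.c9, .c9, .c1⟩ ⟨.c9, .c6, .c16⟩ ⟨.c9, .c6, .c17⟩ ⟨.c9, .c7, .c0⟩ ⟨.c9, .c7, .c1⟩ ⟨.c11, .c2, .c3⟩ ⟨.c9, .c7, .c4⟩ ⟨.c9, .c4, .c8⟩ ⟨.c9, .c4, .c6⟩ ⟨.c11, .c2, .c7⟩ ⟨.c9, .c4, .c11⟩ ⟨.c11, .c2, .c6⟩ ⟨.c10, .c3, .c16⟩ ⟨.c9, .c4, .c10⟩) (@D3.rec (fun _ => Pt) ⟨.c11, .c2, .c10⟩ ⟨.c9, .c4, .c17⟩ ⟨.c9, .c5, .c0⟩ ⟨.c9, .c7, .c15⟩ ⟨.c9, .c8, .c6⟩ ⟨.c9, .c9, .c14⟩ ⟨.c9, .c7, .c13⟩ ⟨.c9, .c9, .c15⟩ ⟨.c11, .c0, .c14⟩ ⟨.c9, .c6, .c14⟩ ⟨.c11, .c2, .c11⟩ ⟨.c9, .c6, .c15⟩ ⟨.c10, .c4, .c12⟩ ⟨.c11,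 .c1, .c8⟩ ⟨.c10, .c4, .c14⟩ ⟨.c11, .c1, .c9⟩ ⟨.c10, .c4, .c16⟩ ⟨.c11, .c3, .c7⟩) (@D3.rec (fun _ => Pt) ⟨.c9, .c7, .c14⟩ ⟨.c9, .c7, .c2⟩ ⟨.c9, .c7, .c7⟩ ⟨.c10, .c10, .c0⟩ ⟨.c9, .c7, .c16⟩ ⟨.c9, .c5, .c14⟩ ⟨.c11, .c3, .c15⟩ ⟨.c11, .c3, .c16⟩ ⟨.c9, .c8, .c2⟩ ⟨.c9, .c8, .c3⟩ ⟨.c9, .c8, .c4⟩ ⟨.c9, .c8, .c7⟩ ⟨.c9, .c8, .c8⟩ ⟨.c9, .c8, .c9⟩ ⟨.c10, .c10, .c5⟩ ⟨.c9, .c6, .c10⟩ ⟨.c11, .c0, .c5⟩ ⟨.c9, .c6, .c8⟩) (@D3.rec (fun _ => Pt) ⟨.c11, .c4, .c8⟩ ⟨.c10, .c6, .c1⟩ ⟨.c9, .c6, .c13⟩ ⟨.c11, .c3, .c2⟩ ⟨.c11, .c2, .c1⟩ ⟨.c11, .c2, .c2⟩ ⟨.c11, .c3, .c10⟩ ⟨.c11,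 .c3, .c11⟩ ⟨.c9, .c7, .c9⟩ ⟨.c11, .c2, .c5⟩ ⟨.c9, .c7, .c8⟩ ⟨.c11, .c4, .c17⟩ ⟨.c11, .c4, .c16⟩ ⟨.c9, .c7, .c11⟩ ⟨.c9, .c7, .c12⟩ ⟨.c11, .c5, .c2⟩ ⟨.c11, .c5, .c3⟩ ⟨.c11, .c2, .c14⟩) (@D3.rec (fun _ => Pt) ⟨.c11, .c2, .c17⟩ ⟨.c11, .c3, .c9⟩ ⟨.c10, .c10, .c16⟩ ⟨.c11, .c2, .c13⟩ ⟨.c11, .c3, .c13⟩ ⟨.c11, .c4, .c2⟩ ⟨.c9, .c8, .c0⟩ ⟨.c9, .c8, .c1⟩ ⟨.c11, .c5, .c12⟩ ⟨.c11, .c5, .c13⟩ ⟨.c11, .c5, .c14⟩ ⟨.c11, .c4, .c3⟩ ⟨.c11, .c4, .c4⟩ ⟨.c10, .c10, .c17⟩ ⟨.c11, .c4, .c5⟩ ⟨.c10, .c11, .c0⟩ ⟨.c9, .c8, .c14⟩ ⟨.c11, .c1, .c16⟩) (@D3.rec (fun _ => Pt) ⟨.c9, .c9,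 .c0⟩ ⟨.c11, .c6, .c1⟩ ⟨.c10, .c8, .c2⟩ ⟨.c10, .c8, .c3⟩ ⟨.c9, .c9, .c8⟩ ⟨.c9, .c9, .c9⟩ ⟨.c9, .c9, .c10⟩ ⟨.c11, .c6, .c3⟩ ⟨.c11, .c6, .c4⟩ ⟨.c10, .c8, .c9⟩ ⟨.c11, .c2, .c15⟩ ⟨.c9, .c11, .c15⟩ ⟨.c9, .c10, .c2⟩ ⟨.c9, .c10, .c3⟩ ⟨.c9, .c10, .c15⟩ ⟨.c9, .c14, .c1⟩ ⟨.c11, .c6, .c8⟩ ⟨.c11, .c6, .c9⟩) (@D3.rec (fun _ => Pt) ⟨.c10, .c9, .c0⟩ ⟨.c10, .c9, .c1⟩ ⟨.c10, .c9, .c2⟩ ⟨.c10, .c9, .c3⟩ ⟨.c10, .c9, .c4⟩ ⟨.c10, .c9, .c5⟩ ⟨.c10, .c9, .c6⟩ ⟨.c9, .c10, .c12⟩ ⟨.c11, .c7, .c1⟩ ⟨.c9, .c11, .c0⟩ ⟨.c9, .c10, .c14⟩ ⟨.c11, .c7, .c3⟩ ⟨.c11, .c6, .c10⟩ ⟨.c10, .c9, .c13⟩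 ⟨.c9, .c10, .c17⟩ ⟨.c11, .c7, .c6⟩ ⟨.c10, .c0, .c4⟩ ⟨.c10, .c0, .c5⟩) (@D3.rec (fun _ => Pt) ⟨.c10, .c5, .c3⟩ ⟨.c10, .c0, .c6⟩ ⟨.c10, .c0, .c7⟩ ⟨.c10, .c0, .c9⟩ ⟨.c10, .c0, .c10⟩ ⟨.c10, .c5, .c14⟩ ⟨.c9, .c11, .c9⟩ ⟨.c9, .c12, .c2⟩ ⟨.c9, .c12, .c3⟩ ⟨.c9, .c12, .c4⟩ ⟨.c9, .c12, .c5⟩ ⟨.c9, .c12, .c6⟩ ⟨.c9, .c12, .c7⟩ ⟨.c11, .c6, .c7⟩ ⟨.c9, .c12, .c10⟩ ⟨.c10, .c2, .c15⟩ ⟨.c10, .c7, .c2⟩ ⟨.c10, .c7, .c13⟩) (@D3.rec (fun _ => Pt) ⟨.c10, .c7, .c15⟩ ⟨.c11, .c7, .c17⟩ ⟨.c11, .c8, .c0⟩ ⟨.c10, .c1, .c17⟩ ⟨.c11, .c8, .c2⟩ ⟨.c11, .c8, .c3⟩ ⟨.c10, .c0, .c1⟩ ⟨.c11,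 .c8, .c4⟩ ⟨.c11, .c8, .c5⟩ ⟨.c10, .c0, .c2⟩ ⟨.c10, .c0, .c3⟩ ⟨.c10, .c11, .c11⟩ ⟨.c10, .c2, .c8⟩ ⟨.c10, .c11, .c13⟩ ⟨.c10, .c1, .c5⟩ ⟨.c10, .c1, .c12⟩ ⟨.c11, .c9, .c6⟩ ⟨.c10, .c1, .c13⟩) (@D3.rec (fun _ => Pt) ⟨.c10, .c1, .c14⟩ ⟨.c10, .c1, .c15⟩ ⟨.c10, .c1, .c16⟩ ⟨.c10, .c2, .c0⟩ ⟨.c9, .c13, .c3⟩ ⟨.c11, .c9, .c15⟩ ⟨.c10, .c2, .c4⟩ ⟨.c10, .c2, .c5⟩ ⟨.c10, .c2, .c6⟩ ⟨.c10, .c2, .c9⟩ ⟨.c10, .c2, .c10⟩ ⟨.c10, .c2, .c11⟩ ⟨.c10, .c2, .c12⟩ ⟨.c10, .c2, .c13⟩ ⟨.c10, .c2, .c14⟩ ⟨.c9, .c14, .c2⟩ ⟨.c9, .c14, .c5⟩ ⟨.c10, .c1, .c8⟩) (@D3.rec (fun _ => Pt) ⟨.c9, .c13,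 .c17⟩ ⟨.c11, .c10, .c8⟩ ⟨.c11, .c6, .c11⟩ ⟨.c11, .c10, .c6⟩ ⟨.c9, .c14, .c4⟩ ⟨.c11, .c10, .c11⟩ ⟨.c10, .c13, .c6⟩ ⟨.c9, .c14, .c8⟩ ⟨.c9, .c14, .c11⟩ ⟨.c11, .c10, .c13⟩ ⟨.c10, .c13, .c10⟩ ⟨.c10, .c13, .c11⟩ ⟨.c9, .c14, .c17⟩ ⟨.c10, .c0, .c0⟩ ⟨.c11, .c8, .c16⟩ ⟨.c11, .c10, .c16⟩ ⟨.c11, .c9, .c1⟩ ⟨.c11, .c9, .c3⟩) (@D3.rec (fun _ => Pt) ⟨.c11, .c7, .c9⟩ ⟨.c11, .c7, .c10⟩ ⟨.c10, .c1, .c6⟩ ⟨.c11, .c7, .c13⟩ ⟨.c11, .c7, .c14⟩ ⟨.c10, .c1, .c10⟩ ⟨.c11, .c7, .c15⟩ ⟨.c10, .c1, .c9⟩ ⟨.c10, .c1, .c11⟩ ⟨.c10, .c1, .c1⟩ ⟨.c10, .c1, .c2⟩ ⟨.c10, .c1, .c3⟩ ⟨.c10, .c1,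 .c4⟩ ⟨.c11, .c8, .c10⟩ ⟨.c10, .c1, .c7⟩ ⟨.c11, .c8, .c1⟩ ⟨.c11, .c11, .c9⟩ ⟨.c11, .c9, .c14⟩)
def f_b_11 : D2 → D3 → Pt := @D2.rec (fun _ => D3 → Pt) (@D3.rec (fun _ => Pt) ⟨.c11, .c11, .c10⟩ ⟨.c11, .c8, .c9⟩ ⟨.c11, .c9, .c5⟩ ⟨.c11, .c11, .c4⟩ ⟨.c11, .c11, .c12⟩ ⟨.c10, .c5, .c16⟩ ⟨.c11, .c10, .c7⟩ ⟨.c11, .c11, .c8⟩ ⟨.c11, .c11, .c6⟩ ⟨.c11, .c9, .c8⟩ ⟨.c11, .c9, .c9⟩ ⟨.c11, .c9, .c10⟩ ⟨.c11, .c9, .c11⟩ ⟨.c11, .c9, .c12⟩ ⟨.c10, .c4, .c8⟩ ⟨.c11, .c8, .c15⟩ ⟨.c11, .c9, .c13⟩ ⟨.c11, .c8, .c7⟩) (@D3.rec (fun _ => Pt) ⟨.c10, .c2, .c2⟩ ⟨.c10, .c2, .c3⟩ ⟨.c11,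 .c12, .c15⟩ ⟨.c11, .c12, .c16⟩ ⟨.c11, .c12, .c17⟩ ⟨.c11, .c9, .c17⟩ ⟨.c11, .c10, .c0⟩ ⟨.c11, .c10, .c1⟩ ⟨.c10, .c4, .c13⟩ ⟨.c10, .c4, .c15⟩ ⟨.c11, .c9, .c4⟩ ⟨.c11, .c10, .c2⟩ ⟨.c11, .c10, .c3⟩ ⟨.c11, .c10, .c4⟩ ⟨.c11, .c10, .c5⟩ ⟨.c11, .c8, .c8⟩ ⟨.c10, .c7, .c17⟩ ⟨.c10, .c3, .c3⟩) (@D3.rec (fun _ => Pt) ⟨.c11, .c13, .c12⟩ ⟨.c10, .c6, .c4⟩ ⟨.c10, .c6, .c5⟩ ⟨.c10, .c3, .c9⟩ ⟨.c11, .c13, .c16⟩ ⟨.c10, .c6, .c9⟩ ⟨.c10, .c3, .c15⟩ ⟨.c10, .c3, .c13⟩ ⟨.c11, .c14, .c0⟩ ⟨.c11, .c2, .c9⟩ ⟨.c10, .c4, .c0⟩ ⟨.c10, .c4, .c10⟩ ⟨.c11, .c7, .c11⟩ ⟨.c10, .c7, .c3⟩ ⟨.c10,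 .c6, .c17⟩ ⟨.c10, .c8, .c10⟩ ⟨.c11, .c12, .c11⟩ ⟨.c10, .c7, .c0⟩) (@D3.rec (fun _ => Pt) ⟨.c11, .c7, .c8⟩ ⟨.c11, .c12, .c12⟩ ⟨.c10, .c6, .c3⟩ ⟨.c11, .c14, .c3⟩ ⟨.c11, .c13, .c6⟩ ⟨.c11, .c3, .c5⟩ ⟨.c11, .c13, .c7⟩ ⟨.c10, .c4, .c17⟩ ⟨.c11, .c14, .c14⟩ ⟨.c10, .c7, .c1⟩ ⟨.c10, .c6, .c6⟩ ⟨.c10, .c6, .c7⟩ ⟨.c11, .c7, .c12⟩ ⟨.c10, .c7, .c4⟩ ⟨.c11, .c11, .c15⟩ ⟨.c10, .c5, .c6⟩ ⟨.c10, .c5, .c7⟩ ⟨.c11, .c12, .c6⟩) (@D3.rec (fun _ => Pt) ⟨.c12, .c0, .c2⟩ ⟨.c12, .c0, .c3⟩ ⟨.c10, .c7, .c5⟩ ⟨.c10, .c7, .c11⟩ ⟨.c10, .c7, .c12⟩ ⟨.c10, .c7, .c14⟩ ⟨.c11, .c7, .c16⟩ ⟨.c11,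 .c12, .c3⟩ ⟨.c10, .c6, .c0⟩ ⟨.c12, .c0, .c11⟩ ⟨.c11, .c4, .c10⟩ ⟨.c11, .c14, .c11⟩ ⟨.c11, .c13, .c14⟩ ⟨.c11, .c13, .c15⟩ ⟨.c11, .c14, .c16⟩ ⟨.c11, .c14, .c17⟩ ⟨.c10, .c6, .c12⟩ ⟨.c10, .c6, .c11⟩) (@D3.rec (fun _ => Pt) ⟨.c12, .c0, .c14⟩ ⟨.c11, .c8, .c12⟩ ⟨.c10, .c6, .c15⟩ ⟨.c10, .c6, .c16⟩ ⟨.c11, .c13, .c0⟩ ⟨.c12, .c0, .c16⟩ ⟨.c12, .c0, .c17⟩ ⟨.c11, .c14, .c6⟩ ⟨.c11, .c14, .c8⟩ ⟨.c11, .c8, .c11⟩ ⟨.c11, .c14, .c5⟩ ⟨.c12, .c0, .c7⟩ ⟨.c10, .c7, .c8⟩ ⟨.c10, .c7, .c9⟩ ⟨.c10, .c7, .c10⟩ ⟨.c12, .c1, .c5⟩ ⟨.c12, .c1, .c6⟩ ⟨.c12, .c0, .c8⟩) (@D3.rec (fun _ =>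 Pt) ⟨.c11, .c8, .c13⟩ ⟨.c10, .c8, .c1⟩ ⟨.c11, .c6, .c2⟩ ⟨.c10, .c8, .c7⟩ ⟨.c10, .c8, .c8⟩ ⟨.c12, .c1, .c9⟩ ⟨.c12, .c1, .c10⟩ ⟨.c10, .c10, .c13⟩ ⟨.c10, .c8, .c16⟩ ⟨.c10, .c8, .c17⟩ ⟨.c10, .c9, .c12⟩ ⟨.c10, .c13, .c2⟩ ⟨.c12, .c1, .c13⟩ ⟨.c11, .c6, .c13⟩ ⟨.c11, .c6, .c14⟩ ⟨.c11, .c6, .c15⟩ ⟨.c11, .c6, .c16⟩ ⟨.c11, .c6, .c17⟩) (@D3.rec (fun _ => Pt) ⟨.c11, .c7, .c0⟩ ⟨.c10, .c9, .c8⟩ ⟨.c12, .c2, .c2⟩ ⟨.c10, .c9, .c11⟩ ⟨.c12, .c2, .c3⟩ ⟨.c11, .c7, .c5⟩ ⟨.c10, .c9, .c15⟩ ⟨.c12, .c2, .c6⟩ ⟨.c11, .c3, .c0⟩ ⟨.c10, .c14, .c0⟩ ⟨.c10, .c14, .c1⟩ ⟨.c11, .c2, .c12⟩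 ⟨.c11, .c3, .c12⟩ ⟨.c10, .c14, .c3⟩ ⟨.c10, .c14, .c4⟩ ⟨.c10, .c14, .c6⟩ ⟨.c11, .c4, .c6⟩ ⟨.c10, .c11, .c1⟩) (@D3.rec (fun _ => Pt) ⟨.c10, .c11, .c2⟩ ⟨.c10, .c14, .c15⟩ ⟨.c10, .c11, .c4⟩ ⟨.c10, .c11, .c5⟩ ⟨.c10, .c11, .c7⟩ ⟨.c10, .c11, .c8⟩ ⟨.c12, .c1, .c12⟩ ⟨.c11, .c0, .c17⟩ ⟨.c11, .c1, .c15⟩ ⟨.c11, .c0, .c1⟩ ⟨.c10, .c14, .c13⟩ ⟨.c11, .c5, .c9⟩ ⟨.c11, .c5, .c1⟩ ⟨.c11, .c6, .c0⟩ ⟨.c12, .c2, .c16⟩ ⟨.c11, .c0, .c15⟩ ⟨.c10, .c13, .c14⟩ ⟨.c12, .c3, .c0⟩) (@D3.rec (fun _ => Pt) ⟨.c12, .c3, .c1⟩ ⟨.c10, .c13, .c16⟩ ⟨.c12, .c3, .c2⟩ ⟨.c10, .c13, .c17⟩ ⟨.c11,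 .c1, .c10⟩ ⟨.c11, .c0, .c2⟩ ⟨.c10, .c11, .c16⟩ ⟨.c12, .c3, .c16⟩ ⟨.c11, .c0, .c9⟩ ⟨.c11, .c0, .c10⟩ ⟨.c11, .c0, .c11⟩ ⟨.c11, .c0, .c12⟩ ⟨.c11, .c0, .c13⟩ ⟨.c11, .c0, .c16⟩ ⟨.c10, .c14, .c17⟩ ⟨.c10, .c12, .c5⟩ ⟨.c12, .c4, .c5⟩ ⟨.c11, .c1, .c5⟩) (@D3.rec (fun _ => Pt) ⟨.c11, .c1, .c6⟩ ⟨.c11, .c1, .c7⟩ ⟨.c11, .c1, .c11⟩ ⟨.c11, .c1, .c12⟩ ⟨.c11, .c1, .c13⟩ ⟨.c11, .c1, .c14⟩ ⟨.c10, .c13, .c3⟩ ⟨.c11, .c0, .c6⟩ ⟨.c10, .c13, .c1⟩ ⟨.c12, .c4, .c14⟩ ⟨.c12, .c1, .c14⟩ ⟨.c10, .c13, .c5⟩ ⟨.c11, .c10, .c12⟩ ⟨.c10, .c13, .c9⟩ ⟨.c11, .c10, .c14⟩ ⟨.c11, .c10, .c15⟩ ⟨.c10,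 .c13, .c15⟩ ⟨.c12, .c3, .c10⟩) (@D3.rec (fun _ => Pt) ⟨.c12, .c4, .c17⟩ ⟨.c12, .c3, .c12⟩ ⟨.c12, .c2, .c9⟩ ⟨.c12, .c2, .c10⟩ ⟨.c11, .c0, .c3⟩ ⟨.c12, .c2, .c13⟩ ⟨.c11, .c0, .c8⟩ ⟨.c12, .c2, .c14⟩ ⟨.c11, .c0, .c7⟩ ⟨.c10, .c14, .c16⟩ ⟨.c11, .c0, .c0⟩ ⟨.c12, .c3, .c5⟩ ⟨.c11, .c0, .c4⟩ ⟨.c12, .c2, .c17⟩ ⟨.c12, .c5, .c7⟩ ⟨.c11, .c3, .c14⟩ ⟨.c12, .c4, .c4⟩ ⟨.c12, .c5, .c8⟩) (@D3.rec (fun _ => Pt) ⟨.c12, .c3, .c4⟩ ⟨.c12, .c3, .c15⟩ ⟨.c12, .c5, .c3⟩ ⟨.c11, .c4, .c7⟩ ⟨.c12, .c4, .c13⟩ ⟨.c12, .c5, .c5⟩ ⟨.c11, .c3, .c17⟩ ⟨.c12, .c4, .c0⟩ ⟨.c12, .c4, .c1⟩ ⟨.c12,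 .c4, .c2⟩ ⟨.c12, .c4, .c3⟩ ⟨.c11, .c2, .c16⟩ ⟨.c11, .c3, .c1⟩ ⟨.c12, .c3, .c9⟩ ⟨.c12, .c3, .c3⟩ ⟨.c11, .c1, .c2⟩ ⟨.c11, .c1, .c3⟩ ⟨.c11, .c1, .c4⟩) (@D3.rec (fun _ => Pt) ⟨.c11, .c5, .c4⟩ ⟨.c12, .c6, .c8⟩ ⟨.c12, .c6, .c9⟩ ⟨.c12, .c4, .c7⟩ ⟨.c12, .c4, .c8⟩ ⟨.c12, .c4, .c9⟩ ⟨.c11, .c3, .c4⟩ ⟨.c11, .c3, .c6⟩ ⟨.c12, .c3, .c14⟩ ⟨.c12, .c4, .c10⟩ ⟨.c12, .c4, .c11⟩ ⟨.c12, .c7, .c2⟩ ⟨.c11, .c2, .c0⟩ ⟨.c12, .c7, .c3⟩ ⟨.c11, .c4, .c12⟩ ⟨.c11, .c4, .c13⟩ ⟨.c11, .c2, .c4⟩ ⟨.c12, .c7, .c4⟩) (@D3.rec (fun _ => Pt) ⟨.c11, .c2, .c8⟩ ⟨.c12, .c7, .c6⟩ ⟨.c11, .c14, .c2⟩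 ⟨.c11, .c3, .c3⟩ ⟨.c12, .c2, .c11⟩ ⟨.c11, .c5, .c10⟩ ⟨.c11, .c5, .c7⟩ ⟨.c12, .c6, .c4⟩ ⟨.c11, .c5, .c8⟩ ⟨.c12, .c2, .c8⟩ ⟨.c12, .c6, .c5⟩ ⟨.c11, .c4, .c11⟩ ⟨.c12, .c6, .c16⟩ ⟨.c12, .c6, .c17⟩ ⟨.c11, .c3, .c8⟩ ⟨.c12, .c7, .c12⟩ ⟨.c11, .c4, .c14⟩ ⟨.c11, .c4, .c15⟩)
def f_b_12 : D2 → D3 → Pt := @D2.rec (fun _ => D3 → Pt) (@D3.rec (fun _ => Pt) ⟨.c12, .c2, .c12⟩ ⟨.c12, .c5, .c11⟩ ⟨.c11, .c4, .c0⟩ ⟨.c11, .c4, .c1⟩ ⟨.c12, .c6, .c0⟩ ⟨.c12, .c7, .c17⟩ ⟨.c12, .c8, .c0⟩ ⟨.c11, .c5, .c11⟩ ⟨.c11, .c5, .c17⟩ ⟨.c12, .c2, .c15⟩ ⟨.c12, .c5, .c15⟩ ⟨.c11, .c4, .c9⟩ ⟨.c12,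 .c7, .c1⟩ ⟨.c12, .c7, .c14⟩ ⟨.c11, .c5, .c0⟩ ⟨.c12, .c3, .c7⟩ ⟨.c11, .c5, .c5⟩ ⟨.c11, .c5, .c6⟩) (@D3.rec (fun _ => Pt) ⟨.c12, .c6, .c10⟩ ⟨.c12, .c8, .c7⟩ ⟨.c12, .c7, .c8⟩ ⟨.c12, .c3, .c6⟩ ⟨.c12, .c8, .c4⟩ ⟨.c11, .c5, .c15⟩ ⟨.c11, .c5, .c16⟩ ⟨.c12, .c8, .c10⟩ ⟨.c12, .c8, .c11⟩ ⟨.c11, .c6, .c5⟩ ⟨.c11, .c6, .c6⟩ ⟨.c12, .c8, .c13⟩ ⟨.c11, .c8, .c6⟩ ⟨.c11, .c6, .c12⟩ ⟨.c11, .c10, .c10⟩ ⟨.c12, .c8, .c16⟩ ⟨.c12, .c1, .c16⟩ ⟨.c12, .c1, .c17⟩) (@D3.rec (fun _ => Pt) ⟨.c12, .c2, .c0⟩ ⟨.c12, .c8, .c15⟩ ⟨.c11, .c7, .c2⟩ ⟨.c11, .c7, .c4⟩ ⟨.c12, .c9, .c1⟩ ⟨.c12, .c2,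 .c5⟩ ⟨.c11, .c7, .c7⟩ ⟨.c12, .c8, .c17⟩ ⟨.c11, .c14, .c9⟩ ⟨.c11, .c11, .c2⟩ ⟨.c11, .c11, .c3⟩ ⟨.c11, .c14, .c4⟩ ⟨.c12, .c0, .c0⟩ ⟨.c11, .c11, .c5⟩ ⟨.c11, .c11, .c7⟩ ⟨.c12, .c0, .c9⟩ ⟨.c11, .c8, .c14⟩ ⟨.c11, .c11, .c13⟩) (@D3.rec (fun _ => Pt) ⟨.c11, .c8, .c17⟩ ⟨.c11, .c9, .c0⟩ ⟨.c11, .c9, .c2⟩ ⟨.c11, .c12, .c14⟩ ⟨.c11, .c12, .c0⟩ ⟨.c11, .c11, .c11⟩ ⟨.c12, .c1, .c3⟩ ⟨.c12, .c0, .c15⟩ ⟨.c12, .c9, .c10⟩ ⟨.c11, .c12, .c13⟩ ⟨.c11, .c10, .c17⟩ ⟨.c12, .c9, .c12⟩ ⟨.c11, .c11, .c1⟩ ⟨.c12, .c9, .c13⟩ ⟨.c11, .c13, .c8⟩ ⟨.c11, .c12, .c1⟩ ⟨.c11, .c9, .c7⟩ ⟨.c12,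 .c10, .c4⟩) (@D3.rec (fun _ => Pt) ⟨.c11, .c12, .c7⟩ ⟨.c11, .c12, .c8⟩ ⟨.c11, .c12, .c9⟩ ⟨.c11, .c12, .c10⟩ ⟨.c11, .c11, .c16⟩ ⟨.c11, .c9, .c16⟩ ⟨.c12, .c10, .c10⟩ ⟨.c11, .c13, .c3⟩ ⟨.c11, .c13, .c4⟩ ⟨.c11, .c13, .c5⟩ ⟨.c11, .c13, .c9⟩ ⟨.c11, .c13, .c10⟩ ⟨.c12, .c10, .c17⟩ ⟨.c11, .c12, .c4⟩ ⟨.c11, .c10, .c9⟩ ⟨.c12, .c10, .c15⟩ ⟨.c12, .c4, .c16⟩ ⟨.c11, .c11, .c0⟩) (@D3.rec (fun _ => Pt) ⟨.c12, .c10, .c1⟩ ⟨.c12, .c10, .c3⟩ ⟨.c12, .c9, .c4⟩ ⟨.c11, .c12, .c2⟩ ⟨.c12, .c9, .c7⟩ ⟨.c11, .c12, .c5⟩ ⟨.c12, .c11, .c0⟩ ⟨.c11, .c11, .c14⟩ ⟨.c11, .c11, .c17⟩ ⟨.c12,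 .c9, .c16⟩ ⟨.c12, .c9, .c11⟩ ⟨.c12, .c0, .c1⟩ ⟨.c12, .c10, .c9⟩ ⟨.c12, .c9, .c15⟩ ⟨.c12, .c11, .c3⟩ ⟨.c12, .c0, .c10⟩ ⟨.c12, .c10, .c16⟩ ⟨.c12, .c9, .c9⟩) (@D3.rec (fun _ => Pt) ⟨.c12, .c0, .c4⟩ ⟨.c12, .c10, .c6⟩ ⟨.c12, .c10, .c7⟩ ⟨.c12, .c10, .c8⟩ ⟨.c11, .c14, .c7⟩ ⟨.c11, .c14, .c10⟩ ⟨.c12, .c10, .c0⟩ ⟨.c12, .c9, .c14⟩ ⟨.c11, .c13, .c1⟩ ⟨.c11, .c13, .c2⟩ ⟨.c12, .c1, .c0⟩ ⟨.c12, .c12, .c0⟩ ⟨.c12, .c12, .c1⟩ ⟨.c12, .c10, .c12⟩ ⟨.c12, .c10, .c13⟩ ⟨.c12, .c12, .c6⟩ ⟨.c11, .c14, .c12⟩ ⟨.c11, .c14, .c13⟩) (@D3.rec (fun _ => Pt) ⟨.c12, .c12, .c8⟩ ⟨.c12, .c0,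 .c12⟩ ⟨.c11, .c13, .c11⟩ ⟨.c11, .c13, .c13⟩ ⟨.c11, .c13, .c17⟩ ⟨.c12, .c12, .c9⟩ ⟨.c11, .c14, .c1⟩ ⟨.c12, .c9, .c5⟩ ⟨.c12, .c1, .c2⟩ ⟨.c12, .c11, .c15⟩ ⟨.c12, .c9, .c3⟩ ⟨.c12, .c11, .c16⟩ ⟨.c11, .c14, .c15⟩ ⟨.c12, .c12, .c12⟩ ⟨.c12, .c0, .c13⟩ ⟨.c12, .c9, .c6⟩ ⟨.c12, .c11, .c7⟩ ⟨.c12, .c0, .c5⟩) (@D3.rec (fun _ => Pt) ⟨.c12, .c0, .c6⟩ ⟨.c12, .c11, .c11⟩ ⟨.c12, .c12, .c14⟩ ⟨.c12, .c12, .c5⟩ ⟨.c12, .c1, .c4⟩ ⟨.c12, .c12, .c13⟩ ⟨.c12, .c9, .c17⟩ ⟨.c12, .c1, .c1⟩ ⟨.c12, .c12, .c2⟩ ⟨.c12, .c12, .c16⟩ ⟨.c12, .c1, .c7⟩ ⟨.c12, .c1, .c8⟩ ⟨.c12, .c13, .c0⟩ ⟨.c12,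 .c1, .c11⟩ ⟨.c12, .c12, .c7⟩ ⟨.c12, .c2, .c1⟩ ⟨.c12, .c1, .c15⟩ ⟨.c12, .c2, .c7⟩) (@D3.rec (fun _ => Pt) ⟨.c12, .c9, .c0⟩ ⟨.c12, .c2, .c4⟩ ⟨.c12, .c9, .c2⟩ ⟨.c12, .c7, .c10⟩ ⟨.c12, .c5, .c2⟩ ⟨.c12, .c7, .c7⟩ ⟨.c12, .c7, .c15⟩ ⟨.c12, .c5, .c4⟩ ⟨.c12, .c13, .c7⟩ ⟨.c12, .c5, .c17⟩ ⟨.c12, .c3, .c8⟩ ⟨.c12, .c5, .c10⟩ ⟨.c12, .c3, .c11⟩ ⟨.c12, .c3, .c13⟩ ⟨.c12, .c6, .c7⟩ ⟨.c12, .c5, .c13⟩ ⟨.c12, .c5, .c9⟩ ⟨.c12, .c8, .c6⟩) (@D3.rec (fun _ => Pt) ⟨.c12, .c6, .c6⟩ ⟨.c12, .c5, .c0⟩ ⟨.c12, .c13, .c9⟩ ⟨.c12, .c5, .c1⟩ ⟨.c12, .c3, .c17⟩ ⟨.c12, .c13, .c13⟩ ⟨.c12,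 .c6, .c1⟩ ⟨.c12, .c6, .c2⟩ ⟨.c12, .c6, .c3⟩ ⟨.c12, .c5, .c12⟩ ⟨.c12, .c4, .c6⟩ ⟨.c12, .c14, .c1⟩ ⟨.c12, .c6, .c13⟩ ⟨.c12, .c6, .c14⟩ ⟨.c12, .c14, .c3⟩ ⟨.c12, .c4, .c15⟩ ⟨.c12, .c5, .c16⟩ ⟨.c12, .c4, .c12⟩) (@D3.rec (fun _ => Pt) ⟨.c12, .c5, .c6⟩ ⟨.c12, .c13, .c12⟩ ⟨.c12, .c13, .c3⟩ ⟨.c12, .c5, .c14⟩ ⟨.c12, .c14, .c2⟩ ⟨.c12, .c13, .c11⟩ ⟨.c12, .c13, .c8⟩ ⟨.c12, .c7, .c16⟩ ⟨.c12, .c14, .c0⟩ ⟨.c12, .c13, .c10⟩ ⟨.c12, .c13, .c5⟩ ⟨.c12, .c8, .c1⟩ ⟨.c12, .c13, .c15⟩ ⟨.c12, .c14, .c7⟩ ⟨.c12, .c13, .c17⟩ ⟨.c12, .c7, .c9⟩ ⟨.c12, .c7, .c11⟩ ⟨.c12, .c14, .c9⟩)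 (@D3.rec (fun _ => Pt) ⟨.c12, .c6, .c11⟩ ⟨.c12, .c6, .c12⟩ ⟨.c12, .c8, .c8⟩ ⟨.c12, .c13, .c16⟩ ⟨.c12, .c14, .c6⟩ ⟨.c12, .c8, .c3⟩ ⟨.c12, .c6, .c15⟩ ⟨.c12, .c8, .c14⟩ ⟨.c12, .c7, .c0⟩ ⟨.c12, .c7, .c5⟩ ⟨.c12, .c13, .c4⟩ ⟨.c12, .c13, .c2⟩ ⟨.c12, .c7, .c13⟩ ⟨.c12, .c8, .c5⟩ ⟨.c12, .c8, .c2⟩ ⟨.c12, .c13, .c14⟩ ⟨.c12, .c8, .c9⟩ ⟨.c12, .c14, .c10⟩) (@D3.rec (fun _ => Pt) ⟨.c12, .c8, .c12⟩ ⟨.c12, .c14, .c8⟩ ⟨.c12, .c12, .c11⟩ ⟨.c12, .c11, .c2⟩ ⟨.c12, .c12, .c10⟩ ⟨.c12, .c11, .c10⟩ ⟨.c12, .c14, .c17⟩ ⟨.c12, .c9, .c8⟩ ⟨.c12, .c11, .c6⟩ ⟨.c12, .c10, .c2⟩ ⟨.c12,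 .c11, .c9⟩ ⟨.c12, .c11, .c5⟩ ⟨.c12, .c11, .c1⟩ ⟨.c12, .c10, .c5⟩ ⟨.c12, .c12, .c15⟩ ⟨.c12, .c11, .c12⟩ ⟨.c12, .c12, .c3⟩ ⟨.c12, .c11, .c14⟩) (@D3.rec (fun _ => Pt) ⟨.c12, .c11, .c8⟩ ⟨.c12, .c10, .c11⟩ ⟨.c12, .c11, .c4⟩ ⟨.c12, .c10, .c14⟩ ⟨.c12, .c14, .c13⟩ ⟨.c12, .c14, .c16⟩ ⟨.c12, .c12, .c4⟩ ⟨.c12, .c11, .c13⟩ ⟨.c12, .c13, .c1⟩ ⟨.c12, .c11, .c17⟩ ⟨.c12, .c12, .c17⟩ ⟨.c12, .c14, .c14⟩ ⟨.c12, .c14, .c15⟩ ⟨.c12, .c14, .c4⟩ ⟨.c12, .c14, .c11⟩ ⟨.c12, .c14, .c12⟩ ⟨.c12, .c14, .c5⟩ ⟨.c12, .c13, .c6⟩)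
def f_b : Pt → Pt := @Pt.rec (fun _ => Pt) (@D1.rec (fun _ => D2 → D3 → Pt) f_b_0 f_b_1 f_b_2 f_b_3 f_b_4 f_b_5 f_b_6 f_b_7 f_b_8 f_b_9 f_b_10 f_b_11 f_b_12)
def fi_b : Pt → Pt := f_b
def f_c_0 : D2 → D3 → Pt := @D2.rec (fun _ => D3 → Pt) (@D3.rec (fun _ => Pt) ⟨.c0, .c0, .c0⟩ ⟨.c0, .c0, .c3⟩ ⟨.c0, .c0, .c4⟩ ⟨.c0, .c0, .c1⟩ ⟨.c0, .c0, .c2⟩ ⟨.c0, .c0, .c5⟩ ⟨.c0, .c0, .c6⟩ ⟨.c0, .c0, .c7⟩ ⟨.c0, .c0, .c8⟩ ⟨.c0, .c0, .c9⟩ ⟨.c0, .c0, .c16⟩ ⟨.c0, .c0, .c11⟩ ⟨.c0, .c0, .c12⟩ ⟨.c0, .c0, .c13⟩ ⟨.c0, .c0, .c14⟩ ⟨.c0, .c0, .c15⟩ ⟨.c0, .c0, .c10⟩ ⟨.c0, .c1, .c8⟩)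 (@D3.rec (fun _ => Pt) ⟨.c0, .c1, .c9⟩ ⟨.c0, .c1, .c1⟩ ⟨.c0, .c1, .c2⟩ ⟨.c0, .c1, .c3⟩ ⟨.c0, .c1, .c4⟩ ⟨.c0, .c1, .c5⟩ ⟨.c0, .c2, .c2⟩ ⟨.c0, .c1, .c7⟩ ⟨.c0, .c0, .c17⟩ ⟨.c0, .c1, .c0⟩ ⟨.c0, .c2, .c5⟩ ⟨.c0, .c2, .c6⟩ ⟨.c0, .c2, .c8⟩ ⟨.c0, .c1, .c13⟩ ⟨.c0, .c1, .c14⟩ ⟨.c0, .c2, .c16⟩ ⟨.c0, .c1, .c16⟩ ⟨.c0, .c1, .c17⟩) (@D3.rec (fun _ => Pt) ⟨.c0, .c3, .c2⟩ ⟨.c0, .c2, .c1⟩ ⟨.c0, .c1, .c6⟩ ⟨.c0, .c3, .c6⟩ ⟨.c0, .c2, .c4⟩ ⟨.c0, .c1, .c10⟩ ⟨.c0, .c1, .c11⟩ ⟨.c0, .c2, .c7⟩ ⟨.c0, .c1, .c12⟩ ⟨.c0, .c3, .c9⟩ ⟨.c0, .c3, .c10⟩ ⟨.c0, .c2, .c11⟩ ⟨.c0, .c3, .c11⟩ ⟨.c0,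 .c2, .c13⟩ ⟨.c0, .c4, .c1⟩ ⟨.c0, .c2, .c15⟩ ⟨.c0, .c1, .c15⟩ ⟨.c0, .c4, .c4⟩) (@D3.rec (fun _ => Pt) ⟨.c0, .c4, .c6⟩ ⟨.c0, .c3, .c1⟩ ⟨.c0, .c2, .c0⟩ ⟨.c0, .c4, .c10⟩ ⟨.c0, .c4, .c11⟩ ⟨.c0, .c3, .c5⟩ ⟨.c0, .c2, .c3⟩ ⟨.c0, .c4, .c15⟩ ⟨.c0, .c3, .c8⟩ ⟨.c0, .c2, .c9⟩ ⟨.c0, .c2, .c10⟩ ⟨.c0, .c2, .c12⟩ ⟨.c0, .c3, .c12⟩ ⟨.c0, .c5, .c0⟩ ⟨.c0, .c3, .c14⟩ ⟨.c0, .c5, .c1⟩ ⟨.c0, .c3, .c16⟩ ⟨.c0, .c5, .c8⟩) (@D3.rec (fun _ => Pt) ⟨.c0, .c4, .c0⟩ ⟨.c0, .c2, .c14⟩ ⟨.c0, .c5, .c11⟩ ⟨.c0, .c5, .c12⟩ ⟨.c0, .c2, .c17⟩ ⟨.c0, .c5, .c15⟩ ⟨.c0, .c3, .c0⟩ ⟨.c0, .c5, .c17⟩ ⟨.c0,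 .c6, .c0⟩ ⟨.c0, .c4, .c9⟩ ⟨.c0, .c3, .c3⟩ ⟨.c0, .c3, .c4⟩ ⟨.c0, .c6, .c7⟩ ⟨.c0, .c6, .c8⟩ ⟨.c0, .c4, .c14⟩ ⟨.c0, .c3, .c7⟩ ⟨.c0, .c4, .c16⟩ ⟨.c0, .c4, .c17⟩) (@D3.rec (fun _ => Pt) ⟨.c0, .c3, .c13⟩ ⟨.c0, .c3, .c15⟩ ⟨.c0, .c5, .c2⟩ ⟨.c0, .c5, .c3⟩ ⟨.c0, .c6, .c13⟩ ⟨.c0, .c5, .c5⟩ ⟨.c0, .c5, .c6⟩ ⟨.c0, .c5, .c7⟩ ⟨.c0, .c3, .c17⟩ ⟨.c0, .c7, .c0⟩ ⟨.c0, .c7, .c1⟩ ⟨.c0, .c4, .c2⟩ ⟨.c0, .c4, .c3⟩ ⟨.c0, .c7, .c6⟩ ⟨.c0, .c7, .c7⟩ ⟨.c0, .c4, .c5⟩ ⟨.c0, .c5, .c16⟩ ⟨.c0, .c4, .c7⟩) (@D3.rec (fun _ => Pt) ⟨.c0, .c4, .c8⟩ ⟨.c0, .c7, .c13⟩ ⟨.c0, .c7, .c14⟩ ⟨.c0, .c7,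 .c15⟩ ⟨.c0, .c6, .c4⟩ ⟨.c0, .c6, .c5⟩ ⟨.c0, .c6, .c6⟩ ⟨.c0, .c4, .c12⟩ ⟨.c0, .c4, .c13⟩ ⟨.c0, .c8, .c5⟩ ⟨.c0, .c6, .c10⟩ ⟨.c0, .c6, .c11⟩ ⟨.c0, .c6, .c12⟩ ⟨.c0, .c5, .c4⟩ ⟨.c0, .c6, .c14⟩ ⟨.c0, .c6, .c15⟩ ⟨.c0, .c6, .c16⟩ ⟨.c0, .c6, .c17⟩) (@D3.rec (fun _ => Pt) ⟨.c0, .c5, .c9⟩ ⟨.c0, .c5, .c10⟩ ⟨.c0, .c8, .c16⟩ ⟨.c0, .c8, .c17⟩ ⟨.c0, .c9, .c0⟩ ⟨.c0, .c7, .c5⟩ ⟨.c0, .c5, .c13⟩ ⟨.c0, .c5, .c14⟩ ⟨.c0, .c9, .c5⟩ ⟨.c0, .c7, .c9⟩ ⟨.c0, .c7, .c10⟩ ⟨.c0, .c7, .c11⟩ ⟨.c0, .c7, .c12⟩ ⟨.c0, .c6, .c1⟩ ⟨.c0, .c6, .c2⟩ ⟨.c0, .c6, .c3⟩ ⟨.c0, .c9, .c16⟩ ⟨.c0, .c9, .c17⟩)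 (@D3.rec (fun _ => Pt) ⟨.c0, .c10, .c3⟩ ⟨.c0, .c8, .c1⟩ ⟨.c0, .c8, .c2⟩ ⟨.c0, .c8, .c3⟩ ⟨.c0, .c8, .c4⟩ ⟨.c0, .c6, .c9⟩ ⟨.c0, .c8, .c6⟩ ⟨.c0, .c10, .c12⟩ ⟨.c0, .c10, .c13⟩ ⟨.c0, .c8, .c9⟩ ⟨.c0, .c8, .c10⟩ ⟨.c0, .c8, .c11⟩ ⟨.c0, .c8, .c12⟩ ⟨.c0, .c8, .c13⟩ ⟨.c0, .c8, .c14⟩ ⟨.c0, .c8, .c15⟩ ⟨.c0, .c7, .c2⟩ ⟨.c0, .c7, .c3⟩) (@D3.rec (fun _ => Pt) ⟨.c0, .c7, .c4⟩ ⟨.c0, .c11, .c4⟩ ⟨.c0, .c11, .c5⟩ ⟨.c0, .c9, .c3⟩ ⟨.c0, .c9, .c4⟩ ⟨.c0, .c7, .c8⟩ ⟨.c0, .c9, .c6⟩ ⟨.c0, .c11, .c13⟩ ⟨.c0, .c9, .c8⟩ ⟨.c0, .c11, .c15⟩ ⟨.c0, .c9, .c10⟩ ⟨.c0, .c9, .c11⟩ ⟨.c0, .c9,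 .c12⟩ ⟨.c0, .c9, .c13⟩ ⟨.c0, .c9, .c14⟩ ⟨.c0, .c9, .c15⟩ ⟨.c0, .c7, .c16⟩ ⟨.c0, .c7, .c17⟩) (@D3.rec (fun _ => Pt) ⟨.c0, .c10, .c0⟩ ⟨.c0, .c12, .c9⟩ ⟨.c0, .c12, .c13⟩ ⟨.c0, .c8, .c0⟩ ⟨.c0, .c12, .c14⟩ ⟨.c0, .c12, .c15⟩ ⟨.c0, .c10, .c6⟩ ⟨.c0, .c13, .c1⟩ ⟨.c0, .c10, .c8⟩ ⟨.c0, .c10, .c9⟩ ⟨.c0, .c13, .c5⟩ ⟨.c0, .c10, .c11⟩ ⟨.c0, .c8, .c7⟩ ⟨.c0, .c8, .c8⟩ ⟨.c0, .c13, .c9⟩ ⟨.c0, .c10, .c15⟩ ⟨.c0, .c10, .c16⟩ ⟨.c0, .c10, .c17⟩) (@D3.rec (fun _ => Pt) ⟨.c0, .c13, .c14⟩ ⟨.c0, .c11, .c1⟩ ⟨.c0, .c11, .c2⟩ ⟨.c0, .c11, .c3⟩ ⟨.c0, .c9, .c1⟩ ⟨.c0, .c9, .c2⟩ ⟨.c0,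 .c11, .c6⟩ ⟨.c0, .c14, .c2⟩ ⟨.c0, .c14, .c6⟩ ⟨.c0, .c11, .c9⟩ ⟨.c0, .c11, .c10⟩ ⟨.c0, .c14, .c9⟩ ⟨.c0, .c11, .c12⟩ ⟨.c0, .c9, .c7⟩ ⟨.c0, .c11, .c14⟩ ⟨.c0, .c9, .c9⟩ ⟨.c0, .c14, .c14⟩ ⟨.c0, .c14, .c15⟩) (@D3.rec (fun _ => Pt) ⟨.c0, .c14, .c16⟩ ⟨.c0, .c12, .c1⟩ ⟨.c0, .c12, .c2⟩ ⟨.c1, .c0, .c6⟩ ⟨.c0, .c12, .c4⟩ ⟨.c0, .c12, .c5⟩ ⟨.c0, .c12, .c6⟩ ⟨.c0, .c12, .c7⟩ ⟨.c0, .c12, .c8⟩ ⟨.c0, .c10, .c1⟩ ⟨.c1, .c0, .c15⟩ ⟨.c0, .c12, .c11⟩ ⟨.c1, .c1, .c0⟩ ⟨.c0, .c10, .c2⟩ ⟨.c0, .c10, .c4⟩ ⟨.c0, .c10, .c5⟩ ⟨.c1, .c1, .c4⟩ ⟨.c1, .c1, .c5⟩) (@D3.rec (fun _ => Pt) ⟨.c1,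 .c1, .c8⟩ ⟨.c0, .c10, .c7⟩ ⟨.c1, .c1, .c10⟩ ⟨.c0, .c13, .c3⟩ ⟨.c1, .c1, .c13⟩ ⟨.c0, .c10, .c10⟩ ⟨.c1, .c1, .c16⟩ ⟨.c0, .c13, .c7⟩ ⟨.c0, .c13, .c8⟩ ⟨.c0, .c10, .c14⟩ ⟨.c1, .c2, .c3⟩ ⟨.c0, .c13, .c11⟩ ⟨.c0, .c13, .c12⟩ ⟨.c1, .c2, .c6⟩ ⟨.c0, .c11, .c0⟩ ⟨.c0, .c13, .c15⟩ ⟨.c0, .c13, .c16⟩ ⟨.c0, .c13, .c17⟩) (@D3.rec (fun _ => Pt) ⟨.c0, .c14, .c0⟩ ⟨.c0, .c14, .c1⟩ ⟨.c0, .c11, .c7⟩ ⟨.c1, .c2, .c15⟩ ⟨.c0, .c14, .c4⟩ ⟨.c1, .c3, .c0⟩ ⟨.c0, .c11, .c8⟩ ⟨.c0, .c14, .c7⟩ ⟨.c1, .c3, .c4⟩ ⟨.c0, .c11, .c11⟩ ⟨.c1, .c3, .c7⟩ ⟨.c0, .c14, .c11⟩ ⟨.c1, .c2, .c7⟩ ⟨.c0, .c14,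 .c13⟩ ⟨.c0, .c11, .c16⟩ ⟨.c0, .c11, .c17⟩ ⟨.c0, .c12, .c0⟩ ⟨.c1, .c3, .c11⟩)
def f_c_1 : D2 → D3 → Pt := @D2.rec (fun _ => D3 → Pt) (@D3.rec (fun _ => Pt) ⟨.c1, .c3, .c12⟩ ⟨.c1, .c3, .c13⟩ ⟨.c1, .c3, .c15⟩ ⟨.c1, .c3, .c16⟩ ⟨.c1, .c0, .c4⟩ ⟨.c1, .c4, .c6⟩ ⟨.c0, .c12, .c3⟩ ⟨.c1, .c4, .c8⟩ ⟨.c1, .c0, .c8⟩ ⟨.c1, .c0, .c9⟩ ⟨.c1, .c0, .c10⟩ ⟨.c1, .c0, .c11⟩ ⟨.c1, .c0, .c12⟩ ⟨.c1, .c4, .c16⟩ ⟨.c1, .c5, .c0⟩ ⟨.c0, .c12, .c10⟩ ⟨.c1, .c5, .c3⟩ ⟨.c1, .c0, .c17⟩) (@D3.rec (fun _ => Pt) ⟨.c0, .c12, .c12⟩ ⟨.c1, .c5, .c7⟩ ⟨.c1, .c1, .c2⟩ ⟨.c1, .c1, .c3⟩ ⟨.c0, .c12,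 .c16⟩ ⟨.c0, .c12, .c17⟩ ⟨.c1, .c5, .c11⟩ ⟨.c1, .c5, .c14⟩ ⟨.c0, .c13, .c0⟩ ⟨.c1, .c5, .c17⟩ ⟨.c0, .c13, .c2⟩ ⟨.c1, .c6, .c2⟩ ⟨.c1, .c6, .c4⟩ ⟨.c0, .c13, .c4⟩ ⟨.c1, .c6, .c7⟩ ⟨.c1, .c5, .c16⟩ ⟨.c0, .c13, .c6⟩ ⟨.c1, .c6, .c11⟩) (@D3.rec (fun _ => Pt) ⟨.c1, .c2, .c0⟩ ⟨.c1, .c2, .c1⟩ ⟨.c1, .c2, .c2⟩ ⟨.c0, .c13, .c10⟩ ⟨.c1, .c6, .c15⟩ ⟨.c1, .c6, .c16⟩ ⟨.c0, .c13, .c13⟩ ⟨.c0, .c14, .c12⟩ ⟨.c1, .c2, .c8⟩ ⟨.c1, .c2, .c9⟩ ⟨.c1, .c2, .c10⟩ ⟨.c1, .c2, .c11⟩ ⟨.c1, .c2, .c12⟩ ⟨.c1, .c7, .c8⟩ ⟨.c1, .c7, .c10⟩ ⟨.c0, .c14, .c3⟩ ⟨.c1, .c7, .c13⟩ ⟨.c1, .c2, .c17⟩) (@D3.rec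 (fun _ => Pt) ⟨.c0, .c14, .c5⟩ ⟨.c1, .c7, .c17⟩ ⟨.c1, .c7, .c0⟩ ⟨.c1, .c8, .c1⟩ ⟨.c0, .c14, .c8⟩ ⟨.c1, .c8, .c4⟩ ⟨.c1, .c3, .c6⟩ ⟨.c0, .c14, .c10⟩ ⟨.c1, .c8, .c8⟩ ⟨.c1, .c3, .c9⟩ ⟨.c1, .c7, .c1⟩ ⟨.c0, .c14, .c17⟩ ⟨.c1, .c0, .c0⟩ ⟨.c1, .c0, .c1⟩ ⟨.c1, .c3, .c14⟩ ⟨.c1, .c0, .c2⟩ ⟨.c1, .c0, .c3⟩ ⟨.c1, .c8, .c11⟩) (@D3.rec (fun _ => Pt) ⟨.c1, .c8, .c12⟩ ⟨.c1, .c8, .c14⟩ ⟨.c1, .c8, .c15⟩ ⟨.c1, .c9, .c0⟩ ⟨.c1, .c9, .c8⟩ ⟨.c1, .c9, .c10⟩ ⟨.c1, .c0, .c5⟩ ⟨.c1, .c9, .c13⟩ ⟨.c1, .c0, .c7⟩ ⟨.c1, .c9, .c16⟩ ⟨.c1, .c10, .c0⟩ ⟨.c1, .c4, .c11⟩ ⟨.c1, .c4, .c12⟩ ⟨.c1,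 .c4, .c13⟩ ⟨.c1, .c10, .c5⟩ ⟨.c1, .c10, .c7⟩ ⟨.c1, .c0, .c13⟩ ⟨.c1, .c10, .c10⟩) (@D3.rec (fun _ => Pt) ⟨.c1, .c0, .c14⟩ ⟨.c1, .c10, .c13⟩ ⟨.c1, .c9, .c12⟩ ⟨.c1, .c0, .c16⟩ ⟨.c1, .c10, .c17⟩ ⟨.c1, .c5, .c5⟩ ⟨.c1, .c5, .c6⟩ ⟨.c1, .c1, .c1⟩ ⟨.c1, .c5, .c8⟩ ⟨.c1, .c5, .c9⟩ ⟨.c1, .c5, .c10⟩ ⟨.c1, .c1, .c6⟩ ⟨.c1, .c11, .c8⟩ ⟨.c1, .c11, .c10⟩ ⟨.c1, .c1, .c7⟩ ⟨.c1, .c11, .c13⟩ ⟨.c1, .c1, .c15⟩ ⟨.c1, .c1, .c9⟩) (@D3.rec (fun _ => Pt) ⟨.c1, .c12, .c0⟩ ⟨.c1, .c11, .c17⟩ ⟨.c1, .c1, .c11⟩ ⟨.c1, .c12, .c4⟩ ⟨.c1, .c1, .c12⟩ ⟨.c1, .c12, .c6⟩ ⟨.c1, .c11, .c12⟩ ⟨.c1,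 .c1, .c14⟩ ⟨.c1, .c12, .c11⟩ ⟨.c1, .c11, .c15⟩ ⟨.c1, .c11, .c16⟩ ⟨.c1, .c1, .c17⟩ ⟨.c1, .c12, .c15⟩ ⟨.c1, .c6, .c13⟩ ⟨.c1, .c6, .c14⟩ ⟨.c1, .c2, .c4⟩ ⟨.c1, .c2, .c5⟩ ⟨.c1, .c13, .c0⟩) (@D3.rec (fun _ => Pt) ⟨.c1, .c3, .c2⟩ ⟨.c1, .c3, .c10⟩ ⟨.c1, .c13, .c2⟩ ⟨.c1, .c7, .c3⟩ ⟨.c1, .c7, .c4⟩ ⟨.c1, .c7, .c5⟩ ⟨.c1, .c13, .c7⟩ ⟨.c1, .c13, .c9⟩ ⟨.c1, .c2, .c13⟩ ⟨.c1, .c13, .c12⟩ ⟨.c1, .c2, .c14⟩ ⟨.c1, .c13, .c15⟩ ⟨.c1, .c7, .c12⟩ ⟨.c1, .c2, .c16⟩ ⟨.c1, .c14, .c1⟩ ⟨.c1, .c7, .c15⟩ ⟨.c1, .c12, .c17⟩ ⟨.c1, .c3, .c1⟩) (@D3.rec (fun _ => Pt) ⟨.c1, .c13, .c1⟩ ⟨.c1,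 .c3, .c3⟩ ⟨.c1, .c14, .c7⟩ ⟨.c1, .c8, .c3⟩ ⟨.c1, .c3, .c5⟩ ⟨.c1, .c14, .c12⟩ ⟨.c1, .c8, .c6⟩ ⟨.c1, .c8, .c7⟩ ⟨.c1, .c3, .c8⟩ ⟨.c1, .c14, .c16⟩ ⟨.c1, .c8, .c10⟩ ⟨.c1, .c3, .c17⟩ ⟨.c1, .c4, .c0⟩ ⟨.c1, .c8, .c13⟩ ⟨.c1, .c4, .c1⟩ ⟨.c1, .c4, .c2⟩ ⟨.c1, .c8, .c16⟩ ⟨.c1, .c8, .c17⟩) (@D3.rec (fun _ => Pt) ⟨.c1, .c4, .c3⟩ ⟨.c2, .c0, .c8⟩ ⟨.c1, .c9, .c2⟩ ⟨.c2, .c0, .c0⟩ ⟨.c2, .c0, .c1⟩ ⟨.c2, .c0, .c3⟩ ⟨.c2, .c0, .c14⟩ ⟨.c2, .c0, .c16⟩ ⟨.c1, .c4, .c4⟩ ⟨.c2, .c1, .c1⟩ ⟨.c1, .c4, .c5⟩ ⟨.c2, .c1, .c4⟩ ⟨.c1, .c5, .c2⟩ ⟨.c1, .c4, .c7⟩ ⟨.c2, .c1, .c9⟩ ⟨.c2, .c1, .c8⟩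 ⟨.c1, .c4, .c9⟩ ⟨.c2, .c1, .c13⟩) (@D3.rec (fun _ => Pt) ⟨.c1, .c4, .c10⟩ ⟨.c2, .c1, .c14⟩ ⟨.c1, .c10, .c2⟩ ⟨.c2, .c1, .c17⟩ ⟨.c2, .c2, .c1⟩ ⟨.c1, .c4, .c14⟩ ⟨.c2, .c2, .c4⟩ ⟨.c1, .c4, .c15⟩ ⟨.c2, .c2, .c7⟩ ⟨.c2, .c1, .c0⟩ ⟨.c1, .c4, .c17⟩ ⟨.c2, .c2, .c12⟩ ⟨.c2, .c1, .c3⟩ ⟨.c1, .c5, .c1⟩ ⟨.c2, .c2, .c17⟩ ⟨.c2, .c1, .c6⟩ ⟨.c2, .c1, .c7⟩ ⟨.c1, .c5, .c4⟩) (@D3.rec (fun _ => Pt) ⟨.c2, .c3, .c3⟩ ⟨.c1, .c11, .c1⟩ ⟨.c1, .c11, .c2⟩ ⟨.c1, .c11, .c3⟩ ⟨.c1, .c11, .c4⟩ ⟨.c1, .c11, .c5⟩ ⟨.c1, .c11, .c6⟩ ⟨.c2, .c3, .c8⟩ ⟨.c1, .c5, .c12⟩ ⟨.c2, .c3, .c11⟩ ⟨.c1, .c5,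 .c13⟩ ⟨.c2, .c3, .c14⟩ ⟨.c1, .c6, .c6⟩ ⟨.c1, .c5, .c15⟩ ⟨.c2, .c4, .c1⟩ ⟨.c1, .c6, .c9⟩ ⟨.c1, .c6, .c10⟩ ⟨.c1, .c6, .c1⟩) (@D3.rec (fun _ => Pt) ⟨.c1, .c6, .c0⟩ ⟨.c2, .c4, .c8⟩ ⟨.c2, .c4, .c6⟩ ⟨.c2, .c4, .c7⟩ ⟨.c1, .c6, .c3⟩ ⟨.c2, .c3, .c13⟩ ⟨.c1, .c6, .c5⟩ ⟨.c2, .c4, .c13⟩ ⟨.c2, .c3, .c16⟩ ⟨.c2, .c3, .c17⟩ ⟨.c1, .c12, .c10⟩ ⟨.c1, .c6, .c8⟩ ⟨.c2, .c5, .c1⟩ ⟨.c2, .c4, .c3⟩ ⟨.c2, .c4, .c5⟩ ⟨.c1, .c6, .c12⟩ ⟨.c1, .c12, .c16⟩ ⟨.c1, .c7, .c16⟩) (@D3.rec (fun _ => Pt) ⟨.c1, .c6, .c17⟩ ⟨.c1, .c8, .c0⟩ ⟨.c1, .c7, .c2⟩ ⟨.c2, .c5, .c8⟩ ⟨.c1, .c13, .c4⟩ ⟨.c2, .c5,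 .c11⟩ ⟨.c2, .c5, .c13⟩ ⟨.c1, .c7, .c6⟩ ⟨.c2, .c5, .c16⟩ ⟨.c1, .c7, .c7⟩ ⟨.c2, .c6, .c1⟩ ⟨.c1, .c13, .c11⟩ ⟨.c1, .c7, .c9⟩ ⟨.c2, .c6, .c6⟩ ⟨.c1, .c13, .c14⟩ ⟨.c1, .c7, .c11⟩ ⟨.c2, .c6, .c11⟩ ⟨.c1, .c13, .c17⟩) (@D3.rec (fun _ => Pt) ⟨.c1, .c14, .c0⟩ ⟨.c1, .c7, .c14⟩ ⟨.c2, .c6, .c15⟩ ⟨.c2, .c5, .c4⟩ ⟨.c2, .c5, .c5⟩ ⟨.c1, .c14, .c5⟩ ⟨.c1, .c14, .c6⟩ ⟨.c1, .c8, .c2⟩ ⟨.c2, .c7, .c4⟩ ⟨.c1, .c14, .c9⟩ ⟨.c1, .c14, .c10⟩ ⟨.c1, .c14, .c11⟩ ⟨.c1, .c8, .c5⟩ ⟨.c2, .c7, .c7⟩ ⟨.c1, .c14, .c14⟩ ⟨.c1, .c14, .c15⟩ ⟨.c1, .c8, .c9⟩ ⟨.c1, .c14, .c17⟩)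
def f_c_2 : D2 → D3 → Pt := @D2.rec (fun _ => D3 → Pt) (@D3.rec (fun _ => Pt) ⟨.c1, .c9, .c3⟩ ⟨.c1, .c9, .c4⟩ ⟨.c2, .c0, .c2⟩ ⟨.c1, .c9, .c5⟩ ⟨.c2, .c7, .c15⟩ ⟨.c2, .c0, .c5⟩ ⟨.c2, .c0, .c6⟩ ⟨.c2, .c8, .c0⟩ ⟨.c1, .c9, .c1⟩ ⟨.c2, .c8, .c3⟩ ⟨.c2, .c0, .c10⟩ ⟨.c2, .c7, .c11⟩ ⟨.c2, .c8, .c7⟩ ⟨.c2, .c8, .c9⟩ ⟨.c1, .c9, .c6⟩ ⟨.c2, .c8, .c12⟩ ⟨.c1, .c9, .c7⟩ ⟨.c2, .c8, .c15⟩) (@D3.rec (fun _ => Pt) ⟨.c1, .c10, .c9⟩ ⟨.c1, .c9, .c9⟩ ⟨.c2, .c9, .c2⟩ ⟨.c1, .c10, .c12⟩ ⟨.c1, .c9, .c11⟩ ⟨.c2, .c9, .c7⟩ ⟨.c1, .c10, .c15⟩ ⟨.c1, .c10, .c16⟩ ⟨.c1, .c9, .c15⟩ ⟨.c1, .c9,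 .c14⟩ ⟨.c2, .c9, .c14⟩ ⟨.c2, .c9, .c12⟩ ⟨.c2, .c9, .c13⟩ ⟨.c1, .c9, .c17⟩ ⟨.c1, .c10, .c1⟩ ⟨.c2, .c10, .c1⟩ ⟨.c2, .c10, .c3⟩ ⟨.c1, .c10, .c3⟩) (@D3.rec (fun _ => Pt) ⟨.c2, .c10, .c6⟩ ⟨.c1, .c10, .c4⟩ ⟨.c2, .c10, .c9⟩ ⟨.c2, .c8, .c11⟩ ⟨.c1, .c10, .c6⟩ ⟨.c2, .c10, .c14⟩ ⟨.c2, .c8, .c14⟩ ⟨.c1, .c10, .c8⟩ ⟨.c2, .c11, .c1⟩ ⟨.c2, .c8, .c17⟩ ⟨.c2, .c9, .c0⟩ ⟨.c2, .c2, .c11⟩ ⟨.c1, .c10, .c11⟩ ⟨.c2, .c11, .c7⟩ ⟨.c2, .c9, .c4⟩ ⟨.c2, .c9, .c5⟩ ⟨.c2, .c2, .c16⟩ ⟨.c1, .c10, .c14⟩) (@D3.rec (fun _ => Pt) ⟨.c2, .c11, .c13⟩ ⟨.c2, .c9, .c9⟩ ⟨.c2, .c9, .c11⟩ ⟨.c1, .c11,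 .c0⟩ ⟨.c2, .c3, .c4⟩ ⟨.c2, .c11, .c17⟩ ⟨.c2, .c3, .c6⟩ ⟨.c2, .c12, .c2⟩ ⟨.c1, .c11, .c7⟩ ⟨.c2, .c12, .c4⟩ ⟨.c2, .c3, .c10⟩ ⟨.c1, .c11, .c9⟩ ⟨.c2, .c12, .c8⟩ ⟨.c1, .c12, .c5⟩ ⟨.c1, .c11, .c11⟩ ⟨.c2, .c12, .c12⟩ ⟨.c1, .c12, .c8⟩ ⟨.c1, .c12, .c9⟩) (@D3.rec (fun _ => Pt) ⟨.c2, .c4, .c0⟩ ⟨.c1, .c11, .c14⟩ ⟨.c2, .c13, .c1⟩ ⟨.c1, .c12, .c13⟩ ⟨.c2, .c4, .c4⟩ ⟨.c1, .c12, .c14⟩ ⟨.c1, .c12, .c2⟩ ⟨.c1, .c12, .c3⟩ ⟨.c1, .c12, .c1⟩ ⟨.c2, .c13, .c7⟩ ⟨.c2, .c12, .c9⟩ ⟨.c2, .c12, .c10⟩ ⟨.c2, .c4, .c12⟩ ⟨.c1, .c12, .c7⟩ ⟨.c2, .c13, .c11⟩ ⟨.c2, .c12, .c14⟩ ⟨.c2, .c13,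 .c12⟩ ⟨.c2, .c12, .c16⟩) (@D3.rec (fun _ => Pt) ⟨.c2, .c5, .c0⟩ ⟨.c1, .c12, .c12⟩ ⟨.c2, .c13, .c3⟩ ⟨.c2, .c13, .c6⟩ ⟨.c1, .c14, .c3⟩ ⟨.c1, .c14, .c4⟩ ⟨.c2, .c5, .c6⟩ ⟨.c2, .c5, .c7⟩ ⟨.c1, .c13, .c3⟩ ⟨.c2, .c13, .c17⟩ ⟨.c2, .c14, .c2⟩ ⟨.c1, .c13, .c5⟩ ⟨.c2, .c14, .c5⟩ ⟨.c1, .c13, .c6⟩ ⟨.c2, .c14, .c8⟩ ⟨.c2, .c5, .c15⟩ ⟨.c1, .c13, .c8⟩ ⟨.c2, .c14, .c13⟩) (@D3.rec (fun _ => Pt) ⟨.c2, .c6, .c0⟩ ⟨.c1, .c13, .c10⟩ ⟨.c3, .c0, .c0⟩ ⟨.c2, .c6, .c3⟩ ⟨.c2, .c6, .c4⟩ ⟨.c2, .c6, .c5⟩ ⟨.c1, .c13, .c13⟩ ⟨.c3, .c0, .c6⟩ ⟨.c2, .c6, .c8⟩ ⟨.c2, .c6, .c9⟩ ⟨.c2, .c6, .c10⟩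 ⟨.c1, .c13, .c16⟩ ⟨.c3, .c0, .c12⟩ ⟨.c2, .c6, .c13⟩ ⟨.c2, .c6, .c14⟩ ⟨.c1, .c14, .c2⟩ ⟨.c2, .c13, .c16⟩ ⟨.c2, .c14, .c1⟩) (@D3.rec (fun _ => Pt) ⟨.c2, .c7, .c0⟩ ⟨.c2, .c7, .c1⟩ ⟨.c2, .c7, .c2⟩ ⟨.c2, .c7, .c3⟩ ⟨.c1, .c14, .c8⟩ ⟨.c3, .c0, .c3⟩ ⟨.c2, .c7, .c6⟩ ⟨.c1, .c14, .c13⟩ ⟨.c2, .c7, .c8⟩ ⟨.c2, .c7, .c9⟩ ⟨.c2, .c7, .c10⟩ ⟨.c2, .c0, .c11⟩ ⟨.c3, .c1, .c1⟩ ⟨.c2, .c7, .c13⟩ ⟨.c3, .c1, .c4⟩ ⟨.c2, .c0, .c4⟩ ⟨.c3, .c1, .c7⟩ ⟨.c3, .c1, .c9⟩) (@D3.rec (fun _ => Pt) ⟨.c2, .c0, .c7⟩ ⟨.c3, .c1, .c11⟩ ⟨.c2, .c8, .c2⟩ ⟨.c2, .c0, .c9⟩ ⟨.c3, .c1, .c16⟩ ⟨.c2, .c8,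 .c5⟩ ⟨.c3, .c2, .c1⟩ ⟨.c2, .c0, .c12⟩ ⟨.c3, .c2, .c4⟩ ⟨.c2, .c0, .c13⟩ ⟨.c3, .c2, .c7⟩ ⟨.c2, .c2, .c3⟩ ⟨.c2, .c0, .c15⟩ ⟨.c3, .c2, .c12⟩ ⟨.c2, .c2, .c6⟩ ⟨.c2, .c0, .c17⟩ ⟨.c3, .c2, .c17⟩ ⟨.c2, .c2, .c9⟩) (@D3.rec (fun _ => Pt) ⟨.c2, .c2, .c10⟩ ⟨.c2, .c9, .c1⟩ ⟨.c2, .c1, .c2⟩ ⟨.c3, .c3, .c6⟩ ⟨.c2, .c2, .c14⟩ ⟨.c2, .c2, .c15⟩ ⟨.c2, .c9, .c6⟩ ⟨.c2, .c1, .c5⟩ ⟨.c3, .c3, .c12⟩ ⟨.c2, .c3, .c1⟩ ⟨.c2, .c9, .c10⟩ ⟨.c2, .c3, .c2⟩ ⟨.c2, .c1, .c11⟩ ⟨.c2, .c1, .c12⟩ ⟨.c2, .c1, .c10⟩ ⟨.c3, .c4, .c0⟩ ⟨.c3, .c4, .c1⟩ ⟨.c3, .c4, .c2⟩) (@D3.rec (fun _ => Pt) ⟨.c3, .c4,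 .c3⟩ ⟨.c2, .c1, .c15⟩ ⟨.c3, .c0, .c15⟩ ⟨.c2, .c1, .c16⟩ ⟨.c3, .c4, .c8⟩ ⟨.c3, .c2, .c3⟩ ⟨.c2, .c2, .c0⟩ ⟨.c3, .c4, .c13⟩ ⟨.c3, .c2, .c6⟩ ⟨.c2, .c2, .c2⟩ ⟨.c3, .c5, .c0⟩ ⟨.c3, .c2, .c9⟩ ⟨.c3, .c2, .c10⟩ ⟨.c3, .c4, .c12⟩ ⟨.c2, .c2, .c5⟩ ⟨.c3, .c5, .c7⟩ ⟨.c3, .c2, .c14⟩ ⟨.c3, .c2, .c15⟩) (@D3.rec (fun _ => Pt) ⟨.c2, .c11, .c0⟩ ⟨.c2, .c2, .c8⟩ ⟨.c3, .c5, .c12⟩ ⟨.c3, .c3, .c1⟩ ⟨.c3, .c5, .c15⟩ ⟨.c3, .c3, .c3⟩ ⟨.c2, .c11, .c6⟩ ⟨.c2, .c2, .c13⟩ ⟨.c3, .c3, .c7⟩ ⟨.c3, .c6, .c4⟩ ⟨.c3, .c3, .c9⟩ ⟨.c2, .c11, .c11⟩ ⟨.c2, .c11, .c12⟩ ⟨.c2, .c3, .c0⟩ ⟨.c3, .c3, .c14⟩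 ⟨.c3, .c3, .c17⟩ ⟨.c3, .c6, .c12⟩ ⟨.c2, .c3, .c5⟩) (@D3.rec (fun _ => Pt) ⟨.c3, .c6, .c13⟩ ⟨.c2, .c12, .c1⟩ ⟨.c2, .c3, .c7⟩ ⟨.c2, .c12, .c3⟩ ⟨.c2, .c3, .c9⟩ ⟨.c2, .c12, .c5⟩ ⟨.c2, .c12, .c6⟩ ⟨.c2, .c12, .c7⟩ ⟨.c2, .c3, .c12⟩ ⟨.c2, .c4, .c10⟩ ⟨.c2, .c4, .c11⟩ ⟨.c2, .c12, .c11⟩ ⟨.c2, .c3, .c15⟩ ⟨.c3, .c7, .c10⟩ ⟨.c2, .c4, .c15⟩ ⟨.c3, .c7, .c13⟩ ⟨.c2, .c4, .c17⟩ ⟨.c2, .c12, .c17⟩) (@D3.rec (fun _ => Pt) ⟨.c2, .c13, .c0⟩ ⟨.c2, .c4, .c2⟩ ⟨.c2, .c13, .c2⟩ ⟨.c2, .c5, .c2⟩ ⟨.c2, .c13, .c4⟩ ⟨.c2, .c13, .c5⟩ ⟨.c2, .c5, .c3⟩ ⟨.c2, .c4, .c9⟩ ⟨.c3, .c7, .c5⟩ ⟨.c3,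 .c7, .c12⟩ ⟨.c3, .c7, .c7⟩ ⟨.c2, .c4, .c14⟩ ⟨.c2, .c4, .c16⟩ ⟨.c3, .c7, .c16⟩ ⟨.c2, .c13, .c14⟩ ⟨.c3, .c8, .c2⟩ ⟨.c2, .c6, .c16⟩ ⟨.c2, .c5, .c9⟩) (@D3.rec (fun _ => Pt) ⟨.c2, .c14, .c0⟩ ⟨.c2, .c6, .c17⟩ ⟨.c2, .c5, .c10⟩ ⟨.c3, .c8, .c5⟩ ⟨.c2, .c14, .c4⟩ ⟨.c2, .c5, .c12⟩ ⟨.c3, .c8, .c9⟩ ⟨.c2, .c14, .c7⟩ ⟨.c2, .c5, .c14⟩ ⟨.c3, .c8, .c14⟩ ⟨.c2, .c14, .c10⟩ ⟨.c2, .c14, .c11⟩ ⟨.c3, .c8, .c8⟩ ⟨.c2, .c5, .c17⟩ ⟨.c3, .c9, .c3⟩ ⟨.c2, .c14, .c15⟩ ⟨.c2, .c14, .c16⟩ ⟨.c2, .c14, .c17⟩)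
def f_c_3 : D2 → D3 → Pt := @D2.rec (fun _ => D3 → Pt) (@D3.rec (fun _ => Pt) ⟨.c2, .c6, .c2⟩ ⟨.c3, .c9, .c6⟩ ⟨.c3, .c0, .c2⟩ ⟨.c2, .c7, .c5⟩ ⟨.c3, .c0, .c4⟩ ⟨.c3, .c0, .c5⟩ ⟨.c2, .c6, .c7⟩ ⟨.c3, .c0, .c7⟩ ⟨.c3, .c8, .c4⟩ ⟨.c3, .c0, .c9⟩ ⟨.c3, .c0, .c10⟩ ⟨.c3, .c0, .c11⟩ ⟨.c2, .c6, .c12⟩ ⟨.c3, .c0, .c13⟩ ⟨.c3, .c0, .c14⟩ ⟨.c2, .c10, .c2⟩ ⟨.c3, .c0, .c16⟩ ⟨.c3, .c9, .c16⟩) (@D3.rec (fun _ => Pt) ⟨.c3, .c10, .c0⟩ ⟨.c2, .c7, .c12⟩ ⟨.c3, .c10, .c3⟩ ⟨.c3, .c10, .c5⟩ ⟨.c2, .c7, .c14⟩ ⟨.c3, .c10, .c8⟩ ⟨.c3, .c1, .c6⟩ ⟨.c2, .c7, .c16⟩ ⟨.c3, .c10, .c13⟩ ⟨.c2,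 .c7, .c17⟩ ⟨.c3, .c1, .c10⟩ ⟨.c2, .c8, .c1⟩ ⟨.c3, .c11, .c1⟩ ⟨.c3, .c1, .c13⟩ ⟨.c3, .c1, .c14⟩ ⟨.c3, .c1, .c15⟩ ⟨.c2, .c8, .c4⟩ ⟨.c3, .c11, .c7⟩) (@D3.rec (fun _ => Pt) ⟨.c3, .c11, .c8⟩ ⟨.c2, .c8, .c6⟩ ⟨.c3, .c11, .c11⟩ ⟨.c2, .c10, .c5⟩ ⟨.c2, .c8, .c8⟩ ⟨.c3, .c11, .c16⟩ ⟨.c2, .c10, .c8⟩ ⟨.c2, .c8, .c10⟩ ⟨.c3, .c12, .c3⟩ ⟨.c2, .c10, .c11⟩ ⟨.c2, .c10, .c12⟩ ⟨.c3, .c11, .c15⟩ ⟨.c2, .c8, .c13⟩ ⟨.c3, .c12, .c10⟩ ⟨.c2, .c10, .c16⟩ ⟨.c2, .c10, .c17⟩ ⟨.c3, .c2, .c16⟩ ⟨.c2, .c8, .c16⟩) (@D3.rec (fun _ => Pt) ⟨.c3, .c12, .c16⟩ ⟨.c2, .c11, .c3⟩ ⟨.c3, .c13, .c1⟩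 ⟨.c2, .c11, .c5⟩ ⟨.c3, .c3, .c4⟩ ⟨.c3, .c3, .c5⟩ ⟨.c2, .c9, .c3⟩ ⟨.c2, .c11, .c8⟩ ⟨.c3, .c13, .c11⟩ ⟨.c2, .c11, .c10⟩ ⟨.c3, .c3, .c10⟩ ⟨.c3, .c3, .c11⟩ ⟨.c2, .c9, .c8⟩ ⟨.c3, .c3, .c13⟩ ⟨.c2, .c11, .c14⟩ ⟨.c3, .c3, .c15⟩ ⟨.c3, .c3, .c16⟩ ⟨.c2, .c11, .c15⟩) (@D3.rec (fun _ => Pt) ⟨.c2, .c9, .c15⟩ ⟨.c2, .c9, .c16⟩ ⟨.c2, .c9, .c17⟩ ⟨.c2, .c10, .c0⟩ ⟨.c3, .c14, .c8⟩ ⟨.c3, .c14, .c9⟩ ⟨.c3, .c9, .c9⟩ ⟨.c3, .c11, .c10⟩ ⟨.c2, .c10, .c4⟩ ⟨.c3, .c14, .c14⟩ ⟨.c3, .c11, .c13⟩ ⟨.c3, .c11, .c14⟩ ⟨.c2, .c10, .c13⟩ ⟨.c2, .c10, .c7⟩ ⟨.c4, .c0, .c3⟩ ⟨.c3, .c12, .c0⟩ ⟨.c3,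 .c12, .c1⟩ ⟨.c3, .c14, .c13⟩) (@D3.rec (fun _ => Pt) ⟨.c2, .c10, .c10⟩ ⟨.c4, .c0, .c9⟩ ⟨.c3, .c12, .c5⟩ ⟨.c4, .c0, .c12⟩ ⟨.c3, .c12, .c7⟩ ⟨.c4, .c0, .c1⟩ ⟨.c4, .c0, .c2⟩ ⟨.c2, .c10, .c15⟩ ⟨.c3, .c12, .c11⟩ ⟨.c4, .c1, .c3⟩ ⟨.c3, .c12, .c13⟩ ⟨.c3, .c5, .c11⟩ ⟨.c2, .c11, .c2⟩ ⟨.c4, .c1, .c7⟩ ⟨.c3, .c13, .c0⟩ ⟨.c2, .c11, .c4⟩ ⟨.c4, .c1, .c8⟩ ⟨.c3, .c13, .c4⟩) (@D3.rec (fun _ => Pt) ⟨.c3, .c6, .c0⟩ ⟨.c3, .c6, .c1⟩ ⟨.c4, .c1, .c11⟩ ⟨.c3, .c13, .c10⟩ ⟨.c2, .c11, .c9⟩ ⟨.c4, .c1, .c14⟩ ⟨.c4, .c1, .c15⟩ ⟨.c3, .c13, .c14⟩ ⟨.c3, .c6, .c8⟩ ⟨.c3, .c6, .c9⟩ ⟨.c3, .c6,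 .c10⟩ ⟨.c3, .c14, .c3⟩ ⟨.c2, .c11, .c16⟩ ⟨.c2, .c12, .c0⟩ ⟨.c3, .c6, .c14⟩ ⟨.c3, .c6, .c15⟩ ⟨.c3, .c6, .c16⟩ ⟨.c3, .c6, .c17⟩) (@D3.rec (fun _ => Pt) ⟨.c3, .c7, .c0⟩ ⟨.c4, .c2, .c8⟩ ⟨.c3, .c7, .c2⟩ ⟨.c3, .c7, .c3⟩ ⟨.c3, .c7, .c4⟩ ⟨.c2, .c13, .c8⟩ ⟨.c4, .c2, .c14⟩ ⟨.c2, .c13, .c10⟩ ⟨.c3, .c7, .c8⟩ ⟨.c3, .c7, .c9⟩ ⟨.c2, .c12, .c13⟩ ⟨.c4, .c2, .c15⟩ ⟨.c2, .c13, .c9⟩ ⟨.c2, .c12, .c15⟩ ⟨.c4, .c2, .c13⟩ ⟨.c4, .c3, .c1⟩ ⟨.c2, .c13, .c13⟩ ⟨.c3, .c7, .c17⟩) (@D3.rec (fun _ => Pt) ⟨.c3, .c8, .c0⟩ ⟨.c3, .c8, .c1⟩ ⟨.c2, .c13, .c15⟩ ⟨.c3, .c8, .c3⟩ ⟨.c3, .c0, .c8⟩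 ⟨.c2, .c14, .c3⟩ ⟨.c4, .c3, .c6⟩ ⟨.c3, .c8, .c7⟩ ⟨.c2, .c14, .c12⟩ ⟨.c2, .c14, .c6⟩ ⟨.c4, .c3, .c12⟩ ⟨.c3, .c8, .c11⟩ ⟨.c3, .c8, .c12⟩ ⟨.c4, .c3, .c5⟩ ⟨.c2, .c14, .c9⟩ ⟨.c4, .c4, .c0⟩ ⟨.c3, .c8, .c16⟩ ⟨.c4, .c3, .c17⟩) (@D3.rec (fun _ => Pt) ⟨.c3, .c9, .c0⟩ ⟨.c4, .c3, .c10⟩ ⟨.c4, .c3, .c11⟩ ⟨.c2, .c14, .c14⟩ ⟨.c3, .c9, .c4⟩ ⟨.c3, .c9, .c5⟩ ⟨.c3, .c0, .c1⟩ ⟨.c3, .c9, .c7⟩ ⟨.c3, .c9, .c8⟩ ⟨.c3, .c4, .c6⟩ ⟨.c3, .c9, .c10⟩ ⟨.c4, .c3, .c4⟩ ⟨.c3, .c9, .c12⟩ ⟨.c3, .c9, .c13⟩ ⟨.c3, .c9, .c14⟩ ⟨.c3, .c9, .c15⟩ ⟨.c3, .c0, .c17⟩ ⟨.c4, .c4, .c13⟩) (@D3.rec (fun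 _ => Pt) ⟨.c3, .c1, .c0⟩ ⟨.c4, .c4, .c16⟩ ⟨.c3, .c10, .c2⟩ ⟨.c3, .c1, .c2⟩ ⟨.c4, .c5, .c3⟩ ⟨.c3, .c1, .c3⟩ ⟨.c4, .c5, .c6⟩ ⟨.c3, .c10, .c7⟩ ⟨.c3, .c1, .c5⟩ ⟨.c4, .c5, .c10⟩ ⟨.c3, .c10, .c10⟩ ⟨.c3, .c10, .c11⟩ ⟨.c4, .c5, .c2⟩ ⟨.c3, .c1, .c8⟩ ⟨.c4, .c5, .c16⟩ ⟨.c3, .c10, .c15⟩ ⟨.c3, .c10, .c16⟩ ⟨.c3, .c10, .c17⟩) (@D3.rec (fun _ => Pt) ⟨.c3, .c11, .c0⟩ ⟨.c3, .c1, .c12⟩ ⟨.c3, .c11, .c2⟩ ⟨.c4, .c6, .c6⟩ ⟨.c3, .c11, .c4⟩ ⟨.c3, .c11, .c5⟩ ⟨.c3, .c11, .c6⟩ ⟨.c3, .c1, .c17⟩ ⟨.c3, .c2, .c0⟩ ⟨.c4, .c6, .c14⟩ ⟨.c3, .c4, .c7⟩ ⟨.c3, .c2, .c2⟩ ⟨.c4, .c7, .c0⟩ ⟨.c3,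 .c4, .c10⟩ ⟨.c3, .c4, .c11⟩ ⟨.c3, .c2, .c11⟩ ⟨.c3, .c2, .c5⟩ ⟨.c4, .c7, .c7⟩) (@D3.rec (fun _ => Pt) ⟨.c3, .c4, .c15⟩ ⟨.c3, .c4, .c16⟩ ⟨.c4, .c6, .c17⟩ ⟨.c3, .c2, .c8⟩ ⟨.c4, .c7, .c13⟩ ⟨.c3, .c5, .c2⟩ ⟨.c4, .c7, .c16⟩ ⟨.c3, .c5, .c4⟩ ⟨.c4, .c7, .c5⟩ ⟨.c4, .c7, .c6⟩ ⟨.c3, .c2, .c13⟩ ⟨.c3, .c5, .c8⟩ ⟨.c4, .c8, .c8⟩ ⟨.c3, .c5, .c10⟩ ⟨.c3, .c12, .c14⟩ ⟨.c3, .c12, .c15⟩ ⟨.c3, .c3, .c0⟩ ⟨.c4, .c8, .c16⟩) (@D3.rec (fun _ => Pt) ⟨.c3, .c5, .c14⟩ ⟨.c3, .c3, .c2⟩ ⟨.c4, .c9, .c2⟩ ⟨.c4, .c9, .c3⟩ ⟨.c3, .c5, .c17⟩ ⟨.c3, .c13, .c5⟩ ⟨.c3, .c13, .c6⟩ ⟨.c3, .c13, .c7⟩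 ⟨.c3, .c13, .c8⟩ ⟨.c4, .c9, .c10⟩ ⟨.c3, .c6, .c3⟩ ⟨.c3, .c3, .c8⟩ ⟨.c4, .c9, .c14⟩ ⟨.c4, .c9, .c15⟩ ⟨.c3, .c6, .c7⟩ ⟨.c3, .c13, .c15⟩ ⟨.c3, .c13, .c16⟩ ⟨.c3, .c13, .c17⟩) (@D3.rec (fun _ => Pt) ⟨.c3, .c14, .c0⟩ ⟨.c3, .c14, .c1⟩ ⟨.c3, .c14, .c2⟩ ⟨.c3, .c6, .c11⟩ ⟨.c3, .c14, .c4⟩ ⟨.c3, .c14, .c5⟩ ⟨.c3, .c14, .c6⟩ ⟨.c3, .c14, .c7⟩ ⟨.c3, .c4, .c4⟩ ⟨.c3, .c4, .c5⟩ ⟨.c4, .c10, .c13⟩ ⟨.c4, .c4, .c8⟩ ⟨.c4, .c6, .c16⟩ ⟨.c3, .c4, .c17⟩ ⟨.c3, .c4, .c9⟩ ⟨.c4, .c11, .c0⟩ ⟨.c4, .c7, .c2⟩ ⟨.c4, .c11, .c3⟩)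
def f_c_4 : D2 → D3 → Pt := @D2.rec (fun _ => D3 → Pt) (@D3.rec (fun _ => Pt) ⟨.c4, .c7, .c4⟩ ⟨.c3, .c5, .c5⟩ ⟨.c3, .c5, .c6⟩ ⟨.c3, .c4, .c14⟩ ⟨.c4, .c7, .c8⟩ ⟨.c4, .c11, .c13⟩ ⟨.c4, .c7, .c10⟩ ⟨.c4, .c10, .c17⟩ ⟨.c4, .c4, .c1⟩ ⟨.c3, .c5, .c1⟩ ⟨.c4, .c12, .c3⟩ ⟨.c4, .c7, .c15⟩ ⟨.c3, .c5, .c3⟩ ⟨.c4, .c12, .c6⟩ ⟨.c4, .c12, .c7⟩ ⟨.c4, .c8, .c1⟩ ⟨.c4, .c11, .c7⟩ ⟨.c4, .c11, .c8⟩) (@D3.rec (fun _ => Pt) ⟨.c4, .c11, .c9⟩ ⟨.c4, .c11, .c10⟩ ⟨.c4, .c8, .c7⟩ ⟨.c3, .c5, .c9⟩ ⟨.c4, .c9, .c1⟩ ⟨.c4, .c8, .c11⟩ ⟨.c4, .c1, .c6⟩ ⟨.c3, .c5, .c13⟩ ⟨.c3, .c5, .c16⟩ ⟨.c4,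 .c12, .c15⟩ ⟨.c4, .c1, .c10⟩ ⟨.c3, .c6, .c2⟩ ⟨.c4, .c12, .c16⟩ ⟨.c4, .c9, .c13⟩ ⟨.c3, .c6, .c5⟩ ⟨.c3, .c6, .c6⟩ ⟨.c4, .c13, .c0⟩ ⟨.c4, .c13, .c1⟩) (@D3.rec (fun _ => Pt) ⟨.c4, .c2, .c0⟩ ⟨.c4, .c2, .c1⟩ ⟨.c4, .c2, .c2⟩ ⟨.c4, .c2, .c3⟩ ⟨.c4, .c2, .c4⟩ ⟨.c4, .c13, .c7⟩ ⟨.c4, .c13, .c8⟩ ⟨.c4, .c2, .c7⟩ ⟨.c3, .c7, .c1⟩ ⟨.c4, .c13, .c10⟩ ⟨.c4, .c13, .c9⟩ ⟨.c4, .c2, .c11⟩ ⟨.c4, .c2, .c12⟩ ⟨.c3, .c7, .c14⟩ ⟨.c3, .c7, .c6⟩ ⟨.c3, .c7, .c11⟩ ⟨.c4, .c13, .c6⟩ ⟨.c4, .c2, .c17⟩) (@D3.rec (fun _ => Pt) ⟨.c4, .c13, .c11⟩ ⟨.c3, .c7, .c15⟩ ⟨.c4, .c8, .c6⟩ ⟨.c4, .c3, .c3⟩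 ⟨.c3, .c9, .c11⟩ ⟨.c3, .c8, .c13⟩ ⟨.c3, .c8, .c6⟩ ⟨.c4, .c13, .c14⟩ ⟨.c4, .c13, .c15⟩ ⟨.c4, .c3, .c9⟩ ⟨.c3, .c9, .c1⟩ ⟨.c3, .c9, .c2⟩ ⟨.c3, .c8, .c10⟩ ⟨.c4, .c3, .c13⟩ ⟨.c4, .c13, .c17⟩ ⟨.c4, .c3, .c15⟩ ⟨.c4, .c13, .c13⟩ ⟨.c3, .c8, .c17⟩) (@D3.rec (fun _ => Pt) ⟨.c3, .c8, .c15⟩ ⟨.c4, .c0, .c8⟩ ⟨.c4, .c4, .c2⟩ ⟨.c4, .c14, .c8⟩ ⟨.c4, .c4, .c4⟩ ⟨.c4, .c14, .c1⟩ ⟨.c4, .c14, .c2⟩ ⟨.c4, .c14, .c3⟩ ⟨.c3, .c14, .c11⟩ ⟨.c4, .c4, .c9⟩ ⟨.c4, .c13, .c12⟩ ⟨.c4, .c4, .c11⟩ ⟨.c4, .c4, .c12⟩ ⟨.c3, .c9, .c17⟩ ⟨.c4, .c14, .c16⟩ ⟨.c4, .c4, .c15⟩ ⟨.c3, .c10, .c1⟩ ⟨.c5,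 .c0, .c2⟩) (@D3.rec (fun _ => Pt) ⟨.c4, .c5, .c0⟩ ⟨.c4, .c5, .c1⟩ ⟨.c3, .c10, .c12⟩ ⟨.c3, .c10, .c4⟩ ⟨.c5, .c0, .c8⟩ ⟨.c4, .c5, .c5⟩ ⟨.c3, .c10, .c6⟩ ⟨.c4, .c5, .c7⟩ ⟨.c4, .c5, .c8⟩ ⟨.c5, .c0, .c1⟩ ⟨.c3, .c10, .c9⟩ ⟨.c4, .c5, .c11⟩ ⟨.c5, .c1, .c1⟩ ⟨.c4, .c5, .c13⟩ ⟨.c5, .c0, .c6⟩ ⟨.c5, .c0, .c7⟩ ⟨.c3, .c10, .c14⟩ ⟨.c4, .c5, .c17⟩) (@D3.rec (fun _ => Pt) ⟨.c4, .c6, .c0⟩ ⟨.c5, .c1, .c11⟩ ⟨.c4, .c6, .c2⟩ ⟨.c4, .c6, .c3⟩ ⟨.c5, .c1, .c14⟩ ⟨.c4, .c6, .c5⟩ ⟨.c3, .c11, .c3⟩ ⟨.c5, .c2, .c0⟩ ⟨.c5, .c2, .c1⟩ ⟨.c4, .c6, .c9⟩ ⟨.c4, .c6, .c10⟩ ⟨.c4, .c6, .c11⟩ ⟨.c4,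 .c6, .c12⟩ ⟨.c4, .c6, .c13⟩ ⟨.c3, .c11, .c9⟩ ⟨.c5, .c2, .c11⟩ ⟨.c3, .c14, .c12⟩ ⟨.c3, .c12, .c2⟩) (@D3.rec (fun _ => Pt) ⟨.c3, .c11, .c12⟩ ⟨.c5, .c2, .c17⟩ ⟨.c3, .c14, .c16⟩ ⟨.c5, .c3, .c2⟩ ⟨.c4, .c0, .c0⟩ ⟨.c3, .c12, .c8⟩ ⟨.c3, .c12, .c9⟩ ⟨.c3, .c11, .c17⟩ ⟨.c4, .c0, .c4⟩ ⟨.c5, .c3, .c12⟩ ⟨.c4, .c0, .c6⟩ ⟨.c5, .c2, .c15⟩ ⟨.c5, .c2, .c16⟩ ⟨.c3, .c12, .c4⟩ ⟨.c5, .c4, .c2⟩ ⟨.c4, .c0, .c11⟩ ⟨.c3, .c12, .c6⟩ ⟨.c5, .c4, .c6⟩) (@D3.rec (fun _ => Pt) ⟨.c5, .c4, .c7⟩ ⟨.c4, .c0, .c15⟩ ⟨.c5, .c3, .c6⟩ ⟨.c5, .c3, .c7⟩ ⟨.c5, .c3, .c8⟩ ⟨.c5, .c3, .c9⟩ ⟨.c4, .c3,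 .c2⟩ ⟨.c4, .c1, .c2⟩ ⟨.c3, .c12, .c12⟩ ⟨.c5, .c4, .c17⟩ ⟨.c5, .c1, .c9⟩ ⟨.c4, .c1, .c5⟩ ⟨.c4, .c8, .c12⟩ ⟨.c4, .c8, .c13⟩ ⟨.c4, .c8, .c14⟩ ⟨.c4, .c8, .c15⟩ ⟨.c3, .c12, .c17⟩ ⟨.c5, .c5, .c1⟩) (@D3.rec (fun _ => Pt) ⟨.c5, .c2, .c5⟩ ⟨.c4, .c1, .c4⟩ ⟨.c3, .c13, .c2⟩ ⟨.c3, .c13, .c3⟩ ⟨.c5, .c5, .c7⟩ ⟨.c5, .c4, .c16⟩ ⟨.c5, .c5, .c8⟩ ⟨.c5, .c1, .c16⟩ ⟨.c4, .c9, .c8⟩ ⟨.c4, .c9, .c9⟩ ⟨.c3, .c13, .c9⟩ ⟨.c5, .c5, .c12⟩ ⟨.c5, .c5, .c13⟩ ⟨.c4, .c1, .c13⟩ ⟨.c3, .c13, .c12⟩ ⟨.c3, .c13, .c13⟩ ⟨.c5, .c6, .c0⟩ ⟨.c5, .c6, .c1⟩) (@D3.rec (fun _ => Pt) ⟨.c5, .c6, .c2⟩ ⟨.c5,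 .c6, .c4⟩ ⟨.c4, .c10, .c2⟩ ⟨.c4, .c10, .c3⟩ ⟨.c4, .c10, .c4⟩ ⟨.c4, .c10, .c5⟩ ⟨.c4, .c10, .c6⟩ ⟨.c4, .c10, .c7⟩ ⟨.c4, .c10, .c8⟩ ⟨.c4, .c10, .c9⟩ ⟨.c4, .c10, .c10⟩ ⟨.c4, .c10, .c11⟩ ⟨.c5, .c6, .c16⟩ ⟨.c3, .c14, .c10⟩ ⟨.c4, .c14, .c12⟩ ⟨.c5, .c7, .c0⟩ ⟨.c5, .c2, .c14⟩ ⟨.c4, .c0, .c7⟩) (@D3.rec (fun _ => Pt) ⟨.c3, .c14, .c15⟩ ⟨.c5, .c7, .c5⟩ ⟨.c5, .c3, .c1⟩ ⟨.c3, .c14, .c17⟩ ⟨.c5, .c7, .c9⟩ ⟨.c5, .c7, .c10⟩ ⟨.c5, .c3, .c5⟩ ⟨.c4, .c0, .c16⟩ ⟨.c4, .c0, .c17⟩ ⟨.c4, .c1, .c0⟩ ⟨.c4, .c1, .c1⟩ ⟨.c5, .c8, .c1⟩ ⟨.c5, .c3, .c11⟩ ⟨.c4, .c0, .c5⟩ ⟨.c5, .c8, .c3⟩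 ⟨.c5, .c8, .c4⟩ ⟨.c5, .c3, .c15⟩ ⟨.c5, .c7, .c3⟩) (@D3.rec (fun _ => Pt) ⟨.c5, .c7, .c4⟩ ⟨.c4, .c14, .c9⟩ ⟨.c4, .c14, .c4⟩ ⟨.c4, .c0, .c10⟩ ⟨.c5, .c8, .c8⟩ ⟨.c5, .c4, .c5⟩ ⟨.c4, .c0, .c13⟩ ⟨.c4, .c0, .c14⟩ ⟨.c5, .c8, .c9⟩ ⟨.c5, .c8, .c10⟩ ⟨.c5, .c8, .c11⟩ ⟨.c5, .c7, .c15⟩ ⟨.c5, .c7, .c16⟩ ⟨.c5, .c7, .c17⟩ ⟨.c5, .c8, .c0⟩ ⟨.c4, .c1, .c9⟩ ⟨.c4, .c1, .c12⟩ ⟨.c5, .c8, .c16⟩) (@D3.rec (fun _ => Pt) ⟨.c4, .c1, .c16⟩ ⟨.c4, .c1, .c17⟩ ⟨.c5, .c8, .c12⟩ ⟨.c5, .c8, .c17⟩ ⟨.c4, .c13, .c4⟩ ⟨.c4, .c13, .c5⟩ ⟨.c4, .c2, .c16⟩ ⟨.c4, .c2, .c5⟩ ⟨.c4, .c2, .c6⟩ ⟨.c4, .c2,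 .c10⟩ ⟨.c4, .c2, .c9⟩ ⟨.c4, .c3, .c0⟩ ⟨.c4, .c4, .c10⟩ ⟨.c4, .c3, .c16⟩ ⟨.c4, .c3, .c7⟩ ⟨.c4, .c3, .c8⟩ ⟨.c5, .c9, .c5⟩ ⟨.c4, .c3, .c14⟩) (@D3.rec (fun _ => Pt) ⟨.c4, .c14, .c0⟩ ⟨.c4, .c4, .c5⟩ ⟨.c4, .c4, .c6⟩ ⟨.c4, .c4, .c7⟩ ⟨.c4, .c12, .c2⟩ ⟨.c5, .c9, .c8⟩ ⟨.c5, .c9, .c3⟩ ⟨.c5, .c9, .c4⟩ ⟨.c4, .c4, .c3⟩ ⟨.c4, .c12, .c1⟩ ⟨.c5, .c9, .c7⟩ ⟨.c5, .c9, .c6⟩ ⟨.c4, .c10, .c14⟩ ⟨.c4, .c14, .c13⟩ ⟨.c4, .c14, .c14⟩ ⟨.c4, .c14, .c15⟩ ⟨.c4, .c4, .c14⟩ ⟨.c5, .c9, .c14⟩)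
def f_c_5 : D2 → D3 → Pt := @D2.rec (fun _ => D3 → Pt) (@D3.rec (fun _ => Pt) ⟨.c5, .c0, .c0⟩ ⟨.c4, .c5, .c9⟩ ⟨.c4, .c4, .c17⟩ ⟨.c5, .c0, .c3⟩ ⟨.c5, .c10, .c3⟩ ⟨.c5, .c0, .c5⟩ ⟨.c4, .c5, .c14⟩ ⟨.c4, .c5, .c15⟩ ⟨.c4, .c5, .c4⟩ ⟨.c5, .c0, .c9⟩ ⟨.c5, .c0, .c10⟩ ⟨.c5, .c0, .c11⟩ ⟨.c5, .c0, .c12⟩ ⟨.c5, .c10, .c16⟩ ⟨.c5, .c0, .c14⟩ ⟨.c5, .c9, .c17⟩ ⟨.c5, .c10, .c0⟩ ⟨.c5, .c11, .c4⟩) (@D3.rec (fun _ => Pt) ⟨.c5, .c1, .c0⟩ ⟨.c4, .c5, .c12⟩ ⟨.c5, .c11, .c8⟩ ⟨.c5, .c11, .c9⟩ ⟨.c5, .c1, .c4⟩ ⟨.c5, .c10, .c7⟩ ⟨.c5, .c10, .c8⟩ ⟨.c5, .c10, .c9⟩ ⟨.c5, .c10, .c10⟩ ⟨.c4,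 .c8, .c10⟩ ⟨.c5, .c1, .c10⟩ ⟨.c4, .c6, .c1⟩ ⟨.c5, .c12, .c1⟩ ⟨.c5, .c1, .c13⟩ ⟨.c4, .c6, .c4⟩ ⟨.c5, .c12, .c3⟩ ⟨.c4, .c9, .c7⟩ ⟨.c5, .c1, .c17⟩) (@D3.rec (fun _ => Pt) ⟨.c4, .c6, .c7⟩ ⟨.c4, .c6, .c8⟩ ⟨.c5, .c12, .c7⟩ ⟨.c5, .c12, .c6⟩ ⟨.c5, .c12, .c5⟩ ⟨.c4, .c9, .c0⟩ ⟨.c5, .c2, .c6⟩ ⟨.c5, .c2, .c7⟩ ⟨.c5, .c2, .c8⟩ ⟨.c5, .c2, .c9⟩ ⟨.c5, .c2, .c10⟩ ⟨.c4, .c6, .c15⟩ ⟨.c5, .c12, .c16⟩ ⟨.c5, .c12, .c17⟩ ⟨.c4, .c10, .c16⟩ ⟨.c4, .c7, .c11⟩ ⟨.c4, .c7, .c12⟩ ⟨.c4, .c7, .c1⟩) (@D3.rec (fun _ => Pt) ⟨.c5, .c13, .c7⟩ ⟨.c4, .c11, .c2⟩ ⟨.c4, .c7, .c3⟩ ⟨.c5, .c13, .c11⟩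 ⟨.c5, .c13, .c12⟩ ⟨.c4, .c11, .c6⟩ ⟨.c4, .c8, .c2⟩ ⟨.c4, .c8, .c3⟩ ⟨.c4, .c8, .c4⟩ ⟨.c4, .c8, .c5⟩ ⟨.c5, .c14, .c3⟩ ⟨.c4, .c11, .c12⟩ ⟨.c4, .c7, .c9⟩ ⟨.c5, .c14, .c6⟩ ⟨.c5, .c14, .c7⟩ ⟨.c4, .c11, .c16⟩ ⟨.c5, .c13, .c3⟩ ⟨.c5, .c13, .c4⟩) (@D3.rec (fun _ => Pt) ⟨.c5, .c13, .c5⟩ ⟨.c5, .c13, .c6⟩ ⟨.c4, .c7, .c14⟩ ⟨.c5, .c14, .c17⟩ ⟨.c6, .c0, .c0⟩ ⟨.c4, .c12, .c5⟩ ⟨.c4, .c7, .c17⟩ ⟨.c4, .c8, .c0⟩ ⟨.c6, .c0, .c5⟩ ⟨.c6, .c0, .c6⟩ ⟨.c6, .c0, .c7⟩ ⟨.c6, .c0, .c9⟩ ⟨.c5, .c13, .c17⟩ ⟨.c5, .c14, .c0⟩ ⟨.c5, .c14, .c1⟩ ⟨.c5, .c14, .c2⟩ ⟨.c4, .c9, .c5⟩ ⟨.c4, .c8, .c9⟩)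 (@D3.rec (fun _ => Pt) ⟨.c6, .c1, .c2⟩ ⟨.c4, .c8, .c17⟩ ⟨.c5, .c12, .c0⟩ ⟨.c5, .c5, .c3⟩ ⟨.c5, .c5, .c4⟩ ⟨.c6, .c1, .c3⟩ ⟨.c5, .c12, .c10⟩ ⟨.c4, .c9, .c4⟩ ⟨.c4, .c9, .c6⟩ ⟨.c6, .c1, .c1⟩ ⟨.c6, .c1, .c7⟩ ⟨.c6, .c1, .c9⟩ ⟨.c4, .c9, .c11⟩ ⟨.c4, .c9, .c12⟩ ⟨.c6, .c1, .c10⟩ ⟨.c6, .c1, .c11⟩ ⟨.c6, .c1, .c12⟩ ⟨.c6, .c1, .c13⟩) (@D3.rec (fun _ => Pt) ⟨.c4, .c9, .c16⟩ ⟨.c4, .c9, .c17⟩ ⟨.c4, .c10, .c0⟩ ⟨.c6, .c0, .c8⟩ ⟨.c4, .c10, .c1⟩ ⟨.c6, .c2, .c0⟩ ⟨.c6, .c2, .c1⟩ ⟨.c6, .c2, .c2⟩ ⟨.c6, .c2, .c4⟩ ⟨.c5, .c6, .c9⟩ ⟨.c6, .c2, .c12⟩ ⟨.c5, .c6, .c11⟩ ⟨.c5, .c6, .c12⟩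 ⟨.c5, .c6, .c13⟩ ⟨.c5, .c6, .c14⟩ ⟨.c6, .c2, .c15⟩ ⟨.c4, .c10, .c12⟩ ⟨.c5, .c6, .c17⟩) (@D3.rec (fun _ => Pt) ⟨.c4, .c10, .c15⟩ ⟨.c6, .c3, .c0⟩ ⟨.c5, .c13, .c2⟩ ⟨.c4, .c11, .c17⟩ ⟨.c4, .c12, .c0⟩ ⟨.c4, .c11, .c1⟩ ⟨.c6, .c3, .c4⟩ ⟨.c6, .c3, .c5⟩ ⟨.c5, .c13, .c10⟩ ⟨.c4, .c11, .c4⟩ ⟨.c4, .c11, .c5⟩ ⟨.c6, .c3, .c9⟩ ⟨.c6, .c3, .c10⟩ ⟨.c6, .c3, .c11⟩ ⟨.c6, .c3, .c3⟩ ⟨.c4, .c12, .c11⟩ ⟨.c4, .c12, .c12⟩ ⟨.c4, .c12, .c13⟩) (@D3.rec (fun _ => Pt) ⟨.c4, .c12, .c14⟩ ⟨.c4, .c11, .c11⟩ ⟨.c6, .c3, .c14⟩ ⟨.c4, .c11, .c14⟩ ⟨.c4, .c11, .c15⟩ ⟨.c6, .c3, .c15⟩ ⟨.c6, .c3,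 .c16⟩ ⟨.c6, .c3, .c17⟩ ⟨.c4, .c12, .c4⟩ ⟨.c4, .c12, .c8⟩ ⟨.c4, .c12, .c9⟩ ⟨.c4, .c12, .c10⟩ ⟨.c4, .c13, .c2⟩ ⟨.c6, .c4, .c1⟩ ⟨.c6, .c4, .c2⟩ ⟨.c6, .c4, .c0⟩ ⟨.c4, .c12, .c17⟩ ⟨.c4, .c13, .c3⟩) (@D3.rec (fun _ => Pt) ⟨.c6, .c4, .c3⟩ ⟨.c6, .c4, .c4⟩ ⟨.c5, .c9, .c2⟩ ⟨.c4, .c14, .c6⟩ ⟨.c4, .c14, .c7⟩ ⟨.c4, .c13, .c16⟩ ⟨.c4, .c14, .c11⟩ ⟨.c4, .c14, .c10⟩ ⟨.c4, .c14, .c5⟩ ⟨.c5, .c9, .c9⟩ ⟨.c6, .c4, .c11⟩ ⟨.c5, .c9, .c11⟩ ⟨.c5, .c9, .c12⟩ ⟨.c5, .c9, .c13⟩ ⟨.c4, .c14, .c17⟩ ⟨.c6, .c5, .c1⟩ ⟨.c5, .c9, .c16⟩ ⟨.c5, .c0, .c15⟩) (@D3.rec (fun _ => Pt) ⟨.c5, .c0,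 .c16⟩ ⟨.c6, .c5, .c7⟩ ⟨.c5, .c10, .c2⟩ ⟨.c5, .c0, .c4⟩ ⟨.c6, .c5, .c11⟩ ⟨.c6, .c5, .c12⟩ ⟨.c5, .c10, .c6⟩ ⟨.c5, .c1, .c5⟩ ⟨.c5, .c1, .c6⟩ ⟨.c5, .c1, .c7⟩ ⟨.c5, .c1, .c8⟩ ⟨.c5, .c10, .c11⟩ ⟨.c6, .c6, .c4⟩ ⟨.c5, .c10, .c13⟩ ⟨.c6, .c6, .c7⟩ ⟨.c5, .c10, .c15⟩ ⟨.c5, .c0, .c13⟩ ⟨.c6, .c6, .c10⟩) (@D3.rec (fun _ => Pt) ⟨.c6, .c6, .c11⟩ ⟨.c6, .c5, .c4⟩ ⟨.c6, .c5, .c5⟩ ⟨.c6, .c5, .c6⟩ ⟨.c5, .c0, .c17⟩ ⟨.c6, .c7, .c0⟩ ⟨.c6, .c7, .c1⟩ ⟨.c5, .c11, .c7⟩ ⟨.c5, .c1, .c2⟩ ⟨.c5, .c1, .c3⟩ ⟨.c6, .c7, .c6⟩ ⟨.c6, .c7, .c7⟩ ⟨.c6, .c7, .c8⟩ ⟨.c6, .c7, .c10⟩ ⟨.c6, .c5, .c17⟩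 ⟨.c6, .c6, .c0⟩ ⟨.c6, .c6, .c1⟩ ⟨.c6, .c6, .c2⟩) (@D3.rec (fun _ => Pt) ⟨.c5, .c5, .c2⟩ ⟨.c5, .c1, .c12⟩ ⟨.c6, .c8, .c3⟩ ⟨.c5, .c1, .c15⟩ ⟨.c6, .c8, .c4⟩ ⟨.c5, .c2, .c4⟩ ⟨.c5, .c2, .c3⟩ ⟨.c5, .c2, .c2⟩ ⟨.c6, .c8, .c6⟩ ⟨.c6, .c8, .c5⟩ ⟨.c5, .c5, .c6⟩ ⟨.c5, .c12, .c11⟩ ⟨.c5, .c12, .c12⟩ ⟨.c6, .c8, .c11⟩ ⟨.c5, .c12, .c14⟩ ⟨.c5, .c12, .c15⟩ ⟨.c5, .c2, .c12⟩ ⟨.c5, .c2, .c13⟩) (@D3.rec (fun _ => Pt) ⟨.c6, .c8, .c16⟩ ⟨.c6, .c8, .c17⟩ ⟨.c5, .c7, .c2⟩ ⟨.c5, .c3, .c16⟩ ⟨.c5, .c3, .c17⟩ ⟨.c5, .c4, .c0⟩ ⟨.c5, .c4, .c1⟩ ⟨.c5, .c3, .c0⟩ ⟨.c6, .c9, .c9⟩ ⟨.c6, .c9,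 .c10⟩ ⟨.c5, .c7, .c8⟩ ⟨.c5, .c3, .c3⟩ ⟨.c5, .c3, .c4⟩ ⟨.c6, .c9, .c15⟩ ⟨.c6, .c9, .c16⟩ ⟨.c6, .c9, .c17⟩ ⟨.c6, .c10, .c1⟩ ⟨.c5, .c4, .c12⟩) (@D3.rec (fun _ => Pt) ⟨.c5, .c4, .c13⟩ ⟨.c5, .c4, .c14⟩ ⟨.c5, .c4, .c15⟩ ⟨.c5, .c3, .c10⟩ ⟨.c6, .c10, .c12⟩ ⟨.c6, .c10, .c13⟩ ⟨.c5, .c3, .c13⟩ ⟨.c5, .c3, .c14⟩ ⟨.c6, .c10, .c17⟩ ⟨.c6, .c11, .c0⟩ ⟨.c6, .c11, .c1⟩ ⟨.c6, .c11, .c3⟩ ⟨.c6, .c9, .c4⟩ ⟨.c6, .c9, .c5⟩ ⟨.c6, .c9, .c6⟩ ⟨.c6, .c9, .c7⟩ ⟨.c5, .c14, .c16⟩ ⟨.c5, .c4, .c3⟩)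
def f_c_6 : D2 → D3 → Pt := @D2.rec (fun _ => D3 → Pt) (@D3.rec (fun _ => Pt) ⟨.c5, .c4, .c4⟩ ⟨.c6, .c11, .c13⟩ ⟨.c6, .c11, .c14⟩ ⟨.c6, .c11, .c15⟩ ⟨.c6, .c11, .c16⟩ ⟨.c5, .c4, .c8⟩ ⟨.c5, .c4, .c9⟩ ⟨.c5, .c4, .c10⟩ ⟨.c5, .c6, .c3⟩ ⟨.c5, .c4, .c11⟩ ⟨.c6, .c12, .c4⟩ ⟨.c6, .c12, .c5⟩ ⟨.c6, .c12, .c6⟩ ⟨.c6, .c12, .c8⟩ ⟨.c6, .c10, .c6⟩ ⟨.c6, .c10, .c7⟩ ⟨.c6, .c12, .c17⟩ ⟨.c6, .c10, .c9⟩) (@D3.rec (fun _ => Pt) ⟨.c6, .c10, .c10⟩ ⟨.c5, .c5, .c9⟩ ⟨.c5, .c5, .c0⟩ ⟨.c5, .c5, .c5⟩ ⟨.c6, .c8, .c2⟩ ⟨.c6, .c8, .c8⟩ ⟨.c6, .c12, .c3⟩ ⟨.c5, .c5, .c10⟩ ⟨.c6, .c13, .c4⟩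 ⟨.c5, .c5, .c11⟩ ⟨.c5, .c5, .c14⟩ ⟨.c5, .c5, .c15⟩ ⟨.c5, .c5, .c16⟩ ⟨.c5, .c5, .c17⟩ ⟨.c6, .c13, .c6⟩ ⟨.c6, .c13, .c7⟩ ⟨.c6, .c13, .c8⟩ ⟨.c6, .c13, .c9⟩) (@D3.rec (fun _ => Pt) ⟨.c5, .c6, .c5⟩ ⟨.c5, .c6, .c6⟩ ⟨.c5, .c6, .c7⟩ ⟨.c6, .c12, .c7⟩ ⟨.c5, .c6, .c8⟩ ⟨.c6, .c12, .c9⟩ ⟨.c6, .c12, .c10⟩ ⟨.c6, .c13, .c14⟩ ⟨.c6, .c14, .c6⟩ ⟨.c6, .c13, .c16⟩ ⟨.c6, .c14, .c0⟩ ⟨.c6, .c2, .c11⟩ ⟨.c5, .c6, .c10⟩ ⟨.c6, .c14, .c9⟩ ⟨.c6, .c14, .c10⟩ ⟨.c5, .c6, .c15⟩ ⟨.c6, .c14, .c11⟩ ⟨.c6, .c2, .c17⟩) (@D3.rec (fun _ => Pt) ⟨.c5, .c7, .c1⟩ ⟨.c6, .c14, .c13⟩ ⟨.c6, .c14, .c14⟩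 ⟨.c5, .c7, .c14⟩ ⟨.c5, .c7, .c6⟩ ⟨.c5, .c7, .c7⟩ ⟨.c6, .c14, .c16⟩ ⟨.c6, .c14, .c17⟩ ⟨.c7, .c0, .c0⟩ ⟨.c5, .c7, .c11⟩ ⟨.c5, .c7, .c12⟩ ⟨.c5, .c7, .c13⟩ ⟨.c6, .c3, .c12⟩ ⟨.c6, .c14, .c15⟩ ⟨.c5, .c8, .c2⟩ ⟨.c5, .c8, .c5⟩ ⟨.c5, .c8, .c6⟩ ⟨.c5, .c8, .c7⟩) (@D3.rec (fun _ => Pt) ⟨.c5, .c8, .c15⟩ ⟨.c5, .c8, .c13⟩ ⟨.c5, .c8, .c14⟩ ⟨.c5, .c9, .c0⟩ ⟨.c5, .c9, .c1⟩ ⟨.c7, .c0, .c4⟩ ⟨.c7, .c0, .c6⟩ ⟨.c7, .c0, .c7⟩ ⟨.c7, .c0, .c8⟩ ⟨.c7, .c0, .c12⟩ ⟨.c6, .c4, .c10⟩ ⟨.c5, .c9, .c10⟩ ⟨.c7, .c0, .c16⟩ ⟨.c7, .c0, .c17⟩ ⟨.c6, .c4, .c14⟩ ⟨.c6, .c4, .c15⟩ ⟨.c6, .c4, .c16⟩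 ⟨.c6, .c4, .c17⟩) (@D3.rec (fun _ => Pt) ⟨.c6, .c5, .c0⟩ ⟨.c5, .c9, .c15⟩ ⟨.c7, .c1, .c8⟩ ⟨.c7, .c1, .c9⟩ ⟨.c5, .c11, .c1⟩ ⟨.c5, .c11, .c2⟩ ⟨.c5, .c11, .c3⟩ ⟨.c5, .c10, .c1⟩ ⟨.c7, .c1, .c16⟩ ⟨.c7, .c1, .c17⟩ ⟨.c6, .c5, .c10⟩ ⟨.c5, .c10, .c4⟩ ⟨.c5, .c10, .c5⟩ ⟨.c7, .c2, .c4⟩ ⟨.c7, .c2, .c5⟩ ⟨.c7, .c2, .c6⟩ ⟨.c7, .c2, .c8⟩ ⟨.c5, .c11, .c14⟩) (@D3.rec (fun _ => Pt) ⟨.c5, .c11, .c15⟩ ⟨.c5, .c11, .c16⟩ ⟨.c5, .c11, .c17⟩ ⟨.c7, .c3, .c0⟩ ⟨.c5, .c10, .c12⟩ ⟨.c7, .c3, .c2⟩ ⟨.c6, .c6, .c6⟩ ⟨.c5, .c10, .c14⟩ ⟨.c7, .c3, .c5⟩ ⟨.c7, .c3, .c6⟩ ⟨.c5, .c10, .c17⟩ ⟨.c5,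 .c11, .c0⟩ ⟨.c7, .c3, .c10⟩ ⟨.c7, .c3, .c11⟩ ⟨.c7, .c3, .c13⟩ ⟨.c7, .c1, .c13⟩ ⟨.c7, .c1, .c14⟩ ⟨.c6, .c6, .c17⟩) (@D3.rec (fun _ => Pt) ⟨.c5, .c11, .c5⟩ ⟨.c5, .c11, .c6⟩ ⟨.c7, .c4, .c1⟩ ⟨.c7, .c4, .c2⟩ ⟨.c7, .c4, .c3⟩ ⟨.c7, .c4, .c5⟩ ⟨.c5, .c11, .c10⟩ ⟨.c5, .c11, .c11⟩ ⟨.c5, .c11, .c12⟩ ⟨.c6, .c7, .c9⟩ ⟨.c5, .c11, .c13⟩ ⟨.c7, .c4, .c11⟩ ⟨.c7, .c4, .c12⟩ ⟨.c7, .c4, .c13⟩ ⟨.c7, .c4, .c15⟩ ⟨.c7, .c2, .c13⟩ ⟨.c7, .c2, .c14⟩ ⟨.c7, .c5, .c8⟩) (@D3.rec (fun _ => Pt) ⟨.c7, .c2, .c16⟩ ⟨.c7, .c2, .c17⟩ ⟨.c6, .c1, .c4⟩ ⟨.c5, .c12, .c2⟩ ⟨.c5, .c12, .c4⟩ ⟨.c5, .c12,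 .c9⟩ ⟨.c5, .c12, .c8⟩ ⟨.c7, .c4, .c10⟩ ⟨.c6, .c1, .c5⟩ ⟨.c7, .c5, .c14⟩ ⟨.c7, .c5, .c15⟩ ⟨.c5, .c12, .c13⟩ ⟨.c6, .c8, .c12⟩ ⟨.c6, .c8, .c13⟩ ⟨.c6, .c8, .c14⟩ ⟨.c6, .c8, .c15⟩ ⟨.c5, .c13, .c0⟩ ⟨.c5, .c13, .c1⟩) (@D3.rec (fun _ => Pt) ⟨.c7, .c6, .c3⟩ ⟨.c7, .c6, .c4⟩ ⟨.c7, .c6, .c5⟩ ⟨.c7, .c6, .c6⟩ ⟨.c5, .c14, .c12⟩ ⟨.c5, .c14, .c13⟩ ⟨.c5, .c14, .c14⟩ ⟨.c5, .c14, .c15⟩ ⟨.c6, .c9, .c8⟩ ⟨.c5, .c13, .c8⟩ ⟨.c5, .c13, .c9⟩ ⟨.c7, .c6, .c17⟩ ⟨.c7, .c7, .c0⟩ ⟨.c7, .c7, .c1⟩ ⟨.c7, .c7, .c3⟩ ⟨.c5, .c13, .c13⟩ ⟨.c5, .c13, .c14⟩ ⟨.c5, .c13, .c15⟩) (@D3.rec (fun _ =>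 Pt) ⟨.c6, .c10, .c0⟩ ⟨.c5, .c13, .c16⟩ ⟨.c7, .c7, .c9⟩ ⟨.c7, .c7, .c10⟩ ⟨.c7, .c7, .c11⟩ ⟨.c7, .c7, .c13⟩ ⟨.c6, .c0, .c14⟩ ⟨.c6, .c0, .c15⟩ ⟨.c7, .c8, .c6⟩ ⟨.c6, .c0, .c17⟩ ⟨.c6, .c1, .c0⟩ ⟨.c6, .c10, .c11⟩ ⟨.c5, .c14, .c4⟩ ⟨.c5, .c14, .c5⟩ ⟨.c7, .c8, .c9⟩ ⟨.c7, .c8, .c10⟩ ⟨.c7, .c8, .c11⟩ ⟨.c5, .c14, .c8⟩) (@D3.rec (fun _ => Pt) ⟨.c5, .c14, .c9⟩ ⟨.c5, .c14, .c10⟩ ⟨.c6, .c11, .c2⟩ ⟨.c5, .c14, .c11⟩ ⟨.c7, .c8, .c15⟩ ⟨.c7, .c8, .c16⟩ ⟨.c7, .c8, .c17⟩ ⟨.c7, .c9, .c1⟩ ⟨.c7, .c6, .c11⟩ ⟨.c7, .c8, .c3⟩ ⟨.c7, .c6, .c13⟩ ⟨.c7, .c6, .c14⟩ ⟨.c6, .c11, .c12⟩ ⟨.c6,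 .c0, .c1⟩ ⟨.c6, .c0, .c2⟩ ⟨.c6, .c0, .c3⟩ ⟨.c6, .c0, .c4⟩ ⟨.c7, .c8, .c14⟩) (@D3.rec (fun _ => Pt) ⟨.c7, .c9, .c11⟩ ⟨.c7, .c9, .c12⟩ ⟨.c7, .c9, .c13⟩ ⟨.c6, .c1, .c6⟩ ⟨.c6, .c0, .c10⟩ ⟨.c6, .c0, .c11⟩ ⟨.c6, .c0, .c12⟩ ⟨.c6, .c2, .c3⟩ ⟨.c6, .c0, .c13⟩ ⟨.c6, .c2, .c5⟩ ⟨.c6, .c2, .c6⟩ ⟨.c7, .c10, .c1⟩ ⟨.c7, .c10, .c2⟩ ⟨.c7, .c10, .c12⟩ ⟨.c7, .c10, .c4⟩ ⟨.c7, .c10, .c6⟩ ⟨.c7, .c8, .c5⟩ ⟨.c6, .c0, .c16⟩) (@D3.rec (fun _ => Pt) ⟨.c7, .c10, .c15⟩ ⟨.c7, .c10, .c16⟩ ⟨.c7, .c10, .c0⟩ ⟨.c7, .c11, .c1⟩ ⟨.c6, .c1, .c8⟩ ⟨.c7, .c11, .c2⟩ ⟨.c6, .c1, .c14⟩ ⟨.c6, .c1,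 .c15⟩ ⟨.c6, .c1, .c16⟩ ⟨.c6, .c1, .c17⟩ ⟨.c7, .c11, .c4⟩ ⟨.c7, .c11, .c9⟩ ⟨.c7, .c11, .c6⟩ ⟨.c7, .c11, .c7⟩ ⟨.c6, .c2, .c7⟩ ⟨.c7, .c11, .c13⟩ ⟨.c6, .c2, .c9⟩ ⟨.c7, .c10, .c5⟩) (@D3.rec (fun _ => Pt) ⟨.c6, .c2, .c10⟩ ⟨.c7, .c10, .c7⟩ ⟨.c7, .c10, .c8⟩ ⟨.c7, .c10, .c9⟩ ⟨.c7, .c10, .c10⟩ ⟨.c7, .c11, .c12⟩ ⟨.c6, .c2, .c8⟩ ⟨.c7, .c12, .c5⟩ ⟨.c7, .c12, .c4⟩ ⟨.c6, .c2, .c13⟩ ⟨.c6, .c2, .c14⟩ ⟨.c6, .c2, .c16⟩ ⟨.c7, .c12, .c8⟩ ⟨.c6, .c3, .c1⟩ ⟨.c6, .c3, .c2⟩ ⟨.c6, .c3, .c13⟩ ⟨.c6, .c3, .c6⟩ ⟨.c6, .c3, .c7⟩)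
def f_c_7 : D2 → D3 → Pt := @D2.rec (fun _ => D3 → Pt) (@D3.rec (fun _ => Pt) ⟨.c6, .c3, .c8⟩ ⟨.c7, .c0, .c1⟩ ⟨.c7, .c0, .c2⟩ ⟨.c7, .c0, .c3⟩ ⟨.c6, .c4, .c5⟩ ⟨.c7, .c0, .c5⟩ ⟨.c6, .c4, .c6⟩ ⟨.c6, .c4, .c7⟩ ⟨.c6, .c4, .c8⟩ ⟨.c7, .c12, .c14⟩ ⟨.c7, .c12, .c16⟩ ⟨.c7, .c12, .c17⟩ ⟨.c6, .c4, .c9⟩ ⟨.c7, .c13, .c2⟩ ⟨.c7, .c13, .c3⟩ ⟨.c7, .c0, .c15⟩ ⟨.c6, .c4, .c12⟩ ⟨.c6, .c4, .c13⟩) (@D3.rec (fun _ => Pt) ⟨.c7, .c13, .c5⟩ ⟨.c7, .c13, .c4⟩ ⟨.c7, .c13, .c8⟩ ⟨.c7, .c13, .c10⟩ ⟨.c7, .c1, .c4⟩ ⟨.c7, .c1, .c5⟩ ⟨.c7, .c1, .c6⟩ ⟨.c7, .c1, .c7⟩ ⟨.c6, .c5, .c2⟩ ⟨.c6,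 .c5, .c3⟩ ⟨.c7, .c14, .c0⟩ ⟨.c7, .c14, .c1⟩ ⟨.c7, .c14, .c3⟩ ⟨.c6, .c6, .c15⟩ ⟨.c6, .c6, .c16⟩ ⟨.c7, .c1, .c15⟩ ⟨.c6, .c5, .c8⟩ ⟨.c6, .c5, .c9⟩) (@D3.rec (fun _ => Pt) ⟨.c7, .c14, .c10⟩ ⟨.c7, .c14, .c11⟩ ⟨.c7, .c14, .c12⟩ ⟨.c7, .c14, .c14⟩ ⟨.c6, .c5, .c13⟩ ⟨.c6, .c5, .c14⟩ ⟨.c6, .c5, .c15⟩ ⟨.c7, .c13, .c9⟩ ⟨.c6, .c5, .c16⟩ ⟨.c8, .c0, .c2⟩ ⟨.c8, .c0, .c3⟩ ⟨.c8, .c0, .c4⟩ ⟨.c8, .c0, .c6⟩ ⟨.c6, .c7, .c15⟩ ⟨.c6, .c7, .c16⟩ ⟨.c8, .c0, .c17⟩ ⟨.c6, .c8, .c0⟩ ⟨.c6, .c8, .c1⟩) (@D3.rec (fun _ => Pt) ⟨.c6, .c6, .c3⟩ ⟨.c8, .c1, .c2⟩ ⟨.c6, .c6, .c5⟩ ⟨.c8, .c1, .c5⟩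 ⟨.c7, .c3, .c4⟩ ⟨.c6, .c6, .c8⟩ ⟨.c6, .c6, .c9⟩ ⟨.c8, .c1, .c8⟩ ⟨.c8, .c1, .c9⟩ ⟨.c8, .c1, .c11⟩ ⟨.c6, .c6, .c12⟩ ⟨.c6, .c6, .c13⟩ ⟨.c8, .c1, .c4⟩ ⟨.c6, .c6, .c14⟩ ⟨.c8, .c1, .c15⟩ ⟨.c8, .c1, .c17⟩ ⟨.c7, .c14, .c7⟩ ⟨.c7, .c3, .c17⟩) (@D3.rec (fun _ => Pt) ⟨.c7, .c4, .c0⟩ ⟨.c6, .c7, .c2⟩ ⟨.c6, .c7, .c3⟩ ⟨.c6, .c7, .c4⟩ ⟨.c7, .c4, .c4⟩ ⟨.c6, .c7, .c5⟩ ⟨.c8, .c2, .c8⟩ ⟨.c8, .c2, .c9⟩ ⟨.c8, .c2, .c10⟩ ⟨.c8, .c2, .c12⟩ ⟨.c6, .c8, .c7⟩ ⟨.c6, .c7, .c11⟩ ⟨.c6, .c7, .c12⟩ ⟨.c6, .c7, .c13⟩ ⟨.c7, .c4, .c14⟩ ⟨.c6, .c7, .c14⟩ ⟨.c7, .c4, .c16⟩ ⟨.c7, .c4, .c17⟩) (@D3.rec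 (fun _ => Pt) ⟨.c8, .c3, .c2⟩ ⟨.c8, .c3, .c3⟩ ⟨.c8, .c3, .c16⟩ ⟨.c8, .c3, .c5⟩ ⟨.c8, .c3, .c7⟩ ⟨.c8, .c0, .c14⟩ ⟨.c8, .c4, .c1⟩ ⟨.c8, .c0, .c16⟩ ⟨.c6, .c7, .c17⟩ ⟨.c8, .c4, .c4⟩ ⟨.c8, .c1, .c14⟩ ⟨.c8, .c2, .c7⟩ ⟨.c8, .c3, .c0⟩ ⟨.c8, .c3, .c1⟩ ⟨.c6, .c8, .c9⟩ ⟨.c6, .c8, .c10⟩ ⟨.c8, .c4, .c7⟩ ⟨.c7, .c5, .c17⟩) (@D3.rec (fun _ => Pt) ⟨.c7, .c6, .c0⟩ ⟨.c7, .c6, .c1⟩ ⟨.c7, .c6, .c2⟩ ⟨.c6, .c9, .c0⟩ ⟨.c6, .c9, .c1⟩ ⟨.c6, .c9, .c2⟩ ⟨.c6, .c9, .c3⟩ ⟨.c8, .c4, .c15⟩ ⟨.c8, .c4, .c16⟩ ⟨.c8, .c4, .c17⟩ ⟨.c8, .c5, .c0⟩ ⟨.c6, .c11, .c8⟩ ⟨.c8, .c5, .c7⟩ ⟨.c6, .c11,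 .c10⟩ ⟨.c6, .c11, .c11⟩ ⟨.c7, .c6, .c15⟩ ⟨.c7, .c6, .c16⟩ ⟨.c6, .c9, .c11⟩) (@D3.rec (fun _ => Pt) ⟨.c6, .c9, .c12⟩ ⟨.c6, .c9, .c13⟩ ⟨.c7, .c7, .c2⟩ ⟨.c6, .c9, .c14⟩ ⟨.c8, .c5, .c13⟩ ⟨.c8, .c5, .c14⟩ ⟨.c8, .c5, .c15⟩ ⟨.c8, .c5, .c17⟩ ⟨.c7, .c7, .c8⟩ ⟨.c6, .c10, .c2⟩ ⟨.c6, .c10, .c3⟩ ⟨.c6, .c10, .c4⟩ ⟨.c7, .c7, .c12⟩ ⟨.c6, .c10, .c5⟩ ⟨.c7, .c7, .c14⟩ ⟨.c7, .c7, .c15⟩ ⟨.c8, .c6, .c8⟩ ⟨.c8, .c6, .c9⟩) (@D3.rec (fun _ => Pt) ⟨.c8, .c7, .c3⟩ ⟨.c8, .c6, .c11⟩ ⟨.c8, .c6, .c13⟩ ⟨.c6, .c11, .c9⟩ ⟨.c7, .c14, .c6⟩ ⟨.c6, .c12, .c16⟩ ⟨.c6, .c10, .c8⟩ ⟨.c8, .c7, .c8⟩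 ⟨.c7, .c8, .c8⟩ ⟨.c6, .c10, .c14⟩ ⟨.c6, .c10, .c15⟩ ⟨.c6, .c10, .c16⟩ ⟨.c8, .c7, .c10⟩ ⟨.c8, .c7, .c11⟩ ⟨.c6, .c11, .c17⟩ ⟨.c6, .c11, .c4⟩ ⟨.c6, .c11, .c5⟩ ⟨.c6, .c11, .c6⟩) (@D3.rec (fun _ => Pt) ⟨.c7, .c9, .c0⟩ ⟨.c6, .c11, .c7⟩ ⟨.c7, .c9, .c2⟩ ⟨.c8, .c7, .c14⟩ ⟨.c8, .c8, .c4⟩ ⟨.c8, .c7, .c16⟩ ⟨.c8, .c8, .c0⟩ ⟨.c8, .c5, .c6⟩ ⟨.c8, .c7, .c5⟩ ⟨.c7, .c9, .c9⟩ ⟨.c7, .c9, .c10⟩ ⟨.c6, .c12, .c0⟩ ⟨.c6, .c12, .c1⟩ ⟨.c6, .c12, .c2⟩ ⟨.c8, .c7, .c13⟩ ⟨.c8, .c8, .c10⟩ ⟨.c8, .c8, .c7⟩ ⟨.c8, .c8, .c8⟩) (@D3.rec (fun _ => Pt) ⟨.c6, .c13, .c2⟩ ⟨.c6, .c12, .c11⟩ ⟨.c6,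 .c12, .c12⟩ ⟨.c8, .c8, .c16⟩ ⟨.c6, .c12, .c14⟩ ⟨.c6, .c13, .c17⟩ ⟨.c6, .c12, .c15⟩ ⟨.c6, .c14, .c1⟩ ⟨.c6, .c14, .c2⟩ ⟨.c6, .c14, .c3⟩ ⟨.c6, .c14, .c4⟩ ⟨.c8, .c8, .c15⟩ ⟨.c6, .c12, .c13⟩ ⟨.c8, .c9, .c8⟩ ⟨.c8, .c9, .c7⟩ ⟨.c6, .c13, .c0⟩ ⟨.c6, .c13, .c1⟩ ⟨.c8, .c9, .c12⟩) (@D3.rec (fun _ => Pt) ⟨.c8, .c8, .c13⟩ ⟨.c6, .c13, .c3⟩ ⟨.c6, .c13, .c5⟩ ⟨.c8, .c9, .c15⟩ ⟨.c6, .c13, .c10⟩ ⟨.c8, .c10, .c0⟩ ⟨.c6, .c13, .c12⟩ ⟨.c6, .c13, .c13⟩ ⟨.c8, .c9, .c17⟩ ⟨.c6, .c13, .c11⟩ ⟨.c8, .c10, .c3⟩ ⟨.c8, .c1, .c16⟩ ⟨.c6, .c14, .c5⟩ ⟨.c6, .c13, .c15⟩ ⟨.c8, .c10, .c7⟩ ⟨.c8,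 .c10, .c8⟩ ⟨.c8, .c9, .c1⟩ ⟨.c8, .c9, .c2⟩) (@D3.rec (fun _ => Pt) ⟨.c8, .c9, .c3⟩ ⟨.c8, .c9, .c4⟩ ⟨.c8, .c9, .c5⟩ ⟨.c8, .c9, .c6⟩ ⟨.c6, .c14, .c8⟩ ⟨.c6, .c14, .c7⟩ ⟨.c8, .c10, .c16⟩ ⟨.c7, .c12, .c7⟩ ⟨.c6, .c14, .c12⟩ ⟨.c7, .c12, .c9⟩ ⟨.c7, .c12, .c10⟩ ⟨.c7, .c12, .c11⟩ ⟨.c7, .c12, .c12⟩ ⟨.c7, .c12, .c13⟩ ⟨.c7, .c0, .c9⟩ ⟨.c7, .c12, .c15⟩ ⟨.c7, .c0, .c10⟩ ⟨.c7, .c0, .c11⟩) (@D3.rec (fun _ => Pt) ⟨.c8, .c11, .c5⟩ ⟨.c7, .c13, .c1⟩ ⟨.c7, .c0, .c13⟩ ⟨.c7, .c0, .c14⟩ ⟨.c7, .c1, .c1⟩ ⟨.c7, .c1, .c0⟩ ⟨.c8, .c11, .c7⟩ ⟨.c8, .c11, .c9⟩ ⟨.c7, .c1, .c2⟩ ⟨.c7, .c2,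 .c7⟩ ⟨.c7, .c1, .c3⟩ ⟨.c8, .c11, .c11⟩ ⟨.c8, .c11, .c10⟩ ⟨.c8, .c11, .c14⟩ ⟨.c7, .c13, .c14⟩ ⟨.c8, .c12, .c4⟩ ⟨.c7, .c13, .c16⟩ ⟨.c7, .c13, .c17⟩) (@D3.rec (fun _ => Pt) ⟨.c7, .c1, .c10⟩ ⟨.c7, .c1, .c11⟩ ⟨.c7, .c14, .c2⟩ ⟨.c7, .c1, .c12⟩ ⟨.c8, .c12, .c7⟩ ⟨.c8, .c12, .c9⟩ ⟨.c7, .c8, .c4⟩ ⟨.c7, .c3, .c16⟩ ⟨.c7, .c14, .c8⟩ ⟨.c7, .c14, .c9⟩ ⟨.c7, .c2, .c0⟩ ⟨.c7, .c2, .c1⟩ ⟨.c7, .c2, .c2⟩ ⟨.c8, .c11, .c8⟩ ⟨.c7, .c2, .c3⟩ ⟨.c8, .c13, .c2⟩ ⟨.c8, .c13, .c3⟩ ⟨.c8, .c13, .c4⟩)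
def f_c_8 : D2 → D3 → Pt := @D2.rec (fun _ => D3 → Pt) (@D3.rec (fun _ => Pt) ⟨.c8, .c13, .c6⟩ ⟨.c8, .c0, .c1⟩ ⟨.c7, .c2, .c9⟩ ⟨.c7, .c2, .c10⟩ ⟨.c7, .c2, .c11⟩ ⟨.c8, .c11, .c13⟩ ⟨.c7, .c2, .c12⟩ ⟨.c8, .c11, .c15⟩ ⟨.c8, .c11, .c16⟩ ⟨.c8, .c13, .c16⟩ ⟨.c8, .c13, .c17⟩ ⟨.c8, .c14, .c12⟩ ⟨.c8, .c14, .c1⟩ ⟨.c8, .c14, .c3⟩ ⟨.c7, .c5, .c5⟩ ⟨.c8, .c14, .c16⟩ ⟨.c7, .c5, .c7⟩ ⟨.c7, .c2, .c15⟩) (@D3.rec (fun _ => Pt) ⟨.c9, .c0, .c1⟩ ⟨.c8, .c1, .c1⟩ ⟨.c7, .c3, .c1⟩ ⟨.c9, .c0, .c5⟩ ⟨.c7, .c3, .c12⟩ ⟨.c7, .c3, .c3⟩ ⟨.c8, .c1, .c6⟩ ⟨.c8, .c1, .c7⟩ ⟨.c7, .c3, .c7⟩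 ⟨.c7, .c3, .c8⟩ ⟨.c9, .c0, .c4⟩ ⟨.c7, .c3, .c9⟩ ⟨.c9, .c0, .c11⟩ ⟨.c9, .c0, .c13⟩ ⟨.c7, .c5, .c10⟩ ⟨.c7, .c3, .c14⟩ ⟨.c7, .c11, .c11⟩ ⟨.c7, .c3, .c15⟩) (@D3.rec (fun _ => Pt) ⟨.c9, .c0, .c6⟩ ⟨.c9, .c0, .c7⟩ ⟨.c9, .c1, .c0⟩ ⟨.c8, .c2, .c3⟩ ⟨.c8, .c2, .c4⟩ ⟨.c8, .c2, .c5⟩ ⟨.c8, .c2, .c6⟩ ⟨.c7, .c5, .c11⟩ ⟨.c7, .c4, .c6⟩ ⟨.c7, .c4, .c7⟩ ⟨.c7, .c4, .c8⟩ ⟨.c8, .c2, .c11⟩ ⟨.c7, .c4, .c9⟩ ⟨.c8, .c2, .c13⟩ ⟨.c9, .c1, .c12⟩ ⟨.c9, .c2, .c3⟩ ⟨.c9, .c1, .c14⟩ ⟨.c9, .c1, .c16⟩) (@D3.rec (fun _ => Pt) ⟨.c7, .c5, .c12⟩ ⟨.c7, .c5, .c13⟩ ⟨.c7, .c5, .c0⟩ ⟨.c7, .c5, .c1⟩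 ⟨.c9, .c2, .c10⟩ ⟨.c7, .c5, .c3⟩ ⟨.c8, .c3, .c6⟩ ⟨.c7, .c5, .c4⟩ ⟨.c8, .c3, .c8⟩ ⟨.c8, .c3, .c9⟩ ⟨.c8, .c3, .c10⟩ ⟨.c8, .c3, .c11⟩ ⟨.c8, .c3, .c12⟩ ⟨.c9, .c2, .c7⟩ ⟨.c9, .c1, .c11⟩ ⟨.c9, .c2, .c9⟩ ⟨.c7, .c5, .c2⟩ ⟨.c9, .c3, .c6⟩) (@D3.rec (fun _ => Pt) ⟨.c8, .c14, .c15⟩ ⟨.c7, .c5, .c6⟩ ⟨.c9, .c3, .c8⟩ ⟨.c9, .c3, .c5⟩ ⟨.c7, .c5, .c9⟩ ⟨.c9, .c0, .c16⟩ ⟨.c9, .c2, .c6⟩ ⟨.c7, .c5, .c16⟩ ⟨.c9, .c1, .c6⟩ ⟨.c9, .c3, .c12⟩ ⟨.c8, .c4, .c10⟩ ⟨.c9, .c3, .c15⟩ ⟨.c8, .c4, .c12⟩ ⟨.c8, .c4, .c13⟩ ⟨.c8, .c4, .c14⟩ ⟨.c7, .c6, .c7⟩ ⟨.c7, .c6, .c8⟩ ⟨.c7, .c6, .c9⟩) (@D3.rec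 (fun _ => Pt) ⟨.c7, .c6, .c10⟩ ⟨.c9, .c4, .c0⟩ ⟨.c9, .c4, .c6⟩ ⟨.c9, .c4, .c2⟩ ⟨.c9, .c4, .c3⟩ ⟨.c8, .c14, .c14⟩ ⟨.c7, .c9, .c7⟩ ⟨.c7, .c6, .c12⟩ ⟨.c9, .c4, .c10⟩ ⟨.c8, .c5, .c9⟩ ⟨.c8, .c5, .c10⟩ ⟨.c8, .c5, .c11⟩ ⟨.c8, .c5, .c12⟩ ⟨.c7, .c7, .c4⟩ ⟨.c7, .c7, .c5⟩ ⟨.c7, .c7, .c6⟩ ⟨.c8, .c5, .c16⟩ ⟨.c7, .c7, .c7⟩) (@D3.rec (fun _ => Pt) ⟨.c8, .c6, .c0⟩ ⟨.c9, .c4, .c15⟩ ⟨.c9, .c4, .c16⟩ ⟨.c9, .c5, .c7⟩ ⟨.c9, .c5, .c0⟩ ⟨.c9, .c5, .c1⟩ ⟨.c8, .c6, .c6⟩ ⟨.c8, .c6, .c7⟩ ⟨.c7, .c7, .c16⟩ ⟨.c7, .c7, .c17⟩ ⟨.c9, .c5, .c14⟩ ⟨.c7, .c8, .c1⟩ ⟨.c8, .c6, .c12⟩ ⟨.c7, .c8,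 .c2⟩ ⟨.c8, .c6, .c14⟩ ⟨.c8, .c6, .c15⟩ ⟨.c8, .c6, .c16⟩ ⟨.c8, .c6, .c17⟩) (@D3.rec (fun _ => Pt) ⟨.c9, .c5, .c11⟩ ⟨.c9, .c6, .c5⟩ ⟨.c9, .c5, .c13⟩ ⟨.c7, .c8, .c0⟩ ⟨.c9, .c6, .c8⟩ ⟨.c7, .c9, .c8⟩ ⟨.c8, .c12, .c13⟩ ⟨.c9, .c6, .c7⟩ ⟨.c7, .c8, .c7⟩ ⟨.c9, .c6, .c13⟩ ⟨.c7, .c8, .c12⟩ ⟨.c7, .c8, .c13⟩ ⟨.c9, .c6, .c15⟩ ⟨.c7, .c9, .c14⟩ ⟨.c7, .c9, .c3⟩ ⟨.c9, .c7, .c2⟩ ⟨.c7, .c9, .c5⟩ ⟨.c8, .c7, .c17⟩) (@D3.rec (fun _ => Pt) ⟨.c7, .c9, .c6⟩ ⟨.c8, .c8, .c1⟩ ⟨.c8, .c8, .c2⟩ ⟨.c9, .c7, .c1⟩ ⟨.c7, .c9, .c4⟩ ⟨.c9, .c7, .c7⟩ ⟨.c9, .c7, .c8⟩ ⟨.c7, .c9, .c16⟩ ⟨.c7, .c9,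 .c17⟩ ⟨.c9, .c6, .c17⟩ ⟨.c7, .c9, .c15⟩ ⟨.c9, .c7, .c11⟩ ⟨.c9, .c7, .c12⟩ ⟨.c7, .c11, .c0⟩ ⟨.c9, .c0, .c17⟩ ⟨.c7, .c10, .c11⟩ ⟨.c7, .c10, .c3⟩ ⟨.c9, .c8, .c0⟩) (@D3.rec (fun _ => Pt) ⟨.c9, .c8, .c1⟩ ⟨.c7, .c11, .c16⟩ ⟨.c7, .c11, .c17⟩ ⟨.c7, .c12, .c0⟩ ⟨.c7, .c12, .c1⟩ ⟨.c7, .c12, .c2⟩ ⟨.c7, .c12, .c3⟩ ⟨.c7, .c10, .c14⟩ ⟨.c7, .c10, .c13⟩ ⟨.c9, .c8, .c7⟩ ⟨.c9, .c8, .c10⟩ ⟨.c8, .c9, .c11⟩ ⟨.c7, .c10, .c17⟩ ⟨.c9, .c8, .c14⟩ ⟨.c8, .c9, .c14⟩ ⟨.c7, .c11, .c3⟩ ⟨.c9, .c0, .c12⟩ ⟨.c7, .c11, .c8⟩) (@D3.rec (fun _ => Pt) ⟨.c7, .c11, .c5⟩ ⟨.c9, .c9, .c0⟩ ⟨.c8, .c10,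 .c2⟩ ⟨.c7, .c11, .c10⟩ ⟨.c9, .c1, .c1⟩ ⟨.c9, .c1, .c2⟩ ⟨.c8, .c10, .c6⟩ ⟨.c7, .c11, .c14⟩ ⟨.c7, .c11, .c15⟩ ⟨.c9, .c9, .c8⟩ ⟨.c9, .c9, .c9⟩ ⟨.c9, .c9, .c10⟩ ⟨.c9, .c8, .c5⟩ ⟨.c9, .c8, .c6⟩ ⟨.c9, .c8, .c8⟩ ⟨.c9, .c8, .c9⟩ ⟨.c7, .c12, .c6⟩ ⟨.c8, .c10, .c17⟩) (@D3.rec (fun _ => Pt) ⟨.c8, .c11, .c0⟩ ⟨.c8, .c11, .c1⟩ ⟨.c8, .c11, .c2⟩ ⟨.c8, .c11, .c3⟩ ⟨.c8, .c11, .c4⟩ ⟨.c7, .c13, .c0⟩ ⟨.c8, .c11, .c6⟩ ⟨.c7, .c13, .c6⟩ ⟨.c7, .c14, .c13⟩ ⟨.c7, .c13, .c7⟩ ⟨.c7, .c13, .c12⟩ ⟨.c7, .c13, .c11⟩ ⟨.c9, .c10, .c1⟩ ⟨.c8, .c0, .c5⟩ ⟨.c7, .c13, .c13⟩ ⟨.c8, .c0, .c7⟩ ⟨.c8,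 .c0, .c8⟩ ⟨.c9, .c10, .c12⟩) (@D3.rec (fun _ => Pt) ⟨.c9, .c10, .c6⟩ ⟨.c9, .c10, .c5⟩ ⟨.c9, .c10, .c14⟩ ⟨.c8, .c12, .c3⟩ ⟨.c7, .c13, .c15⟩ ⟨.c9, .c10, .c17⟩ ⟨.c8, .c12, .c6⟩ ⟨.c7, .c14, .c4⟩ ⟨.c8, .c12, .c8⟩ ⟨.c7, .c14, .c5⟩ ⟨.c8, .c12, .c10⟩ ⟨.c9, .c11, .c7⟩ ⟨.c9, .c11, .c3⟩ ⟨.c8, .c7, .c6⟩ ⟨.c8, .c12, .c14⟩ ⟨.c8, .c12, .c15⟩ ⟨.c8, .c12, .c16⟩ ⟨.c9, .c11, .c15⟩) (@D3.rec (fun _ => Pt) ⟨.c8, .c13, .c0⟩ ⟨.c8, .c13, .c1⟩ ⟨.c7, .c14, .c15⟩ ⟨.c7, .c14, .c16⟩ ⟨.c7, .c14, .c17⟩ ⟨.c9, .c10, .c0⟩ ⟨.c8, .c0, .c0⟩ ⟨.c9, .c10, .c2⟩ ⟨.c9, .c10, .c3⟩ ⟨.c9, .c12,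 .c1⟩ ⟨.c9, .c12, .c2⟩ ⟨.c9, .c12, .c13⟩ ⟨.c9, .c12, .c4⟩ ⟨.c9, .c12, .c5⟩ ⟨.c8, .c13, .c14⟩ ⟨.c8, .c13, .c15⟩ ⟨.c8, .c0, .c9⟩ ⟨.c8, .c0, .c10⟩) (@D3.rec (fun _ => Pt) ⟨.c9, .c13, .c3⟩ ⟨.c8, .c0, .c12⟩ ⟨.c9, .c10, .c4⟩ ⟨.c8, .c0, .c13⟩ ⟨.c9, .c10, .c7⟩ ⟨.c9, .c10, .c8⟩ ⟨.c9, .c10, .c9⟩ ⟨.c9, .c10, .c10⟩ ⟨.c9, .c10, .c11⟩ ⟨.c9, .c13, .c0⟩ ⟨.c9, .c12, .c6⟩ ⟨.c9, .c13, .c2⟩ ⟨.c8, .c0, .c11⟩ ⟨.c9, .c13, .c17⟩ ⟨.c8, .c5, .c5⟩ ⟨.c8, .c4, .c0⟩ ⟨.c8, .c0, .c15⟩ ⟨.c9, .c14, .c4⟩)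
def f_c_9 : D2 → D3 → Pt := @D2.rec (fun _ => D3 → Pt) (@D3.rec (fun _ => Pt) ⟨.c9, .c13, .c16⟩ ⟨.c8, .c1, .c0⟩ ⟨.c9, .c14, .c8⟩ ⟨.c9, .c0, .c3⟩ ⟨.c8, .c1, .c10⟩ ⟨.c8, .c1, .c3⟩ ⟨.c8, .c2, .c0⟩ ⟨.c8, .c2, .c1⟩ ⟨.c9, .c0, .c8⟩ ⟨.c9, .c0, .c9⟩ ⟨.c9, .c0, .c10⟩ ⟨.c8, .c1, .c12⟩ ⟨.c8, .c9, .c16⟩ ⟨.c8, .c1, .c13⟩ ⟨.c9, .c14, .c11⟩ ⟨.c10, .c0, .c0⟩ ⟨.c8, .c4, .c5⟩ ⟨.c8, .c8, .c14⟩) (@D3.rec (fun _ => Pt) ⟨.c8, .c2, .c2⟩ ⟨.c8, .c10, .c4⟩ ⟨.c8, .c10, .c5⟩ ⟨.c9, .c14, .c12⟩ ⟨.c9, .c14, .c13⟩ ⟨.c9, .c14, .c14⟩ ⟨.c8, .c4, .c8⟩ ⟨.c9, .c1, .c7⟩ ⟨.c9, .c1, .c8⟩ ⟨.c9,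 .c1, .c9⟩ ⟨.c9, .c1, .c10⟩ ⟨.c8, .c3, .c14⟩ ⟨.c8, .c2, .c14⟩ ⟨.c10, .c1, .c5⟩ ⟨.c8, .c2, .c16⟩ ⟨.c9, .c1, .c15⟩ ⟨.c8, .c2, .c17⟩ ⟨.c9, .c1, .c17⟩) (@D3.rec (fun _ => Pt) ⟨.c9, .c2, .c0⟩ ⟨.c9, .c2, .c1⟩ ⟨.c10, .c1, .c4⟩ ⟨.c8, .c2, .c15⟩ ⟨.c10, .c1, .c12⟩ ⟨.c10, .c1, .c3⟩ ⟨.c8, .c4, .c6⟩ ⟨.c8, .c3, .c13⟩ ⟨.c10, .c1, .c1⟩ ⟨.c8, .c3, .c15⟩ ⟨.c8, .c3, .c4⟩ ⟨.c10, .c2, .c2⟩ ⟨.c10, .c2, .c3⟩ ⟨.c9, .c2, .c13⟩ ⟨.c9, .c2, .c14⟩ ⟨.c9, .c2, .c15⟩ ⟨.c9, .c2, .c16⟩ ⟨.c9, .c2, .c17⟩) (@D3.rec (fun _ => Pt) ⟨.c9, .c3, .c0⟩ ⟨.c9, .c3, .c1⟩ ⟨.c9, .c3, .c2⟩ ⟨.c10, .c1,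 .c16⟩ ⟨.c10, .c1, .c2⟩ ⟨.c8, .c4, .c3⟩ ⟨.c8, .c3, .c17⟩ ⟨.c10, .c0, .c14⟩ ⟨.c8, .c4, .c2⟩ ⟨.c10, .c2, .c15⟩ ⟨.c10, .c2, .c16⟩ ⟨.c10, .c0, .c5⟩ ⟨.c8, .c4, .c9⟩ ⟨.c9, .c14, .c1⟩ ⟨.c9, .c3, .c14⟩ ⟨.c8, .c4, .c11⟩ ⟨.c10, .c3, .c3⟩ ⟨.c9, .c3, .c17⟩) (@D3.rec (fun _ => Pt) ⟨.c8, .c5, .c1⟩ ⟨.c10, .c3, .c9⟩ ⟨.c8, .c5, .c3⟩ ⟨.c8, .c5, .c4⟩ ⟨.c10, .c0, .c1⟩ ⟨.c10, .c3, .c8⟩ ⟨.c8, .c5, .c2⟩ ⟨.c10, .c3, .c13⟩ ⟨.c9, .c14, .c2⟩ ⟨.c10, .c3, .c12⟩ ⟨.c8, .c5, .c8⟩ ⟨.c10, .c4, .c0⟩ ⟨.c9, .c4, .c12⟩ ⟨.c9, .c4, .c13⟩ ⟨.c9, .c4, .c14⟩ ⟨.c8, .c6, .c1⟩ ⟨.c8, .c6, .c2⟩ ⟨.c10,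 .c4, .c8⟩) (@D3.rec (fun _ => Pt) ⟨.c8, .c6, .c4⟩ ⟨.c8, .c6, .c5⟩ ⟨.c9, .c5, .c2⟩ ⟨.c9, .c5, .c3⟩ ⟨.c10, .c4, .c5⟩ ⟨.c10, .c4, .c13⟩ ⟨.c10, .c4, .c7⟩ ⟨.c8, .c6, .c3⟩ ⟨.c10, .c4, .c15⟩ ⟨.c10, .c4, .c17⟩ ⟨.c9, .c5, .c10⟩ ⟨.c8, .c7, .c0⟩ ⟨.c10, .c5, .c3⟩ ⟨.c8, .c7, .c2⟩ ⟨.c8, .c6, .c10⟩ ⟨.c10, .c5, .c6⟩ ⟨.c10, .c5, .c7⟩ ⟨.c9, .c5, .c17⟩) (@D3.rec (fun _ => Pt) ⟨.c9, .c6, .c0⟩ ⟨.c9, .c6, .c1⟩ ⟨.c9, .c6, .c2⟩ ⟨.c9, .c6, .c3⟩ ⟨.c10, .c5, .c2⟩ ⟨.c8, .c7, .c1⟩ ⟨.c10, .c5, .c14⟩ ⟨.c8, .c7, .c7⟩ ⟨.c8, .c7, .c4⟩ ⟨.c10, .c6, .c0⟩ ⟨.c9, .c11, .c9⟩ ⟨.c10, .c5, .c16⟩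 ⟨.c10, .c5, .c17⟩ ⟨.c8, .c7, .c9⟩ ⟨.c10, .c0, .c4⟩ ⟨.c8, .c7, .c12⟩ ⟨.c9, .c14, .c17⟩ ⟨.c8, .c8, .c9⟩) (@D3.rec (fun _ => Pt) ⟨.c10, .c1, .c15⟩ ⟨.c8, .c8, .c3⟩ ⟨.c8, .c7, .c15⟩ ⟨.c10, .c6, .c6⟩ ⟨.c10, .c6, .c7⟩ ⟨.c9, .c7, .c5⟩ ⟨.c9, .c7, .c6⟩ ⟨.c8, .c8, .c5⟩ ⟨.c8, .c8, .c6⟩ ⟨.c10, .c6, .c11⟩ ⟨.c9, .c7, .c10⟩ ⟨.c8, .c8, .c11⟩ ⟨.c8, .c8, .c12⟩ ⟨.c10, .c6, .c15⟩ ⟨.c10, .c6, .c16⟩ ⟨.c10, .c0, .c6⟩ ⟨.c10, .c0, .c7⟩ ⟨.c10, .c5, .c5⟩) (@D3.rec (fun _ => Pt) ⟨.c8, .c8, .c17⟩ ⟨.c8, .c9, .c0⟩ ⟨.c10, .c7, .c8⟩ ⟨.c10, .c7, .c9⟩ ⟨.c10, .c7, .c10⟩ ⟨.c8, .c10, .c12⟩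 ⟨.c8, .c10, .c13⟩ ⟨.c8, .c9, .c9⟩ ⟨.c8, .c10, .c14⟩ ⟨.c8, .c10, .c15⟩ ⟨.c8, .c9, .c10⟩ ⟨.c10, .c7, .c14⟩ ⟨.c9, .c8, .c12⟩ ⟨.c9, .c8, .c13⟩ ⟨.c8, .c9, .c13⟩ ⟨.c9, .c8, .c15⟩ ⟨.c10, .c0, .c2⟩ ⟨.c10, .c3, .c2⟩) (@D3.rec (fun _ => Pt) ⟨.c8, .c10, .c1⟩ ⟨.c10, .c8, .c1⟩ ⟨.c9, .c9, .c2⟩ ⟨.c10, .c0, .c8⟩ ⟨.c10, .c0, .c9⟩ ⟨.c10, .c0, .c10⟩ ⟨.c9, .c9, .c6⟩ ⟨.c9, .c9, .c7⟩ ⟨.c8, .c10, .c9⟩ ⟨.c8, .c10, .c10⟩ ⟨.c8, .c10, .c11⟩ ⟨.c10, .c8, .c7⟩ ⟨.c10, .c8, .c8⟩ ⟨.c10, .c7, .c13⟩ ⟨.c9, .c9, .c14⟩ ⟨.c9, .c9, .c15⟩ ⟨.c10, .c8, .c11⟩ ⟨.c9, .c9, .c17⟩) (@D3.rec (fun _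 => Pt) ⟨.c8, .c13, .c5⟩ ⟨.c8, .c11, .c12⟩ ⟨.c8, .c13, .c7⟩ ⟨.c8, .c13, .c8⟩ ⟨.c8, .c14, .c2⟩ ⟨.c8, .c12, .c1⟩ ⟨.c8, .c12, .c0⟩ ⟨.c8, .c14, .c4⟩ ⟨.c8, .c14, .c5⟩ ⟨.c8, .c14, .c6⟩ ⟨.c8, .c14, .c7⟩ ⟨.c8, .c14, .c8⟩ ⟨.c8, .c11, .c17⟩ ⟨.c10, .c9, .c8⟩ ⟨.c8, .c12, .c2⟩ ⟨.c10, .c9, .c11⟩ ⟨.c10, .c9, .c7⟩ ⟨.c8, .c12, .c5⟩) (@D3.rec (fun _ => Pt) ⟨.c10, .c9, .c15⟩ ⟨.c9, .c11, .c1⟩ ⟨.c10, .c10, .c0⟩ ⟨.c8, .c12, .c12⟩ ⟨.c9, .c11, .c4⟩ ⟨.c9, .c11, .c5⟩ ⟨.c9, .c11, .c6⟩ ⟨.c8, .c12, .c11⟩ ⟨.c10, .c10, .c5⟩ ⟨.c9, .c6, .c10⟩ ⟨.c9, .c11, .c10⟩ ⟨.c9, .c11, .c11⟩ ⟨.c9,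 .c11, .c12⟩ ⟨.c10, .c9, .c10⟩ ⟨.c9, .c11, .c14⟩ ⟨.c8, .c12, .c17⟩ ⟨.c10, .c10, .c13⟩ ⟨.c9, .c11, .c17⟩) (@D3.rec (fun _ => Pt) ⟨.c9, .c12, .c0⟩ ⟨.c8, .c13, .c9⟩ ⟨.c8, .c13, .c10⟩ ⟨.c10, .c11, .c3⟩ ⟨.c8, .c13, .c12⟩ ⟨.c8, .c13, .c13⟩ ⟨.c8, .c14, .c10⟩ ⟨.c10, .c8, .c14⟩ ⟨.c10, .c8, .c15⟩ ⟨.c10, .c8, .c16⟩ ⟨.c10, .c8, .c17⟩ ⟨.c10, .c11, .c0⟩ ⟨.c10, .c11, .c2⟩ ⟨.c8, .c13, .c11⟩ ⟨.c10, .c11, .c12⟩ ⟨.c9, .c12, .c15⟩ ⟨.c10, .c11, .c16⟩ ⟨.c9, .c12, .c17⟩) (@D3.rec (fun _ => Pt) ⟨.c8, .c14, .c9⟩ ⟨.c10, .c11, .c4⟩ ⟨.c8, .c14, .c11⟩ ⟨.c8, .c14, .c0⟩ ⟨.c10, .c11,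 .c1⟩ ⟨.c10, .c12, .c5⟩ ⟨.c10, .c9, .c0⟩ ⟨.c10, .c9, .c1⟩ ⟨.c10, .c9, .c2⟩ ⟨.c10, .c9, .c3⟩ ⟨.c10, .c9, .c4⟩ ⟨.c10, .c9, .c5⟩ ⟨.c10, .c9, .c6⟩ ⟨.c10, .c11, .c6⟩ ⟨.c10, .c12, .c2⟩ ⟨.c10, .c11, .c7⟩ ⟨.c9, .c0, .c0⟩ ⟨.c8, .c14, .c13⟩) (@D3.rec (fun _ => Pt) ⟨.c10, .c13, .c1⟩ ⟨.c9, .c3, .c13⟩ ⟨.c9, .c4, .c8⟩ ⟨.c10, .c10, .c11⟩ ⟨.c8, .c14, .c17⟩ ⟨.c10, .c13, .c5⟩ ⟨.c10, .c12, .c17⟩ ⟨.c10, .c13, .c0⟩ ⟨.c9, .c0, .c2⟩ ⟨.c10, .c8, .c12⟩ ⟨.c9, .c14, .c10⟩ ⟨.c9, .c0, .c14⟩ ⟨.c9, .c1, .c3⟩ ⟨.c9, .c1, .c4⟩ ⟨.c9, .c1, .c5⟩ ⟨.c9, .c14, .c15⟩ ⟨.c9, .c14, .c16⟩ ⟨.c9,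 .c6, .c16⟩)
def f_c_10 : D2 → D3 → Pt := @D2.rec (fun _ => D3 → Pt) (@D3.rec (fun _ => Pt) ⟨.c9, .c0, .c15⟩ ⟨.c9, .c4, .c4⟩ ⟨.c9, .c8, .c16⟩ ⟨.c10, .c13, .c9⟩ ⟨.c9, .c6, .c14⟩ ⟨.c9, .c3, .c11⟩ ⟨.c9, .c7, .c15⟩ ⟨.c9, .c7, .c16⟩ ⟨.c9, .c9, .c3⟩ ⟨.c9, .c9, .c4⟩ ⟨.c9, .c9, .c5⟩ ⟨.c10, .c9, .c13⟩ ⟨.c10, .c13, .c10⟩ ⟨.c10, .c13, .c11⟩ ⟨.c9, .c3, .c7⟩ ⟨.c10, .c0, .c15⟩ ⟨.c10, .c14, .c13⟩ ⟨.c10, .c0, .c17⟩) (@D3.rec (fun _ => Pt) ⟨.c10, .c1, .c0⟩ ⟨.c9, .c2, .c8⟩ ⟨.c9, .c3, .c4⟩ ⟨.c9, .c2, .c5⟩ ⟨.c9, .c2, .c2⟩ ⟨.c9, .c1, .c13⟩ ⟨.c11, .c0, .c1⟩ ⟨.c11, .c0, .c2⟩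 ⟨.c10, .c1, .c8⟩ ⟨.c10, .c1, .c9⟩ ⟨.c10, .c1, .c10⟩ ⟨.c10, .c1, .c11⟩ ⟨.c9, .c2, .c4⟩ ⟨.c10, .c14, .c17⟩ ⟨.c11, .c0, .c0⟩ ⟨.c9, .c7, .c0⟩ ⟨.c9, .c3, .c3⟩ ⟨.c10, .c14, .c15⟩) (@D3.rec (fun _ => Pt) ⟨.c10, .c14, .c16⟩ ⟨.c10, .c12, .c4⟩ ⟨.c9, .c2, .c11⟩ ⟨.c9, .c2, .c12⟩ ⟨.c11, .c1, .c2⟩ ⟨.c11, .c1, .c3⟩ ⟨.c11, .c1, .c4⟩ ⟨.c10, .c2, .c7⟩ ⟨.c10, .c2, .c8⟩ ⟨.c10, .c2, .c9⟩ ⟨.c10, .c2, .c10⟩ ⟨.c10, .c2, .c11⟩ ⟨.c10, .c2, .c12⟩ ⟨.c10, .c2, .c13⟩ ⟨.c10, .c2, .c14⟩ ⟨.c9, .c3, .c9⟩ ⟨.c9, .c3, .c10⟩ ⟨.c10, .c14, .c10⟩) (@D3.rec (fun _ => Pt) ⟨.c11, .c1, .c15⟩ ⟨.c10,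 .c13, .c2⟩ ⟨.c9, .c8, .c17⟩ ⟨.c9, .c3, .c16⟩ ⟨.c11, .c2, .c0⟩ ⟨.c11, .c0, .c12⟩ ⟨.c10, .c3, .c6⟩ ⟨.c10, .c13, .c14⟩ ⟨.c9, .c4, .c5⟩ ⟨.c9, .c4, .c1⟩ ⟨.c11, .c2, .c4⟩ ⟨.c10, .c13, .c16⟩ ⟨.c9, .c4, .c9⟩ ⟨.c9, .c4, .c7⟩ ⟨.c11, .c2, .c8⟩ ⟨.c10, .c13, .c3⟩ ⟨.c10, .c12, .c10⟩ ⟨.c11, .c2, .c7⟩) (@D3.rec (fun _ => Pt) ⟨.c9, .c4, .c11⟩ ⟨.c10, .c14, .c0⟩ ⟨.c10, .c4, .c2⟩ ⟨.c11, .c2, .c12⟩ ⟨.c10, .c4, .c4⟩ ⟨.c9, .c5, .c4⟩ ⟨.c11, .c2, .c16⟩ ⟨.c9, .c5, .c6⟩ ⟨.c9, .c4, .c17⟩ ⟨.c11, .c3, .c0⟩ ⟨.c11, .c3, .c1⟩ ⟨.c10, .c4, .c11⟩ ⟨.c11, .c2, .c15⟩ ⟨.c9, .c5, .c5⟩ ⟨.c11,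 .c3, .c4⟩ ⟨.c9, .c5, .c8⟩ ⟨.c11, .c3, .c6⟩ ⟨.c9, .c5, .c9⟩) (@D3.rec (fun _ => Pt) ⟨.c11, .c3, .c8⟩ ⟨.c11, .c2, .c3⟩ ⟨.c9, .c6, .c4⟩ ⟨.c9, .c5, .c12⟩ ⟨.c11, .c3, .c12⟩ ⟨.c9, .c7, .c17⟩ ⟨.c9, .c5, .c15⟩ ⟨.c9, .c5, .c16⟩ ⟨.c11, .c3, .c17⟩ ⟨.c11, .c4, .c0⟩ ⟨.c11, .c4, .c1⟩ ⟨.c10, .c5, .c11⟩ ⟨.c10, .c5, .c12⟩ ⟨.c10, .c5, .c13⟩ ⟨.c9, .c6, .c6⟩ ⟨.c11, .c4, .c6⟩ ⟨.c9, .c6, .c11⟩ ⟨.c9, .c6, .c12⟩) (@D3.rec (fun _ => Pt) ⟨.c9, .c6, .c9⟩ ⟨.c11, .c4, .c7⟩ ⟨.c11, .c4, .c8⟩ ⟨.c10, .c14, .c1⟩ ⟨.c10, .c13, .c15⟩ ⟨.c11, .c0, .c13⟩ ⟨.c9, .c7, .c3⟩ ⟨.c9, .c7, .c4⟩ ⟨.c11,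 .c4, .c14⟩ ⟨.c11, .c4, .c15⟩ ⟨.c11, .c3, .c10⟩ ⟨.c9, .c7, .c9⟩ ⟨.c11, .c5, .c0⟩ ⟨.c10, .c6, .c13⟩ ⟨.c11, .c3, .c7⟩ ⟨.c9, .c7, .c13⟩ ⟨.c9, .c7, .c14⟩ ⟨.c11, .c5, .c4⟩) (@D3.rec (fun _ => Pt) ⟨.c11, .c5, .c5⟩ ⟨.c11, .c5, .c6⟩ ⟨.c10, .c14, .c2⟩ ⟨.c10, .c14, .c3⟩ ⟨.c10, .c14, .c4⟩ ⟨.c11, .c3, .c14⟩ ⟨.c11, .c3, .c15⟩ ⟨.c11, .c3, .c16⟩ ⟨.c9, .c8, .c2⟩ ⟨.c9, .c8, .c3⟩ ⟨.c9, .c8, .c4⟩ ⟨.c11, .c5, .c15⟩ ⟨.c11, .c5, .c16⟩ ⟨.c9, .c9, .c13⟩ ⟨.c9, .c8, .c11⟩ ⟨.c10, .c7, .c15⟩ ⟨.c10, .c7, .c16⟩ ⟨.c10, .c13, .c17⟩) (@D3.rec (fun _ => Pt) ⟨.c11, .c1, .c17⟩ ⟨.c9, .c9,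 .c1⟩ ⟨.c10, .c14, .c5⟩ ⟨.c10, .c14, .c6⟩ ⟨.c10, .c8, .c4⟩ ⟨.c10, .c8, .c5⟩ ⟨.c10, .c8, .c6⟩ ⟨.c9, .c9, .c11⟩ ⟨.c9, .c9, .c12⟩ ⟨.c11, .c6, .c5⟩ ⟨.c10, .c8, .c10⟩ ⟨.c9, .c9, .c16⟩ ⟨.c9, .c14, .c9⟩ ⟨.c11, .c6, .c7⟩ ⟨.c9, .c12, .c7⟩ ⟨.c9, .c12, .c8⟩ ⟨.c9, .c12, .c9⟩ ⟨.c9, .c12, .c10⟩) (@D3.rec (fun _ => Pt) ⟨.c9, .c13, .c6⟩ ⟨.c9, .c13, .c7⟩ ⟨.c9, .c13, .c8⟩ ⟨.c9, .c13, .c9⟩ ⟨.c9, .c13, .c10⟩ ⟨.c9, .c13, .c11⟩ ⟨.c9, .c13, .c12⟩ ⟨.c9, .c10, .c16⟩ ⟨.c9, .c10, .c13⟩ ⟨.c11, .c7, .c2⟩ ⟨.c9, .c11, .c13⟩ ⟨.c9, .c10, .c15⟩ ⟨.c11, .c7, .c4⟩ ⟨.c10, .c0, .c11⟩ ⟨.c11,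 .c7, .c1⟩ ⟨.c9, .c11, .c0⟩ ⟨.c11, .c7, .c8⟩ ⟨.c10, .c9, .c17⟩) (@D3.rec (fun _ => Pt) ⟨.c9, .c11, .c2⟩ ⟨.c11, .c7, .c11⟩ ⟨.c11, .c7, .c12⟩ ⟨.c10, .c10, .c3⟩ ⟨.c10, .c10, .c4⟩ ⟨.c9, .c11, .c8⟩ ⟨.c11, .c7, .c16⟩ ⟨.c10, .c10, .c7⟩ ⟨.c11, .c8, .c1⟩ ⟨.c10, .c10, .c9⟩ ⟨.c10, .c10, .c10⟩ ⟨.c9, .c14, .c3⟩ ⟨.c11, .c7, .c3⟩ ⟨.c9, .c11, .c16⟩ ⟨.c11, .c8, .c6⟩ ⟨.c10, .c10, .c15⟩ ⟨.c11, .c8, .c9⟩ ⟨.c10, .c10, .c17⟩) (@D3.rec (fun _ => Pt) ⟨.c9, .c12, .c11⟩ ⟨.c9, .c13, .c4⟩ ⟨.c9, .c12, .c12⟩ ⟨.c9, .c12, .c3⟩ ⟨.c9, .c13, .c1⟩ ⟨.c11, .c8, .c15⟩ ⟨.c9, .c13, .c13⟩ ⟨.c9,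 .c13, .c15⟩ ⟨.c11, .c6, .c10⟩ ⟨.c11, .c6, .c11⟩ ⟨.c11, .c6, .c12⟩ ⟨.c11, .c8, .c13⟩ ⟨.c9, .c12, .c14⟩ ⟨.c11, .c9, .c4⟩ ⟨.c11, .c8, .c10⟩ ⟨.c10, .c11, .c15⟩ ⟨.c9, .c12, .c16⟩ ⟨.c11, .c8, .c7⟩) (@D3.rec (fun _ => Pt) ⟨.c11, .c9, .c7⟩ ⟨.c11, .c8, .c16⟩ ⟨.c9, .c13, .c14⟩ ⟨.c11, .c8, .c17⟩ ⟨.c10, .c2, .c1⟩ ⟨.c9, .c13, .c5⟩ ⟨.c11, .c8, .c12⟩ ⟨.c11, .c8, .c14⟩ ⟨.c11, .c9, .c16⟩ ⟨.c11, .c6, .c13⟩ ⟨.c10, .c3, .c16⟩ ⟨.c11, .c6, .c14⟩ ⟨.c11, .c6, .c15⟩ ⟨.c11, .c6, .c16⟩ ⟨.c11, .c6, .c17⟩ ⟨.c11, .c9, .c1⟩ ⟨.c11, .c9, .c2⟩ ⟨.c9, .c14, .c6⟩) (@D3.rec (fun _ => Pt)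 ⟨.c9, .c14, .c7⟩ ⟨.c9, .c14, .c0⟩ ⟨.c10, .c3, .c1⟩ ⟨.c10, .c3, .c15⟩ ⟨.c11, .c8, .c4⟩ ⟨.c9, .c14, .c5⟩ ⟨.c11, .c10, .c7⟩ ⟨.c11, .c10, .c8⟩ ⟨.c11, .c6, .c8⟩ ⟨.c10, .c0, .c3⟩ ⟨.c10, .c0, .c12⟩ ⟨.c10, .c0, .c13⟩ ⟨.c11, .c9, .c11⟩ ⟨.c10, .c13, .c13⟩ ⟨.c10, .c3, .c7⟩ ⟨.c10, .c6, .c4⟩ ⟨.c10, .c3, .c11⟩ ⟨.c10, .c7, .c17⟩) (@D3.rec (fun _ => Pt) ⟨.c10, .c4, .c1⟩ ⟨.c10, .c6, .c3⟩ ⟨.c10, .c7, .c2⟩ ⟨.c10, .c7, .c3⟩ ⟨.c10, .c7, .c4⟩ ⟨.c10, .c8, .c2⟩ ⟨.c10, .c8, .c3⟩ ⟨.c11, .c7, .c5⟩ ⟨.c11, .c10, .c14⟩ ⟨.c11, .c8, .c2⟩ ⟨.c10, .c2, .c17⟩ ⟨.c11, .c9, .c6⟩ ⟨.c10, .c14,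 .c12⟩ ⟨.c10, .c0, .c16⟩ ⟨.c11, .c11, .c11⟩ ⟨.c10, .c1, .c17⟩ ⟨.c10, .c2, .c0⟩ ⟨.c10, .c1, .c13⟩)
def f_c_11 : D2 → D3 → Pt := @D2.rec (fun _ => D3 → Pt) (@D3.rec (fun _ => Pt) ⟨.c10, .c1, .c14⟩ ⟨.c10, .c1, .c6⟩ ⟨.c10, .c1, .c7⟩ ⟨.c11, .c12, .c0⟩ ⟨.c11, .c12, .c1⟩ ⟨.c11, .c0, .c5⟩ ⟨.c11, .c0, .c6⟩ ⟨.c11, .c0, .c7⟩ ⟨.c11, .c0, .c8⟩ ⟨.c11, .c11, .c15⟩ ⟨.c11, .c11, .c16⟩ ⟨.c11, .c11, .c17⟩ ⟨.c10, .c3, .c5⟩ ⟨.c10, .c6, .c5⟩ ⟨.c11, .c7, .c9⟩ ⟨.c11, .c11, .c13⟩ ⟨.c11, .c11, .c14⟩ ⟨.c11, .c9, .c14⟩) (@D3.rec (fun _ => Pt) ⟨.c11, .c7, .c17⟩ ⟨.c11, .c9, .c15⟩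 ⟨.c10, .c2, .c4⟩ ⟨.c10, .c2, .c5⟩ ⟨.c10, .c2, .c6⟩ ⟨.c11, .c13, .c0⟩ ⟨.c11, .c13, .c1⟩ ⟨.c11, .c13, .c2⟩ ⟨.c11, .c1, .c8⟩ ⟨.c11, .c1, .c9⟩ ⟨.c11, .c1, .c10⟩ ⟨.c11, .c1, .c11⟩ ⟨.c11, .c1, .c12⟩ ⟨.c11, .c13, .c11⟩ ⟨.c11, .c1, .c14⟩ ⟨.c10, .c3, .c0⟩ ⟨.c11, .c10, .c10⟩ ⟨.c10, .c8, .c0⟩) (@D3.rec (fun _ => Pt) ⟨.c10, .c3, .c4⟩ ⟨.c11, .c12, .c9⟩ ⟨.c11, .c10, .c17⟩ ⟨.c10, .c5, .c1⟩ ⟨.c10, .c3, .c10⟩ ⟨.c11, .c13, .c17⟩ ⟨.c11, .c11, .c1⟩ ⟨.c10, .c3, .c17⟩ ⟨.c10, .c3, .c14⟩ ⟨.c11, .c10, .c2⟩ ⟨.c11, .c14, .c0⟩ ⟨.c11, .c11, .c2⟩ ⟨.c10, .c4, .c3⟩ ⟨.c11, .c14, .c4⟩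 ⟨.c11, .c9, .c17⟩ ⟨.c10, .c4, .c12⟩ ⟨.c10, .c4, .c6⟩ ⟨.c11, .c14, .c7⟩) (@D3.rec (fun _ => Pt) ⟨.c10, .c4, .c9⟩ ⟨.c10, .c4, .c10⟩ ⟨.c11, .c14, .c9⟩ ⟨.c11, .c14, .c10⟩ ⟨.c10, .c4, .c14⟩ ⟨.c11, .c14, .c12⟩ ⟨.c10, .c4, .c16⟩ ⟨.c10, .c6, .c14⟩ ⟨.c10, .c5, .c0⟩ ⟨.c11, .c14, .c15⟩ ⟨.c10, .c6, .c10⟩ ⟨.c11, .c13, .c16⟩ ⟨.c10, .c5, .c4⟩ ⟨.c12, .c0, .c0⟩ ⟨.c10, .c7, .c5⟩ ⟨.c10, .c7, .c6⟩ ⟨.c10, .c7, .c7⟩ ⟨.c10, .c5, .c8⟩) (@D3.rec (fun _ => Pt) ⟨.c10, .c5, .c9⟩ ⟨.c10, .c5, .c10⟩ ⟨.c11, .c9, .c8⟩ ⟨.c12, .c0, .c4⟩ ⟨.c12, .c0, .c5⟩ ⟨.c11, .c4, .c5⟩ ⟨.c10, .c5, .c15⟩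 ⟨.c10, .c6, .c1⟩ ⟨.c10, .c6, .c2⟩ ⟨.c11, .c14, .c1⟩ ⟨.c12, .c0, .c10⟩ ⟨.c11, .c11, .c3⟩ ⟨.c11, .c11, .c0⟩ ⟨.c11, .c12, .c10⟩ ⟨.c10, .c6, .c8⟩ ⟨.c10, .c6, .c9⟩ ⟨.c12, .c0, .c13⟩ ⟨.c11, .c14, .c16⟩) (@D3.rec (fun _ => Pt) ⟨.c10, .c6, .c12⟩ ⟨.c11, .c12, .c15⟩ ⟨.c11, .c12, .c11⟩ ⟨.c11, .c14, .c14⟩ ⟨.c10, .c6, .c17⟩ ⟨.c10, .c7, .c0⟩ ⟨.c10, .c7, .c1⟩ ⟨.c12, .c1, .c0⟩ ⟨.c12, .c1, .c1⟩ ⟨.c11, .c11, .c4⟩ ⟨.c11, .c11, .c5⟩ ⟨.c12, .c0, .c1⟩ ⟨.c11, .c12, .c6⟩ ⟨.c12, .c0, .c2⟩ ⟨.c12, .c0, .c3⟩ ⟨.c10, .c7, .c11⟩ ⟨.c10, .c7, .c12⟩ ⟨.c12, .c1, .c7⟩) (@D3.rec (fun _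 => Pt) ⟨.c11, .c6, .c0⟩ ⟨.c11, .c13, .c12⟩ ⟨.c11, .c11, .c6⟩ ⟨.c11, .c6, .c3⟩ ⟨.c11, .c6, .c4⟩ ⟨.c10, .c8, .c9⟩ ⟨.c11, .c14, .c13⟩ ⟨.c10, .c8, .c13⟩ ⟨.c10, .c13, .c8⟩ ⟨.c12, .c1, .c12⟩ ⟨.c10, .c11, .c8⟩ ⟨.c10, .c11, .c9⟩ ⟨.c10, .c11, .c10⟩ ⟨.c10, .c12, .c9⟩ ⟨.c10, .c12, .c11⟩ ⟨.c10, .c12, .c12⟩ ⟨.c10, .c12, .c13⟩ ⟨.c10, .c12, .c14⟩) (@D3.rec (fun _ => Pt) ⟨.c12, .c2, .c1⟩ ⟨.c10, .c9, .c14⟩ ⟨.c10, .c9, .c9⟩ ⟨.c10, .c10, .c12⟩ ⟨.c10, .c9, .c12⟩ ⟨.c10, .c14, .c7⟩ ⟨.c12, .c2, .c2⟩ ⟨.c11, .c7, .c7⟩ ⟨.c10, .c9, .c16⟩ ⟨.c11, .c0, .c14⟩ ⟨.c12, .c2, .c8⟩ ⟨.c10,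 .c10, .c1⟩ ⟨.c10, .c10, .c2⟩ ⟨.c12, .c2, .c11⟩ ⟨.c12, .c2, .c12⟩ ⟨.c11, .c7, .c15⟩ ⟨.c10, .c10, .c6⟩ ⟨.c11, .c1, .c0⟩) (@D3.rec (fun _ => Pt) ⟨.c11, .c8, .c0⟩ ⟨.c10, .c10, .c8⟩ ⟨.c10, .c14, .c9⟩ ⟨.c12, .c2, .c17⟩ ⟨.c10, .c13, .c4⟩ ⟨.c12, .c2, .c3⟩ ⟨.c10, .c10, .c14⟩ ⟨.c10, .c11, .c17⟩ ⟨.c11, .c8, .c8⟩ ⟨.c10, .c10, .c16⟩ ⟨.c10, .c11, .c14⟩ ⟨.c12, .c3, .c4⟩ ⟨.c10, .c12, .c6⟩ ⟨.c10, .c11, .c11⟩ ⟨.c10, .c12, .c7⟩ ⟨.c10, .c11, .c5⟩ ⟨.c10, .c12, .c1⟩ ⟨.c10, .c12, .c3⟩) (@D3.rec (fun _ => Pt) ⟨.c12, .c3, .c9⟩ ⟨.c10, .c12, .c15⟩ ⟨.c10, .c12, .c16⟩ ⟨.c12, .c1,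 .c14⟩ ⟨.c10, .c11, .c13⟩ ⟨.c12, .c3, .c5⟩ ⟨.c10, .c14, .c11⟩ ⟨.c10, .c12, .c0⟩ ⟨.c11, .c4, .c2⟩ ⟨.c12, .c3, .c3⟩ ⟨.c12, .c3, .c17⟩ ⟨.c10, .c13, .c12⟩ ⟨.c12, .c3, .c10⟩ ⟨.c12, .c3, .c11⟩ ⟨.c11, .c0, .c17⟩ ⟨.c11, .c1, .c1⟩ ⟨.c10, .c12, .c8⟩ ⟨.c11, .c2, .c14⟩) (@D3.rec (fun _ => Pt) ⟨.c12, .c3, .c7⟩ ⟨.c12, .c3, .c8⟩ ⟨.c11, .c2, .c9⟩ ⟨.c12, .c1, .c16⟩ ⟨.c12, .c4, .c12⟩ ⟨.c12, .c1, .c17⟩ ⟨.c12, .c3, .c12⟩ ⟨.c10, .c13, .c6⟩ ⟨.c10, .c13, .c7⟩ ⟨.c12, .c2, .c15⟩ ⟨.c11, .c1, .c16⟩ ⟨.c12, .c3, .c2⟩ ⟨.c12, .c4, .c13⟩ ⟨.c12, .c1, .c13⟩ ⟨.c10, .c14, .c8⟩ ⟨.c12, .c1,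 .c15⟩ ⟨.c12, .c4, .c2⟩ ⟨.c11, .c2, .c2⟩) (@D3.rec (fun _ => Pt) ⟨.c11, .c4, .c12⟩ ⟨.c11, .c2, .c6⟩ ⟨.c11, .c2, .c11⟩ ⟨.c11, .c4, .c11⟩ ⟨.c11, .c5, .c9⟩ ⟨.c11, .c5, .c10⟩ ⟨.c11, .c6, .c2⟩ ⟨.c12, .c5, .c6⟩ ⟨.c12, .c2, .c5⟩ ⟨.c12, .c3, .c0⟩ ⟨.c12, .c3, .c16⟩ ⟨.c10, .c14, .c14⟩ ⟨.c12, .c5, .c9⟩ ⟨.c11, .c0, .c15⟩ ⟨.c11, .c0, .c16⟩ ⟨.c11, .c0, .c9⟩ ⟨.c11, .c0, .c10⟩ ⟨.c11, .c0, .c11⟩) (@D3.rec (fun _ => Pt) ⟨.c11, .c0, .c3⟩ ⟨.c11, .c0, .c4⟩ ⟨.c12, .c5, .c13⟩ ⟨.c11, .c12, .c3⟩ ⟨.c11, .c12, .c4⟩ ⟨.c12, .c5, .c17⟩ ⟨.c11, .c5, .c12⟩ ⟨.c12, .c5, .c11⟩ ⟨.c12, .c5,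 .c12⟩ ⟨.c11, .c2, .c1⟩ ⟨.c11, .c4, .c13⟩ ⟨.c11, .c5, .c2⟩ ⟨.c12, .c2, .c9⟩ ⟨.c12, .c5, .c10⟩ ⟨.c12, .c4, .c4⟩ ⟨.c11, .c5, .c1⟩ ⟨.c12, .c2, .c16⟩ ⟨.c12, .c4, .c5⟩) (@D3.rec (fun _ => Pt) ⟨.c11, .c1, .c5⟩ ⟨.c11, .c1, .c6⟩ ⟨.c11, .c1, .c7⟩ ⟨.c12, .c6, .c10⟩ ⟨.c12, .c6, .c11⟩ ⟨.c12, .c6, .c15⟩ ⟨.c11, .c13, .c6⟩ ⟨.c11, .c13, .c7⟩ ⟨.c12, .c7, .c0⟩ ⟨.c11, .c13, .c9⟩ ⟨.c12, .c7, .c1⟩ ⟨.c11, .c1, .c13⟩ ⟨.c11, .c6, .c1⟩ ⟨.c11, .c13, .c13⟩ ⟨.c12, .c6, .c3⟩ ⟨.c12, .c5, .c0⟩ ⟨.c11, .c3, .c11⟩ ⟨.c11, .c2, .c5⟩) (@D3.rec (fun _ => Pt) ⟨.c11, .c2, .c10⟩ ⟨.c11, .c4,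 .c9⟩ ⟨.c12, .c4, .c10⟩ ⟨.c12, .c5, .c2⟩ ⟨.c11, .c2, .c13⟩ ⟨.c12, .c7, .c7⟩ ⟨.c12, .c4, .c7⟩ ⟨.c11, .c2, .c17⟩ ⟨.c12, .c7, .c9⟩ ⟨.c11, .c3, .c2⟩ ⟨.c11, .c3, .c3⟩ ⟨.c12, .c7, .c10⟩ ⟨.c11, .c3, .c5⟩ ⟨.c11, .c6, .c6⟩ ⟨.c11, .c5, .c3⟩ ⟨.c11, .c3, .c9⟩ ⟨.c11, .c4, .c17⟩ ⟨.c12, .c7, .c4⟩)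
def f_c_12 : D2 → D3 → Pt := @D2.rec (fun _ => D3 → Pt) (@D3.rec (fun _ => Pt) ⟨.c11, .c3, .c13⟩ ⟨.c11, .c5, .c11⟩ ⟨.c11, .c5, .c13⟩ ⟨.c11, .c5, .c14⟩ ⟨.c11, .c4, .c3⟩ ⟨.c11, .c4, .c4⟩ ⟨.c12, .c7, .c5⟩ ⟨.c12, .c4, .c0⟩ ⟨.c12, .c8, .c1⟩ ⟨.c12, .c5, .c1⟩ ⟨.c11, .c4, .c10⟩ ⟨.c12, .c3, .c13⟩ ⟨.c12, .c5, .c16⟩ ⟨.c11, .c4, .c16⟩ ⟨.c12, .c7, .c14⟩ ⟨.c12, .c6, .c8⟩ ⟨.c12, .c6, .c4⟩ ⟨.c12, .c7, .c12⟩) (@D3.rec (fun _ => Pt) ⟨.c11, .c5, .c7⟩ ⟨.c11, .c5, .c8⟩ ⟨.c12, .c8, .c8⟩ ⟨.c12, .c5, .c3⟩ ⟨.c12, .c7, .c16⟩ ⟨.c12, .c6, .c0⟩ ⟨.c12, .c7, .c17⟩ ⟨.c11, .c5, .c17⟩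 ⟨.c12, .c7, .c11⟩ ⟨.c12, .c1, .c9⟩ ⟨.c12, .c8, .c14⟩ ⟨.c12, .c3, .c14⟩ ⟨.c11, .c6, .c9⟩ ⟨.c11, .c10, .c13⟩ ⟨.c11, .c9, .c3⟩ ⟨.c11, .c10, .c15⟩ ⟨.c11, .c10, .c3⟩ ⟨.c11, .c10, .c5⟩) (@D3.rec (fun _ => Pt) ⟨.c12, .c9, .c1⟩ ⟨.c11, .c7, .c0⟩ ⟨.c11, .c7, .c6⟩ ⟨.c11, .c8, .c5⟩ ⟨.c12, .c2, .c4⟩ ⟨.c11, .c11, .c8⟩ ⟨.c12, .c9, .c0⟩ ⟨.c12, .c2, .c7⟩ ⟨.c11, .c7, .c10⟩ ⟨.c11, .c12, .c12⟩ ⟨.c12, .c9, .c3⟩ ⟨.c11, .c7, .c13⟩ ⟨.c11, .c7, .c14⟩ ⟨.c12, .c9, .c5⟩ ⟨.c12, .c9, .c8⟩ ⟨.c11, .c10, .c9⟩ ⟨.c11, .c12, .c16⟩ ⟨.c11, .c8, .c3⟩) (@D3.rec (fun _ => Pt) ⟨.c11, .c11, .c9⟩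 ⟨.c12, .c9, .c11⟩ ⟨.c11, .c10, .c11⟩ ⟨.c11, .c9, .c9⟩ ⟨.c11, .c8, .c11⟩ ⟨.c11, .c9, .c5⟩ ⟨.c12, .c9, .c15⟩ ⟨.c11, .c10, .c0⟩ ⟨.c11, .c10, .c1⟩ ⟨.c11, .c9, .c0⟩ ⟨.c11, .c9, .c12⟩ ⟨.c11, .c9, .c13⟩ ⟨.c11, .c10, .c6⟩ ⟨.c12, .c0, .c11⟩ ⟨.c12, .c1, .c11⟩ ⟨.c12, .c9, .c16⟩ ⟨.c11, .c11, .c10⟩ ⟨.c11, .c9, .c10⟩) (@D3.rec (fun _ => Pt) ⟨.c12, .c0, .c7⟩ ⟨.c12, .c9, .c14⟩ ⟨.c11, .c10, .c16⟩ ⟨.c12, .c10, .c1⟩ ⟨.c11, .c12, .c14⟩ ⟨.c11, .c12, .c17⟩ ⟨.c12, .c9, .c6⟩ ⟨.c11, .c14, .c6⟩ ⟨.c12, .c9, .c17⟩ ⟨.c12, .c10, .c14⟩ ⟨.c11, .c14, .c2⟩ ⟨.c12, .c10, .c16⟩ ⟨.c11, .c10,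 .c4⟩ ⟨.c11, .c10, .c12⟩ ⟨.c12, .c10, .c3⟩ ⟨.c12, .c9, .c9⟩ ⟨.c12, .c8, .c17⟩ ⟨.c12, .c10, .c8⟩) (@D3.rec (fun _ => Pt) ⟨.c11, .c13, .c15⟩ ⟨.c12, .c0, .c9⟩ ⟨.c11, .c14, .c3⟩ ⟨.c12, .c1, .c3⟩ ⟨.c12, .c11, .c4⟩ ⟨.c12, .c10, .c15⟩ ⟨.c11, .c11, .c7⟩ ⟨.c12, .c9, .c12⟩ ⟨.c12, .c10, .c4⟩ ⟨.c11, .c11, .c12⟩ ⟨.c11, .c12, .c13⟩ ⟨.c11, .c12, .c7⟩ ⟨.c11, .c12, .c8⟩ ⟨.c11, .c12, .c2⟩ ⟨.c12, .c11, .c10⟩ ⟨.c12, .c5, .c15⟩ ⟨.c12, .c0, .c12⟩ ⟨.c11, .c12, .c5⟩) (@D3.rec (fun _ => Pt) ⟨.c12, .c1, .c5⟩ ⟨.c12, .c11, .c7⟩ ⟨.c12, .c11, .c13⟩ ⟨.c11, .c13, .c14⟩ ⟨.c12, .c0, .c16⟩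 ⟨.c12, .c9, .c4⟩ ⟨.c12, .c11, .c17⟩ ⟨.c12, .c10, .c9⟩ ⟨.c12, .c0, .c15⟩ ⟨.c12, .c9, .c10⟩ ⟨.c11, .c13, .c3⟩ ⟨.c11, .c13, .c4⟩ ⟨.c12, .c12, .c4⟩ ⟨.c12, .c12, .c2⟩ ⟨.c12, .c12, .c5⟩ ⟨.c11, .c13, .c5⟩ ⟨.c12, .c6, .c16⟩ ⟨.c12, .c12, .c7⟩) (@D3.rec (fun _ => Pt) ⟨.c11, .c13, .c8⟩ ⟨.c11, .c13, .c10⟩ ⟨.c12, .c10, .c17⟩ ⟨.c12, .c9, .c2⟩ ⟨.c11, .c14, .c17⟩ ⟨.c12, .c0, .c6⟩ ⟨.c12, .c9, .c13⟩ ⟨.c11, .c14, .c5⟩ ⟨.c12, .c10, .c12⟩ ⟨.c11, .c14, .c8⟩ ⟨.c11, .c14, .c11⟩ ⟨.c12, .c1, .c8⟩ ⟨.c12, .c0, .c17⟩ ⟨.c12, .c11, .c14⟩ ⟨.c12, .c0, .c14⟩ ⟨.c12, .c11, .c1⟩ ⟨.c12,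 .c1, .c4⟩ ⟨.c12, .c1, .c6⟩) (@D3.rec (fun _ => Pt) ⟨.c12, .c10, .c2⟩ ⟨.c12, .c0, .c8⟩ ⟨.c12, .c11, .c2⟩ ⟨.c12, .c11, .c8⟩ ⟨.c12, .c10, .c6⟩ ⟨.c12, .c12, .c11⟩ ⟨.c12, .c12, .c0⟩ ⟨.c12, .c11, .c15⟩ ⟨.c12, .c1, .c2⟩ ⟨.c12, .c12, .c10⟩ ⟨.c12, .c11, .c11⟩ ⟨.c12, .c13, .c1⟩ ⟨.c12, .c10, .c0⟩ ⟨.c12, .c12, .c8⟩ ⟨.c12, .c1, .c10⟩ ⟨.c12, .c8, .c15⟩ ⟨.c12, .c8, .c16⟩ ⟨.c12, .c4, .c16⟩) (@D3.rec (fun _ => Pt) ⟨.c12, .c2, .c6⟩ ⟨.c12, .c2, .c0⟩ ⟨.c12, .c7, .c3⟩ ⟨.c12, .c2, .c10⟩ ⟨.c12, .c6, .c5⟩ ⟨.c12, .c2, .c13⟩ ⟨.c12, .c4, .c6⟩ ⟨.c12, .c13, .c6⟩ ⟨.c12, .c2, .c14⟩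 ⟨.c12, .c4, .c15⟩ ⟨.c12, .c6, .c9⟩ ⟨.c12, .c3, .c1⟩ ⟨.c12, .c5, .c7⟩ ⟨.c12, .c7, .c6⟩ ⟨.c12, .c4, .c1⟩ ⟨.c12, .c3, .c6⟩ ⟨.c12, .c3, .c15⟩ ⟨.c12, .c4, .c8⟩) (@D3.rec (fun _ => Pt) ⟨.c12, .c8, .c12⟩ ⟨.c12, .c4, .c3⟩ ⟨.c12, .c8, .c0⟩ ⟨.c12, .c4, .c14⟩ ⟨.c12, .c5, .c8⟩ ⟨.c12, .c13, .c2⟩ ⟨.c12, .c8, .c4⟩ ⟨.c12, .c13, .c16⟩ ⟨.c12, .c4, .c17⟩ ⟨.c12, .c6, .c7⟩ ⟨.c12, .c13, .c12⟩ ⟨.c12, .c13, .c5⟩ ⟨.c12, .c7, .c8⟩ ⟨.c12, .c14, .c0⟩ ⟨.c12, .c4, .c9⟩ ⟨.c12, .c5, .c5⟩ ⟨.c12, .c4, .c11⟩ ⟨.c12, .c7, .c2⟩) (@D3.rec (fun _ => Pt) ⟨.c12, .c13, .c7⟩ ⟨.c12, .c7, .c15⟩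 ⟨.c12, .c8, .c2⟩ ⟨.c12, .c14, .c1⟩ ⟨.c12, .c5, .c4⟩ ⟨.c12, .c13, .c17⟩ ⟨.c12, .c14, .c4⟩ ⟨.c12, .c6, .c1⟩ ⟨.c12, .c8, .c3⟩ ⟨.c12, .c14, .c5⟩ ⟨.c12, .c5, .c14⟩ ⟨.c12, .c8, .c10⟩ ⟨.c12, .c14, .c6⟩ ⟨.c12, .c6, .c2⟩ ⟨.c12, .c7, .c13⟩ ⟨.c12, .c8, .c7⟩ ⟨.c12, .c14, .c8⟩ ⟨.c12, .c6, .c6⟩) (@D3.rec (fun _ => Pt) ⟨.c12, .c8, .c6⟩ ⟨.c12, .c13, .c15⟩ ⟨.c12, .c6, .c13⟩ ⟨.c12, .c14, .c7⟩ ⟨.c12, .c6, .c12⟩ ⟨.c12, .c6, .c14⟩ ⟨.c12, .c14, .c3⟩ ⟨.c12, .c6, .c17⟩ ⟨.c12, .c8, .c13⟩ ⟨.c12, .c13, .c9⟩ ⟨.c12, .c8, .c9⟩ ⟨.c12, .c8, .c5⟩ ⟨.c12, .c13, .c11⟩ ⟨.c12, .c13, .c13⟩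 ⟨.c12, .c14, .c11⟩ ⟨.c12, .c13, .c8⟩ ⟨.c12, .c14, .c12⟩ ⟨.c12, .c13, .c10⟩) (@D3.rec (fun _ => Pt) ⟨.c12, .c14, .c9⟩ ⟨.c12, .c8, .c11⟩ ⟨.c12, .c10, .c5⟩ ⟨.c12, .c14, .c14⟩ ⟨.c12, .c14, .c15⟩ ⟨.c12, .c10, .c11⟩ ⟨.c12, .c9, .c7⟩ ⟨.c12, .c11, .c0⟩ ⟨.c12, .c12, .c15⟩ ⟨.c12, .c12, .c9⟩ ⟨.c12, .c12, .c17⟩ ⟨.c12, .c12, .c12⟩ ⟨.c12, .c10, .c10⟩ ⟨.c12, .c12, .c13⟩ ⟨.c12, .c14, .c13⟩ ⟨.c12, .c12, .c1⟩ ⟨.c12, .c10, .c7⟩ ⟨.c12, .c11, .c5⟩) (@D3.rec (fun _ => Pt) ⟨.c12, .c10, .c13⟩ ⟨.c12, .c11, .c3⟩ ⟨.c12, .c14, .c17⟩ ⟨.c12, .c12, .c6⟩ ⟨.c12, .c11, .c6⟩ ⟨.c12, .c11,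 .c9⟩ ⟨.c12, .c11, .c12⟩ ⟨.c12, .c12, .c3⟩ ⟨.c12, .c11, .c16⟩ ⟨.c12, .c13, .c0⟩ ⟨.c12, .c14, .c16⟩ ⟨.c12, .c12, .c14⟩ ⟨.c12, .c12, .c16⟩ ⟨.c12, .c13, .c14⟩ ⟨.c12, .c13, .c3⟩ ⟨.c12, .c13, .c4⟩ ⟨.c12, .c14, .c10⟩ ⟨.c12, .c14, .c2⟩)
def f_c : Pt → Pt := @Pt.rec (fun _ => Pt) (@D1.rec (fun _ => D2 → D3 → Pt) f_c_0 f_c_1 f_c_2 f_c_3 f_c_4 f_c_5 f_c_6 f_c_7 f_c_8 f_c_9 f_c_10 f_c_11 f_c_12)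
def fi_c : Pt → Pt := f_c
def f_d_0 : D2 → D3 → Pt := @D2.rec (fun _ => D3 → Pt) (@D3.rec (fun _ => Pt) ⟨.c0, .c0, .c0⟩ ⟨.c0, .c0, .c1⟩ ⟨.c0, .c0, .c2⟩ ⟨.c0, .c0, .c5⟩ ⟨.c0, .c0, .c7⟩ ⟨.c0, .c0, .c3⟩ ⟨.c0, .c0, .c10⟩ ⟨.c0, .c0, .c4⟩ ⟨.c0, .c0, .c8⟩ ⟨.c0, .c0, .c9⟩ ⟨.c0, .c0, .c6⟩ ⟨.c0, .c0, .c11⟩ ⟨.c0, .c0, .c12⟩ ⟨.c0, .c0, .c13⟩ ⟨.c0, .c1, .c6⟩ ⟨.c0, .c0, .c15⟩ ⟨.c0, .c0, .c16⟩ ⟨.c0, .c0, .c17⟩) (@D3.rec (fun _ => Pt) ⟨.c0, .c1, .c0⟩ ⟨.c0, .c1, .c1⟩ ⟨.c0, .c1, .c15⟩ ⟨.c0, .c1, .c3⟩ ⟨.c0, .c1, .c4⟩ ⟨.c0, .c2, .c0⟩ ⟨.c0, .c0, .c14⟩ ⟨.c0, .c2, .c3⟩ ⟨.c0,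 .c2, .c4⟩ ⟨.c0, .c2, .c7⟩ ⟨.c0, .c1, .c10⟩ ⟨.c0, .c2, .c11⟩ ⟨.c0, .c1, .c12⟩ ⟨.c0, .c1, .c13⟩ ⟨.c0, .c2, .c14⟩ ⟨.c0, .c1, .c2⟩ ⟨.c0, .c2, .c17⟩ ⟨.c0, .c3, .c0⟩) (@D3.rec (fun _ => Pt) ⟨.c0, .c1, .c5⟩ ⟨.c0, .c3, .c4⟩ ⟨.c0, .c2, .c2⟩ ⟨.c0, .c1, .c7⟩ ⟨.c0, .c1, .c8⟩ ⟨.c0, .c3, .c8⟩ ⟨.c0, .c2, .c6⟩ ⟨.c0, .c1, .c9⟩ ⟨.c0, .c3, .c12⟩ ⟨.c0, .c2, .c9⟩ ⟨.c0, .c3, .c14⟩ ⟨.c0, .c1, .c11⟩ ⟨.c0, .c3, .c16⟩ ⟨.c0, .c3, .c17⟩ ⟨.c0, .c1, .c14⟩ ⟨.c0, .c4, .c3⟩ ⟨.c0, .c2, .c16⟩ ⟨.c0, .c1, .c16⟩) (@D3.rec (fun _ => Pt) ⟨.c0, .c1, .c17⟩ ⟨.c0, .c4, .c8⟩ ⟨.c0, .c3, .c2⟩ ⟨.c0,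 .c3, .c3⟩ ⟨.c0, .c2, .c1⟩ ⟨.c0, .c3, .c5⟩ ⟨.c0, .c3, .c6⟩ ⟨.c0, .c3, .c7⟩ ⟨.c0, .c2, .c5⟩ ⟨.c0, .c4, .c17⟩ ⟨.c0, .c3, .c10⟩ ⟨.c0, .c3, .c11⟩ ⟨.c0, .c2, .c8⟩ ⟨.c0, .c5, .c3⟩ ⟨.c0, .c2, .c10⟩ ⟨.c0, .c5, .c6⟩ ⟨.c0, .c2, .c12⟩ ⟨.c0, .c2, .c13⟩) (@D3.rec (fun _ => Pt) ⟨.c0, .c5, .c10⟩ ⟨.c0, .c4, .c1⟩ ⟨.c0, .c4, .c2⟩ ⟨.c0, .c2, .c15⟩ ⟨.c0, .c4, .c4⟩ ⟨.c0, .c4, .c5⟩ ⟨.c0, .c4, .c6⟩ ⟨.c0, .c4, .c7⟩ ⟨.c0, .c3, .c1⟩ ⟨.c0, .c4, .c9⟩ ⟨.c0, .c6, .c6⟩ ⟨.c0, .c4, .c11⟩ ⟨.c0, .c4, .c12⟩ ⟨.c0, .c4, .c13⟩ ⟨.c0, .c4, .c14⟩ ⟨.c0, .c6, .c11⟩ ⟨.c0, .c4, .c16⟩ ⟨.c0, .c3, .c9⟩)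 (@D3.rec (fun _ => Pt) ⟨.c0, .c5, .c0⟩ ⟨.c0, .c5, .c1⟩ ⟨.c0, .c5, .c2⟩ ⟨.c0, .c3, .c13⟩ ⟨.c0, .c6, .c15⟩ ⟨.c0, .c5, .c5⟩ ⟨.c0, .c3, .c15⟩ ⟨.c0, .c5, .c7⟩ ⟨.c0, .c5, .c8⟩ ⟨.c0, .c5, .c9⟩ ⟨.c0, .c4, .c0⟩ ⟨.c0, .c7, .c5⟩ ⟨.c0, .c5, .c12⟩ ⟨.c0, .c5, .c13⟩ ⟨.c0, .c5, .c14⟩ ⟨.c0, .c7, .c9⟩ ⟨.c0, .c5, .c16⟩ ⟨.c0, .c7, .c12⟩) (@D3.rec (fun _ => Pt) ⟨.c0, .c6, .c0⟩ ⟨.c0, .c6, .c1⟩ ⟨.c0, .c6, .c2⟩ ⟨.c0, .c6, .c3⟩ ⟨.c0, .c8, .c0⟩ ⟨.c0, .c6, .c5⟩ ⟨.c0, .c4, .c10⟩ ⟨.c0, .c8, .c4⟩ ⟨.c0, .c8, .c6⟩ ⟨.c0, .c8, .c7⟩ ⟨.c0, .c8, .c8⟩ ⟨.c0, .c4, .c15⟩ ⟨.c0, .c6, .c12⟩ ⟨.c0,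 .c6, .c13⟩ ⟨.c0, .c6, .c14⟩ ⟨.c0, .c5, .c4⟩ ⟨.c0, .c6, .c16⟩ ⟨.c0, .c6, .c17⟩) (@D3.rec (fun _ => Pt) ⟨.c0, .c8, .c15⟩ ⟨.c0, .c7, .c1⟩ ⟨.c0, .c7, .c2⟩ ⟨.c0, .c7, .c3⟩ ⟨.c0, .c7, .c4⟩ ⟨.c0, .c5, .c11⟩ ⟨.c0, .c9, .c4⟩ ⟨.c0, .c9, .c6⟩ ⟨.c0, .c9, .c7⟩ ⟨.c0, .c5, .c15⟩ ⟨.c0, .c9, .c9⟩ ⟨.c0, .c7, .c11⟩ ⟨.c0, .c5, .c17⟩ ⟨.c0, .c9, .c13⟩ ⟨.c0, .c9, .c15⟩ ⟨.c0, .c10, .c0⟩ ⟨.c0, .c7, .c16⟩ ⟨.c0, .c10, .c2⟩) (@D3.rec (fun _ => Pt) ⟨.c0, .c6, .c4⟩ ⟨.c0, .c10, .c5⟩ ⟨.c0, .c10, .c7⟩ ⟨.c0, .c8, .c3⟩ ⟨.c0, .c6, .c7⟩ ⟨.c0, .c10, .c10⟩ ⟨.c0, .c6, .c8⟩ ⟨.c0, .c6, .c9⟩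 ⟨.c0, .c6, .c10⟩ ⟨.c0, .c8, .c9⟩ ⟨.c0, .c8, .c10⟩ ⟨.c0, .c8, .c11⟩ ⟨.c0, .c8, .c12⟩ ⟨.c0, .c8, .c13⟩ ⟨.c0, .c11, .c0⟩ ⟨.c0, .c7, .c0⟩ ⟨.c0, .c11, .c1⟩ ⟨.c0, .c11, .c3⟩) (@D3.rec (fun _ => Pt) ⟨.c0, .c11, .c6⟩ ⟨.c0, .c9, .c1⟩ ⟨.c0, .c11, .c8⟩ ⟨.c0, .c9, .c3⟩ ⟨.c0, .c7, .c6⟩ ⟨.c0, .c11, .c11⟩ ⟨.c0, .c7, .c7⟩ ⟨.c0, .c7, .c8⟩ ⟨.c0, .c9, .c8⟩ ⟨.c0, .c7, .c10⟩ ⟨.c0, .c11, .c16⟩ ⟨.c0, .c12, .c0⟩ ⟨.c0, .c12, .c3⟩ ⟨.c0, .c7, .c13⟩ ⟨.c0, .c9, .c14⟩ ⟨.c0, .c7, .c14⟩ ⟨.c0, .c12, .c6⟩ ⟨.c0, .c12, .c10⟩) (@D3.rec (fun _ => Pt) ⟨.c0, .c7, .c15⟩ ⟨.c0, .c12, .c12⟩ ⟨.c0,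 .c7, .c17⟩ ⟨.c0, .c10, .c3⟩ ⟨.c0, .c10, .c4⟩ ⟨.c0, .c8, .c1⟩ ⟨.c0, .c13, .c0⟩ ⟨.c0, .c8, .c2⟩ ⟨.c0, .c10, .c8⟩ ⟨.c0, .c13, .c4⟩ ⟨.c0, .c8, .c5⟩ ⟨.c0, .c13, .c6⟩ ⟨.c0, .c13, .c5⟩ ⟨.c0, .c10, .c13⟩ ⟨.c0, .c10, .c14⟩ ⟨.c0, .c10, .c15⟩ ⟨.c0, .c10, .c16⟩ ⟨.c0, .c13, .c13⟩) (@D3.rec (fun _ => Pt) ⟨.c0, .c8, .c14⟩ ⟨.c0, .c8, .c16⟩ ⟨.c0, .c11, .c2⟩ ⟨.c0, .c8, .c17⟩ ⟨.c0, .c13, .c17⟩ ⟨.c0, .c14, .c3⟩ ⟨.c0, .c9, .c0⟩ ⟨.c0, .c14, .c5⟩ ⟨.c0, .c9, .c2⟩ ⟨.c0, .c11, .c9⟩ ⟨.c0, .c14, .c8⟩ ⟨.c0, .c9, .c5⟩ ⟨.c0, .c14, .c10⟩ ⟨.c0, .c14, .c9⟩ ⟨.c0, .c11, .c14⟩ ⟨.c0, .c11,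 .c15⟩ ⟨.c0, .c9, .c10⟩ ⟨.c0, .c11, .c17⟩) (@D3.rec (fun _ => Pt) ⟨.c0, .c9, .c11⟩ ⟨.c1, .c0, .c1⟩ ⟨.c1, .c0, .c5⟩ ⟨.c0, .c9, .c12⟩ ⟨.c0, .c12, .c4⟩ ⟨.c0, .c12, .c5⟩ ⟨.c0, .c9, .c16⟩ ⟨.c0, .c12, .c7⟩ ⟨.c1, .c0, .c13⟩ ⟨.c1, .c0, .c14⟩ ⟨.c0, .c9, .c17⟩ ⟨.c1, .c0, .c16⟩ ⟨.c0, .c10, .c1⟩ ⟨.c1, .c0, .c15⟩ ⟨.c1, .c1, .c3⟩ ⟨.c0, .c12, .c15⟩ ⟨.c0, .c12, .c16⟩ ⟨.c1, .c1, .c7⟩) (@D3.rec (fun _ => Pt) ⟨.c0, .c10, .c6⟩ ⟨.c0, .c13, .c1⟩ ⟨.c1, .c1, .c9⟩ ⟨.c1, .c1, .c12⟩ ⟨.c0, .c10, .c9⟩ ⟨.c0, .c10, .c12⟩ ⟨.c0, .c10, .c11⟩ ⟨.c1, .c1, .c17⟩ ⟨.c1, .c1, .c15⟩ ⟨.c1, .c2,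 .c2⟩ ⟨.c0, .c13, .c10⟩ ⟨.c0, .c13, .c11⟩ ⟨.c1, .c2, .c5⟩ ⟨.c0, .c10, .c17⟩ ⟨.c0, .c13, .c14⟩ ⟨.c0, .c13, .c15⟩ ⟨.c0, .c13, .c16⟩ ⟨.c0, .c11, .c4⟩) (@D3.rec (fun _ => Pt) ⟨.c0, .c14, .c0⟩ ⟨.c1, .c2, .c13⟩ ⟨.c1, .c2, .c14⟩ ⟨.c0, .c11, .c5⟩ ⟨.c1, .c2, .c16⟩ ⟨.c0, .c11, .c7⟩ ⟨.c1, .c2, .c15⟩ ⟨.c1, .c3, .c3⟩ ⟨.c0, .c11, .c10⟩ ⟨.c0, .c11, .c13⟩ ⟨.c0, .c11, .c12⟩ ⟨.c1, .c3, .c8⟩ ⟨.c1, .c3, .c6⟩ ⟨.c0, .c14, .c13⟩ ⟨.c0, .c14, .c14⟩ ⟨.c1, .c3, .c14⟩ ⟨.c0, .c14, .c16⟩ ⟨.c0, .c14, .c17⟩)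
def f_d_1 : D2 → D3 → Pt := @D2.rec (fun _ => D3 → Pt) (@D3.rec (fun _ => Pt) ⟨.c1, .c0, .c0⟩ ⟨.c0, .c12, .c1⟩ ⟨.c1, .c0, .c2⟩ ⟨.c1, .c4, .c4⟩ ⟨.c1, .c4, .c5⟩ ⟨.c0, .c12, .c2⟩ ⟨.c1, .c0, .c6⟩ ⟨.c1, .c4, .c7⟩ ⟨.c1, .c4, .c10⟩ ⟨.c1, .c0, .c9⟩ ⟨.c1, .c0, .c10⟩ ⟨.c1, .c4, .c14⟩ ⟨.c1, .c4, .c15⟩ ⟨.c0, .c12, .c8⟩ ⟨.c0, .c12, .c9⟩ ⟨.c0, .c12, .c13⟩ ⟨.c0, .c12, .c11⟩ ⟨.c1, .c5, .c4⟩) (@D3.rec (fun _ => Pt) ⟨.c1, .c5, .c0⟩ ⟨.c1, .c1, .c1⟩ ⟨.c1, .c5, .c2⟩ ⟨.c0, .c12, .c14⟩ ⟨.c1, .c5, .c10⟩ ⟨.c1, .c5, .c12⟩ ⟨.c1, .c5, .c13⟩ ⟨.c0, .c12, .c17⟩ ⟨.c1, .c1, .c8⟩ ⟨.c0,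 .c13, .c2⟩ ⟨.c1, .c6, .c1⟩ ⟨.c1, .c6, .c0⟩ ⟨.c0, .c13, .c3⟩ ⟨.c1, .c1, .c13⟩ ⟨.c1, .c1, .c14⟩ ⟨.c0, .c13, .c8⟩ ⟨.c1, .c1, .c16⟩ ⟨.c0, .c13, .c7⟩) (@D3.rec (fun _ => Pt) ⟨.c1, .c6, .c12⟩ ⟨.c1, .c6, .c9⟩ ⟨.c0, .c13, .c9⟩ ⟨.c1, .c6, .c13⟩ ⟨.c1, .c2, .c4⟩ ⟨.c0, .c13, .c12⟩ ⟨.c1, .c2, .c6⟩ ⟨.c1, .c2, .c7⟩ ⟨.c1, .c7, .c2⟩ ⟨.c1, .c2, .c9⟩ ⟨.c1, .c2, .c10⟩ ⟨.c1, .c7, .c6⟩ ⟨.c1, .c7, .c7⟩ ⟨.c0, .c14, .c1⟩ ⟨.c0, .c14, .c2⟩ ⟨.c0, .c14, .c6⟩ ⟨.c0, .c14, .c4⟩ ⟨.c1, .c7, .c14⟩) (@D3.rec (fun _ => Pt) ⟨.c1, .c7, .c10⟩ ⟨.c1, .c3, .c1⟩ ⟨.c1, .c7, .c12⟩ ⟨.c0, .c14, .c7⟩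 ⟨.c1, .c3, .c4⟩ ⟨.c1, .c3, .c5⟩ ⟨.c0, .c14, .c12⟩ ⟨.c1, .c3, .c7⟩ ⟨.c0, .c14, .c11⟩ ⟨.c1, .c8, .c9⟩ ⟨.c1, .c8, .c6⟩ ⟨.c1, .c8, .c10⟩ ⟨.c1, .c8, .c13⟩ ⟨.c1, .c3, .c13⟩ ⟨.c0, .c14, .c15⟩ ⟨.c1, .c8, .c17⟩ ⟨.c1, .c9, .c1⟩ ⟨.c1, .c9, .c2⟩) (@D3.rec (fun _ => Pt) ⟨.c1, .c4, .c0⟩ ⟨.c1, .c4, .c1⟩ ⟨.c1, .c9, .c6⟩ ⟨.c1, .c9, .c7⟩ ⟨.c1, .c0, .c3⟩ ⟨.c1, .c0, .c4⟩ ⟨.c1, .c4, .c6⟩ ⟨.c1, .c0, .c7⟩ ⟨.c1, .c9, .c15⟩ ⟨.c1, .c9, .c14⟩ ⟨.c1, .c0, .c8⟩ ⟨.c1, .c10, .c1⟩ ⟨.c1, .c10, .c3⟩ ⟨.c1, .c10, .c4⟩ ⟨.c1, .c0, .c11⟩ ⟨.c1, .c0, .c12⟩ ⟨.c1, .c4, .c16⟩ ⟨.c1, .c4, .c17⟩)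 (@D3.rec (fun _ => Pt) ⟨.c1, .c1, .c0⟩ ⟨.c1, .c5, .c1⟩ ⟨.c1, .c1, .c2⟩ ⟨.c1, .c5, .c3⟩ ⟨.c1, .c0, .c17⟩ ⟨.c1, .c11, .c0⟩ ⟨.c1, .c10, .c12⟩ ⟨.c1, .c11, .c3⟩ ⟨.c1, .c10, .c15⟩ ⟨.c1, .c5, .c9⟩ ⟨.c1, .c1, .c4⟩ ⟨.c1, .c11, .c7⟩ ⟨.c1, .c1, .c5⟩ ⟨.c1, .c1, .c6⟩ ⟨.c1, .c11, .c8⟩ ⟨.c1, .c5, .c15⟩ ⟨.c1, .c5, .c16⟩ ⟨.c1, .c11, .c17⟩) (@D3.rec (fun _ => Pt) ⟨.c1, .c1, .c11⟩ ⟨.c1, .c1, .c10⟩ ⟨.c1, .c12, .c2⟩ ⟨.c1, .c12, .c1⟩ ⟨.c1, .c6, .c4⟩ ⟨.c1, .c6, .c5⟩ ⟨.c1, .c6, .c6⟩ ⟨.c1, .c12, .c10⟩ ⟨.c1, .c6, .c8⟩ ⟨.c1, .c2, .c1⟩ ⟨.c1, .c6, .c10⟩ ⟨.c1, .c6, .c11⟩ ⟨.c1, .c2,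 .c0⟩ ⟨.c1, .c2, .c3⟩ ⟨.c1, .c6, .c14⟩ ⟨.c1, .c12, .c16⟩ ⟨.c1, .c6, .c16⟩ ⟨.c1, .c6, .c17⟩) (@D3.rec (fun _ => Pt) ⟨.c1, .c7, .c0⟩ ⟨.c1, .c7, .c1⟩ ⟨.c1, .c2, .c8⟩ ⟨.c1, .c13, .c3⟩ ⟨.c1, .c13, .c5⟩ ⟨.c1, .c13, .c6⟩ ⟨.c1, .c2, .c11⟩ ⟨.c1, .c2, .c12⟩ ⟨.c1, .c7, .c8⟩ ⟨.c1, .c7, .c9⟩ ⟨.c1, .c3, .c0⟩ ⟨.c1, .c7, .c11⟩ ⟨.c1, .c3, .c2⟩ ⟨.c1, .c7, .c13⟩ ⟨.c1, .c2, .c17⟩ ⟨.c1, .c14, .c2⟩ ⟨.c1, .c13, .c14⟩ ⟨.c1, .c14, .c5⟩) (@D3.rec (fun _ => Pt) ⟨.c1, .c13, .c17⟩ ⟨.c1, .c8, .c1⟩ ⟨.c1, .c8, .c2⟩ ⟨.c1, .c8, .c3⟩ ⟨.c1, .c14, .c11⟩ ⟨.c1, .c8, .c5⟩ ⟨.c1, .c3, .c10⟩ ⟨.c1,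 .c8, .c7⟩ ⟨.c1, .c8, .c8⟩ ⟨.c1, .c3, .c9⟩ ⟨.c1, .c3, .c11⟩ ⟨.c1, .c8, .c11⟩ ⟨.c1, .c14, .c17⟩ ⟨.c1, .c3, .c12⟩ ⟨.c2, .c0, .c2⟩ ⟨.c2, .c0, .c4⟩ ⟨.c1, .c8, .c16⟩ ⟨.c1, .c3, .c15⟩) (@D3.rec (fun _ => Pt) ⟨.c2, .c0, .c7⟩ ⟨.c1, .c3, .c16⟩ ⟨.c1, .c3, .c17⟩ ⟨.c2, .c0, .c10⟩ ⟨.c2, .c0, .c12⟩ ⟨.c2, .c0, .c13⟩ ⟨.c1, .c4, .c2⟩ ⟨.c1, .c4, .c3⟩ ⟨.c2, .c0, .c8⟩ ⟨.c1, .c9, .c9⟩ ⟨.c1, .c9, .c10⟩ ⟨.c1, .c9, .c11⟩ ⟨.c1, .c9, .c12⟩ ⟨.c2, .c1, .c8⟩ ⟨.c1, .c4, .c9⟩ ⟨.c1, .c4, .c8⟩ ⟨.c2, .c1, .c11⟩ ⟨.c2, .c1, .c10⟩) (@D3.rec (fun _ => Pt) ⟨.c1, .c10, .c0⟩ ⟨.c1, .c4, .c11⟩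 ⟨.c2, .c1, .c16⟩ ⟨.c1, .c4, .c12⟩ ⟨.c1, .c4, .c13⟩ ⟨.c1, .c10, .c5⟩ ⟨.c2, .c2, .c0⟩ ⟨.c1, .c10, .c7⟩ ⟨.c1, .c10, .c8⟩ ⟨.c1, .c10, .c9⟩ ⟨.c2, .c2, .c11⟩ ⟨.c1, .c10, .c11⟩ ⟨.c1, .c5, .c6⟩ ⟨.c2, .c2, .c16⟩ ⟨.c1, .c10, .c14⟩ ⟨.c1, .c5, .c8⟩ ⟨.c1, .c10, .c16⟩ ⟨.c1, .c10, .c17⟩) (@D3.rec (fun _ => Pt) ⟨.c1, .c5, .c5⟩ ⟨.c2, .c2, .c14⟩ ⟨.c2, .c3, .c5⟩ ⟨.c1, .c5, .c7⟩ ⟨.c1, .c11, .c4⟩ ⟨.c1, .c11, .c5⟩ ⟨.c2, .c3, .c7⟩ ⟨.c1, .c5, .c11⟩ ⟨.c1, .c5, .c14⟩ ⟨.c1, .c11, .c9⟩ ⟨.c2, .c3, .c8⟩ ⟨.c1, .c11, .c11⟩ ⟨.c2, .c3, .c10⟩ ⟨.c2, .c4, .c0⟩ ⟨.c1, .c11, .c14⟩ ⟨.c1, .c11,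 .c15⟩ ⟨.c2, .c4, .c4⟩ ⟨.c1, .c5, .c17⟩) (@D3.rec (fun _ => Pt) ⟨.c2, .c4, .c6⟩ ⟨.c1, .c6, .c3⟩ ⟨.c1, .c6, .c2⟩ ⟨.c1, .c12, .c3⟩ ⟨.c2, .c4, .c9⟩ ⟨.c1, .c12, .c5⟩ ⟨.c2, .c4, .c12⟩ ⟨.c1, .c12, .c7⟩ ⟨.c1, .c12, .c8⟩ ⟨.c2, .c4, .c16⟩ ⟨.c1, .c6, .c7⟩ ⟨.c2, .c5, .c0⟩ ⟨.c1, .c12, .c12⟩ ⟨.c1, .c12, .c13⟩ ⟨.c1, .c12, .c14⟩ ⟨.c1, .c12, .c15⟩ ⟨.c1, .c6, .c15⟩ ⟨.c1, .c12, .c17⟩) (@D3.rec (fun _ => Pt) ⟨.c2, .c5, .c6⟩ ⟨.c1, .c13, .c1⟩ ⟨.c1, .c13, .c2⟩ ⟨.c1, .c7, .c3⟩ ⟨.c2, .c5, .c10⟩ ⟨.c1, .c7, .c4⟩ ⟨.c1, .c7, .c5⟩ ⟨.c1, .c13, .c7⟩ ⟨.c2, .c5, .c12⟩ ⟨.c1, .c13, .c9⟩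 ⟨.c1, .c13, .c10⟩ ⟨.c1, .c13, .c11⟩ ⟨.c2, .c6, .c5⟩ ⟨.c1, .c13, .c13⟩ ⟨.c1, .c7, .c16⟩ ⟨.c2, .c6, .c10⟩ ⟨.c1, .c13, .c16⟩ ⟨.c1, .c8, .c0⟩) (@D3.rec (fun _ => Pt) ⟨.c1, .c14, .c0⟩ ⟨.c1, .c14, .c1⟩ ⟨.c1, .c7, .c15⟩ ⟨.c2, .c6, .c8⟩ ⟨.c2, .c6, .c17⟩ ⟨.c1, .c7, .c17⟩ ⟨.c1, .c14, .c6⟩ ⟨.c2, .c7, .c3⟩ ⟨.c1, .c14, .c8⟩ ⟨.c1, .c14, .c9⟩ ⟨.c2, .c7, .c4⟩ ⟨.c1, .c8, .c4⟩ ⟨.c2, .c7, .c2⟩ ⟨.c1, .c14, .c13⟩ ⟨.c1, .c14, .c14⟩ ⟨.c1, .c14, .c15⟩ ⟨.c1, .c14, .c16⟩ ⟨.c1, .c8, .c12⟩)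
def f_d_2 : D2 → D3 → Pt := @D2.rec (fun _ => D3 → Pt) (@D3.rec (fun _ => Pt) ⟨.c2, .c0, .c0⟩ ⟨.c2, .c7, .c12⟩ ⟨.c1, .c8, .c14⟩ ⟨.c2, .c7, .c14⟩ ⟨.c1, .c8, .c15⟩ ⟨.c2, .c0, .c5⟩ ⟨.c2, .c7, .c17⟩ ⟨.c1, .c9, .c0⟩ ⟨.c1, .c9, .c8⟩ ⟨.c2, .c0, .c9⟩ ⟨.c1, .c9, .c3⟩ ⟨.c2, .c8, .c6⟩ ⟨.c1, .c9, .c4⟩ ⟨.c1, .c9, .c5⟩ ⟨.c2, .c7, .c15⟩ ⟨.c2, .c8, .c8⟩ ⟨.c2, .c8, .c0⟩ ⟨.c2, .c0, .c17⟩) (@D3.rec (fun _ => Pt) ⟨.c2, .c8, .c2⟩ ⟨.c2, .c9, .c1⟩ ⟨.c2, .c1, .c2⟩ ⟨.c2, .c1, .c3⟩ ⟨.c2, .c9, .c6⟩ ⟨.c2, .c1, .c5⟩ ⟨.c2, .c1, .c6⟩ ⟨.c2, .c9, .c10⟩ ⟨.c1, .c9, .c13⟩ ⟨.c2, .c9, .c12⟩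 ⟨.c1, .c9, .c17⟩ ⟨.c1, .c9, .c16⟩ ⟨.c2, .c1, .c12⟩ ⟨.c2, .c9, .c16⟩ ⟨.c2, .c1, .c14⟩ ⟨.c2, .c10, .c2⟩ ⟨.c1, .c10, .c2⟩ ⟨.c2, .c1, .c17⟩) (@D3.rec (fun _ => Pt) ⟨.c1, .c10, .c6⟩ ⟨.c2, .c2, .c1⟩ ⟨.c2, .c10, .c4⟩ ⟨.c2, .c2, .c3⟩ ⟨.c2, .c10, .c13⟩ ⟨.c2, .c10, .c7⟩ ⟨.c2, .c2, .c6⟩ ⟨.c2, .c11, .c0⟩ ⟨.c2, .c2, .c8⟩ ⟨.c2, .c2, .c9⟩ ⟨.c2, .c11, .c4⟩ ⟨.c1, .c10, .c10⟩ ⟨.c2, .c11, .c6⟩ ⟨.c2, .c2, .c13⟩ ⟨.c1, .c11, .c1⟩ ⟨.c2, .c11, .c9⟩ ⟨.c1, .c10, .c13⟩ ⟨.c2, .c11, .c11⟩) (@D3.rec (fun _ => Pt) ⟨.c2, .c3, .c0⟩ ⟨.c2, .c3, .c1⟩ ⟨.c2, .c3, .c2⟩ ⟨.c2, .c3, .c3⟩ ⟨.c2,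 .c11, .c16⟩ ⟨.c1, .c11, .c2⟩ ⟨.c2, .c3, .c6⟩ ⟨.c1, .c11, .c6⟩ ⟨.c1, .c11, .c10⟩ ⟨.c2, .c3, .c9⟩ ⟨.c1, .c11, .c12⟩ ⟨.c2, .c12, .c7⟩ ⟨.c2, .c3, .c12⟩ ⟨.c2, .c12, .c3⟩ ⟨.c2, .c12, .c11⟩ ⟨.c2, .c3, .c15⟩ ⟨.c2, .c12, .c5⟩ ⟨.c2, .c12, .c15⟩) (@D3.rec (fun _ => Pt) ⟨.c1, .c11, .c13⟩ ⟨.c2, .c12, .c17⟩ ⟨.c2, .c4, .c2⟩ ⟨.c2, .c13, .c2⟩ ⟨.c1, .c11, .c16⟩ ⟨.c2, .c13, .c4⟩ ⟨.c1, .c12, .c0⟩ ⟨.c2, .c13, .c0⟩ ⟨.c2, .c13, .c7⟩ ⟨.c1, .c12, .c4⟩ ⟨.c2, .c4, .c10⟩ ⟨.c2, .c13, .c9⟩ ⟨.c1, .c12, .c6⟩ ⟨.c2, .c7, .c6⟩ ⟨.c2, .c4, .c14⟩ ⟨.c2, .c13, .c10⟩ ⟨.c1, .c12, .c9⟩ ⟨.c2,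 .c13, .c8⟩) (@D3.rec (fun _ => Pt) ⟨.c1, .c12, .c11⟩ ⟨.c2, .c13, .c14⟩ ⟨.c2, .c5, .c2⟩ ⟨.c2, .c5, .c3⟩ ⟨.c2, .c5, .c4⟩ ⟨.c2, .c13, .c17⟩ ⟨.c1, .c13, .c0⟩ ⟨.c2, .c5, .c7⟩ ⟨.c2, .c5, .c8⟩ ⟨.c2, .c14, .c1⟩ ⟨.c1, .c13, .c4⟩ ⟨.c2, .c5, .c11⟩ ⟨.c1, .c13, .c8⟩ ⟨.c2, .c5, .c13⟩ ⟨.c2, .c14, .c3⟩ ⟨.c2, .c5, .c15⟩ ⟨.c2, .c14, .c12⟩ ⟨.c2, .c14, .c6⟩) (@D3.rec (fun _ => Pt) ⟨.c2, .c6, .c0⟩ ⟨.c2, .c14, .c17⟩ ⟨.c2, .c6, .c2⟩ ⟨.c2, .c6, .c3⟩ ⟨.c3, .c0, .c3⟩ ⟨.c1, .c13, .c12⟩ ⟨.c3, .c0, .c5⟩ ⟨.c2, .c6, .c7⟩ ⟨.c1, .c14, .c3⟩ ⟨.c3, .c0, .c8⟩ ⟨.c1, .c13, .c15⟩ ⟨.c3, .c0,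 .c10⟩ ⟨.c2, .c6, .c12⟩ ⟨.c2, .c6, .c13⟩ ⟨.c2, .c6, .c14⟩ ⟨.c2, .c6, .c15⟩ ⟨.c3, .c0, .c15⟩ ⟨.c1, .c14, .c4⟩) (@D3.rec (fun _ => Pt) ⟨.c2, .c7, .c0⟩ ⟨.c2, .c7, .c1⟩ ⟨.c1, .c14, .c12⟩ ⟨.c1, .c14, .c7⟩ ⟨.c1, .c14, .c10⟩ ⟨.c2, .c7, .c5⟩ ⟨.c2, .c4, .c13⟩ ⟨.c2, .c14, .c16⟩ ⟨.c2, .c7, .c8⟩ ⟨.c2, .c7, .c9⟩ ⟨.c3, .c0, .c17⟩ ⟨.c3, .c1, .c0⟩ ⟨.c2, .c0, .c1⟩ ⟨.c3, .c1, .c3⟩ ⟨.c2, .c0, .c3⟩ ⟨.c2, .c0, .c14⟩ ⟨.c3, .c1, .c2⟩ ⟨.c2, .c0, .c6⟩) (@D3.rec (fun _ => Pt) ⟨.c2, .c0, .c16⟩ ⟨.c2, .c8, .c1⟩ ⟨.c2, .c1, .c0⟩ ⟨.c3, .c1, .c15⟩ ⟨.c2, .c8, .c4⟩ ⟨.c3, .c2, .c0⟩ ⟨.c2,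 .c0, .c11⟩ ⟨.c3, .c1, .c1⟩ ⟨.c2, .c0, .c15⟩ ⟨.c3, .c1, .c4⟩ ⟨.c3, .c2, .c2⟩ ⟨.c3, .c1, .c6⟩ ⟨.c3, .c2, .c11⟩ ⟨.c3, .c2, .c5⟩ ⟨.c3, .c1, .c10⟩ ⟨.c3, .c2, .c16⟩ ⟨.c2, .c8, .c16⟩ ⟨.c3, .c1, .c13⟩) (@D3.rec (fun _ => Pt) ⟨.c3, .c3, .c2⟩ ⟨.c2, .c1, .c1⟩ ⟨.c3, .c3, .c4⟩ ⟨.c2, .c9, .c3⟩ ⟨.c2, .c9, .c4⟩ ⟨.c3, .c3, .c8⟩ ⟨.c2, .c1, .c4⟩ ⟨.c3, .c3, .c10⟩ ⟨.c2, .c9, .c8⟩ ⟨.c3, .c3, .c13⟩ ⟨.c2, .c1, .c7⟩ ⟨.c3, .c3, .c15⟩ ⟨.c2, .c1, .c9⟩ ⟨.c3, .c3, .c5⟩ ⟨.c3, .c4, .c1⟩ ⟨.c2, .c9, .c15⟩ ⟨.c2, .c1, .c13⟩ ⟨.c2, .c9, .c17⟩) (@D3.rec (fun _ => Pt) ⟨.c2, .c10, .c0⟩ ⟨.c2,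 .c13, .c16⟩ ⟨.c2, .c1, .c15⟩ ⟨.c2, .c10, .c3⟩ ⟨.c2, .c2, .c2⟩ ⟨.c2, .c10, .c5⟩ ⟨.c3, .c4, .c12⟩ ⟨.c2, .c2, .c5⟩ ⟨.c2, .c10, .c8⟩ ⟨.c3, .c4, .c17⟩ ⟨.c3, .c4, .c9⟩ ⟨.c2, .c10, .c11⟩ ⟨.c3, .c5, .c3⟩ ⟨.c2, .c2, .c4⟩ ⟨.c3, .c5, .c5⟩ ⟨.c3, .c4, .c14⟩ ⟨.c2, .c10, .c16⟩ ⟨.c3, .c5, .c9⟩) (@D3.rec (fun _ => Pt) ⟨.c2, .c2, .c7⟩ ⟨.c3, .c5, .c11⟩ ⟨.c2, .c11, .c2⟩ ⟨.c3, .c5, .c13⟩ ⟨.c2, .c2, .c10⟩ ⟨.c3, .c5, .c16⟩ ⟨.c2, .c2, .c12⟩ ⟨.c3, .c6, .c1⟩ ⟨.c3, .c6, .c2⟩ ⟨.c2, .c2, .c15⟩ ⟨.c3, .c6, .c5⟩ ⟨.c2, .c2, .c17⟩ ⟨.c3, .c5, .c6⟩ ⟨.c3, .c6, .c8⟩ ⟨.c2, .c11, .c14⟩ ⟨.c2,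 .c11, .c15⟩ ⟨.c2, .c3, .c4⟩ ⟨.c2, .c11, .c17⟩) (@D3.rec (fun _ => Pt) ⟨.c2, .c12, .c0⟩ ⟨.c2, .c12, .c1⟩ ⟨.c2, .c12, .c2⟩ ⟨.c2, .c3, .c13⟩ ⟨.c3, .c6, .c17⟩ ⟨.c2, .c3, .c16⟩ ⟨.c3, .c7, .c1⟩ ⟨.c2, .c3, .c11⟩ ⟨.c3, .c7, .c3⟩ ⟨.c3, .c6, .c15⟩ ⟨.c3, .c7, .c6⟩ ⟨.c2, .c3, .c14⟩ ⟨.c3, .c7, .c8⟩ ⟨.c2, .c12, .c13⟩ ⟨.c3, .c7, .c11⟩ ⟨.c2, .c3, .c17⟩ ⟨.c3, .c7, .c14⟩ ⟨.c2, .c4, .c1⟩) (@D3.rec (fun _ => Pt) ⟨.c2, .c4, .c7⟩ ⟨.c3, .c7, .c17⟩ ⟨.c2, .c4, .c3⟩ ⟨.c3, .c8, .c0⟩ ⟨.c2, .c4, .c5⟩ ⟨.c3, .c7, .c15⟩ ⟨.c3, .c8, .c3⟩ ⟨.c2, .c4, .c8⟩ ⟨.c2, .c4, .c17⟩ ⟨.c2, .c4, .c11⟩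 ⟨.c2, .c4, .c15⟩ ⟨.c3, .c0, .c2⟩ ⟨.c3, .c7, .c13⟩ ⟨.c3, .c5, .c8⟩ ⟨.c2, .c5, .c1⟩ ⟨.c2, .c13, .c15⟩ ⟨.c2, .c10, .c1⟩ ⟨.c2, .c5, .c5⟩) (@D3.rec (fun _ => Pt) ⟨.c2, .c14, .c0⟩ ⟨.c2, .c5, .c9⟩ ⟨.c2, .c14, .c2⟩ ⟨.c2, .c5, .c14⟩ ⟨.c2, .c14, .c4⟩ ⟨.c3, .c8, .c8⟩ ⟨.c2, .c5, .c17⟩ ⟨.c2, .c14, .c7⟩ ⟨.c3, .c8, .c13⟩ ⟨.c3, .c8, .c6⟩ ⟨.c2, .c14, .c10⟩ ⟨.c3, .c8, .c17⟩ ⟨.c2, .c5, .c16⟩ ⟨.c3, .c9, .c1⟩ ⟨.c3, .c8, .c10⟩ ⟨.c2, .c14, .c15⟩ ⟨.c2, .c7, .c7⟩ ⟨.c2, .c6, .c1⟩)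
def f_d_3 : D2 → D3 → Pt := @D2.rec (fun _ => D3 → Pt) (@D3.rec (fun _ => Pt) ⟨.c3, .c9, .c5⟩ ⟨.c3, .c0, .c1⟩ ⟨.c2, .c13, .c11⟩ ⟨.c2, .c6, .c4⟩ ⟨.c3, .c9, .c6⟩ ⟨.c2, .c6, .c6⟩ ⟨.c3, .c9, .c4⟩ ⟨.c3, .c9, .c9⟩ ⟨.c2, .c6, .c9⟩ ⟨.c3, .c9, .c11⟩ ⟨.c2, .c6, .c11⟩ ⟨.c3, .c9, .c2⟩ ⟨.c3, .c9, .c13⟩ ⟨.c3, .c0, .c13⟩ ⟨.c3, .c0, .c14⟩ ⟨.c2, .c6, .c16⟩ ⟨.c3, .c0, .c16⟩ ⟨.c2, .c7, .c10⟩) (@D3.rec (fun _ => Pt) ⟨.c2, .c7, .c11⟩ ⟨.c2, .c8, .c7⟩ ⟨.c2, .c7, .c16⟩ ⟨.c2, .c7, .c13⟩ ⟨.c2, .c8, .c9⟩ ⟨.c3, .c10, .c1⟩ ⟨.c2, .c8, .c11⟩ ⟨.c3, .c10, .c12⟩ ⟨.c3, .c10, .c4⟩ ⟨.c3,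 .c1, .c9⟩ ⟨.c2, .c8, .c14⟩ ⟨.c3, .c11, .c0⟩ ⟨.c3, .c1, .c12⟩ ⟨.c2, .c8, .c17⟩ ⟨.c3, .c11, .c3⟩ ⟨.c2, .c8, .c3⟩ ⟨.c3, .c11, .c5⟩ ⟨.c3, .c1, .c17⟩) (@D3.rec (fun _ => Pt) ⟨.c2, .c8, .c5⟩ ⟨.c3, .c10, .c0⟩ ⟨.c2, .c8, .c10⟩ ⟨.c3, .c10, .c2⟩ ⟨.c3, .c11, .c15⟩ ⟨.c2, .c8, .c13⟩ ⟨.c3, .c10, .c7⟩ ⟨.c3, .c12, .c2⟩ ⟨.c3, .c11, .c12⟩ ⟨.c3, .c10, .c10⟩ ⟨.c3, .c12, .c6⟩ ⟨.c2, .c8, .c12⟩ ⟨.c3, .c12, .c8⟩ ⟨.c3, .c11, .c17⟩ ⟨.c3, .c10, .c16⟩ ⟨.c3, .c12, .c12⟩ ⟨.c2, .c8, .c15⟩ ⟨.c3, .c12, .c14⟩) (@D3.rec (fun _ => Pt) ⟨.c3, .c3, .c0⟩ ⟨.c3, .c12, .c17⟩ ⟨.c2, .c9, .c0⟩ ⟨.c3,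 .c13, .c2⟩ ⟨.c2, .c9, .c2⟩ ⟨.c2, .c9, .c13⟩ ⟨.c3, .c13, .c6⟩ ⟨.c3, .c13, .c9⟩ ⟨.c2, .c9, .c5⟩ ⟨.c3, .c13, .c12⟩ ⟨.c2, .c9, .c7⟩ ⟨.c3, .c12, .c9⟩ ⟨.c3, .c13, .c16⟩ ⟨.c2, .c9, .c9⟩ ⟨.c3, .c14, .c1⟩ ⟨.c2, .c9, .c11⟩ ⟨.c3, .c13, .c3⟩ ⟨.c3, .c14, .c5⟩) (@D3.rec (fun _ => Pt) ⟨.c3, .c13, .c15⟩ ⟨.c2, .c9, .c14⟩ ⟨.c3, .c13, .c7⟩ ⟨.c3, .c13, .c8⟩ ⟨.c3, .c4, .c4⟩ ⟨.c3, .c14, .c10⟩ ⟨.c3, .c4, .c6⟩ ⟨.c3, .c4, .c7⟩ ⟨.c3, .c14, .c13⟩ ⟨.c2, .c10, .c10⟩ ⟨.c3, .c4, .c10⟩ ⟨.c3, .c14, .c17⟩ ⟨.c2, .c10, .c6⟩ ⟨.c4, .c0, .c1⟩ ⟨.c2, .c10, .c15⟩ ⟨.c3, .c4, .c15⟩ ⟨.c4, .c0,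 .c5⟩ ⟨.c2, .c10, .c9⟩) (@D3.rec (fun _ => Pt) ⟨.c4, .c0, .c7⟩ ⟨.c3, .c14, .c15⟩ ⟨.c4, .c0, .c10⟩ ⟨.c2, .c10, .c12⟩ ⟨.c4, .c0, .c13⟩ ⟨.c2, .c10, .c14⟩ ⟨.c2, .c11, .c12⟩ ⟨.c4, .c0, .c17⟩ ⟨.c2, .c13, .c13⟩ ⟨.c2, .c10, .c17⟩ ⟨.c4, .c1, .c4⟩ ⟨.c2, .c11, .c1⟩ ⟨.c3, .c9, .c7⟩ ⟨.c2, .c11, .c3⟩ ⟨.c4, .c1, .c5⟩ ⟨.c3, .c13, .c1⟩ ⟨.c2, .c11, .c5⟩ ⟨.c4, .c1, .c2⟩) (@D3.rec (fun _ => Pt) ⟨.c4, .c0, .c16⟩ ⟨.c2, .c11, .c7⟩ ⟨.c2, .c11, .c8⟩ ⟨.c4, .c1, .c12⟩ ⟨.c3, .c13, .c11⟩ ⟨.c2, .c11, .c10⟩ ⟨.c4, .c0, .c14⟩ ⟨.c4, .c1, .c16⟩ ⟨.c2, .c11, .c13⟩ ⟨.c4, .c1, .c0⟩ ⟨.c4, .c1,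 .c1⟩ ⟨.c3, .c6, .c11⟩ ⟨.c3, .c6, .c12⟩ ⟨.c4, .c2, .c2⟩ ⟨.c3, .c6, .c14⟩ ⟨.c2, .c12, .c9⟩ ⟨.c4, .c2, .c5⟩ ⟨.c2, .c12, .c4⟩) (@D3.rec (fun _ => Pt) ⟨.c4, .c2, .c6⟩ ⟨.c2, .c12, .c6⟩ ⟨.c4, .c2, .c9⟩ ⟨.c2, .c12, .c8⟩ ⟨.c3, .c7, .c4⟩ ⟨.c4, .c2, .c13⟩ ⟨.c2, .c12, .c10⟩ ⟨.c4, .c2, .c15⟩ ⟨.c2, .c12, .c12⟩ ⟨.c3, .c7, .c9⟩ ⟨.c4, .c2, .c17⟩ ⟨.c2, .c12, .c14⟩ ⟨.c4, .c2, .c14⟩ ⟨.c2, .c13, .c12⟩ ⟨.c2, .c12, .c16⟩ ⟨.c2, .c13, .c5⟩ ⟨.c4, .c3, .c2⟩ ⟨.c2, .c13, .c1⟩) (@D3.rec (fun _ => Pt) ⟨.c2, .c13, .c3⟩ ⟨.c4, .c3, .c0⟩ ⟨.c4, .c3, .c3⟩ ⟨.c2, .c13, .c6⟩ ⟨.c3, .c8, .c4⟩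 ⟨.c4, .c3, .c5⟩ ⟨.c2, .c14, .c9⟩ ⟨.c4, .c3, .c8⟩ ⟨.c2, .c14, .c5⟩ ⟨.c4, .c3, .c10⟩ ⟨.c2, .c14, .c14⟩ ⟨.c3, .c8, .c11⟩ ⟨.c4, .c3, .c14⟩ ⟨.c2, .c14, .c8⟩ ⟨.c4, .c3, .c16⟩ ⟨.c4, .c3, .c7⟩ ⟨.c4, .c4, .c1⟩ ⟨.c2, .c14, .c11⟩) (@D3.rec (fun _ => Pt) ⟨.c4, .c4, .c3⟩ ⟨.c2, .c14, .c13⟩ ⟨.c3, .c0, .c11⟩ ⟨.c4, .c4, .c6⟩ ⟨.c3, .c0, .c6⟩ ⟨.c3, .c0, .c0⟩ ⟨.c3, .c0, .c4⟩ ⟨.c3, .c5, .c12⟩ ⟨.c4, .c4, .c5⟩ ⟨.c3, .c0, .c7⟩ ⟨.c4, .c4, .c8⟩ ⟨.c3, .c0, .c9⟩ ⟨.c4, .c4, .c10⟩ ⟨.c3, .c0, .c12⟩ ⟨.c4, .c4, .c7⟩ ⟨.c3, .c9, .c15⟩ ⟨.c3, .c9, .c16⟩ ⟨.c3, .c9, .c17⟩) (@D3.rec (fun _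 => Pt) ⟨.c3, .c2, .c1⟩ ⟨.c3, .c1, .c5⟩ ⟨.c3, .c2, .c3⟩ ⟨.c4, .c5, .c2⟩ ⟨.c3, .c1, .c8⟩ ⟨.c3, .c10, .c5⟩ ⟨.c3, .c10, .c6⟩ ⟨.c3, .c2, .c6⟩ ⟨.c4, .c5, .c9⟩ ⟨.c4, .c4, .c17⟩ ⟨.c3, .c2, .c9⟩ ⟨.c4, .c5, .c12⟩ ⟨.c3, .c1, .c7⟩ ⟨.c4, .c5, .c14⟩ ⟨.c4, .c5, .c4⟩ ⟨.c3, .c10, .c15⟩ ⟨.c3, .c2, .c14⟩ ⟨.c4, .c6, .c1⟩) (@D3.rec (fun _ => Pt) ⟨.c3, .c1, .c11⟩ ⟨.c4, .c6, .c3⟩ ⟨.c4, .c6, .c4⟩ ⟨.c3, .c1, .c14⟩ ⟨.c4, .c6, .c7⟩ ⟨.c3, .c1, .c16⟩ ⟨.c3, .c11, .c6⟩ ⟨.c4, .c6, .c11⟩ ⟨.c3, .c11, .c8⟩ ⟨.c3, .c11, .c9⟩ ⟨.c4, .c4, .c15⟩ ⟨.c4, .c6, .c17⟩ ⟨.c3, .c2, .c8⟩ ⟨.c4, .c5, .c0⟩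 ⟨.c4, .c7, .c3⟩ ⟨.c3, .c2, .c4⟩ ⟨.c4, .c7, .c5⟩ ⟨.c3, .c2, .c13⟩) (@D3.rec (fun _ => Pt) ⟨.c4, .c5, .c7⟩ ⟨.c4, .c7, .c9⟩ ⟨.c3, .c2, .c7⟩ ⟨.c4, .c7, .c11⟩ ⟨.c4, .c7, .c1⟩ ⟨.c4, .c7, .c14⟩ ⟨.c3, .c2, .c10⟩ ⟨.c4, .c7, .c17⟩ ⟨.c3, .c2, .c12⟩ ⟨.c3, .c3, .c11⟩ ⟨.c4, .c8, .c3⟩ ⟨.c4, .c8, .c6⟩ ⟨.c3, .c2, .c15⟩ ⟨.c4, .c8, .c9⟩ ⟨.c3, .c2, .c17⟩ ⟨.c3, .c12, .c15⟩ ⟨.c4, .c8, .c13⟩ ⟨.c3, .c3, .c1⟩) (@D3.rec (fun _ => Pt) ⟨.c4, .c8, .c17⟩ ⟨.c3, .c5, .c15⟩ ⟨.c3, .c3, .c3⟩ ⟨.c3, .c3, .c16⟩ ⟨.c4, .c9, .c5⟩ ⟨.c4, .c8, .c2⟩ ⟨.c3, .c3, .c6⟩ ⟨.c3, .c4, .c2⟩ ⟨.c3, .c4, .c3⟩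 ⟨.c3, .c3, .c7⟩ ⟨.c4, .c9, .c11⟩ ⟨.c3, .c6, .c4⟩ ⟨.c3, .c3, .c9⟩ ⟨.c4, .c8, .c0⟩ ⟨.c4, .c9, .c17⟩ ⟨.c3, .c4, .c0⟩ ⟨.c3, .c3, .c12⟩ ⟨.c4, .c8, .c4⟩) (@D3.rec (fun _ => Pt) ⟨.c4, .c8, .c5⟩ ⟨.c3, .c3, .c14⟩ ⟨.c4, .c9, .c0⟩ ⟨.c4, .c10, .c7⟩ ⟨.c4, .c9, .c16⟩ ⟨.c3, .c3, .c17⟩ ⟨.c4, .c9, .c6⟩ ⟨.c4, .c9, .c7⟩ ⟨.c4, .c10, .c2⟩ ⟨.c4, .c10, .c12⟩ ⟨.c3, .c4, .c5⟩ ⟨.c3, .c14, .c11⟩ ⟨.c4, .c10, .c15⟩ ⟨.c3, .c4, .c8⟩ ⟨.c4, .c10, .c17⟩ ⟨.c3, .c5, .c1⟩ ⟨.c4, .c11, .c1⟩ ⟨.c3, .c4, .c11⟩)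
def f_d_4 : D2 → D3 → Pt := @D2.rec (fun _ => D3 → Pt) (@D3.rec (fun _ => Pt) ⟨.c4, .c11, .c4⟩ ⟨.c3, .c4, .c13⟩ ⟨.c4, .c0, .c2⟩ ⟨.c4, .c11, .c8⟩ ⟨.c4, .c11, .c11⟩ ⟨.c3, .c4, .c16⟩ ⟨.c4, .c11, .c14⟩ ⟨.c3, .c5, .c0⟩ ⟨.c4, .c0, .c8⟩ ⟨.c4, .c12, .c0⟩ ⟨.c3, .c5, .c2⟩ ⟨.c4, .c12, .c4⟩ ⟨.c4, .c7, .c16⟩ ⟨.c3, .c5, .c4⟩ ⟨.c3, .c6, .c6⟩ ⟨.c4, .c12, .c9⟩ ⟨.c3, .c6, .c0⟩ ⟨.c3, .c5, .c7⟩) (@D3.rec (fun _ => Pt) ⟨.c3, .c6, .c9⟩ ⟨.c3, .c6, .c10⟩ ⟨.c3, .c5, .c17⟩ ⟨.c4, .c8, .c8⟩ ⟨.c3, .c5, .c10⟩ ⟨.c3, .c5, .c14⟩ ⟨.c4, .c11, .c17⟩ ⟨.c4, .c8, .c16⟩ ⟨.c4, .c9, .c2⟩ ⟨.c4,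 .c12, .c8⟩ ⟨.c4, .c12, .c11⟩ ⟨.c4, .c9, .c10⟩ ⟨.c3, .c6, .c3⟩ ⟨.c4, .c12, .c17⟩ ⟨.c4, .c9, .c14⟩ ⟨.c4, .c13, .c2⟩ ⟨.c3, .c6, .c7⟩ ⟨.c4, .c12, .c10⟩) (@D3.rec (fun _ => Pt) ⟨.c4, .c12, .c13⟩ ⟨.c4, .c12, .c14⟩ ⟨.c3, .c6, .c13⟩ ⟨.c4, .c2, .c3⟩ ⟨.c4, .c13, .c6⟩ ⟨.c3, .c6, .c16⟩ ⟨.c3, .c7, .c0⟩ ⟨.c4, .c13, .c9⟩ ⟨.c4, .c2, .c8⟩ ⟨.c3, .c7, .c2⟩ ⟨.c4, .c2, .c10⟩ ⟨.c4, .c2, .c11⟩ ⟨.c4, .c2, .c12⟩ ⟨.c3, .c7, .c5⟩ ⟨.c3, .c7, .c12⟩ ⟨.c3, .c7, .c7⟩ ⟨.c4, .c2, .c16⟩ ⟨.c3, .c7, .c10⟩) (@D3.rec (fun _ => Pt) ⟨.c3, .c8, .c1⟩ ⟨.c4, .c3, .c1⟩ ⟨.c3, .c7, .c16⟩ ⟨.c3, .c8,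 .c2⟩ ⟨.c4, .c3, .c4⟩ ⟨.c3, .c8, .c5⟩ ⟨.c4, .c13, .c13⟩ ⟨.c3, .c8, .c15⟩ ⟨.c3, .c8, .c7⟩ ⟨.c4, .c13, .c16⟩ ⟨.c3, .c8, .c9⟩ ⟨.c4, .c3, .c11⟩ ⟨.c4, .c14, .c2⟩ ⟨.c4, .c14, .c4⟩ ⟨.c3, .c8, .c12⟩ ⟨.c4, .c14, .c5⟩ ⟨.c3, .c8, .c14⟩ ⟨.c4, .c3, .c17⟩) (@D3.rec (fun _ => Pt) ⟨.c4, .c14, .c7⟩ ⟨.c3, .c8, .c16⟩ ⟨.c4, .c14, .c9⟩ ⟨.c3, .c9, .c0⟩ ⟨.c4, .c14, .c6⟩ ⟨.c3, .c9, .c8⟩ ⟨.c3, .c9, .c3⟩ ⟨.c3, .c9, .c14⟩ ⟨.c3, .c9, .c10⟩ ⟨.c4, .c14, .c12⟩ ⟨.c3, .c9, .c12⟩ ⟨.c4, .c14, .c11⟩ ⟨.c4, .c4, .c12⟩ ⟨.c4, .c14, .c15⟩ ⟨.c4, .c4, .c14⟩ ⟨.c3, .c11, .c10⟩ ⟨.c5, .c0, .c1⟩ ⟨.c3,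 .c10, .c9⟩) (@D3.rec (fun _ => Pt) ⟨.c3, .c11, .c13⟩ ⟨.c5, .c0, .c4⟩ ⟨.c3, .c10, .c3⟩ ⟨.c5, .c0, .c6⟩ ⟨.c3, .c10, .c14⟩ ⟨.c4, .c5, .c5⟩ ⟨.c5, .c0, .c11⟩ ⟨.c3, .c12, .c0⟩ ⟨.c5, .c0, .c13⟩ ⟨.c3, .c10, .c8⟩ ⟨.c5, .c0, .c15⟩ ⟨.c5, .c0, .c17⟩ ⟨.c3, .c10, .c11⟩ ⟨.c5, .c1, .c2⟩ ⟨.c3, .c10, .c13⟩ ⟨.c4, .c5, .c15⟩ ⟨.c5, .c1, .c6⟩ ⟨.c4, .c5, .c17⟩) (@D3.rec (fun _ => Pt) ⟨.c5, .c1, .c9⟩ ⟨.c3, .c10, .c17⟩ ⟨.c5, .c1, .c12⟩ ⟨.c3, .c11, .c1⟩ ⟨.c3, .c11, .c2⟩ ⟨.c5, .c1, .c15⟩ ⟨.c4, .c6, .c6⟩ ⟨.c3, .c11, .c4⟩ ⟨.c4, .c6, .c8⟩ ⟨.c5, .c2, .c3⟩ ⟨.c5, .c1, .c5⟩ ⟨.c3, .c11,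 .c7⟩ ⟨.c4, .c6, .c12⟩ ⟨.c4, .c6, .c13⟩ ⟨.c5, .c2, .c10⟩ ⟨.c4, .c6, .c15⟩ ⟨.c5, .c2, .c13⟩ ⟨.c3, .c11, .c11⟩) (@D3.rec (fun _ => Pt) ⟨.c5, .c2, .c15⟩ ⟨.c3, .c12, .c4⟩ ⟨.c5, .c3, .c0⟩ ⟨.c3, .c11, .c14⟩ ⟨.c5, .c3, .c3⟩ ⟨.c3, .c11, .c16⟩ ⟨.c4, .c7, .c6⟩ ⟨.c5, .c3, .c7⟩ ⟨.c5, .c3, .c10⟩ ⟨.c3, .c12, .c1⟩ ⟨.c5, .c3, .c13⟩ ⟨.c3, .c12, .c3⟩ ⟨.c4, .c7, .c12⟩ ⟨.c5, .c3, .c17⟩ ⟨.c3, .c12, .c5⟩ ⟨.c5, .c4, .c3⟩ ⟨.c4, .c0, .c12⟩ ⟨.c3, .c12, .c7⟩) (@D3.rec (fun _ => Pt) ⟨.c3, .c13, .c13⟩ ⟨.c5, .c4, .c9⟩ ⟨.c3, .c13, .c5⟩ ⟨.c3, .c12, .c10⟩ ⟨.c3, .c13, .c17⟩ ⟨.c3, .c14,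 .c0⟩ ⟨.c3, .c12, .c11⟩ ⟨.c5, .c4, .c16⟩ ⟨.c4, .c1, .c3⟩ ⟨.c3, .c12, .c13⟩ ⟨.c4, .c8, .c10⟩ ⟨.c5, .c5, .c1⟩ ⟨.c5, .c3, .c16⟩ ⟨.c3, .c12, .c16⟩ ⟨.c4, .c8, .c14⟩ ⟨.c4, .c8, .c15⟩ ⟨.c4, .c1, .c7⟩ ⟨.c3, .c13, .c0⟩) (@D3.rec (fun _ => Pt) ⟨.c3, .c14, .c2⟩ ⟨.c5, .c4, .c17⟩ ⟨.c4, .c1, .c8⟩ ⟨.c4, .c9, .c3⟩ ⟨.c5, .c4, .c8⟩ ⟨.c3, .c13, .c4⟩ ⟨.c3, .c14, .c6⟩ ⟨.c3, .c14, .c7⟩ ⟨.c5, .c4, .c12⟩ ⟨.c5, .c5, .c11⟩ ⟨.c4, .c1, .c11⟩ ⟨.c3, .c13, .c10⟩ ⟨.c5, .c4, .c4⟩ ⟨.c5, .c5, .c15⟩ ⟨.c4, .c1, .c14⟩ ⟨.c5, .c6, .c3⟩ ⟨.c3, .c14, .c4⟩ ⟨.c3, .c13, .c14⟩) (@D3.rec (fun _ =>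 Pt) ⟨.c5, .c4, .c10⟩ ⟨.c5, .c4, .c11⟩ ⟨.c3, .c14, .c8⟩ ⟨.c5, .c6, .c10⟩ ⟨.c5, .c4, .c14⟩ ⟨.c5, .c4, .c15⟩ ⟨.c5, .c5, .c14⟩ ⟨.c3, .c14, .c3⟩ ⟨.c5, .c5, .c6⟩ ⟨.c5, .c2, .c1⟩ ⟨.c5, .c6, .c5⟩ ⟨.c5, .c6, .c15⟩ ⟨.c3, .c14, .c9⟩ ⟨.c5, .c6, .c16⟩ ⟨.c4, .c10, .c14⟩ ⟨.c3, .c14, .c12⟩ ⟨.c5, .c7, .c1⟩ ⟨.c3, .c14, .c14⟩) (@D3.rec (fun _ => Pt) ⟨.c5, .c7, .c4⟩ ⟨.c3, .c14, .c16⟩ ⟨.c5, .c7, .c6⟩ ⟨.c5, .c3, .c2⟩ ⟨.c4, .c0, .c0⟩ ⟨.c4, .c11, .c5⟩ ⟨.c5, .c7, .c12⟩ ⟨.c4, .c11, .c7⟩ ⟨.c4, .c0, .c3⟩ ⟨.c4, .c11, .c9⟩ ⟨.c4, .c11, .c10⟩ ⟨.c4, .c0, .c4⟩ ⟨.c5, .c8, .c2⟩ ⟨.c5, .c3,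 .c12⟩ ⟨.c4, .c0, .c6⟩ ⟨.c4, .c11, .c15⟩ ⟨.c5, .c8, .c6⟩ ⟨.c4, .c1, .c6⟩) (@D3.rec (fun _ => Pt) ⟨.c4, .c0, .c9⟩ ⟨.c4, .c12, .c1⟩ ⟨.c4, .c12, .c2⟩ ⟨.c5, .c4, .c2⟩ ⟨.c4, .c0, .c11⟩ ⟨.c5, .c8, .c5⟩ ⟨.c5, .c4, .c6⟩ ⟨.c5, .c8, .c12⟩ ⟨.c4, .c1, .c9⟩ ⟨.c4, .c0, .c15⟩ ⟨.c4, .c1, .c17⟩ ⟨.c4, .c1, .c10⟩ ⟨.c4, .c12, .c12⟩ ⟨.c4, .c2, .c0⟩ ⟨.c4, .c2, .c1⟩ ⟨.c5, .c8, .c15⟩ ⟨.c5, .c5, .c12⟩ ⟨.c4, .c1, .c13⟩) (@D3.rec (fun _ => Pt) ⟨.c5, .c6, .c1⟩ ⟨.c5, .c9, .c0⟩ ⟨.c4, .c1, .c15⟩ ⟨.c5, .c8, .c14⟩ ⟨.c5, .c7, .c16⟩ ⟨.c5, .c9, .c1⟩ ⟨.c4, .c2, .c4⟩ ⟨.c4, .c13, .c7⟩ ⟨.c4,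 .c13, .c8⟩ ⟨.c4, .c2, .c7⟩ ⟨.c4, .c13, .c10⟩ ⟨.c4, .c13, .c11⟩ ⟨.c4, .c13, .c12⟩ ⟨.c4, .c3, .c6⟩ ⟨.c5, .c9, .c4⟩ ⟨.c4, .c13, .c15⟩ ⟨.c4, .c3, .c9⟩ ⟨.c4, .c13, .c17⟩) (@D3.rec (fun _ => Pt) ⟨.c5, .c9, .c7⟩ ⟨.c4, .c14, .c1⟩ ⟨.c4, .c3, .c12⟩ ⟨.c4, .c14, .c3⟩ ⟨.c4, .c3, .c13⟩ ⟨.c4, .c3, .c15⟩ ⟨.c4, .c4, .c4⟩ ⟨.c4, .c4, .c0⟩ ⟨.c4, .c14, .c8⟩ ⟨.c4, .c4, .c2⟩ ⟨.c4, .c14, .c10⟩ ⟨.c4, .c4, .c11⟩ ⟨.c4, .c4, .c9⟩ ⟨.c4, .c14, .c13⟩ ⟨.c5, .c9, .c10⟩ ⟨.c4, .c4, .c13⟩ ⟨.c5, .c9, .c12⟩ ⟨.c4, .c14, .c17⟩)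
def f_d_5 : D2 → D3 → Pt := @D2.rec (fun _ => D3 → Pt) (@D3.rec (fun _ => Pt) ⟨.c5, .c9, .c15⟩ ⟨.c4, .c4, .c16⟩ ⟨.c5, .c9, .c17⟩ ⟨.c5, .c10, .c1⟩ ⟨.c4, .c5, .c1⟩ ⟨.c5, .c10, .c4⟩ ⟨.c4, .c5, .c3⟩ ⟨.c5, .c9, .c13⟩ ⟨.c5, .c10, .c8⟩ ⟨.c5, .c0, .c9⟩ ⟨.c5, .c10, .c12⟩ ⟨.c4, .c5, .c6⟩ ⟨.c5, .c10, .c14⟩ ⟨.c4, .c5, .c8⟩ ⟨.c5, .c10, .c17⟩ ⟨.c4, .c5, .c10⟩ ⟨.c5, .c10, .c13⟩ ⟨.c4, .c5, .c11⟩) (@D3.rec (fun _ => Pt) ⟨.c5, .c11, .c5⟩ ⟨.c5, .c1, .c1⟩ ⟨.c4, .c5, .c13⟩ ⟨.c5, .c1, .c3⟩ ⟨.c5, .c11, .c11⟩ ⟨.c4, .c6, .c10⟩ ⟨.c4, .c5, .c16⟩ ⟨.c5, .c1, .c7⟩ ⟨.c5, .c1, .c8⟩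 ⟨.c4, .c6, .c0⟩ ⟨.c5, .c12, .c0⟩ ⟨.c5, .c1, .c11⟩ ⟨.c4, .c6, .c2⟩ ⟨.c5, .c11, .c1⟩ ⟨.c5, .c1, .c14⟩ ⟨.c4, .c6, .c5⟩ ⟨.c5, .c1, .c16⟩ ⟨.c5, .c12, .c5⟩) (@D3.rec (fun _ => Pt) ⟨.c5, .c2, .c0⟩ ⟨.c4, .c10, .c9⟩ ⟨.c5, .c11, .c10⟩ ⟨.c4, .c6, .c9⟩ ⟨.c5, .c2, .c4⟩ ⟨.c5, .c2, .c5⟩ ⟨.c5, .c11, .c14⟩ ⟨.c5, .c12, .c13⟩ ⟨.c5, .c2, .c8⟩ ⟨.c5, .c2, .c9⟩ ⟨.c4, .c6, .c14⟩ ⟨.c5, .c12, .c14⟩ ⟨.c5, .c2, .c12⟩ ⟨.c4, .c6, .c16⟩ ⟨.c5, .c13, .c0⟩ ⟨.c4, .c7, .c0⟩ ⟨.c5, .c12, .c15⟩ ⟨.c5, .c13, .c4⟩) (@D3.rec (fun _ => Pt) ⟨.c4, .c7, .c2⟩ ⟨.c5, .c13, .c8⟩ ⟨.c4, .c11, .c3⟩ ⟨.c4,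 .c7, .c4⟩ ⟨.c5, .c3, .c4⟩ ⟨.c5, .c13, .c14⟩ ⟨.c5, .c3, .c6⟩ ⟨.c4, .c7, .c7⟩ ⟨.c5, .c3, .c8⟩ ⟨.c5, .c3, .c9⟩ ⟨.c4, .c7, .c8⟩ ⟨.c5, .c14, .c4⟩ ⟨.c4, .c11, .c13⟩ ⟨.c4, .c7, .c10⟩ ⟨.c5, .c3, .c14⟩ ⟨.c5, .c14, .c9⟩ ⟨.c4, .c8, .c12⟩ ⟨.c4, .c7, .c13⟩) (@D3.rec (fun _ => Pt) ⟨.c5, .c4, .c0⟩ ⟨.c5, .c4, .c1⟩ ⟨.c4, .c12, .c3⟩ ⟨.c4, .c7, .c15⟩ ⟨.c4, .c9, .c12⟩ ⟨.c6, .c0, .c2⟩ ⟨.c4, .c12, .c6⟩ ⟨.c6, .c0, .c8⟩ ⟨.c4, .c9, .c4⟩ ⟨.c4, .c8, .c1⟩ ⟨.c4, .c10, .c0⟩ ⟨.c4, .c10, .c1⟩ ⟨.c4, .c9, .c8⟩ ⟨.c6, .c0, .c16⟩ ⟨.c4, .c10, .c4⟩ ⟨.c4, .c10, .c5⟩ ⟨.c4, .c8, .c7⟩ ⟨.c4, .c9,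 .c1⟩) (@D3.rec (fun _ => Pt) ⟨.c5, .c14, .c8⟩ ⟨.c4, .c8, .c11⟩ ⟨.c5, .c5, .c2⟩ ⟨.c5, .c14, .c12⟩ ⟨.c6, .c0, .c14⟩ ⟨.c6, .c0, .c1⟩ ⟨.c4, .c10, .c8⟩ ⟨.c6, .c1, .c6⟩ ⟨.c5, .c5, .c8⟩ ⟨.c6, .c0, .c10⟩ ⟨.c6, .c1, .c8⟩ ⟨.c4, .c9, .c9⟩ ⟨.c4, .c12, .c16⟩ ⟨.c5, .c13, .c1⟩ ⟨.c4, .c10, .c6⟩ ⟨.c4, .c9, .c13⟩ ⟨.c6, .c0, .c3⟩ ⟨.c6, .c0, .c4⟩) (@D3.rec (fun _ => Pt) ⟨.c5, .c6, .c0⟩ ⟨.c4, .c13, .c0⟩ ⟨.c6, .c2, .c3⟩ ⟨.c4, .c9, .c15⟩ ⟨.c6, .c2, .c6⟩ ⟨.c4, .c10, .c10⟩ ⟨.c6, .c2, .c8⟩ ⟨.c6, .c0, .c12⟩ ⟨.c6, .c0, .c13⟩ ⟨.c5, .c11, .c2⟩ ⟨.c4, .c10, .c3⟩ ⟨.c6, .c2, .c13⟩ ⟨.c6,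 .c1, .c0⟩ ⟨.c6, .c1, .c14⟩ ⟨.c6, .c2, .c14⟩ ⟨.c4, .c10, .c11⟩ ⟨.c4, .c10, .c13⟩ ⟨.c6, .c2, .c16⟩) (@D3.rec (fun _ => Pt) ⟨.c5, .c12, .c17⟩ ⟨.c4, .c10, .c16⟩ ⟨.c6, .c3, .c2⟩ ⟨.c5, .c7, .c3⟩ ⟨.c4, .c11, .c0⟩ ⟨.c5, .c13, .c7⟩ ⟨.c4, .c11, .c2⟩ ⟨.c5, .c7, .c7⟩ ⟨.c6, .c3, .c7⟩ ⟨.c5, .c13, .c11⟩ ⟨.c6, .c3, .c12⟩ ⟨.c5, .c7, .c11⟩ ⟨.c4, .c11, .c6⟩ ⟨.c5, .c7, .c13⟩ ⟨.c5, .c7, .c14⟩ ⟨.c5, .c7, .c15⟩ ⟨.c4, .c13, .c4⟩ ⟨.c5, .c7, .c17⟩) (@D3.rec (fun _ => Pt) ⟨.c5, .c8, .c0⟩ ⟨.c5, .c14, .c3⟩ ⟨.c4, .c11, .c12⟩ ⟨.c5, .c14, .c6⟩ ⟨.c5, .c14, .c16⟩ ⟨.c4, .c12, .c5⟩ ⟨.c4,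 .c11, .c16⟩ ⟨.c5, .c8, .c7⟩ ⟨.c5, .c14, .c17⟩ ⟨.c6, .c4, .c0⟩ ⟨.c6, .c0, .c6⟩ ⟨.c6, .c4, .c3⟩ ⟨.c4, .c12, .c7⟩ ⟨.c5, .c8, .c13⟩ ⟨.c4, .c13, .c3⟩ ⟨.c4, .c12, .c15⟩ ⟨.c6, .c1, .c11⟩ ⟨.c6, .c4, .c6⟩) (@D3.rec (fun _ => Pt) ⟨.c4, .c13, .c1⟩ ⟨.c4, .c13, .c5⟩ ⟨.c6, .c4, .c8⟩ ⟨.c5, .c9, .c3⟩ ⟨.c4, .c13, .c14⟩ ⟨.c5, .c9, .c5⟩ ⟨.c5, .c9, .c6⟩ ⟨.c4, .c14, .c0⟩ ⟨.c5, .c9, .c8⟩ ⟨.c6, .c4, .c9⟩ ⟨.c4, .c14, .c14⟩ ⟨.c6, .c4, .c12⟩ ⟨.c4, .c14, .c16⟩ ⟨.c5, .c0, .c7⟩ ⟨.c6, .c4, .c16⟩ ⟨.c5, .c0, .c0⟩ ⟨.c6, .c5, .c2⟩ ⟨.c5, .c0, .c2⟩) (@D3.rec (fun _ => Pt) ⟨.c5, .c10, .c0⟩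 ⟨.c5, .c0, .c3⟩ ⟨.c6, .c5, .c8⟩ ⟨.c5, .c10, .c3⟩ ⟨.c5, .c0, .c5⟩ ⟨.c6, .c4, .c13⟩ ⟨.c6, .c5, .c14⟩ ⟨.c5, .c10, .c7⟩ ⟨.c5, .c0, .c8⟩ ⟨.c6, .c4, .c17⟩ ⟨.c6, .c5, .c0⟩ ⟨.c6, .c6, .c3⟩ ⟨.c5, .c0, .c10⟩ ⟨.c5, .c0, .c16⟩ ⟨.c5, .c0, .c12⟩ ⟨.c6, .c6, .c8⟩ ⟨.c5, .c10, .c16⟩ ⟨.c5, .c0, .c14⟩) (@D3.rec (fun _ => Pt) ⟨.c6, .c6, .c5⟩ ⟨.c5, .c1, .c13⟩ ⟨.c5, .c6, .c9⟩ ⟨.c6, .c6, .c6⟩ ⟨.c5, .c11, .c4⟩ ⟨.c5, .c1, .c0⟩ ⟨.c5, .c11, .c6⟩ ⟨.c6, .c7, .c3⟩ ⟨.c5, .c11, .c8⟩ ⟨.c6, .c7, .c9⟩ ⟨.c5, .c2, .c2⟩ ⟨.c5, .c1, .c4⟩ ⟨.c5, .c11, .c12⟩ ⟨.c5, .c11, .c13⟩ ⟨.c5, .c2, .c6⟩ ⟨.c6,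 .c7, .c17⟩ ⟨.c5, .c11, .c16⟩ ⟨.c5, .c11, .c17⟩) (@D3.rec (fun _ => Pt) ⟨.c5, .c1, .c10⟩ ⟨.c5, .c12, .c1⟩ ⟨.c6, .c6, .c12⟩ ⟨.c5, .c12, .c3⟩ ⟨.c6, .c7, .c2⟩ ⟨.c5, .c1, .c17⟩ ⟨.c5, .c12, .c6⟩ ⟨.c6, .c8, .c7⟩ ⟨.c6, .c7, .c11⟩ ⟨.c6, .c8, .c9⟩ ⟨.c5, .c12, .c10⟩ ⟨.c6, .c7, .c15⟩ ⟨.c6, .c8, .c10⟩ ⟨.c5, .c2, .c7⟩ ⟨.c5, .c2, .c11⟩ ⟨.c5, .c2, .c16⟩ ⟨.c6, .c8, .c13⟩ ⟨.c5, .c7, .c0⟩) (@D3.rec (fun _ => Pt) ⟨.c5, .c2, .c14⟩ ⟨.c5, .c5, .c13⟩ ⟨.c6, .c9, .c1⟩ ⟨.c5, .c13, .c3⟩ ⟨.c5, .c2, .c17⟩ ⟨.c6, .c8, .c14⟩ ⟨.c6, .c8, .c15⟩ ⟨.c5, .c7, .c5⟩ ⟨.c5, .c3, .c1⟩ ⟨.c5, .c13,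 .c9⟩ ⟨.c6, .c9, .c12⟩ ⟨.c5, .c7, .c9⟩ ⟨.c6, .c10, .c0⟩ ⟨.c5, .c13, .c13⟩ ⟨.c5, .c3, .c5⟩ ⟨.c5, .c13, .c15⟩ ⟨.c5, .c13, .c16⟩ ⟨.c5, .c13, .c17⟩) (@D3.rec (fun _ => Pt) ⟨.c6, .c10, .c8⟩ ⟨.c5, .c14, .c1⟩ ⟨.c5, .c14, .c2⟩ ⟨.c5, .c8, .c1⟩ ⟨.c5, .c3, .c11⟩ ⟨.c5, .c14, .c5⟩ ⟨.c5, .c8, .c3⟩ ⟨.c6, .c11, .c2⟩ ⟨.c5, .c5, .c0⟩ ⟨.c5, .c3, .c15⟩ ⟨.c5, .c14, .c10⟩ ⟨.c5, .c14, .c11⟩ ⟨.c5, .c5, .c3⟩ ⟨.c6, .c11, .c9⟩ ⟨.c5, .c14, .c14⟩ ⟨.c5, .c14, .c15⟩ ⟨.c5, .c8, .c4⟩ ⟨.c5, .c8, .c8⟩)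
def f_d_6 : D2 → D3 → Pt := @D2.rec (fun _ => D3 → Pt) (@D3.rec (fun _ => Pt) ⟨.c6, .c8, .c17⟩ ⟨.c5, .c5, .c5⟩ ⟨.c5, .c4, .c5⟩ ⟨.c5, .c5, .c16⟩ ⟨.c5, .c5, .c17⟩ ⟨.c6, .c12, .c3⟩ ⟨.c5, .c8, .c10⟩ ⟨.c6, .c12, .c7⟩ ⟨.c5, .c4, .c7⟩ ⟨.c6, .c12, .c10⟩ ⟨.c5, .c5, .c9⟩ ⟨.c6, .c12, .c13⟩ ⟨.c5, .c6, .c7⟩ ⟨.c5, .c6, .c8⟩ ⟨.c5, .c5, .c4⟩ ⟨.c6, .c6, .c15⟩ ⟨.c5, .c4, .c13⟩ ⟨.c6, .c13, .c0⟩) (@D3.rec (fun _ => Pt) ⟨.c5, .c6, .c12⟩ ⟨.c6, .c10, .c14⟩ ⟨.c6, .c11, .c17⟩ ⟨.c6, .c11, .c4⟩ ⟨.c6, .c12, .c11⟩ ⟨.c6, .c13, .c1⟩ ⟨.c5, .c5, .c7⟩ ⟨.c6, .c13, .c3⟩ ⟨.c5, .c5, .c10⟩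 ⟨.c6, .c1, .c9⟩ ⟨.c6, .c1, .c10⟩ ⟨.c5, .c8, .c16⟩ ⟨.c6, .c9, .c2⟩ ⟨.c6, .c9, .c3⟩ ⟨.c5, .c6, .c13⟩ ⟨.c6, .c13, .c11⟩ ⟨.c6, .c12, .c1⟩ ⟨.c6, .c12, .c2⟩) (@D3.rec (fun _ => Pt) ⟨.c6, .c2, .c0⟩ ⟨.c6, .c13, .c15⟩ ⟨.c6, .c13, .c17⟩ ⟨.c5, .c6, .c2⟩ ⟨.c6, .c14, .c2⟩ ⟨.c6, .c2, .c5⟩ ⟨.c5, .c6, .c4⟩ ⟨.c6, .c6, .c13⟩ ⟨.c5, .c6, .c6⟩ ⟨.c6, .c14, .c7⟩ ⟨.c6, .c12, .c15⟩ ⟨.c6, .c6, .c16⟩ ⟨.c6, .c2, .c12⟩ ⟨.c5, .c6, .c11⟩ ⟨.c5, .c6, .c14⟩ ⟨.c6, .c2, .c15⟩ ⟨.c5, .c6, .c17⟩ ⟨.c6, .c14, .c12⟩) (@D3.rec (fun _ => Pt) ⟨.c6, .c8, .c16⟩ ⟨.c6, .c3, .c1⟩ ⟨.c5, .c7, .c2⟩ ⟨.c6,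 .c9, .c8⟩ ⟨.c6, .c9, .c9⟩ ⟨.c6, .c10, .c11⟩ ⟨.c6, .c3, .c6⟩ ⟨.c5, .c7, .c8⟩ ⟨.c6, .c3, .c8⟩ ⟨.c7, .c0, .c1⟩ ⟨.c6, .c9, .c16⟩ ⟨.c7, .c0, .c2⟩ ⟨.c5, .c7, .c10⟩ ⟨.c6, .c3, .c13⟩ ⟨.c6, .c10, .c12⟩ ⟨.c6, .c11, .c14⟩ ⟨.c6, .c11, .c0⟩ ⟨.c6, .c11, .c12⟩) (@D3.rec (fun _ => Pt) ⟨.c5, .c8, .c9⟩ ⟨.c7, .c0, .c5⟩ ⟨.c7, .c0, .c6⟩ ⟨.c5, .c8, .c11⟩ ⟨.c6, .c4, .c4⟩ ⟨.c6, .c4, .c5⟩ ⟨.c5, .c8, .c17⟩ ⟨.c6, .c4, .c7⟩ ⟨.c5, .c9, .c2⟩ ⟨.c5, .c9, .c9⟩ ⟨.c7, .c0, .c13⟩ ⟨.c6, .c4, .c11⟩ ⟨.c5, .c9, .c11⟩ ⟨.c5, .c10, .c5⟩ ⟨.c7, .c1, .c1⟩ ⟨.c6, .c4, .c15⟩ ⟨.c5, .c9, .c14⟩ ⟨.c5,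 .c10, .c9⟩) (@D3.rec (fun _ => Pt) ⟨.c5, .c10, .c10⟩ ⟨.c6, .c5, .c1⟩ ⟨.c5, .c9, .c16⟩ ⟨.c6, .c5, .c3⟩ ⟨.c6, .c5, .c4⟩ ⟨.c6, .c5, .c5⟩ ⟨.c6, .c5, .c6⟩ ⟨.c6, .c5, .c7⟩ ⟨.c5, .c10, .c2⟩ ⟨.c7, .c0, .c14⟩ ⟨.c7, .c2, .c1⟩ ⟨.c6, .c5, .c11⟩ ⟨.c7, .c2, .c7⟩ ⟨.c6, .c5, .c13⟩ ⟨.c5, .c10, .c6⟩ ⟨.c7, .c1, .c2⟩ ⟨.c7, .c1, .c3⟩ ⟨.c6, .c5, .c17⟩) (@D3.rec (fun _ => Pt) ⟨.c7, .c2, .c15⟩ ⟨.c7, .c1, .c6⟩ ⟨.c7, .c1, .c7⟩ ⟨.c5, .c10, .c11⟩ ⟨.c6, .c6, .c4⟩ ⟨.c5, .c11, .c0⟩ ⟨.c5, .c11, .c3⟩ ⟨.c6, .c6, .c7⟩ ⟨.c5, .c10, .c15⟩ ⟨.c7, .c3, .c1⟩ ⟨.c6, .c6, .c10⟩ ⟨.c7, .c3, .c12⟩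 ⟨.c5, .c12, .c2⟩ ⟨.c6, .c2, .c7⟩ ⟨.c7, .c3, .c3⟩ ⟨.c6, .c0, .c15⟩ ⟨.c6, .c2, .c11⟩ ⟨.c6, .c6, .c17⟩) (@D3.rec (fun _ => Pt) ⟨.c6, .c7, .c0⟩ ⟨.c7, .c4, .c4⟩ ⟨.c5, .c12, .c4⟩ ⟨.c5, .c11, .c7⟩ ⟨.c6, .c7, .c4⟩ ⟨.c6, .c7, .c5⟩ ⟨.c7, .c4, .c10⟩ ⟨.c6, .c7, .c7⟩ ⟨.c7, .c4, .c14⟩ ⟨.c5, .c11, .c9⟩ ⟨.c7, .c4, .c17⟩ ⟨.c5, .c12, .c8⟩ ⟨.c7, .c5, .c2⟩ ⟨.c6, .c7, .c13⟩ ⟨.c6, .c7, .c14⟩ ⟨.c5, .c12, .c11⟩ ⟨.c7, .c5, .c6⟩ ⟨.c5, .c11, .c15⟩) (@D3.rec (fun _ => Pt) ⟨.c7, .c5, .c9⟩ ⟨.c6, .c8, .c1⟩ ⟨.c7, .c3, .c7⟩ ⟨.c7, .c5, .c10⟩ ⟨.c7, .c5, .c11⟩ ⟨.c7, .c4, .c6⟩ ⟨.c7, .c5,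 .c12⟩ ⟨.c5, .c12, .c7⟩ ⟨.c7, .c5, .c0⟩ ⟨.c5, .c12, .c9⟩ ⟨.c5, .c12, .c12⟩ ⟨.c6, .c8, .c11⟩ ⟨.c6, .c8, .c12⟩ ⟨.c5, .c12, .c16⟩ ⟨.c5, .c13, .c5⟩ ⟨.c5, .c13, .c6⟩ ⟨.c6, .c3, .c0⟩ ⟨.c6, .c0, .c0⟩) (@D3.rec (fun _ => Pt) ⟨.c6, .c9, .c0⟩ ⟨.c5, .c13, .c2⟩ ⟨.c6, .c1, .c12⟩ ⟨.c6, .c1, .c13⟩ ⟨.c6, .c9, .c4⟩ ⟨.c7, .c6, .c12⟩ ⟨.c7, .c6, .c1⟩ ⟨.c7, .c6, .c2⟩ ⟨.c6, .c3, .c3⟩ ⟨.c6, .c3, .c4⟩ ⟨.c7, .c7, .c2⟩ ⟨.c6, .c9, .c11⟩ ⟨.c5, .c13, .c10⟩ ⟨.c6, .c9, .c13⟩ ⟨.c6, .c9, .c14⟩ ⟨.c7, .c7, .c8⟩ ⟨.c6, .c3, .c10⟩ ⟨.c7, .c7, .c12⟩) (@D3.rec (fun _ => Pt) ⟨.c5, .c13, .c12⟩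 ⟨.c7, .c7, .c15⟩ ⟨.c6, .c10, .c2⟩ ⟨.c7, .c8, .c0⟩ ⟨.c6, .c10, .c4⟩ ⟨.c6, .c10, .c5⟩ ⟨.c6, .c10, .c6⟩ ⟨.c7, .c8, .c4⟩ ⟨.c5, .c14, .c0⟩ ⟨.c7, .c8, .c7⟩ ⟨.c6, .c10, .c10⟩ ⟨.c6, .c3, .c5⟩ ⟨.c6, .c3, .c14⟩ ⟨.c7, .c6, .c16⟩ ⟨.c6, .c1, .c1⟩ ⟨.c6, .c10, .c15⟩ ⟨.c6, .c10, .c16⟩ ⟨.c7, .c8, .c14⟩) (@D3.rec (fun _ => Pt) ⟨.c6, .c3, .c16⟩ ⟨.c7, .c9, .c0⟩ ⟨.c5, .c14, .c7⟩ ⟨.c7, .c9, .c2⟩ ⟨.c6, .c1, .c3⟩ ⟨.c7, .c9, .c4⟩ ⟨.c6, .c11, .c6⟩ ⟨.c6, .c11, .c7⟩ ⟨.c7, .c5, .c5⟩ ⟨.c5, .c14, .c13⟩ ⟨.c7, .c9, .c8⟩ ⟨.c6, .c11, .c11⟩ ⟨.c6, .c3, .c17⟩ ⟨.c7, .c8, .c15⟩ ⟨.c6, .c3,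 .c15⟩ ⟨.c7, .c6, .c5⟩ ⟨.c7, .c6, .c6⟩ ⟨.c6, .c1, .c2⟩) (@D3.rec (fun _ => Pt) ⟨.c7, .c9, .c15⟩ ⟨.c6, .c1, .c16⟩ ⟨.c6, .c1, .c17⟩ ⟨.c6, .c0, .c5⟩ ⟨.c7, .c8, .c9⟩ ⟨.c7, .c10, .c3⟩ ⟨.c7, .c10, .c5⟩ ⟨.c6, .c0, .c7⟩ ⟨.c7, .c10, .c8⟩ ⟨.c7, .c4, .c16⟩ ⟨.c6, .c0, .c9⟩ ⟨.c6, .c1, .c4⟩ ⟨.c7, .c3, .c14⟩ ⟨.c6, .c0, .c11⟩ ⟨.c7, .c10, .c13⟩ ⟨.c6, .c2, .c10⟩ ⟨.c7, .c3, .c16⟩ ⟨.c7, .c8, .c6⟩) (@D3.rec (fun _ => Pt) ⟨.c6, .c0, .c17⟩ ⟨.c6, .c1, .c5⟩ ⟨.c7, .c10, .c17⟩ ⟨.c6, .c1, .c7⟩ ⟨.c7, .c11, .c1⟩ ⟨.c6, .c13, .c5⟩ ⟨.c6, .c13, .c6⟩ ⟨.c7, .c11, .c5⟩ ⟨.c7, .c6, .c9⟩ ⟨.c7,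 .c6, .c10⟩ ⟨.c7, .c3, .c8⟩ ⟨.c6, .c1, .c15⟩ ⟨.c7, .c11, .c10⟩ ⟨.c7, .c9, .c17⟩ ⟨.c7, .c11, .c11⟩ ⟨.c6, .c2, .c1⟩ ⟨.c7, .c11, .c15⟩ ⟨.c6, .c2, .c2⟩) (@D3.rec (fun _ => Pt) ⟨.c7, .c11, .c17⟩ ⟨.c7, .c11, .c14⟩ ⟨.c6, .c2, .c4⟩ ⟨.c6, .c14, .c3⟩ ⟨.c6, .c14, .c4⟩ ⟨.c7, .c3, .c15⟩ ⟨.c7, .c11, .c13⟩ ⟨.c6, .c2, .c9⟩ ⟨.c6, .c14, .c8⟩ ⟨.c6, .c14, .c9⟩ ⟨.c6, .c14, .c10⟩ ⟨.c6, .c14, .c11⟩ ⟨.c6, .c2, .c17⟩ ⟨.c7, .c9, .c10⟩ ⟨.c7, .c6, .c4⟩ ⟨.c7, .c6, .c15⟩ ⟨.c7, .c12, .c9⟩ ⟨.c7, .c7, .c0⟩)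
def f_d_7 : D2 → D3 → Pt := @D2.rec (fun _ => D3 → Pt) (@D3.rec (fun _ => Pt) ⟨.c7, .c8, .c8⟩ ⟨.c6, .c3, .c9⟩ ⟨.c6, .c3, .c11⟩ ⟨.c7, .c0, .c3⟩ ⟨.c7, .c12, .c13⟩ ⟨.c6, .c4, .c1⟩ ⟨.c6, .c4, .c2⟩ ⟨.c7, .c12, .c15⟩ ⟨.c7, .c0, .c8⟩ ⟨.c7, .c0, .c9⟩ ⟨.c7, .c0, .c10⟩ ⟨.c7, .c0, .c11⟩ ⟨.c7, .c0, .c12⟩ ⟨.c6, .c4, .c10⟩ ⟨.c6, .c5, .c9⟩ ⟨.c7, .c13, .c5⟩ ⟨.c7, .c0, .c16⟩ ⟨.c7, .c13, .c9⟩) (@D3.rec (fun _ => Pt) ⟨.c7, .c1, .c0⟩ ⟨.c6, .c4, .c14⟩ ⟨.c6, .c5, .c15⟩ ⟨.c6, .c5, .c16⟩ ⟨.c7, .c1, .c4⟩ ⟨.c7, .c13, .c15⟩ ⟨.c6, .c6, .c1⟩ ⟨.c6, .c6, .c2⟩ ⟨.c7, .c1, .c8⟩ ⟨.c7,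 .c14, .c2⟩ ⟨.c7, .c1, .c10⟩ ⟨.c7, .c1, .c11⟩ ⟨.c7, .c1, .c12⟩ ⟨.c7, .c14, .c6⟩ ⟨.c7, .c1, .c14⟩ ⟨.c7, .c1, .c15⟩ ⟨.c7, .c1, .c16⟩ ⟨.c7, .c14, .c13⟩) (@D3.rec (fun _ => Pt) ⟨.c7, .c2, .c0⟩ ⟨.c6, .c5, .c10⟩ ⟨.c7, .c13, .c6⟩ ⟨.c7, .c13, .c7⟩ ⟨.c8, .c0, .c1⟩ ⟨.c7, .c2, .c5⟩ ⟨.c8, .c0, .c5⟩ ⟨.c6, .c5, .c12⟩ ⟨.c8, .c0, .c8⟩ ⟨.c7, .c2, .c9⟩ ⟨.c8, .c0, .c11⟩ ⟨.c7, .c13, .c12⟩ ⟨.c7, .c13, .c13⟩ ⟨.c7, .c2, .c13⟩ ⟨.c8, .c0, .c15⟩ ⟨.c6, .c6, .c0⟩ ⟨.c8, .c1, .c0⟩ ⟨.c7, .c13, .c17⟩) (@D3.rec (fun _ => Pt) ⟨.c7, .c3, .c0⟩ ⟨.c6, .c6, .c9⟩ ⟨.c8, .c1, .c4⟩ ⟨.c6, .c6,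 .c14⟩ ⟨.c7, .c3, .c4⟩ ⟨.c7, .c3, .c5⟩ ⟨.c8, .c1, .c10⟩ ⟨.c6, .c8, .c2⟩ ⟨.c6, .c13, .c10⟩ ⟨.c8, .c1, .c3⟩ ⟨.c8, .c1, .c14⟩ ⟨.c8, .c1, .c16⟩ ⟨.c6, .c6, .c11⟩ ⟨.c8, .c2, .c1⟩ ⟨.c6, .c12, .c12⟩ ⟨.c6, .c14, .c5⟩ ⟨.c6, .c12, .c16⟩ ⟨.c7, .c3, .c17⟩) (@D3.rec (fun _ => Pt) ⟨.c8, .c2, .c0⟩ ⟨.c8, .c2, .c7⟩ ⟨.c7, .c4, .c2⟩ ⟨.c8, .c2, .c11⟩ ⟨.c6, .c7, .c1⟩ ⟨.c8, .c2, .c13⟩ ⟨.c6, .c8, .c5⟩ ⟨.c8, .c2, .c15⟩ ⟨.c7, .c4, .c8⟩ ⟨.c7, .c4, .c9⟩ ⟨.c6, .c7, .c6⟩ ⟨.c8, .c3, .c0⟩ ⟨.c8, .c3, .c4⟩ ⟨.c8, .c3, .c6⟩ ⟨.c6, .c7, .c8⟩ ⟨.c8, .c3, .c9⟩ ⟨.c6, .c12, .c9⟩ ⟨.c6, .c7, .c10⟩)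 (@D3.rec (fun _ => Pt) ⟨.c6, .c8, .c8⟩ ⟨.c8, .c3, .c14⟩ ⟨.c6, .c7, .c12⟩ ⟨.c8, .c3, .c17⟩ ⟨.c7, .c5, .c4⟩ ⟨.c6, .c11, .c8⟩ ⟨.c6, .c7, .c16⟩ ⟨.c8, .c4, .c2⟩ ⟨.c8, .c0, .c17⟩ ⟨.c6, .c8, .c0⟩ ⟨.c6, .c8, .c3⟩ ⟨.c6, .c8, .c4⟩ ⟨.c6, .c8, .c6⟩ ⟨.c8, .c2, .c14⟩ ⟨.c8, .c2, .c8⟩ ⟨.c7, .c5, .c15⟩ ⟨.c7, .c5, .c16⟩ ⟨.c7, .c5, .c17⟩) (@D3.rec (fun _ => Pt) ⟨.c8, .c4, .c11⟩ ⟨.c6, .c9, .c6⟩ ⟨.c6, .c9, .c7⟩ ⟨.c8, .c4, .c14⟩ ⟨.c6, .c14, .c14⟩ ⟨.c6, .c11, .c15⟩ ⟨.c6, .c11, .c16⟩ ⟨.c7, .c6, .c7⟩ ⟨.c8, .c5, .c2⟩ ⟨.c6, .c13, .c8⟩ ⟨.c6, .c13, .c9⟩ ⟨.c8, .c5, .c5⟩ ⟨.c6, .c9,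 .c5⟩ ⟨.c8, .c5, .c8⟩ ⟨.c8, .c4, .c13⟩ ⟨.c6, .c14, .c15⟩ ⟨.c6, .c10, .c13⟩ ⟨.c8, .c5, .c12⟩) (@D3.rec (fun _ => Pt) ⟨.c6, .c14, .c17⟩ ⟨.c8, .c5, .c16⟩ ⟨.c6, .c9, .c10⟩ ⟨.c8, .c6, .c0⟩ ⟨.c7, .c7, .c4⟩ ⟨.c8, .c6, .c3⟩ ⟨.c7, .c7, .c6⟩ ⟨.c7, .c7, .c7⟩ ⟨.c6, .c9, .c15⟩ ⟨.c8, .c6, .c6⟩ ⟨.c8, .c6, .c10⟩ ⟨.c8, .c6, .c12⟩ ⟨.c6, .c9, .c17⟩ ⟨.c8, .c6, .c15⟩ ⟨.c8, .c0, .c7⟩ ⟨.c6, .c10, .c1⟩ ⟨.c7, .c7, .c16⟩ ⟨.c8, .c7, .c1⟩) (@D3.rec (fun _ => Pt) ⟨.c6, .c10, .c3⟩ ⟨.c8, .c7, .c4⟩ ⟨.c7, .c8, .c2⟩ ⟨.c8, .c5, .c7⟩ ⟨.c6, .c10, .c7⟩ ⟨.c8, .c7, .c6⟩ ⟨.c6, .c12, .c17⟩ ⟨.c6,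 .c10, .c9⟩ ⟨.c7, .c0, .c0⟩ ⟨.c6, .c12, .c4⟩ ⟨.c8, .c5, .c10⟩ ⟨.c8, .c5, .c11⟩ ⟨.c8, .c4, .c5⟩ ⟨.c7, .c8, .c13⟩ ⟨.c6, .c10, .c17⟩ ⟨.c6, .c11, .c13⟩ ⟨.c8, .c7, .c15⟩ ⟨.c8, .c7, .c17⟩) (@D3.rec (fun _ => Pt) ⟨.c6, .c11, .c1⟩ ⟨.c8, .c8, .c2⟩ ⟨.c6, .c11, .c3⟩ ⟨.c8, .c3, .c13⟩ ⟨.c6, .c11, .c5⟩ ⟨.c8, .c8, .c5⟩ ⟨.c7, .c9, .c6⟩ ⟨.c8, .c4, .c0⟩ ⟨.c6, .c11, .c10⟩ ⟨.c8, .c4, .c15⟩ ⟨.c6, .c14, .c13⟩ ⟨.c8, .c8, .c6⟩ ⟨.c8, .c4, .c17⟩ ⟨.c8, .c5, .c0⟩ ⟨.c8, .c1, .c12⟩ ⟨.c6, .c12, .c0⟩ ⟨.c8, .c8, .c11⟩ ⟨.c6, .c13, .c13⟩) (@D3.rec (fun _ => Pt) ⟨.c8, .c8, .c12⟩ ⟨.c8, .c1,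 .c8⟩ ⟨.c8, .c8, .c14⟩ ⟨.c6, .c12, .c5⟩ ⟨.c8, .c9, .c0⟩ ⟨.c6, .c12, .c6⟩ ⟨.c8, .c9, .c2⟩ ⟨.c8, .c8, .c17⟩ ⟨.c6, .c12, .c8⟩ ⟨.c8, .c3, .c10⟩ ⟨.c8, .c3, .c11⟩ ⟨.c8, .c2, .c2⟩ ⟨.c8, .c8, .c16⟩ ⟨.c6, .c12, .c14⟩ ⟨.c8, .c7, .c7⟩ ⟨.c8, .c7, .c8⟩ ⟨.c8, .c3, .c2⟩ ⟨.c6, .c13, .c2⟩) (@D3.rec (fun _ => Pt) ⟨.c8, .c9, .c13⟩ ⟨.c6, .c13, .c4⟩ ⟨.c8, .c9, .c14⟩ ⟨.c7, .c11, .c3⟩ ⟨.c8, .c9, .c16⟩ ⟨.c6, .c13, .c7⟩ ⟨.c8, .c10, .c1⟩ ⟨.c8, .c5, .c4⟩ ⟨.c8, .c1, .c13⟩ ⟨.c8, .c10, .c0⟩ ⟨.c6, .c13, .c12⟩ ⟨.c6, .c13, .c14⟩ ⟨.c8, .c10, .c5⟩ ⟨.c6, .c14, .c6⟩ ⟨.c6, .c14, .c1⟩ ⟨.c6,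 .c13, .c16⟩ ⟨.c8, .c10, .c4⟩ ⟨.c6, .c14, .c0⟩) (@D3.rec (fun _ => Pt) ⟨.c8, .c10, .c9⟩ ⟨.c8, .c10, .c10⟩ ⟨.c7, .c12, .c2⟩ ⟨.c7, .c12, .c3⟩ ⟨.c8, .c10, .c6⟩ ⟨.c8, .c10, .c8⟩ ⟨.c7, .c12, .c6⟩ ⟨.c7, .c12, .c7⟩ ⟨.c7, .c12, .c8⟩ ⟨.c6, .c14, .c16⟩ ⟨.c8, .c5, .c15⟩ ⟨.c8, .c5, .c13⟩ ⟨.c7, .c12, .c12⟩ ⟨.c7, .c0, .c4⟩ ⟨.c8, .c11, .c3⟩ ⟨.c7, .c0, .c7⟩ ⟨.c8, .c5, .c9⟩ ⟨.c8, .c11, .c4⟩) (@D3.rec (fun _ => Pt) ⟨.c7, .c13, .c0⟩ ⟨.c7, .c13, .c1⟩ ⟨.c7, .c13, .c2⟩ ⟨.c8, .c11, .c8⟩ ⟨.c7, .c13, .c4⟩ ⟨.c7, .c0, .c15⟩ ⟨.c7, .c2, .c2⟩ ⟨.c7, .c2, .c3⟩ ⟨.c8, .c11, .c13⟩ ⟨.c7,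 .c0, .c17⟩ ⟨.c8, .c11, .c16⟩ ⟨.c8, .c11, .c17⟩ ⟨.c7, .c2, .c11⟩ ⟨.c7, .c2, .c12⟩ ⟨.c8, .c12, .c2⟩ ⟨.c7, .c1, .c5⟩ ⟨.c8, .c12, .c5⟩ ⟨.c7, .c2, .c17⟩) (@D3.rec (fun _ => Pt) ⟨.c8, .c12, .c6⟩ ⟨.c8, .c12, .c8⟩ ⟨.c7, .c1, .c9⟩ ⟨.c8, .c12, .c10⟩ ⟨.c8, .c12, .c11⟩ ⟨.c7, .c14, .c5⟩ ⟨.c7, .c1, .c13⟩ ⟨.c8, .c12, .c13⟩ ⟨.c7, .c14, .c8⟩ ⟨.c8, .c12, .c17⟩ ⟨.c8, .c13, .c1⟩ ⟨.c7, .c14, .c11⟩ ⟨.c8, .c13, .c5⟩ ⟨.c7, .c1, .c17⟩ ⟨.c8, .c13, .c8⟩ ⟨.c7, .c14, .c15⟩ ⟨.c8, .c13, .c11⟩ ⟨.c8, .c11, .c11⟩)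
def f_d_8 : D2 → D3 → Pt := @D2.rec (fun _ => D3 → Pt) (@D3.rec (fun _ => Pt) ⟨.c8, .c11, .c12⟩ ⟨.c7, .c2, .c4⟩ ⟨.c8, .c13, .c14⟩ ⟨.c8, .c14, .c0⟩ ⟨.c8, .c14, .c2⟩ ⟨.c7, .c2, .c6⟩ ⟨.c8, .c14, .c5⟩ ⟨.c7, .c7, .c14⟩ ⟨.c7, .c2, .c8⟩ ⟨.c8, .c0, .c9⟩ ⟨.c8, .c14, .c10⟩ ⟨.c7, .c2, .c10⟩ ⟨.c8, .c14, .c13⟩ ⟨.c8, .c12, .c1⟩ ⟨.c8, .c14, .c14⟩ ⟨.c7, .c2, .c14⟩ ⟨.c8, .c14, .c17⟩ ⟨.c7, .c5, .c8⟩) (@D3.rec (fun _ => Pt) ⟨.c7, .c2, .c16⟩ ⟨.c8, .c1, .c1⟩ ⟨.c9, .c0, .c4⟩ ⟨.c7, .c3, .c9⟩ ⟨.c7, .c3, .c2⟩ ⟨.c9, .c0, .c7⟩ ⟨.c8, .c1, .c6⟩ ⟨.c8, .c13, .c7⟩ ⟨.c7, .c10, .c1⟩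 ⟨.c9, .c0, .c12⟩ ⟨.c7, .c3, .c6⟩ ⟨.c9, .c0, .c14⟩ ⟨.c7, .c9, .c14⟩ ⟨.c7, .c11, .c8⟩ ⟨.c7, .c3, .c10⟩ ⟨.c9, .c0, .c17⟩ ⟨.c7, .c3, .c11⟩ ⟨.c9, .c1, .c2⟩) (@D3.rec (fun _ => Pt) ⟨.c7, .c4, .c0⟩ ⟨.c7, .c3, .c13⟩ ⟨.c7, .c10, .c11⟩ ⟨.c9, .c1, .c6⟩ ⟨.c8, .c2, .c4⟩ ⟨.c9, .c1, .c3⟩ ⟨.c9, .c1, .c4⟩ ⟨.c7, .c4, .c1⟩ ⟨.c7, .c5, .c14⟩ ⟨.c9, .c1, .c13⟩ ⟨.c9, .c1, .c15⟩ ⟨.c7, .c4, .c3⟩ ⟨.c9, .c2, .c0⟩ ⟨.c7, .c4, .c5⟩ ⟨.c7, .c5, .c13⟩ ⟨.c7, .c4, .c7⟩ ⟨.c9, .c2, .c4⟩ ⟨.c8, .c2, .c17⟩) (@D3.rec (fun _ => Pt) ⟨.c7, .c4, .c11⟩ ⟨.c9, .c2, .c5⟩ ⟨.c7, .c10, .c16⟩ ⟨.c9, .c2,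 .c8⟩ ⟨.c7, .c4, .c12⟩ ⟨.c9, .c2, .c12⟩ ⟨.c7, .c4, .c13⟩ ⟨.c9, .c2, .c14⟩ ⟨.c9, .c2, .c11⟩ ⟨.c7, .c4, .c15⟩ ⟨.c7, .c10, .c9⟩ ⟨.c7, .c10, .c10⟩ ⟨.c9, .c1, .c5⟩ ⟨.c7, .c9, .c3⟩ ⟨.c7, .c5, .c1⟩ ⟨.c9, .c3, .c4⟩ ⟨.c9, .c2, .c10⟩ ⟨.c7, .c5, .c3⟩) (@D3.rec (fun _ => Pt) ⟨.c7, .c9, .c7⟩ ⟨.c8, .c14, .c16⟩ ⟨.c7, .c5, .c7⟩ ⟨.c9, .c0, .c0⟩ ⟨.c9, .c0, .c1⟩ ⟨.c7, .c8, .c12⟩ ⟨.c9, .c2, .c2⟩ ⟨.c9, .c1, .c7⟩ ⟨.c8, .c4, .c8⟩ ⟨.c8, .c4, .c9⟩ ⟨.c9, .c3, .c13⟩ ⟨.c7, .c6, .c0⟩ ⟨.c9, .c3, .c16⟩ ⟨.c7, .c6, .c14⟩ ⟨.c7, .c6, .c3⟩ ⟨.c7, .c9, .c9⟩ ⟨.c9, .c4, .c1⟩ ⟨.c7, .c9, .c12⟩)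 (@D3.rec (fun _ => Pt) ⟨.c7, .c9, .c13⟩ ⟨.c9, .c4, .c4⟩ ⟨.c7, .c6, .c8⟩ ⟨.c9, .c4, .c7⟩ ⟨.c7, .c11, .c7⟩ ⟨.c7, .c6, .c11⟩ ⟨.c9, .c4, .c8⟩ ⟨.c7, .c8, .c3⟩ ⟨.c7, .c6, .c13⟩ ⟨.c7, .c12, .c16⟩ ⟨.c7, .c8, .c10⟩ ⟨.c7, .c8, .c11⟩ ⟨.c7, .c6, .c17⟩ ⟨.c7, .c12, .c11⟩ ⟨.c9, .c4, .c17⟩ ⟨.c7, .c12, .c10⟩ ⟨.c7, .c7, .c1⟩ ⟨.c9, .c5, .c3⟩) (@D3.rec (fun _ => Pt) ⟨.c7, .c7, .c3⟩ ⟨.c8, .c6, .c1⟩ ⟨.c9, .c5, .c5⟩ ⟨.c7, .c7, .c5⟩ ⟨.c9, .c5, .c8⟩ ⟨.c8, .c6, .c5⟩ ⟨.c7, .c7, .c9⟩ ⟨.c9, .c5, .c9⟩ ⟨.c9, .c0, .c8⟩ ⟨.c9, .c5, .c12⟩ ⟨.c7, .c7, .c10⟩ ⟨.c9, .c5, .c16⟩ ⟨.c7, .c7, .c11⟩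 ⟨.c9, .c5, .c17⟩ ⟨.c9, .c5, .c15⟩ ⟨.c7, .c7, .c13⟩ ⟨.c8, .c14, .c6⟩ ⟨.c8, .c14, .c7⟩) (@D3.rec (fun _ => Pt) ⟨.c9, .c4, .c9⟩ ⟨.c7, .c7, .c17⟩ ⟨.c9, .c6, .c6⟩ ⟨.c9, .c5, .c14⟩ ⟨.c7, .c8, .c1⟩ ⟨.c9, .c4, .c10⟩ ⟨.c7, .c8, .c5⟩ ⟨.c7, .c10, .c14⟩ ⟨.c7, .c10, .c15⟩ ⟨.c9, .c4, .c11⟩ ⟨.c9, .c6, .c14⟩ ⟨.c9, .c4, .c13⟩ ⟨.c9, .c3, .c11⟩ ⟨.c9, .c6, .c16⟩ ⟨.c9, .c7, .c0⟩ ⟨.c7, .c8, .c16⟩ ⟨.c9, .c7, .c4⟩ ⟨.c7, .c8, .c17⟩) (@D3.rec (fun _ => Pt) ⟨.c9, .c7, .c5⟩ ⟨.c9, .c7, .c3⟩ ⟨.c7, .c9, .c1⟩ ⟨.c9, .c3, .c3⟩ ⟨.c9, .c7, .c2⟩ ⟨.c7, .c9, .c5⟩ ⟨.c7, .c9, .c11⟩ ⟨.c9, .c7,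 .c9⟩ ⟨.c9, .c4, .c3⟩ ⟨.c9, .c0, .c15⟩ ⟨.c9, .c7, .c8⟩ ⟨.c7, .c9, .c16⟩ ⟨.c7, .c10, .c0⟩ ⟨.c9, .c7, .c14⟩ ⟨.c7, .c10, .c2⟩ ⟨.c9, .c7, .c16⟩ ⟨.c7, .c10, .c12⟩ ⟨.c7, .c10, .c7⟩) (@D3.rec (fun _ => Pt) ⟨.c7, .c10, .c4⟩ ⟨.c9, .c7, .c15⟩ ⟨.c7, .c10, .c6⟩ ⟨.c9, .c8, .c2⟩ ⟨.c9, .c8, .c3⟩ ⟨.c9, .c3, .c0⟩ ⟨.c9, .c3, .c1⟩ ⟨.c9, .c7, .c17⟩ ⟨.c9, .c8, .c1⟩ ⟨.c9, .c6, .c11⟩ ⟨.c9, .c6, .c12⟩ ⟨.c8, .c13, .c16⟩ ⟨.c9, .c7, .c12⟩ ⟨.c7, .c11, .c0⟩ ⟨.c7, .c11, .c2⟩ ⟨.c9, .c8, .c15⟩ ⟨.c7, .c11, .c4⟩ ⟨.c9, .c8, .c16⟩) (@D3.rec (fun _ => Pt) ⟨.c7, .c11, .c9⟩ ⟨.c7, .c11, .c6⟩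 ⟨.c9, .c8, .c17⟩ ⟨.c9, .c9, .c0⟩ ⟨.c7, .c11, .c16⟩ ⟨.c7, .c11, .c12⟩ ⟨.c7, .c12, .c4⟩ ⟨.c9, .c8, .c0⟩ ⟨.c7, .c12, .c5⟩ ⟨.c7, .c12, .c0⟩ ⟨.c7, .c12, .c1⟩ ⟨.c8, .c10, .c11⟩ ⟨.c9, .c9, .c3⟩ ⟨.c9, .c9, .c4⟩ ⟨.c9, .c9, .c11⟩ ⟨.c8, .c10, .c15⟩ ⟨.c9, .c9, .c7⟩ ⟨.c8, .c10, .c17⟩) (@D3.rec (fun _ => Pt) ⟨.c9, .c5, .c1⟩ ⟨.c9, .c4, .c15⟩ ⟨.c9, .c7, .c13⟩ ⟨.c7, .c12, .c14⟩ ⟨.c7, .c12, .c17⟩ ⟨.c8, .c12, .c14⟩ ⟨.c9, .c9, .c16⟩ ⟨.c9, .c10, .c0⟩ ⟨.c7, .c13, .c3⟩ ⟨.c9, .c10, .c3⟩ ⟨.c9, .c10, .c4⟩ ⟨.c7, .c14, .c17⟩ ⟨.c8, .c0, .c0⟩ ⟨.c7, .c13, .c8⟩ ⟨.c9, .c10, .c8⟩ ⟨.c8,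 .c11, .c15⟩ ⟨.c7, .c13, .c10⟩ ⟨.c7, .c13, .c11⟩) (@D3.rec (fun _ => Pt) ⟨.c9, .c10, .c13⟩ ⟨.c8, .c0, .c13⟩ ⟨.c7, .c13, .c14⟩ ⟨.c9, .c10, .c15⟩ ⟨.c8, .c12, .c4⟩ ⟨.c7, .c13, .c16⟩ ⟨.c7, .c14, .c0⟩ ⟨.c9, .c11, .c2⟩ ⟨.c7, .c14, .c1⟩ ⟨.c9, .c11, .c5⟩ ⟨.c7, .c14, .c3⟩ ⟨.c7, .c14, .c4⟩ ⟨.c9, .c11, .c8⟩ ⟨.c7, .c14, .c7⟩ ⟨.c8, .c11, .c5⟩ ⟨.c8, .c12, .c15⟩ ⟨.c9, .c11, .c13⟩ ⟨.c7, .c14, .c9⟩) (@D3.rec (fun _ => Pt) ⟨.c9, .c11, .c16⟩ ⟨.c7, .c14, .c10⟩ ⟨.c9, .c11, .c17⟩ ⟨.c9, .c12, .c3⟩ ⟨.c9, .c10, .c12⟩ ⟨.c7, .c14, .c12⟩ ⟨.c9, .c12, .c7⟩ ⟨.c8, .c1, .c7⟩ ⟨.c7, .c14,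 .c14⟩ ⟨.c8, .c13, .c9⟩ ⟨.c9, .c10, .c7⟩ ⟨.c7, .c14, .c16⟩ ⟨.c9, .c12, .c14⟩ ⟨.c9, .c10, .c6⟩ ⟨.c8, .c0, .c2⟩ ⟨.c9, .c12, .c16⟩ ⟨.c8, .c9, .c11⟩ ⟨.c9, .c13, .c1⟩) (@D3.rec (fun _ => Pt) ⟨.c8, .c0, .c3⟩ ⟨.c9, .c13, .c5⟩ ⟨.c8, .c0, .c4⟩ ⟨.c9, .c13, .c6⟩ ⟨.c9, .c13, .c4⟩ ⟨.c8, .c0, .c6⟩ ⟨.c8, .c6, .c16⟩ ⟨.c8, .c6, .c17⟩ ⟨.c9, .c11, .c6⟩ ⟨.c9, .c13, .c13⟩ ⟨.c8, .c0, .c10⟩ ⟨.c9, .c13, .c15⟩ ⟨.c9, .c13, .c3⟩ ⟨.c8, .c0, .c12⟩ ⟨.c8, .c0, .c14⟩ ⟨.c9, .c14, .c2⟩ ⟨.c8, .c4, .c1⟩ ⟨.c8, .c0, .c16⟩)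
def f_d_9 : D2 → D3 → Pt := @D2.rec (fun _ => D3 → Pt) (@D3.rec (fun _ => Pt) ⟨.c8, .c4, .c3⟩ ⟨.c8, .c4, .c4⟩ ⟨.c9, .c11, .c9⟩ ⟨.c9, .c14, .c9⟩ ⟨.c8, .c1, .c2⟩ ⟨.c9, .c14, .c11⟩ ⟨.c9, .c0, .c6⟩ ⟨.c8, .c1, .c5⟩ ⟨.c8, .c6, .c8⟩ ⟨.c9, .c12, .c8⟩ ⟨.c9, .c12, .c9⟩ ⟨.c9, .c14, .c17⟩ ⟨.c8, .c1, .c9⟩ ⟨.c10, .c0, .c2⟩ ⟨.c8, .c1, .c11⟩ ⟨.c8, .c8, .c9⟩ ⟨.c10, .c0, .c4⟩ ⟨.c8, .c1, .c15⟩) (@D3.rec (fun _ => Pt) ⟨.c10, .c0, .c7⟩ ⟨.c10, .c0, .c6⟩ ⟨.c8, .c1, .c17⟩ ⟨.c8, .c2, .c5⟩ ⟨.c8, .c2, .c6⟩ ⟨.c8, .c3, .c12⟩ ⟨.c8, .c2, .c3⟩ ⟨.c8, .c4, .c7⟩ ⟨.c10, .c0, .c16⟩ ⟨.c10,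 .c0, .c11⟩ ⟨.c10, .c0, .c12⟩ ⟨.c10, .c1, .c1⟩ ⟨.c10, .c1, .c3⟩ ⟨.c8, .c2, .c9⟩ ⟨.c10, .c1, .c7⟩ ⟨.c8, .c2, .c10⟩ ⟨.c10, .c1, .c9⟩ ⟨.c10, .c1, .c6⟩) (@D3.rec (fun _ => Pt) ⟨.c8, .c2, .c12⟩ ⟨.c10, .c0, .c3⟩ ⟨.c8, .c4, .c6⟩ ⟨.c10, .c1, .c5⟩ ⟨.c8, .c2, .c16⟩ ⟨.c8, .c3, .c1⟩ ⟨.c10, .c1, .c14⟩ ⟨.c10, .c1, .c15⟩ ⟨.c8, .c3, .c3⟩ ⟨.c10, .c2, .c0⟩ ⟨.c8, .c3, .c16⟩ ⟨.c8, .c3, .c8⟩ ⟨.c8, .c3, .c5⟩ ⟨.c10, .c1, .c17⟩ ⟨.c8, .c3, .c7⟩ ⟨.c10, .c2, .c4⟩ ⟨.c10, .c2, .c5⟩ ⟨.c10, .c0, .c10⟩) (@D3.rec (fun _ => Pt) ⟨.c8, .c9, .c5⟩ ⟨.c8, .c9, .c6⟩ ⟨.c9, .c12, .c10⟩ ⟨.c8, .c8,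 .c3⟩ ⟨.c8, .c3, .c15⟩ ⟨.c10, .c2, .c1⟩ ⟨.c10, .c2, .c3⟩ ⟨.c9, .c14, .c3⟩ ⟨.c9, .c14, .c4⟩ ⟨.c9, .c14, .c6⟩ ⟨.c9, .c14, .c7⟩ ⟨.c8, .c7, .c12⟩ ⟨.c9, .c11, .c10⟩ ⟨.c8, .c4, .c10⟩ ⟨.c10, .c3, .c1⟩ ⟨.c9, .c3, .c15⟩ ⟨.c8, .c4, .c12⟩ ⟨.c10, .c3, .c5⟩) (@D3.rec (fun _ => Pt) ⟨.c10, .c3, .c7⟩ ⟨.c8, .c4, .c16⟩ ⟨.c10, .c3, .c10⟩ ⟨.c8, .c8, .c8⟩ ⟨.c8, .c5, .c1⟩ ⟨.c10, .c3, .c11⟩ ⟨.c10, .c3, .c9⟩ ⟨.c8, .c5, .c3⟩ ⟨.c8, .c5, .c6⟩ ⟨.c8, .c7, .c0⟩ ⟨.c8, .c7, .c5⟩ ⟨.c8, .c7, .c9⟩ ⟨.c10, .c4, .c1⟩ ⟨.c8, .c7, .c11⟩ ⟨.c10, .c4, .c3⟩ ⟨.c8, .c11, .c1⟩ ⟨.c10, .c4, .c6⟩ ⟨.c8,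 .c5, .c14⟩) (@D3.rec (fun _ => Pt) ⟨.c10, .c4, .c10⟩ ⟨.c8, .c11, .c0⟩ ⟨.c10, .c4, .c9⟩ ⟨.c8, .c5, .c17⟩ ⟨.c10, .c3, .c16⟩ ⟨.c8, .c6, .c2⟩ ⟨.c10, .c4, .c14⟩ ⟨.c10, .c4, .c8⟩ ⟨.c8, .c6, .c4⟩ ⟨.c8, .c6, .c7⟩ ⟨.c10, .c5, .c0⟩ ⟨.c10, .c5, .c1⟩ ⟨.c8, .c6, .c9⟩ ⟨.c10, .c5, .c4⟩ ⟨.c8, .c7, .c3⟩ ⟨.c8, .c6, .c14⟩ ⟨.c8, .c6, .c11⟩ ⟨.c8, .c6, .c13⟩) (@D3.rec (fun _ => Pt) ⟨.c10, .c5, .c8⟩ ⟨.c10, .c5, .c9⟩ ⟨.c9, .c13, .c10⟩ ⟨.c9, .c13, .c11⟩ ⟨.c10, .c3, .c17⟩ ⟨.c10, .c5, .c3⟩ ⟨.c8, .c7, .c2⟩ ⟨.c10, .c5, .c5⟩ ⟨.c10, .c5, .c7⟩ ⟨.c10, .c3, .c14⟩ ⟨.c10, .c3, .c15⟩ ⟨.c8,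 .c9, .c9⟩ ⟨.c8, .c9, .c10⟩ ⟨.c9, .c14, .c5⟩ ⟨.c8, .c7, .c10⟩ ⟨.c10, .c6, .c3⟩ ⟨.c8, .c7, .c13⟩ ⟨.c10, .c6, .c4⟩) (@D3.rec (fun _ => Pt) ⟨.c8, .c7, .c14⟩ ⟨.c10, .c6, .c5⟩ ⟨.c8, .c8, .c4⟩ ⟨.c8, .c8, .c1⟩ ⟨.c8, .c7, .c16⟩ ⟨.c8, .c8, .c0⟩ ⟨.c10, .c6, .c8⟩ ⟨.c10, .c6, .c7⟩ ⟨.c8, .c8, .c10⟩ ⟨.c8, .c8, .c7⟩ ⟨.c10, .c6, .c10⟩ ⟨.c10, .c6, .c11⟩ ⟨.c8, .c9, .c12⟩ ⟨.c8, .c11, .c2⟩ ⟨.c8, .c8, .c13⟩ ⟨.c8, .c9, .c1⟩ ⟨.c8, .c8, .c15⟩ ⟨.c8, .c9, .c7⟩) (@D3.rec (fun _ => Pt) ⟨.c8, .c10, .c7⟩ ⟨.c8, .c9, .c8⟩ ⟨.c8, .c9, .c3⟩ ⟨.c8, .c9, .c4⟩ ⟨.c10, .c6, .c9⟩ ⟨.c10, .c7,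 .c2⟩ ⟨.c10, .c7, .c3⟩ ⟨.c10, .c7, .c5⟩ ⟨.c10, .c7, .c11⟩ ⟨.c10, .c2, .c13⟩ ⟨.c10, .c7, .c7⟩ ⟨.c10, .c6, .c1⟩ ⟨.c9, .c12, .c1⟩ ⟨.c10, .c6, .c14⟩ ⟨.c10, .c6, .c16⟩ ⟨.c8, .c9, .c15⟩ ⟨.c8, .c9, .c17⟩ ⟨.c8, .c10, .c2⟩) (@D3.rec (fun _ => Pt) ⟨.c8, .c10, .c3⟩ ⟨.c9, .c9, .c1⟩ ⟨.c10, .c8, .c0⟩ ⟨.c8, .c10, .c12⟩ ⟨.c8, .c10, .c13⟩ ⟨.c9, .c9, .c5⟩ ⟨.c10, .c7, .c6⟩ ⟨.c8, .c10, .c16⟩ ⟨.c10, .c7, .c8⟩ ⟨.c10, .c7, .c9⟩ ⟨.c10, .c2, .c9⟩ ⟨.c8, .c10, .c14⟩ ⟨.c10, .c4, .c16⟩ ⟨.c10, .c8, .c2⟩ ⟨.c10, .c6, .c17⟩ ⟨.c10, .c7, .c0⟩ ⟨.c8, .c11, .c6⟩ ⟨.c10, .c8, .c13⟩) (@D3.rec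 (fun _ => Pt) ⟨.c8, .c11, .c7⟩ ⟨.c10, .c8, .c14⟩ ⟨.c9, .c10, .c2⟩ ⟨.c8, .c11, .c9⟩ ⟨.c8, .c11, .c10⟩ ⟨.c10, .c9, .c0⟩ ⟨.c8, .c13, .c13⟩ ⟨.c8, .c13, .c10⟩ ⟨.c8, .c11, .c14⟩ ⟨.c9, .c10, .c9⟩ ⟨.c9, .c10, .c10⟩ ⟨.c9, .c10, .c11⟩ ⟨.c8, .c13, .c4⟩ ⟨.c8, .c12, .c0⟩ ⟨.c9, .c10, .c14⟩ ⟨.c8, .c12, .c3⟩ ⟨.c9, .c10, .c16⟩ ⟨.c9, .c10, .c17⟩) (@D3.rec (fun _ => Pt) ⟨.c9, .c11, .c0⟩ ⟨.c10, .c9, .c16⟩ ⟨.c8, .c12, .c7⟩ ⟨.c10, .c10, .c2⟩ ⟨.c10, .c10, .c1⟩ ⟨.c8, .c12, .c9⟩ ⟨.c8, .c14, .c8⟩ ⟨.c10, .c10, .c0⟩ ⟨.c8, .c12, .c12⟩ ⟨.c9, .c0, .c2⟩ ⟨.c9, .c3, .c12⟩ ⟨.c10, .c10,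 .c8⟩ ⟨.c10, .c9, .c7⟩ ⟨.c8, .c12, .c16⟩ ⟨.c10, .c10, .c12⟩ ⟨.c9, .c11, .c15⟩ ⟨.c8, .c13, .c0⟩ ⟨.c8, .c13, .c2⟩) (@D3.rec (fun _ => Pt) ⟨.c10, .c10, .c16⟩ ⟨.c9, .c8, .c12⟩ ⟨.c10, .c11, .c1⟩ ⟨.c8, .c13, .c3⟩ ⟨.c10, .c11, .c5⟩ ⟨.c10, .c9, .c8⟩ ⟨.c10, .c11, .c4⟩ ⟨.c8, .c13, .c6⟩ ⟨.c9, .c0, .c9⟩ ⟨.c9, .c0, .c10⟩ ⟨.c9, .c3, .c2⟩ ⟨.c10, .c9, .c1⟩ ⟨.c10, .c9, .c2⟩ ⟨.c10, .c11, .c3⟩ ⟨.c8, .c13, .c12⟩ ⟨.c10, .c11, .c14⟩ ⟨.c8, .c13, .c15⟩ ⟨.c10, .c12, .c0⟩) (@D3.rec (fun _ => Pt) ⟨.c10, .c12, .c1⟩ ⟨.c8, .c13, .c17⟩ ⟨.c10, .c12, .c3⟩ ⟨.c8, .c14, .c12⟩ ⟨.c8, .c14,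 .c4⟩ ⟨.c8, .c14, .c1⟩ ⟨.c8, .c14, .c3⟩ ⟨.c10, .c12, .c6⟩ ⟨.c10, .c12, .c7⟩ ⟨.c10, .c10, .c4⟩ ⟨.c9, .c6, .c2⟩ ⟨.c9, .c6, .c3⟩ ⟨.c10, .c10, .c14⟩ ⟨.c8, .c14, .c9⟩ ⟨.c10, .c12, .c15⟩ ⟨.c8, .c14, .c11⟩ ⟨.c10, .c12, .c4⟩ ⟨.c10, .c12, .c5⟩) (@D3.rec (fun _ => Pt) ⟨.c10, .c10, .c6⟩ ⟨.c9, .c14, .c1⟩ ⟨.c8, .c14, .c15⟩ ⟨.c9, .c3, .c7⟩ ⟨.c9, .c3, .c8⟩ ⟨.c9, .c6, .c13⟩ ⟨.c9, .c3, .c9⟩ ⟨.c9, .c3, .c10⟩ ⟨.c10, .c13, .c3⟩ ⟨.c9, .c0, .c3⟩ ⟨.c10, .c13, .c8⟩ ⟨.c9, .c0, .c5⟩ ⟨.c9, .c14, .c12⟩ ⟨.c9, .c14, .c13⟩ ⟨.c9, .c14, .c14⟩ ⟨.c10, .c13, .c12⟩ ⟨.c10, .c11, .c9⟩ ⟨.c9,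 .c0, .c11⟩)
def f_d_10 : D2 → D3 → Pt := @D2.rec (fun _ => D3 → Pt) (@D3.rec (fun _ => Pt) ⟨.c10, .c13, .c15⟩ ⟨.c10, .c13, .c14⟩ ⟨.c9, .c0, .c13⟩ ⟨.c9, .c2, .c1⟩ ⟨.c9, .c0, .c16⟩ ⟨.c10, .c14, .c1⟩ ⟨.c9, .c1, .c1⟩ ⟨.c9, .c1, .c0⟩ ⟨.c10, .c14, .c2⟩ ⟨.c10, .c14, .c3⟩ ⟨.c9, .c2, .c17⟩ ⟨.c9, .c1, .c9⟩ ⟨.c9, .c1, .c10⟩ ⟨.c10, .c11, .c10⟩ ⟨.c10, .c14, .c9⟩ ⟨.c10, .c14, .c11⟩ ⟨.c9, .c1, .c8⟩ ⟨.c10, .c14, .c14⟩) (@D3.rec (fun _ => Pt) ⟨.c10, .c14, .c7⟩ ⟨.c9, .c1, .c11⟩ ⟨.c10, .c14, .c16⟩ ⟨.c9, .c1, .c12⟩ ⟨.c11, .c0, .c0⟩ ⟨.c9, .c2, .c3⟩ ⟨.c9, .c1, .c17⟩ ⟨.c9,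 .c1, .c14⟩ ⟨.c10, .c14, .c17⟩ ⟨.c9, .c1, .c16⟩ ⟨.c11, .c0, .c3⟩ ⟨.c10, .c13, .c17⟩ ⟨.c11, .c0, .c2⟩ ⟨.c10, .c1, .c13⟩ ⟨.c9, .c2, .c6⟩ ⟨.c9, .c2, .c7⟩ ⟨.c11, .c0, .c13⟩ ⟨.c9, .c2, .c13⟩) (@D3.rec (fun _ => Pt) ⟨.c9, .c2, .c9⟩ ⟨.c9, .c3, .c5⟩ ⟨.c10, .c2, .c2⟩ ⟨.c9, .c3, .c6⟩ ⟨.c9, .c2, .c15⟩ ⟨.c9, .c2, .c16⟩ ⟨.c10, .c14, .c4⟩ ⟨.c11, .c0, .c14⟩ ⟨.c11, .c0, .c15⟩ ⟨.c9, .c9, .c10⟩ ⟨.c11, .c1, .c5⟩ ⟨.c11, .c1, .c6⟩ ⟨.c11, .c1, .c13⟩ ⟨.c9, .c8, .c9⟩ ⟨.c10, .c11, .c8⟩ ⟨.c11, .c0, .c17⟩ ⟨.c11, .c1, .c1⟩ ⟨.c10, .c13, .c4⟩) (@D3.rec (fun _ => Pt) ⟨.c10, .c13, .c6⟩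 ⟨.c9, .c3, .c14⟩ ⟨.c10, .c3, .c2⟩ ⟨.c10, .c3, .c3⟩ ⟨.c10, .c3, .c4⟩ ⟨.c9, .c3, .c17⟩ ⟨.c11, .c2, .c1⟩ ⟨.c9, .c4, .c0⟩ ⟨.c11, .c2, .c2⟩ ⟨.c9, .c4, .c6⟩ ⟨.c9, .c4, .c2⟩ ⟨.c9, .c4, .c5⟩ ⟨.c11, .c2, .c3⟩ ⟨.c11, .c2, .c4⟩ ⟨.c9, .c6, .c9⟩ ⟨.c9, .c6, .c10⟩ ⟨.c9, .c5, .c4⟩ ⟨.c9, .c6, .c4⟩) (@D3.rec (fun _ => Pt) ⟨.c10, .c13, .c5⟩ ⟨.c9, .c4, .c12⟩ ⟨.c11, .c2, .c11⟩ ⟨.c9, .c4, .c14⟩ ⟨.c11, .c2, .c13⟩ ⟨.c11, .c2, .c14⟩ ⟨.c9, .c4, .c16⟩ ⟨.c11, .c2, .c17⟩ ⟨.c9, .c5, .c7⟩ ⟨.c9, .c5, .c2⟩ ⟨.c9, .c5, .c0⟩ ⟨.c11, .c3, .c2⟩ ⟨.c11, .c2, .c9⟩ ⟨.c11, .c2, .c16⟩ ⟨.c9, .c5,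 .c6⟩ ⟨.c11, .c3, .c1⟩ ⟨.c9, .c9, .c12⟩ ⟨.c10, .c4, .c17⟩) (@D3.rec (fun _ => Pt) ⟨.c9, .c5, .c10⟩ ⟨.c9, .c5, .c11⟩ ⟨.c11, .c3, .c11⟩ ⟨.c9, .c6, .c5⟩ ⟨.c9, .c5, .c13⟩ ⟨.c9, .c6, .c7⟩ ⟨.c10, .c5, .c6⟩ ⟨.c9, .c6, .c8⟩ ⟨.c9, .c6, .c0⟩ ⟨.c9, .c6, .c1⟩ ⟨.c11, .c2, .c5⟩ ⟨.c11, .c4, .c2⟩ ⟨.c11, .c4, .c3⟩ ⟨.c10, .c12, .c13⟩ ⟨.c11, .c3, .c12⟩ ⟨.c11, .c2, .c6⟩ ⟨.c11, .c3, .c14⟩ ⟨.c11, .c3, .c16⟩) (@D3.rec (fun _ => Pt) ⟨.c11, .c4, .c9⟩ ⟨.c9, .c8, .c11⟩ ⟨.c10, .c12, .c16⟩ ⟨.c9, .c6, .c15⟩ ⟨.c9, .c6, .c17⟩ ⟨.c9, .c7, .c1⟩ ⟨.c10, .c6, .c6⟩ ⟨.c9, .c7, .c7⟩ ⟨.c9, .c7,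 .c6⟩ ⟨.c9, .c8, .c4⟩ ⟨.c9, .c7, .c10⟩ ⟨.c9, .c7, .c11⟩ ⟨.c11, .c4, .c11⟩ ⟨.c11, .c4, .c17⟩ ⟨.c9, .c8, .c13⟩ ⟨.c10, .c6, .c15⟩ ⟨.c9, .c8, .c14⟩ ⟨.c9, .c9, .c14⟩) (@D3.rec (fun _ => Pt) ⟨.c9, .c9, .c15⟩ ⟨.c11, .c4, .c12⟩ ⟨.c9, .c8, .c5⟩ ⟨.c9, .c8, .c6⟩ ⟨.c11, .c4, .c13⟩ ⟨.c9, .c8, .c7⟩ ⟨.c9, .c9, .c6⟩ ⟨.c9, .c8, .c10⟩ ⟨.c9, .c9, .c8⟩ ⟨.c9, .c9, .c9⟩ ⟨.c11, .c0, .c16⟩ ⟨.c9, .c8, .c8⟩ ⟨.c11, .c3, .c3⟩ ⟨.c11, .c5, .c9⟩ ⟨.c11, .c5, .c11⟩ ⟨.c11, .c5, .c1⟩ ⟨.c11, .c5, .c3⟩ ⟨.c10, .c7, .c17⟩) (@D3.rec (fun _ => Pt) ⟨.c9, .c9, .c2⟩ ⟨.c11, .c0, .c7⟩ ⟨.c9, .c9,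 .c13⟩ ⟨.c11, .c3, .c5⟩ ⟨.c11, .c5, .c12⟩ ⟨.c11, .c5, .c13⟩ ⟨.c10, .c12, .c9⟩ ⟨.c11, .c5, .c15⟩ ⟨.c11, .c6, .c6⟩ ⟨.c10, .c11, .c13⟩ ⟨.c11, .c5, .c7⟩ ⟨.c10, .c8, .c11⟩ ⟨.c10, .c8, .c12⟩ ⟨.c9, .c9, .c17⟩ ⟨.c9, .c10, .c1⟩ ⟨.c10, .c8, .c15⟩ ⟨.c10, .c8, .c16⟩ ⟨.c10, .c8, .c17⟩) (@D3.rec (fun _ => Pt) ⟨.c9, .c10, .c5⟩ ⟨.c9, .c12, .c11⟩ ⟨.c9, .c12, .c12⟩ ⟨.c10, .c9, .c3⟩ ⟨.c10, .c9, .c4⟩ ⟨.c10, .c9, .c5⟩ ⟨.c11, .c7, .c0⟩ ⟨.c9, .c11, .c12⟩ ⟨.c9, .c12, .c5⟩ ⟨.c10, .c9, .c9⟩ ⟨.c10, .c9, .c10⟩ ⟨.c10, .c9, .c11⟩ ⟨.c10, .c9, .c12⟩ ⟨.c10, .c9, .c13⟩ ⟨.c10, .c9, .c14⟩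 ⟨.c11, .c7, .c7⟩ ⟨.c9, .c11, .c1⟩ ⟨.c11, .c7, .c10⟩) (@D3.rec (fun _ => Pt) ⟨.c9, .c11, .c7⟩ ⟨.c9, .c11, .c4⟩ ⟨.c9, .c11, .c3⟩ ⟨.c11, .c7, .c13⟩ ⟨.c9, .c13, .c9⟩ ⟨.c11, .c7, .c12⟩ ⟨.c9, .c14, .c0⟩ ⟨.c11, .c7, .c17⟩ ⟨.c9, .c11, .c11⟩ ⟨.c11, .c8, .c3⟩ ⟨.c11, .c7, .c1⟩ ⟨.c11, .c8, .c2⟩ ⟨.c9, .c11, .c14⟩ ⟨.c10, .c10, .c13⟩ ⟨.c9, .c13, .c12⟩ ⟨.c11, .c8, .c7⟩ ⟨.c9, .c12, .c0⟩ ⟨.c11, .c8, .c11⟩) (@D3.rec (fun _ => Pt) ⟨.c11, .c8, .c12⟩ ⟨.c9, .c12, .c2⟩ ⟨.c11, .c8, .c14⟩ ⟨.c9, .c12, .c13⟩ ⟨.c9, .c12, .c6⟩ ⟨.c9, .c12, .c4⟩ ⟨.c11, .c8, .c16⟩ ⟨.c11, .c8, .c17⟩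 ⟨.c10, .c2, .c14⟩ ⟨.c9, .c14, .c16⟩ ⟨.c10, .c0, .c13⟩ ⟨.c11, .c6, .c14⟩ ⟨.c11, .c8, .c15⟩ ⟨.c10, .c8, .c9⟩ ⟨.c9, .c12, .c15⟩ ⟨.c11, .c9, .c5⟩ ⟨.c10, .c11, .c16⟩ ⟨.c10, .c11, .c17⟩) (@D3.rec (fun _ => Pt) ⟨.c9, .c12, .c17⟩ ⟨.c9, .c13, .c0⟩ ⟨.c11, .c9, .c12⟩ ⟨.c9, .c13, .c2⟩ ⟨.c9, .c13, .c16⟩ ⟨.c9, .c13, .c17⟩ ⟨.c9, .c13, .c7⟩ ⟨.c9, .c13, .c8⟩ ⟨.c11, .c7, .c14⟩ ⟨.c10, .c8, .c6⟩ ⟨.c11, .c9, .c17⟩ ⟨.c11, .c10, .c0⟩ ⟨.c11, .c10, .c4⟩ ⟨.c10, .c5, .c13⟩ ⟨.c11, .c8, .c5⟩ ⟨.c9, .c13, .c14⟩ ⟨.c10, .c6, .c2⟩ ⟨.c11, .c9, .c14⟩) (@D3.rec (fun _ => Pt) ⟨.c11, .c9,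 .c15⟩ ⟨.c11, .c10, .c9⟩ ⟨.c10, .c13, .c2⟩ ⟨.c9, .c14, .c8⟩ ⟨.c10, .c2, .c17⟩ ⟨.c10, .c4, .c0⟩ ⟨.c10, .c3, .c0⟩ ⟨.c11, .c10, .c6⟩ ⟨.c9, .c14, .c10⟩ ⟨.c10, .c13, .c9⟩ ⟨.c10, .c13, .c10⟩ ⟨.c11, .c10, .c15⟩ ⟨.c9, .c14, .c15⟩ ⟨.c11, .c10, .c16⟩ ⟨.c10, .c0, .c1⟩ ⟨.c10, .c0, .c0⟩ ⟨.c11, .c10, .c17⟩ ⟨.c10, .c1, .c11⟩) (@D3.rec (fun _ => Pt) ⟨.c10, .c14, .c0⟩ ⟨.c10, .c0, .c5⟩ ⟨.c10, .c0, .c8⟩ ⟨.c10, .c0, .c9⟩ ⟨.c10, .c2, .c6⟩ ⟨.c11, .c11, .c4⟩ ⟨.c11, .c11, .c7⟩ ⟨.c10, .c1, .c0⟩ ⟨.c11, .c9, .c3⟩ ⟨.c10, .c0, .c14⟩ ⟨.c11, .c11, .c9⟩ ⟨.c10, .c0, .c15⟩ ⟨.c11, .c11,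 .c10⟩ ⟨.c10, .c14, .c13⟩ ⟨.c10, .c0, .c17⟩ ⟨.c10, .c14, .c15⟩ ⟨.c10, .c1, .c2⟩ ⟨.c10, .c1, .c8⟩)
def f_d_11 : D2 → D3 → Pt := @D2.rec (fun _ => D3 → Pt) (@D3.rec (fun _ => Pt) ⟨.c10, .c1, .c4⟩ ⟨.c11, .c0, .c1⟩ ⟨.c10, .c1, .c12⟩ ⟨.c10, .c1, .c10⟩ ⟨.c11, .c11, .c0⟩ ⟨.c11, .c11, .c15⟩ ⟨.c11, .c11, .c16⟩ ⟨.c10, .c8, .c1⟩ ⟨.c11, .c12, .c5⟩ ⟨.c11, .c0, .c9⟩ ⟨.c11, .c0, .c10⟩ ⟨.c11, .c11, .c3⟩ ⟨.c11, .c0, .c12⟩ ⟨.c10, .c1, .c16⟩ ⟨.c10, .c2, .c7⟩ ⟨.c10, .c2, .c8⟩ ⟨.c10, .c7, .c10⟩ ⟨.c10, .c2, .c15⟩) (@D3.rec (fun _ => Pt) ⟨.c11, .c1, .c0⟩ ⟨.c10, .c2, .c16⟩ ⟨.c11,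 .c1, .c2⟩ ⟨.c11, .c1, .c3⟩ ⟨.c11, .c12, .c10⟩ ⟨.c10, .c2, .c10⟩ ⟨.c10, .c2, .c11⟩ ⟨.c11, .c13, .c5⟩ ⟨.c11, .c12, .c11⟩ ⟨.c11, .c12, .c12⟩ ⟨.c11, .c13, .c8⟩ ⟨.c11, .c13, .c3⟩ ⟨.c11, .c13, .c10⟩ ⟨.c10, .c2, .c12⟩ ⟨.c11, .c7, .c2⟩ ⟨.c11, .c12, .c14⟩ ⟨.c11, .c1, .c16⟩ ⟨.c11, .c1, .c17⟩) (@D3.rec (fun _ => Pt) ⟨.c11, .c13, .c13⟩ ⟨.c10, .c3, .c6⟩ ⟨.c10, .c3, .c8⟩ ⟨.c10, .c3, .c12⟩ ⟨.c10, .c3, .c13⟩ ⟨.c10, .c5, .c10⟩ ⟨.c10, .c5, .c15⟩ ⟨.c11, .c13, .c16⟩ ⟨.c11, .c14, .c1⟩ ⟨.c10, .c4, .c12⟩ ⟨.c11, .c10, .c11⟩ ⟨.c10, .c4, .c2⟩ ⟨.c11, .c2, .c12⟩ ⟨.c10, .c4, .c4⟩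 ⟨.c10, .c4, .c5⟩ ⟨.c11, .c14, .c6⟩ ⟨.c10, .c4, .c13⟩ ⟨.c10, .c4, .c7⟩) (@D3.rec (fun _ => Pt) ⟨.c11, .c3, .c0⟩ ⟨.c10, .c4, .c15⟩ ⟨.c10, .c4, .c11⟩ ⟨.c10, .c7, .c12⟩ ⟨.c11, .c14, .c7⟩ ⟨.c10, .c8, .c3⟩ ⟨.c11, .c14, .c13⟩ ⟨.c11, .c3, .c7⟩ ⟨.c11, .c3, .c8⟩ ⟨.c11, .c13, .c14⟩ ⟨.c11, .c3, .c10⟩ ⟨.c10, .c5, .c2⟩ ⟨.c10, .c5, .c14⟩ ⟨.c11, .c13, .c15⟩ ⟨.c10, .c5, .c16⟩ ⟨.c11, .c3, .c15⟩ ⟨.c10, .c5, .c17⟩ ⟨.c11, .c3, .c17⟩) (@D3.rec (fun _ => Pt) ⟨.c11, .c4, .c0⟩ ⟨.c12, .c0, .c6⟩ ⟨.c10, .c5, .c11⟩ ⟨.c10, .c5, .c12⟩ ⟨.c11, .c14, .c3⟩ ⟨.c12, .c0, .c7⟩ ⟨.c12, .c0,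 .c9⟩ ⟨.c12, .c0, .c1⟩ ⟨.c12, .c0, .c11⟩ ⟨.c10, .c6, .c0⟩ ⟨.c11, .c6, .c15⟩ ⟨.c10, .c6, .c12⟩ ⟨.c10, .c7, .c1⟩ ⟨.c10, .c7, .c4⟩ ⟨.c11, .c4, .c14⟩ ⟨.c11, .c11, .c14⟩ ⟨.c11, .c14, .c11⟩ ⟨.c10, .c6, .c13⟩) (@D3.rec (fun _ => Pt) ⟨.c11, .c11, .c17⟩ ⟨.c10, .c7, .c15⟩ ⟨.c11, .c5, .c2⟩ ⟨.c10, .c7, .c16⟩ ⟨.c11, .c5, .c4⟩ ⟨.c11, .c5, .c5⟩ ⟨.c11, .c12, .c1⟩ ⟨.c10, .c8, .c10⟩ ⟨.c11, .c14, .c5⟩ ⟨.c10, .c7, .c13⟩ ⟨.c11, .c14, .c8⟩ ⟨.c10, .c7, .c14⟩ ⟨.c10, .c8, .c4⟩ ⟨.c10, .c8, .c5⟩ ⟨.c11, .c9, .c13⟩ ⟨.c10, .c8, .c7⟩ ⟨.c12, .c1, .c8⟩ ⟨.c11, .c9, .c0⟩) (@D3.rec (fun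 _ => Pt) ⟨.c12, .c0, .c15⟩ ⟨.c11, .c11, .c8⟩ ⟨.c11, .c14, .c2⟩ ⟨.c12, .c1, .c5⟩ ⟨.c12, .c1, .c10⟩ ⟨.c12, .c1, .c11⟩ ⟨.c10, .c8, .c8⟩ ⟨.c11, .c6, .c7⟩ ⟨.c11, .c6, .c8⟩ ⟨.c11, .c6, .c9⟩ ⟨.c11, .c6, .c10⟩ ⟨.c11, .c6, .c11⟩ ⟨.c12, .c1, .c15⟩ ⟨.c11, .c6, .c13⟩ ⟨.c10, .c11, .c11⟩ ⟨.c11, .c4, .c10⟩ ⟨.c11, .c6, .c16⟩ ⟨.c12, .c2, .c0⟩) (@D3.rec (fun _ => Pt) ⟨.c10, .c9, .c6⟩ ⟨.c10, .c10, .c10⟩ ⟨.c11, .c1, .c14⟩ ⟨.c11, .c7, .c3⟩ ⟨.c12, .c2, .c4⟩ ⟨.c11, .c7, .c5⟩ ⟨.c12, .c2, .c6⟩ ⟨.c10, .c9, .c15⟩ ⟨.c11, .c7, .c8⟩ ⟨.c11, .c7, .c9⟩ ⟨.c10, .c9, .c17⟩ ⟨.c11, .c7,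 .c11⟩ ⟨.c10, .c10, .c5⟩ ⟨.c10, .c10, .c3⟩ ⟨.c10, .c12, .c8⟩ ⟨.c12, .c2, .c14⟩ ⟨.c12, .c2, .c15⟩ ⟨.c10, .c10, .c7⟩) (@D3.rec (fun _ => Pt) ⟨.c12, .c2, .c16⟩ ⟨.c11, .c8, .c1⟩ ⟨.c10, .c10, .c11⟩ ⟨.c10, .c10, .c9⟩ ⟨.c12, .c3, .c0⟩ ⟨.c10, .c12, .c14⟩ ⟨.c12, .c2, .c1⟩ ⟨.c10, .c10, .c15⟩ ⟨.c12, .c3, .c3⟩ ⟨.c11, .c8, .c9⟩ ⟨.c11, .c8, .c10⟩ ⟨.c10, .c10, .c17⟩ ⟨.c10, .c11, .c0⟩ ⟨.c12, .c3, .c7⟩ ⟨.c10, .c11, .c2⟩ ⟨.c10, .c11, .c12⟩ ⟨.c10, .c11, .c6⟩ ⟨.c10, .c11, .c7⟩) (@D3.rec (fun _ => Pt) ⟨.c11, .c5, .c17⟩ ⟨.c12, .c3, .c10⟩ ⟨.c12, .c3, .c13⟩ ⟨.c10, .c14, .c8⟩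 ⟨.c12, .c3, .c14⟩ ⟨.c10, .c11, .c15⟩ ⟨.c11, .c9, .c6⟩ ⟨.c11, .c9, .c7⟩ ⟨.c11, .c9, .c8⟩ ⟨.c11, .c9, .c9⟩ ⟨.c12, .c2, .c10⟩ ⟨.c11, .c9, .c11⟩ ⟨.c10, .c12, .c2⟩ ⟨.c11, .c5, .c14⟩ ⟨.c10, .c12, .c17⟩ ⟨.c10, .c13, .c0⟩ ⟨.c12, .c4, .c6⟩ ⟨.c10, .c12, .c10⟩) (@D3.rec (fun _ => Pt) ⟨.c10, .c12, .c11⟩ ⟨.c12, .c4, .c9⟩ ⟨.c12, .c4, .c7⟩ ⟨.c12, .c4, .c11⟩ ⟨.c10, .c12, .c12⟩ ⟨.c12, .c2, .c2⟩ ⟨.c10, .c13, .c7⟩ ⟨.c12, .c4, .c4⟩ ⟨.c12, .c4, .c14⟩ ⟨.c10, .c13, .c1⟩ ⟨.c12, .c2, .c7⟩ ⟨.c11, .c2, .c10⟩ ⟨.c12, .c1, .c16⟩ ⟨.c11, .c10, .c13⟩ ⟨.c12, .c4, .c16⟩ ⟨.c10, .c13, .c11⟩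 ⟨.c10, .c13, .c13⟩ ⟨.c10, .c13, .c16⟩) (@D3.rec (fun _ => Pt) ⟨.c11, .c0, .c4⟩ ⟨.c12, .c5, .c1⟩ ⟨.c11, .c11, .c2⟩ ⟨.c11, .c0, .c11⟩ ⟨.c10, .c14, .c5⟩ ⟨.c12, .c5, .c4⟩ ⟨.c12, .c5, .c5⟩ ⟨.c10, .c14, .c6⟩ ⟨.c11, .c6, .c1⟩ ⟨.c10, .c14, .c10⟩ ⟨.c10, .c14, .c12⟩ ⟨.c11, .c11, .c11⟩ ⟨.c12, .c4, .c17⟩ ⟨.c11, .c11, .c13⟩ ⟨.c11, .c4, .c15⟩ ⟨.c11, .c0, .c5⟩ ⟨.c11, .c0, .c6⟩ ⟨.c11, .c5, .c0⟩) (@D3.rec (fun _ => Pt) ⟨.c11, .c12, .c0⟩ ⟨.c11, .c5, .c6⟩ ⟨.c12, .c5, .c14⟩ ⟨.c12, .c5, .c11⟩ ⟨.c12, .c5, .c16⟩ ⟨.c11, .c0, .c8⟩ ⟨.c11, .c12, .c6⟩ ⟨.c11, .c12, .c7⟩ ⟨.c12, .c6,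 .c2⟩ ⟨.c11, .c12, .c9⟩ ⟨.c11, .c1, .c4⟩ ⟨.c11, .c1, .c8⟩ ⟨.c11, .c1, .c9⟩ ⟨.c12, .c6, .c6⟩ ⟨.c11, .c1, .c15⟩ ⟨.c11, .c12, .c15⟩ ⟨.c11, .c12, .c16⟩ ⟨.c12, .c4, .c3⟩) (@D3.rec (fun _ => Pt) ⟨.c11, .c13, .c0⟩ ⟨.c11, .c13, .c1⟩ ⟨.c12, .c6, .c12⟩ ⟨.c11, .c1, .c11⟩ ⟨.c12, .c6, .c14⟩ ⟨.c11, .c1, .c7⟩ ⟨.c12, .c6, .c4⟩ ⟨.c12, .c6, .c17⟩ ⟨.c11, .c1, .c10⟩ ⟨.c12, .c4, .c15⟩ ⟨.c11, .c1, .c12⟩ ⟨.c11, .c13, .c11⟩ ⟨.c12, .c7, .c3⟩ ⟨.c11, .c2, .c0⟩ ⟨.c11, .c3, .c9⟩ ⟨.c11, .c3, .c13⟩ ⟨.c11, .c2, .c7⟩ ⟨.c12, .c7, .c5⟩) (@D3.rec (fun _ => Pt) ⟨.c12, .c7, .c6⟩ ⟨.c11, .c2,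 .c8⟩ ⟨.c11, .c6, .c2⟩ ⟨.c11, .c4, .c4⟩ ⟨.c11, .c14, .c4⟩ ⟨.c11, .c5, .c8⟩ ⟨.c11, .c2, .c15⟩ ⟨.c11, .c3, .c4⟩ ⟨.c11, .c5, .c10⟩ ⟨.c11, .c14, .c9⟩ ⟨.c12, .c7, .c11⟩ ⟨.c11, .c4, .c16⟩ ⟨.c12, .c5, .c6⟩ ⟨.c11, .c3, .c6⟩ ⟨.c11, .c14, .c14⟩ ⟨.c12, .c7, .c13⟩ ⟨.c11, .c14, .c16⟩ ⟨.c12, .c5, .c7⟩)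
def f_d_12 : D2 → D3 → Pt := @D2.rec (fun _ => D3 → Pt) (@D3.rec (fun _ => Pt) ⟨.c12, .c7, .c15⟩ ⟨.c11, .c4, .c7⟩ ⟨.c12, .c0, .c2⟩ ⟨.c12, .c8, .c0⟩ ⟨.c12, .c0, .c4⟩ ⟨.c12, .c8, .c2⟩ ⟨.c11, .c4, .c1⟩ ⟨.c11, .c4, .c5⟩ ⟨.c12, .c3, .c1⟩ ⟨.c11, .c4, .c6⟩ ⟨.c12, .c4, .c12⟩ ⟨.c11, .c4, .c8⟩ ⟨.c12, .c0, .c12⟩ ⟨.c12, .c8, .c5⟩ ⟨.c12, .c5, .c8⟩ ⟨.c11, .c6, .c0⟩ ⟨.c12, .c0, .c16⟩ ⟨.c12, .c3, .c15⟩) (@D3.rec (fun _ => Pt) ⟨.c12, .c1, .c0⟩ ⟨.c12, .c8, .c9⟩ ⟨.c12, .c3, .c6⟩ ⟨.c12, .c7, .c8⟩ ⟨.c12, .c3, .c8⟩ ⟨.c11, .c6, .c3⟩ ⟨.c12, .c8, .c11⟩ ⟨.c12, .c8, .c12⟩ ⟨.c11,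 .c5, .c16⟩ ⟨.c12, .c8, .c13⟩ ⟨.c11, .c6, .c4⟩ ⟨.c11, .c6, .c5⟩ ⟨.c12, .c8, .c15⟩ ⟨.c12, .c8, .c16⟩ ⟨.c12, .c8, .c17⟩ ⟨.c11, .c6, .c12⟩ ⟨.c11, .c10, .c12⟩ ⟨.c12, .c9, .c0⟩) (@D3.rec (fun _ => Pt) ⟨.c11, .c6, .c17⟩ ⟨.c11, .c8, .c6⟩ ⟨.c11, .c10, .c5⟩ ⟨.c12, .c9, .c1⟩ ⟨.c11, .c7, .c4⟩ ⟨.c12, .c9, .c2⟩ ⟨.c11, .c7, .c6⟩ ⟨.c11, .c10, .c10⟩ ⟨.c12, .c2, .c8⟩ ⟨.c12, .c2, .c9⟩ ⟨.c11, .c9, .c10⟩ ⟨.c12, .c2, .c11⟩ ⟨.c12, .c9, .c6⟩ ⟨.c12, .c9, .c7⟩ ⟨.c11, .c7, .c15⟩ ⟨.c11, .c7, .c16⟩ ⟨.c11, .c8, .c0⟩ ⟨.c12, .c2, .c17⟩) (@D3.rec (fun _ => Pt) ⟨.c11, .c8, .c4⟩ ⟨.c12,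 .c0, .c8⟩ ⟨.c12, .c9, .c13⟩ ⟨.c11, .c8, .c8⟩ ⟨.c12, .c3, .c4⟩ ⟨.c12, .c3, .c5⟩ ⟨.c12, .c1, .c2⟩ ⟨.c11, .c8, .c13⟩ ⟨.c12, .c1, .c4⟩ ⟨.c12, .c10, .c0⟩ ⟨.c11, .c9, .c1⟩ ⟨.c12, .c10, .c2⟩ ⟨.c12, .c10, .c3⟩ ⟨.c11, .c9, .c2⟩ ⟨.c11, .c9, .c4⟩ ⟨.c12, .c0, .c17⟩ ⟨.c12, .c3, .c16⟩ ⟨.c12, .c10, .c5⟩) (@D3.rec (fun _ => Pt) ⟨.c12, .c4, .c0⟩ ⟨.c12, .c10, .c7⟩ ⟨.c12, .c4, .c2⟩ ⟨.c11, .c12, .c17⟩ ⟨.c11, .c10, .c7⟩ ⟨.c12, .c10, .c10⟩ ⟨.c11, .c9, .c16⟩ ⟨.c11, .c10, .c2⟩ ⟨.c12, .c10, .c13⟩ ⟨.c11, .c10, .c1⟩ ⟨.c12, .c10, .c15⟩ ⟨.c11, .c10, .c3⟩ ⟨.c12, .c0, .c10⟩ ⟨.c12,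 .c10, .c16⟩ ⟨.c11, .c10, .c8⟩ ⟨.c11, .c13, .c9⟩ ⟨.c11, .c10, .c14⟩ ⟨.c11, .c11, .c12⟩) (@D3.rec (fun _ => Pt) ⟨.c12, .c11, .c1⟩ ⟨.c11, .c11, .c1⟩ ⟨.c12, .c11, .c2⟩ ⟨.c12, .c11, .c3⟩ ⟨.c11, .c11, .c5⟩ ⟨.c11, .c11, .c6⟩ ⟨.c11, .c14, .c12⟩ ⟨.c11, .c14, .c17⟩ ⟨.c12, .c0, .c14⟩ ⟨.c12, .c11, .c5⟩ ⟨.c12, .c11, .c6⟩ ⟨.c11, .c12, .c3⟩ ⟨.c12, .c11, .c8⟩ ⟨.c12, .c11, .c9⟩ ⟨.c11, .c12, .c2⟩ ⟨.c12, .c10, .c17⟩ ⟨.c11, .c12, .c4⟩ ⟨.c12, .c5, .c17⟩) (@D3.rec (fun _ => Pt) ⟨.c12, .c6, .c0⟩ ⟨.c12, .c11, .c12⟩ ⟨.c11, .c12, .c8⟩ ⟨.c12, .c11, .c14⟩ ⟨.c11, .c13, .c6⟩ ⟨.c12,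 .c11, .c16⟩ ⟨.c11, .c12, .c13⟩ ⟨.c12, .c9, .c17⟩ ⟨.c12, .c6, .c8⟩ ⟨.c12, .c12, .c1⟩ ⟨.c12, .c6, .c10⟩ ⟨.c12, .c12, .c3⟩ ⟨.c11, .c13, .c2⟩ ⟨.c12, .c10, .c11⟩ ⟨.c11, .c13, .c4⟩ ⟨.c12, .c12, .c4⟩ ⟨.c12, .c11, .c0⟩ ⟨.c11, .c13, .c7⟩) (@D3.rec (fun _ => Pt) ⟨.c12, .c7, .c0⟩ ⟨.c12, .c7, .c1⟩ ⟨.c12, .c7, .c2⟩ ⟨.c11, .c13, .c12⟩ ⟨.c12, .c12, .c9⟩ ⟨.c11, .c13, .c17⟩ ⟨.c11, .c14, .c0⟩ ⟨.c12, .c12, .c10⟩ ⟨.c12, .c1, .c3⟩ ⟨.c12, .c11, .c4⟩ ⟨.c12, .c12, .c11⟩ ⟨.c11, .c14, .c10⟩ ⟨.c12, .c12, .c12⟩ ⟨.c11, .c14, .c15⟩ ⟨.c12, .c12, .c13⟩ ⟨.c12, .c0, .c0⟩ ⟨.c12, .c10,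 .c14⟩ ⟨.c12, .c12, .c14⟩) (@D3.rec (fun _ => Pt) ⟨.c12, .c0, .c3⟩ ⟨.c12, .c12, .c15⟩ ⟨.c12, .c0, .c5⟩ ⟨.c12, .c11, .c13⟩ ⟨.c12, .c9, .c10⟩ ⟨.c12, .c0, .c13⟩ ⟨.c12, .c9, .c14⟩ ⟨.c12, .c12, .c16⟩ ⟨.c12, .c12, .c17⟩ ⟨.c12, .c1, .c1⟩ ⟨.c12, .c13, .c0⟩ ⟨.c12, .c1, .c6⟩ ⟨.c12, .c1, .c7⟩ ⟨.c12, .c1, .c9⟩ ⟨.c12, .c8, .c14⟩ ⟨.c12, .c1, .c12⟩ ⟨.c12, .c1, .c13⟩ ⟨.c12, .c1, .c14⟩) (@D3.rec (fun _ => Pt) ⟨.c12, .c1, .c17⟩ ⟨.c12, .c2, .c3⟩ ⟨.c12, .c2, .c5⟩ ⟨.c12, .c13, .c2⟩ ⟨.c12, .c13, .c3⟩ ⟨.c12, .c13, .c4⟩ ⟨.c12, .c2, .c12⟩ ⟨.c12, .c2, .c13⟩ ⟨.c12, .c9, .c8⟩ ⟨.c12,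 .c9, .c9⟩ ⟨.c12, .c8, .c4⟩ ⟨.c12, .c13, .c8⟩ ⟨.c12, .c13, .c9⟩ ⟨.c12, .c3, .c2⟩ ⟨.c12, .c8, .c6⟩ ⟨.c12, .c13, .c10⟩ ⟨.c12, .c13, .c11⟩ ⟨.c12, .c6, .c7⟩) (@D3.rec (fun _ => Pt) ⟨.c12, .c3, .c9⟩ ⟨.c12, .c13, .c12⟩ ⟨.c12, .c3, .c11⟩ ⟨.c12, .c3, .c12⟩ ⟨.c12, .c13, .c13⟩ ⟨.c12, .c3, .c17⟩ ⟨.c12, .c13, .c15⟩ ⟨.c12, .c4, .c1⟩ ⟨.c12, .c13, .c17⟩ ⟨.c12, .c14, .c0⟩ ⟨.c12, .c4, .c5⟩ ⟨.c12, .c6, .c13⟩ ⟨.c12, .c14, .c1⟩ ⟨.c12, .c4, .c8⟩ ⟨.c12, .c7, .c16⟩ ⟨.c12, .c4, .c10⟩ ⟨.c12, .c4, .c13⟩ ⟨.c12, .c5, .c15⟩) (@D3.rec (fun _ => Pt) ⟨.c12, .c6, .c16⟩ ⟨.c12, .c5, .c0⟩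 ⟨.c12, .c5, .c2⟩ ⟨.c12, .c5, .c3⟩ ⟨.c12, .c7, .c9⟩ ⟨.c12, .c5, .c9⟩ ⟨.c12, .c5, .c10⟩ ⟨.c12, .c14, .c3⟩ ⟨.c12, .c5, .c12⟩ ⟨.c12, .c5, .c13⟩ ⟨.c12, .c14, .c5⟩ ⟨.c12, .c13, .c14⟩ ⟨.c12, .c6, .c1⟩ ⟨.c12, .c8, .c3⟩ ⟨.c12, .c6, .c3⟩ ⟨.c12, .c14, .c2⟩ ⟨.c12, .c6, .c5⟩ ⟨.c12, .c14, .c4⟩) (@D3.rec (fun _ => Pt) ⟨.c12, .c13, .c16⟩ ⟨.c12, .c6, .c9⟩ ⟨.c12, .c14, .c10⟩ ⟨.c12, .c6, .c11⟩ ⟨.c12, .c6, .c15⟩ ⟨.c12, .c14, .c7⟩ ⟨.c12, .c14, .c6⟩ ⟨.c12, .c12, .c7⟩ ⟨.c12, .c12, .c8⟩ ⟨.c12, .c7, .c4⟩ ⟨.c12, .c7, .c7⟩ ⟨.c12, .c7, .c10⟩ ⟨.c12, .c7, .c12⟩ ⟨.c12, .c7, .c14⟩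 ⟨.c12, .c7, .c17⟩ ⟨.c12, .c8, .c1⟩ ⟨.c12, .c8, .c7⟩ ⟨.c12, .c8, .c8⟩) (@D3.rec (fun _ => Pt) ⟨.c12, .c8, .c10⟩ ⟨.c12, .c14, .c11⟩ ⟨.c12, .c9, .c3⟩ ⟨.c12, .c9, .c4⟩ ⟨.c12, .c9, .c5⟩ ⟨.c12, .c14, .c16⟩ ⟨.c12, .c14, .c15⟩ ⟨.c12, .c13, .c7⟩ ⟨.c12, .c9, .c11⟩ ⟨.c12, .c9, .c12⟩ ⟨.c12, .c9, .c15⟩ ⟨.c12, .c9, .c16⟩ ⟨.c12, .c10, .c1⟩ ⟨.c12, .c10, .c4⟩ ⟨.c12, .c11, .c11⟩ ⟨.c12, .c10, .c6⟩ ⟨.c12, .c12, .c0⟩ ⟨.c12, .c10, .c8⟩) (@D3.rec (fun _ => Pt) ⟨.c12, .c10, .c9⟩ ⟨.c12, .c10, .c12⟩ ⟨.c12, .c11, .c15⟩ ⟨.c12, .c11, .c7⟩ ⟨.c12, .c11, .c17⟩ ⟨.c12, .c11, .c10⟩ ⟨.c12,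 .c12, .c6⟩ ⟨.c12, .c12, .c5⟩ ⟨.c12, .c14, .c14⟩ ⟨.c12, .c14, .c13⟩ ⟨.c12, .c12, .c2⟩ ⟨.c12, .c13, .c1⟩ ⟨.c12, .c14, .c17⟩ ⟨.c12, .c14, .c9⟩ ⟨.c12, .c14, .c8⟩ ⟨.c12, .c13, .c6⟩ ⟨.c12, .c13, .c5⟩ ⟨.c12, .c14, .c12⟩)
def f_d : Pt → Pt := @Pt.rec (fun _ => Pt) (@D1.rec (fun _ => D2 → D3 → Pt) f_d_0 f_d_1 f_d_2 f_d_3 f_d_4 f_d_5 f_d_6 f_d_7 f_d_8 f_d_9 f_d_10 f_d_11 f_d_12)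
def fi_d : Pt → Pt := f_d
def f_e_0 : D2 → D3 → Pt := @D2.rec (fun _ => D3 → Pt) (@D3.rec (fun _ => Pt) ⟨.c0, .c0, .c0⟩ ⟨.c0, .c0, .c1⟩ ⟨.c0, .c0, .c2⟩ ⟨.c0, .c0, .c3⟩ ⟨.c0, .c0, .c4⟩ ⟨.c0, .c0, .c8⟩ ⟨.c0, .c0, .c6⟩ ⟨.c0, .c0, .c11⟩ ⟨.c0, .c0, .c5⟩ ⟨.c0, .c0, .c14⟩ ⟨.c0, .c0, .c17⟩ ⟨.c0, .c0, .c7⟩ ⟨.c0, .c1, .c2⟩ ⟨.c0, .c0, .c13⟩ ⟨.c0, .c0, .c9⟩ ⟨.c0, .c1, .c7⟩ ⟨.c0, .c1, .c8⟩ ⟨.c0, .c0, .c10⟩) (@D3.rec (fun _ => Pt) ⟨.c0, .c1, .c11⟩ ⟨.c0, .c1, .c1⟩ ⟨.c0, .c0, .c12⟩ ⟨.c0, .c1, .c16⟩ ⟨.c0, .c1, .c4⟩ ⟨.c0, .c1, .c5⟩ ⟨.c0, .c1, .c6⟩ ⟨.c0, .c0, .c15⟩ ⟨.c0,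 .c0, .c16⟩ ⟨.c0, .c2, .c6⟩ ⟨.c0, .c1, .c10⟩ ⟨.c0, .c1, .c0⟩ ⟨.c0, .c2, .c12⟩ ⟨.c0, .c1, .c13⟩ ⟨.c0, .c1, .c14⟩ ⟨.c0, .c1, .c15⟩ ⟨.c0, .c1, .c3⟩ ⟨.c0, .c1, .c17⟩) (@D3.rec (fun _ => Pt) ⟨.c0, .c3, .c3⟩ ⟨.c0, .c2, .c1⟩ ⟨.c0, .c2, .c2⟩ ⟨.c0, .c2, .c3⟩ ⟨.c0, .c2, .c4⟩ ⟨.c0, .c2, .c5⟩ ⟨.c0, .c1, .c9⟩ ⟨.c0, .c2, .c7⟩ ⟨.c0, .c3, .c11⟩ ⟨.c0, .c2, .c9⟩ ⟨.c0, .c2, .c10⟩ ⟨.c0, .c2, .c11⟩ ⟨.c0, .c1, .c12⟩ ⟨.c0, .c2, .c13⟩ ⟨.c0, .c4, .c2⟩ ⟨.c0, .c2, .c15⟩ ⟨.c0, .c2, .c16⟩ ⟨.c0, .c2, .c17⟩) (@D3.rec (fun _ => Pt) ⟨.c0, .c4, .c7⟩ ⟨.c0, .c3, .c1⟩ ⟨.c0, .c4, .c10⟩ ⟨.c0,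 .c2, .c0⟩ ⟨.c0, .c4, .c12⟩ ⟨.c0, .c3, .c5⟩ ⟨.c0, .c3, .c6⟩ ⟨.c0, .c3, .c7⟩ ⟨.c0, .c4, .c16⟩ ⟨.c0, .c3, .c9⟩ ⟨.c0, .c3, .c10⟩ ⟨.c0, .c2, .c8⟩ ⟨.c0, .c3, .c12⟩ ⟨.c0, .c3, .c13⟩ ⟨.c0, .c5, .c5⟩ ⟨.c0, .c3, .c15⟩ ⟨.c0, .c3, .c16⟩ ⟨.c0, .c5, .c9⟩) (@D3.rec (fun _ => Pt) ⟨.c0, .c4, .c0⟩ ⟨.c0, .c5, .c11⟩ ⟨.c0, .c2, .c14⟩ ⟨.c0, .c5, .c13⟩ ⟨.c0, .c4, .c4⟩ ⟨.c0, .c4, .c5⟩ ⟨.c0, .c5, .c17⟩ ⟨.c0, .c3, .c0⟩ ⟨.c0, .c6, .c2⟩ ⟨.c0, .c6, .c4⟩ ⟨.c0, .c3, .c2⟩ ⟨.c0, .c6, .c7⟩ ⟨.c0, .c3, .c4⟩ ⟨.c0, .c6, .c9⟩ ⟨.c0, .c4, .c14⟩ ⟨.c0, .c4, .c15⟩ ⟨.c0, .c3, .c8⟩ ⟨.c0, .c6, .c12⟩)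 (@D3.rec (fun _ => Pt) ⟨.c0, .c5, .c0⟩ ⟨.c0, .c5, .c1⟩ ⟨.c0, .c5, .c2⟩ ⟨.c0, .c6, .c14⟩ ⟨.c0, .c5, .c4⟩ ⟨.c0, .c3, .c14⟩ ⟨.c0, .c6, .c16⟩ ⟨.c0, .c5, .c7⟩ ⟨.c0, .c7, .c0⟩ ⟨.c0, .c3, .c17⟩ ⟨.c0, .c7, .c3⟩ ⟨.c0, .c4, .c1⟩ ⟨.c0, .c7, .c6⟩ ⟨.c0, .c4, .c3⟩ ⟨.c0, .c7, .c8⟩ ⟨.c0, .c5, .c15⟩ ⟨.c0, .c7, .c10⟩ ⟨.c0, .c4, .c6⟩) (@D3.rec (fun _ => Pt) ⟨.c0, .c7, .c14⟩ ⟨.c0, .c6, .c1⟩ ⟨.c0, .c4, .c8⟩ ⟨.c0, .c7, .c17⟩ ⟨.c0, .c4, .c9⟩ ⟨.c0, .c8, .c1⟩ ⟨.c0, .c6, .c6⟩ ⟨.c0, .c4, .c11⟩ ⟨.c0, .c8, .c5⟩ ⟨.c0, .c4, .c13⟩ ⟨.c0, .c6, .c10⟩ ⟨.c0, .c8, .c9⟩ ⟨.c0, .c4, .c17⟩ ⟨.c0,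 .c6, .c13⟩ ⟨.c0, .c5, .c3⟩ ⟨.c0, .c8, .c12⟩ ⟨.c0, .c5, .c6⟩ ⟨.c0, .c8, .c14⟩) (@D3.rec (fun _ => Pt) ⟨.c0, .c5, .c8⟩ ⟨.c0, .c8, .c17⟩ ⟨.c0, .c7, .c2⟩ ⟨.c0, .c5, .c10⟩ ⟨.c0, .c9, .c2⟩ ⟨.c0, .c7, .c5⟩ ⟨.c0, .c5, .c12⟩ ⟨.c0, .c9, .c5⟩ ⟨.c0, .c5, .c14⟩ ⟨.c0, .c9, .c8⟩ ⟨.c0, .c5, .c16⟩ ⟨.c0, .c9, .c11⟩ ⟨.c0, .c7, .c12⟩ ⟨.c0, .c7, .c13⟩ ⟨.c0, .c6, .c0⟩ ⟨.c0, .c9, .c17⟩ ⟨.c0, .c7, .c16⟩ ⟨.c0, .c6, .c3⟩) (@D3.rec (fun _ => Pt) ⟨.c0, .c8, .c0⟩ ⟨.c0, .c6, .c5⟩ ⟨.c0, .c10, .c6⟩ ⟨.c0, .c8, .c3⟩ ⟨.c0, .c8, .c4⟩ ⟨.c0, .c6, .c8⟩ ⟨.c0, .c10, .c11⟩ ⟨.c0, .c8, .c7⟩ ⟨.c0,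 .c10, .c14⟩ ⟨.c0, .c6, .c11⟩ ⟨.c0, .c8, .c10⟩ ⟨.c0, .c8, .c11⟩ ⟨.c0, .c6, .c15⟩ ⟨.c0, .c10, .c17⟩ ⟨.c0, .c6, .c17⟩ ⟨.c0, .c8, .c15⟩ ⟨.c0, .c8, .c16⟩ ⟨.c0, .c7, .c1⟩) (@D3.rec (fun _ => Pt) ⟨.c0, .c11, .c5⟩ ⟨.c0, .c9, .c1⟩ ⟨.c0, .c7, .c4⟩ ⟨.c0, .c9, .c3⟩ ⟨.c0, .c9, .c4⟩ ⟨.c0, .c7, .c7⟩ ⟨.c0, .c11, .c12⟩ ⟨.c0, .c9, .c7⟩ ⟨.c0, .c7, .c9⟩ ⟨.c0, .c9, .c9⟩ ⟨.c0, .c9, .c10⟩ ⟨.c0, .c7, .c11⟩ ⟨.c0, .c12, .c2⟩ ⟨.c0, .c12, .c4⟩ ⟨.c0, .c9, .c14⟩ ⟨.c0, .c9, .c15⟩ ⟨.c0, .c9, .c16⟩ ⟨.c0, .c7, .c15⟩) (@D3.rec (fun _ => Pt) ⟨.c0, .c12, .c11⟩ ⟨.c0, .c10, .c1⟩ ⟨.c0, .c10,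 .c2⟩ ⟨.c0, .c10, .c3⟩ ⟨.c0, .c10, .c4⟩ ⟨.c0, .c10, .c5⟩ ⟨.c0, .c8, .c2⟩ ⟨.c0, .c13, .c2⟩ ⟨.c0, .c10, .c8⟩ ⟨.c0, .c10, .c9⟩ ⟨.c0, .c13, .c6⟩ ⟨.c0, .c8, .c6⟩ ⟨.c0, .c10, .c12⟩ ⟨.c0, .c13, .c9⟩ ⟨.c0, .c8, .c8⟩ ⟨.c0, .c13, .c7⟩ ⟨.c0, .c10, .c16⟩ ⟨.c0, .c8, .c13⟩) (@D3.rec (fun _ => Pt) ⟨.c0, .c11, .c0⟩ ⟨.c0, .c13, .c15⟩ ⟨.c0, .c11, .c2⟩ ⟨.c0, .c11, .c3⟩ ⟨.c0, .c11, .c4⟩ ⟨.c0, .c9, .c0⟩ ⟨.c0, .c14, .c4⟩ ⟨.c0, .c11, .c7⟩ ⟨.c0, .c11, .c8⟩ ⟨.c0, .c11, .c9⟩ ⟨.c0, .c11, .c10⟩ ⟨.c0, .c14, .c10⟩ ⟨.c0, .c9, .c6⟩ ⟨.c0, .c11, .c13⟩ ⟨.c0, .c14, .c11⟩ ⟨.c0, .c11, .c15⟩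 ⟨.c0, .c14, .c17⟩ ⟨.c0, .c11, .c17⟩) (@D3.rec (fun _ => Pt) ⟨.c0, .c12, .c0⟩ ⟨.c0, .c12, .c1⟩ ⟨.c0, .c9, .c12⟩ ⟨.c1, .c0, .c7⟩ ⟨.c0, .c9, .c13⟩ ⟨.c1, .c0, .c8⟩ ⟨.c1, .c0, .c9⟩ ⟨.c0, .c12, .c7⟩ ⟨.c0, .c12, .c8⟩ ⟨.c0, .c12, .c9⟩ ⟨.c1, .c0, .c16⟩ ⟨.c0, .c10, .c0⟩ ⟨.c1, .c1, .c1⟩ ⟨.c0, .c12, .c13⟩ ⟨.c0, .c12, .c14⟩ ⟨.c0, .c12, .c15⟩ ⟨.c0, .c12, .c16⟩ ⟨.c0, .c12, .c17⟩) (@D3.rec (fun _ => Pt) ⟨.c1, .c1, .c9⟩ ⟨.c1, .c1, .c10⟩ ⟨.c0, .c10, .c7⟩ ⟨.c0, .c13, .c3⟩ ⟨.c1, .c1, .c14⟩ ⟨.c1, .c1, .c16⟩ ⟨.c0, .c10, .c10⟩ ⟨.c0, .c10, .c15⟩ ⟨.c0, .c13, .c8⟩ ⟨.c0, .c10,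 .c13⟩ ⟨.c1, .c1, .c11⟩ ⟨.c1, .c2, .c0⟩ ⟨.c0, .c13, .c12⟩ ⟨.c0, .c13, .c13⟩ ⟨.c0, .c13, .c14⟩ ⟨.c0, .c11, .c1⟩ ⟨.c1, .c2, .c8⟩ ⟨.c1, .c2, .c9⟩) (@D3.rec (fun _ => Pt) ⟨.c0, .c14, .c0⟩ ⟨.c0, .c14, .c1⟩ ⟨.c0, .c14, .c2⟩ ⟨.c1, .c2, .c16⟩ ⟨.c0, .c11, .c6⟩ ⟨.c1, .c3, .c1⟩ ⟨.c0, .c14, .c6⟩ ⟨.c0, .c14, .c7⟩ ⟨.c1, .c3, .c5⟩ ⟨.c1, .c3, .c7⟩ ⟨.c0, .c11, .c11⟩ ⟨.c0, .c11, .c14⟩ ⟨.c0, .c14, .c12⟩ ⟨.c1, .c3, .c9⟩ ⟨.c1, .c3, .c11⟩ ⟨.c0, .c14, .c15⟩ ⟨.c0, .c14, .c16⟩ ⟨.c0, .c11, .c16⟩)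
def f_e_1 : D2 → D3 → Pt := @D2.rec (fun _ => D3 → Pt) (@D3.rec (fun _ => Pt) ⟨.c1, .c3, .c17⟩ ⟨.c1, .c4, .c0⟩ ⟨.c1, .c0, .c2⟩ ⟨.c1, .c0, .c3⟩ ⟨.c1, .c0, .c4⟩ ⟨.c1, .c4, .c7⟩ ⟨.c1, .c4, .c8⟩ ⟨.c0, .c12, .c3⟩ ⟨.c0, .c12, .c5⟩ ⟨.c0, .c12, .c6⟩ ⟨.c1, .c4, .c11⟩ ⟨.c1, .c4, .c12⟩ ⟨.c1, .c0, .c12⟩ ⟨.c1, .c4, .c17⟩ ⟨.c1, .c5, .c1⟩ ⟨.c1, .c5, .c3⟩ ⟨.c0, .c12, .c10⟩ ⟨.c1, .c0, .c17⟩) (@D3.rec (fun _ => Pt) ⟨.c1, .c5, .c7⟩ ⟨.c0, .c12, .c12⟩ ⟨.c1, .c1, .c2⟩ ⟨.c1, .c5, .c9⟩ ⟨.c1, .c1, .c4⟩ ⟨.c1, .c1, .c5⟩ ⟨.c1, .c1, .c6⟩ ⟨.c1, .c5, .c15⟩ ⟨.c1, .c5, .c17⟩ ⟨.c0, .c13,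 .c0⟩ ⟨.c0, .c13, .c1⟩ ⟨.c0, .c13, .c10⟩ ⟨.c1, .c6, .c5⟩ ⟨.c1, .c6, .c7⟩ ⟨.c0, .c13, .c4⟩ ⟨.c1, .c6, .c10⟩ ⟨.c0, .c13, .c5⟩ ⟨.c1, .c1, .c17⟩) (@D3.rec (fun _ => Pt) ⟨.c0, .c13, .c11⟩ ⟨.c1, .c2, .c1⟩ ⟨.c1, .c2, .c2⟩ ⟨.c1, .c6, .c2⟩ ⟨.c1, .c6, .c3⟩ ⟨.c1, .c6, .c17⟩ ⟨.c1, .c2, .c6⟩ ⟨.c1, .c2, .c7⟩ ⟨.c0, .c13, .c16⟩ ⟨.c0, .c13, .c17⟩ ⟨.c1, .c7, .c3⟩ ⟨.c1, .c7, .c4⟩ ⟨.c1, .c2, .c12⟩ ⟨.c1, .c7, .c9⟩ ⟨.c1, .c7, .c11⟩ ⟨.c1, .c7, .c13⟩ ⟨.c0, .c14, .c3⟩ ⟨.c1, .c2, .c17⟩) (@D3.rec (fun _ => Pt) ⟨.c1, .c7, .c17⟩ ⟨.c0, .c14, .c5⟩ ⟨.c1, .c3, .c2⟩ ⟨.c1, .c8, .c2⟩ ⟨.c1,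 .c8, .c4⟩ ⟨.c0, .c14, .c8⟩ ⟨.c1, .c8, .c7⟩ ⟨.c0, .c14, .c9⟩ ⟨.c1, .c3, .c8⟩ ⟨.c0, .c14, .c13⟩ ⟨.c1, .c3, .c10⟩ ⟨.c0, .c14, .c14⟩ ⟨.c1, .c8, .c11⟩ ⟨.c1, .c8, .c12⟩ ⟨.c1, .c8, .c16⟩ ⟨.c1, .c3, .c15⟩ ⟨.c1, .c3, .c16⟩ ⟨.c1, .c0, .c0⟩) (@D3.rec (fun _ => Pt) ⟨.c1, .c0, .c1⟩ ⟨.c1, .c9, .c3⟩ ⟨.c1, .c9, .c4⟩ ⟨.c1, .c4, .c3⟩ ⟨.c1, .c9, .c9⟩ ⟨.c1, .c9, .c11⟩ ⟨.c1, .c9, .c13⟩ ⟨.c1, .c0, .c5⟩ ⟨.c1, .c0, .c6⟩ ⟨.c1, .c4, .c9⟩ ⟨.c1, .c4, .c10⟩ ⟨.c1, .c0, .c10⟩ ⟨.c1, .c0, .c11⟩ ⟨.c1, .c10, .c2⟩ ⟨.c1, .c10, .c6⟩ ⟨.c1, .c10, .c8⟩ ⟨.c1, .c10, .c10⟩ ⟨.c1, .c0, .c13⟩) (@D3.rec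 (fun _ => Pt) ⟨.c1, .c10, .c13⟩ ⟨.c1, .c0, .c14⟩ ⟨.c1, .c10, .c16⟩ ⟨.c1, .c0, .c15⟩ ⟨.c1, .c10, .c14⟩ ⟨.c1, .c5, .c5⟩ ⟨.c1, .c11, .c2⟩ ⟨.c1, .c1, .c0⟩ ⟨.c1, .c5, .c8⟩ ⟨.c1, .c1, .c3⟩ ⟨.c1, .c11, .c5⟩ ⟨.c1, .c5, .c11⟩ ⟨.c1, .c11, .c9⟩ ⟨.c1, .c11, .c11⟩ ⟨.c1, .c11, .c13⟩ ⟨.c1, .c1, .c7⟩ ⟨.c1, .c11, .c16⟩ ⟨.c1, .c1, .c8⟩) (@D3.rec (fun _ => Pt) ⟨.c1, .c6, .c0⟩ ⟨.c1, .c6, .c1⟩ ⟨.c1, .c2, .c3⟩ ⟨.c1, .c2, .c4⟩ ⟨.c1, .c12, .c6⟩ ⟨.c1, .c1, .c12⟩ ⟨.c1, .c12, .c9⟩ ⟨.c1, .c1, .c13⟩ ⟨.c1, .c6, .c8⟩ ⟨.c1, .c12, .c13⟩ ⟨.c1, .c1, .c15⟩ ⟨.c1, .c6, .c11⟩ ⟨.c1, .c6, .c12⟩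 ⟨.c1, .c11, .c6⟩ ⟨.c1, .c6, .c14⟩ ⟨.c1, .c12, .c4⟩ ⟨.c1, .c13, .c0⟩ ⟨.c1, .c2, .c5⟩) (@D3.rec (fun _ => Pt) ⟨.c1, .c7, .c0⟩ ⟨.c1, .c7, .c1⟩ ⟨.c1, .c7, .c2⟩ ⟨.c1, .c2, .c10⟩ ⟨.c1, .c2, .c11⟩ ⟨.c1, .c13, .c4⟩ ⟨.c1, .c13, .c8⟩ ⟨.c1, .c13, .c10⟩ ⟨.c1, .c13, .c12⟩ ⟨.c1, .c2, .c13⟩ ⟨.c1, .c13, .c15⟩ ⟨.c1, .c2, .c14⟩ ⟨.c1, .c14, .c0⟩ ⟨.c1, .c2, .c15⟩ ⟨.c1, .c13, .c16⟩ ⟨.c1, .c7, .c15⟩ ⟨.c1, .c14, .c4⟩ ⟨.c1, .c3, .c0⟩) (@D3.rec (fun _ => Pt) ⟨.c1, .c8, .c0⟩ ⟨.c1, .c14, .c7⟩ ⟨.c1, .c3, .c3⟩ ⟨.c1, .c14, .c10⟩ ⟨.c1, .c3, .c4⟩ ⟨.c1, .c8, .c5⟩ ⟨.c1, .c14, .c14⟩ ⟨.c1,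 .c3, .c6⟩ ⟨.c1, .c8, .c8⟩ ⟨.c1, .c8, .c9⟩ ⟨.c1, .c8, .c10⟩ ⟨.c1, .c3, .c12⟩ ⟨.c1, .c3, .c13⟩ ⟨.c1, .c8, .c13⟩ ⟨.c2, .c0, .c0⟩ ⟨.c2, .c0, .c1⟩ ⟨.c1, .c3, .c14⟩ ⟨.c2, .c0, .c5⟩) (@D3.rec (fun _ => Pt) ⟨.c1, .c9, .c0⟩ ⟨.c2, .c0, .c9⟩ ⟨.c1, .c9, .c2⟩ ⟨.c1, .c4, .c1⟩ ⟨.c1, .c4, .c2⟩ ⟨.c2, .c0, .c11⟩ ⟨.c2, .c0, .c15⟩ ⟨.c2, .c0, .c17⟩ ⟨.c2, .c1, .c1⟩ ⟨.c1, .c4, .c4⟩ ⟨.c2, .c1, .c4⟩ ⟨.c1, .c4, .c5⟩ ⟨.c2, .c1, .c7⟩ ⟨.c1, .c4, .c6⟩ ⟨.c2, .c1, .c5⟩ ⟨.c1, .c9, .c15⟩ ⟨.c1, .c9, .c16⟩ ⟨.c1, .c9, .c17⟩) (@D3.rec (fun _ => Pt) ⟨.c1, .c10, .c0⟩ ⟨.c1, .c10, .c1⟩ ⟨.c1,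 .c4, .c13⟩ ⟨.c2, .c2, .c0⟩ ⟨.c2, .c2, .c2⟩ ⟨.c2, .c2, .c4⟩ ⟨.c1, .c4, .c14⟩ ⟨.c2, .c2, .c7⟩ ⟨.c1, .c4, .c15⟩ ⟨.c2, .c2, .c10⟩ ⟨.c1, .c4, .c16⟩ ⟨.c2, .c2, .c5⟩ ⟨.c2, .c2, .c15⟩ ⟨.c1, .c5, .c0⟩ ⟨.c1, .c5, .c4⟩ ⟨.c2, .c3, .c1⟩ ⟨.c1, .c5, .c2⟩ ⟨.c2, .c2, .c17⟩) (@D3.rec (fun _ => Pt) ⟨.c2, .c3, .c0⟩ ⟨.c2, .c3, .c4⟩ ⟨.c1, .c5, .c6⟩ ⟨.c2, .c2, .c16⟩ ⟨.c1, .c11, .c4⟩ ⟨.c1, .c5, .c10⟩ ⟨.c1, .c6, .c13⟩ ⟨.c2, .c3, .c9⟩ ⟨.c2, .c3, .c11⟩ ⟨.c1, .c5, .c12⟩ ⟨.c2, .c3, .c14⟩ ⟨.c1, .c5, .c13⟩ ⟨.c2, .c3, .c17⟩ ⟨.c1, .c5, .c14⟩ ⟨.c1, .c11, .c14⟩ ⟨.c2, .c4, .c3⟩ ⟨.c1, .c5,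 .c16⟩ ⟨.c1, .c11, .c17⟩) (@D3.rec (fun _ => Pt) ⟨.c1, .c12, .c0⟩ ⟨.c1, .c12, .c1⟩ ⟨.c2, .c3, .c7⟩ ⟨.c1, .c12, .c3⟩ ⟨.c1, .c6, .c15⟩ ⟨.c2, .c4, .c11⟩ ⟨.c1, .c6, .c4⟩ ⟨.c1, .c12, .c7⟩ ⟨.c2, .c4, .c15⟩ ⟨.c1, .c6, .c6⟩ ⟨.c1, .c12, .c10⟩ ⟨.c1, .c12, .c11⟩ ⟨.c1, .c12, .c12⟩ ⟨.c1, .c6, .c9⟩ ⟨.c1, .c12, .c14⟩ ⟨.c1, .c12, .c15⟩ ⟨.c2, .c0, .c6⟩ ⟨.c2, .c5, .c5⟩) (@D3.rec (fun _ => Pt) ⟨.c1, .c6, .c16⟩ ⟨.c1, .c13, .c1⟩ ⟨.c1, .c13, .c2⟩ ⟨.c1, .c13, .c3⟩ ⟨.c1, .c7, .c5⟩ ⟨.c2, .c5, .c12⟩ ⟨.c2, .c5, .c14⟩ ⟨.c2, .c5, .c16⟩ ⟨.c1, .c7, .c6⟩ ⟨.c2, .c6, .c1⟩ ⟨.c1, .c7, .c7⟩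 ⟨.c2, .c6, .c4⟩ ⟨.c1, .c7, .c8⟩ ⟨.c2, .c5, .c17⟩ ⟨.c2, .c6, .c9⟩ ⟨.c1, .c7, .c10⟩ ⟨.c1, .c7, .c14⟩ ⟨.c2, .c6, .c13⟩) (@D3.rec (fun _ => Pt) ⟨.c1, .c7, .c12⟩ ⟨.c2, .c6, .c11⟩ ⟨.c2, .c6, .c12⟩ ⟨.c2, .c6, .c16⟩ ⟨.c1, .c7, .c16⟩ ⟨.c2, .c6, .c10⟩ ⟨.c2, .c7, .c2⟩ ⟨.c1, .c8, .c1⟩ ⟨.c1, .c14, .c8⟩ ⟨.c2, .c7, .c6⟩ ⟨.c1, .c8, .c3⟩ ⟨.c1, .c14, .c11⟩ ⟨.c1, .c14, .c12⟩ ⟨.c1, .c14, .c13⟩ ⟨.c1, .c8, .c6⟩ ⟨.c1, .c14, .c15⟩ ⟨.c1, .c14, .c16⟩ ⟨.c1, .c14, .c17⟩)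
def f_e_2 : D2 → D3 → Pt := @D2.rec (fun _ => D3 → Pt) (@D3.rec (fun _ => Pt) ⟨.c1, .c8, .c14⟩ ⟨.c1, .c8, .c15⟩ ⟨.c2, .c0, .c2⟩ ⟨.c2, .c7, .c11⟩ ⟨.c2, .c7, .c16⟩ ⟨.c1, .c8, .c17⟩ ⟨.c1, .c12, .c16⟩ ⟨.c2, .c8, .c1⟩ ⟨.c2, .c8, .c3⟩ ⟨.c1, .c9, .c1⟩ ⟨.c2, .c0, .c10⟩ ⟨.c1, .c9, .c5⟩ ⟨.c2, .c8, .c8⟩ ⟨.c2, .c8, .c10⟩ ⟨.c2, .c8, .c12⟩ ⟨.c1, .c9, .c6⟩ ⟨.c2, .c8, .c15⟩ ⟨.c1, .c9, .c7⟩) (@D3.rec (fun _ => Pt) ⟨.c2, .c9, .c0⟩ ⟨.c1, .c9, .c8⟩ ⟨.c2, .c8, .c13⟩ ⟨.c2, .c9, .c5⟩ ⟨.c1, .c9, .c10⟩ ⟨.c1, .c9, .c14⟩ ⟨.c2, .c9, .c9⟩ ⟨.c1, .c9, .c12⟩ ⟨.c2, .c1, .c8⟩ ⟨.c2, .c9,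 .c7⟩ ⟨.c2, .c9, .c8⟩ ⟨.c2, .c9, .c15⟩ ⟨.c2, .c1, .c12⟩ ⟨.c2, .c1, .c13⟩ ⟨.c2, .c1, .c14⟩ ⟨.c2, .c1, .c15⟩ ⟨.c2, .c10, .c4⟩ ⟨.c2, .c10, .c6⟩) (@D3.rec (fun _ => Pt) ⟨.c1, .c10, .c3⟩ ⟨.c2, .c10, .c9⟩ ⟨.c1, .c10, .c4⟩ ⟨.c2, .c10, .c12⟩ ⟨.c1, .c10, .c5⟩ ⟨.c1, .c10, .c11⟩ ⟨.c2, .c10, .c17⟩ ⟨.c1, .c10, .c7⟩ ⟨.c2, .c10, .c10⟩ ⟨.c2, .c11, .c3⟩ ⟨.c1, .c10, .c9⟩ ⟨.c2, .c2, .c11⟩ ⟨.c2, .c10, .c14⟩ ⟨.c2, .c10, .c15⟩ ⟨.c2, .c11, .c8⟩ ⟨.c1, .c10, .c12⟩ ⟨.c1, .c11, .c3⟩ ⟨.c1, .c10, .c17⟩) (@D3.rec (fun _ => Pt) ⟨.c1, .c11, .c0⟩ ⟨.c1, .c10, .c15⟩ ⟨.c2, .c11, .c10⟩ ⟨.c2,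 .c11, .c13⟩ ⟨.c1, .c11, .c1⟩ ⟨.c2, .c11, .c9⟩ ⟨.c2, .c11, .c12⟩ ⟨.c1, .c12, .c2⟩ ⟨.c2, .c12, .c4⟩ ⟨.c1, .c11, .c7⟩ ⟨.c2, .c12, .c6⟩ ⟨.c1, .c11, .c8⟩ ⟨.c2, .c3, .c12⟩ ⟨.c2, .c12, .c10⟩ ⟨.c1, .c11, .c10⟩ ⟨.c2, .c3, .c15⟩ ⟨.c2, .c12, .c14⟩ ⟨.c1, .c11, .c12⟩) (@D3.rec (fun _ => Pt) ⟨.c2, .c12, .c7⟩ ⟨.c2, .c4, .c1⟩ ⟨.c2, .c4, .c2⟩ ⟨.c1, .c11, .c15⟩ ⟨.c2, .c4, .c4⟩ ⟨.c2, .c4, .c5⟩ ⟨.c2, .c12, .c2⟩ ⟨.c2, .c4, .c7⟩ ⟨.c2, .c4, .c8⟩ ⟨.c2, .c7, .c17⟩ ⟨.c2, .c13, .c8⟩ ⟨.c1, .c12, .c5⟩ ⟨.c2, .c4, .c12⟩ ⟨.c2, .c4, .c13⟩ ⟨.c2, .c4, .c14⟩ ⟨.c1, .c12, .c8⟩ ⟨.c2, .c4,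 .c16⟩ ⟨.c2, .c4, .c17⟩) (@D3.rec (fun _ => Pt) ⟨.c2, .c7, .c1⟩ ⟨.c2, .c5, .c1⟩ ⟨.c2, .c5, .c2⟩ ⟨.c2, .c5, .c3⟩ ⟨.c2, .c13, .c16⟩ ⟨.c1, .c12, .c17⟩ ⟨.c2, .c5, .c6⟩ ⟨.c2, .c5, .c7⟩ ⟨.c2, .c5, .c8⟩ ⟨.c2, .c5, .c9⟩ ⟨.c2, .c14, .c3⟩ ⟨.c2, .c14, .c5⟩ ⟨.c1, .c13, .c5⟩ ⟨.c2, .c14, .c8⟩ ⟨.c1, .c13, .c6⟩ ⟨.c2, .c14, .c11⟩ ⟨.c1, .c13, .c7⟩ ⟨.c1, .c13, .c13⟩) (@D3.rec (fun _ => Pt) ⟨.c2, .c14, .c16⟩ ⟨.c1, .c13, .c9⟩ ⟨.c2, .c14, .c9⟩ ⟨.c3, .c0, .c2⟩ ⟨.c1, .c13, .c11⟩ ⟨.c2, .c6, .c5⟩ ⟨.c2, .c14, .c13⟩ ⟨.c2, .c14, .c14⟩ ⟨.c3, .c0, .c7⟩ ⟨.c1, .c13, .c14⟩ ⟨.c1, .c14,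 .c5⟩ ⟨.c1, .c14, .c1⟩ ⟨.c1, .c14, .c2⟩ ⟨.c1, .c13, .c17⟩ ⟨.c3, .c0, .c9⟩ ⟨.c3, .c0, .c12⟩ ⟨.c1, .c14, .c3⟩ ⟨.c3, .c0, .c8⟩) (@D3.rec (fun _ => Pt) ⟨.c3, .c0, .c11⟩ ⟨.c2, .c5, .c0⟩ ⟨.c1, .c14, .c6⟩ ⟨.c2, .c7, .c3⟩ ⟨.c2, .c7, .c4⟩ ⟨.c2, .c7, .c5⟩ ⟨.c1, .c14, .c9⟩ ⟨.c2, .c7, .c7⟩ ⟨.c2, .c7, .c8⟩ ⟨.c2, .c7, .c9⟩ ⟨.c2, .c7, .c10⟩ ⟨.c2, .c0, .c3⟩ ⟨.c3, .c1, .c2⟩ ⟨.c2, .c7, .c13⟩ ⟨.c3, .c1, .c5⟩ ⟨.c3, .c1, .c7⟩ ⟨.c2, .c0, .c4⟩ ⟨.c2, .c4, .c9⟩) (@D3.rec (fun _ => Pt) ⟨.c3, .c1, .c11⟩ ⟨.c2, .c0, .c7⟩ ⟨.c3, .c1, .c14⟩ ⟨.c2, .c0, .c8⟩ ⟨.c3, .c1, .c8⟩ ⟨.c2, .c8,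 .c5⟩ ⟨.c3, .c2, .c2⟩ ⟨.c3, .c2, .c4⟩ ⟨.c2, .c0, .c12⟩ ⟨.c3, .c2, .c7⟩ ⟨.c2, .c0, .c13⟩ ⟨.c3, .c2, .c10⟩ ⟨.c2, .c0, .c14⟩ ⟨.c2, .c1, .c2⟩ ⟨.c3, .c2, .c15⟩ ⟨.c2, .c0, .c16⟩ ⟨.c3, .c2, .c8⟩ ⟨.c3, .c3, .c1⟩) (@D3.rec (fun _ => Pt) ⟨.c2, .c1, .c0⟩ ⟨.c3, .c1, .c15⟩ ⟨.c3, .c2, .c12⟩ ⟨.c3, .c2, .c13⟩ ⟨.c3, .c3, .c7⟩ ⟨.c2, .c1, .c3⟩ ⟨.c2, .c9, .c6⟩ ⟨.c2, .c1, .c9⟩ ⟨.c2, .c1, .c10⟩ ⟨.c2, .c1, .c6⟩ ⟨.c2, .c9, .c10⟩ ⟨.c3, .c3, .c9⟩ ⟨.c3, .c4, .c0⟩ ⟨.c2, .c9, .c13⟩ ⟨.c3, .c3, .c12⟩ ⟨.c2, .c1, .c11⟩ ⟨.c3, .c4, .c4⟩ ⟨.c3, .c4, .c5⟩) (@D3.rec (fun _ => Pt) ⟨.c2, .c10,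 .c0⟩ ⟨.c2, .c10, .c1⟩ ⟨.c3, .c4, .c6⟩ ⟨.c3, .c4, .c8⟩ ⟨.c2, .c1, .c16⟩ ⟨.c3, .c4, .c11⟩ ⟨.c2, .c1, .c17⟩ ⟨.c2, .c10, .c7⟩ ⟨.c3, .c4, .c16⟩ ⟨.c2, .c2, .c1⟩ ⟨.c2, .c2, .c8⟩ ⟨.c3, .c5, .c2⟩ ⟨.c2, .c2, .c3⟩ ⟨.c2, .c10, .c13⟩ ⟨.c2, .c2, .c12⟩ ⟨.c2, .c2, .c13⟩ ⟨.c3, .c5, .c8⟩ ⟨.c2, .c2, .c6⟩) (@D3.rec (fun _ => Pt) ⟨.c2, .c11, .c0⟩ ⟨.c3, .c5, .c0⟩ ⟨.c3, .c5, .c1⟩ ⟨.c2, .c2, .c9⟩ ⟨.c2, .c11, .c4⟩ ⟨.c3, .c5, .c4⟩ ⟨.c3, .c6, .c0⟩ ⟨.c3, .c5, .c7⟩ ⟨.c2, .c2, .c14⟩ ⟨.c2, .c3, .c5⟩ ⟨.c2, .c3, .c2⟩ ⟨.c2, .c11, .c11⟩ ⟨.c2, .c3, .c6⟩ ⟨.c2, .c3, .c3⟩ ⟨.c3, .c6, .c3⟩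 ⟨.c3, .c6, .c7⟩ ⟨.c3, .c6, .c2⟩ ⟨.c3, .c6, .c4⟩) (@D3.rec (fun _ => Pt) ⟨.c3, .c6, .c6⟩ ⟨.c3, .c6, .c10⟩ ⟨.c2, .c4, .c6⟩ ⟨.c3, .c6, .c16⟩ ⟨.c2, .c3, .c8⟩ ⟨.c3, .c7, .c0⟩ ⟨.c2, .c3, .c10⟩ ⟨.c2, .c4, .c0⟩ ⟨.c2, .c12, .c8⟩ ⟨.c3, .c7, .c5⟩ ⟨.c2, .c3, .c13⟩ ⟨.c3, .c6, .c17⟩ ⟨.c2, .c12, .c12⟩ ⟨.c2, .c12, .c13⟩ ⟨.c2, .c3, .c16⟩ ⟨.c3, .c7, .c1⟩ ⟨.c2, .c12, .c16⟩ ⟨.c3, .c7, .c9⟩) (@D3.rec (fun _ => Pt) ⟨.c3, .c7, .c4⟩ ⟨.c2, .c13, .c1⟩ ⟨.c2, .c13, .c2⟩ ⟨.c2, .c13, .c3⟩ ⟨.c3, .c6, .c14⟩ ⟨.c2, .c13, .c5⟩ ⟨.c2, .c13, .c6⟩ ⟨.c3, .c1, .c9⟩ ⟨.c2, .c4, .c10⟩ ⟨.c2, .c13,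 .c9⟩ ⟨.c2, .c13, .c10⟩ ⟨.c2, .c13, .c11⟩ ⟨.c2, .c13, .c12⟩ ⟨.c2, .c13, .c13⟩ ⟨.c2, .c14, .c15⟩ ⟨.c2, .c13, .c15⟩ ⟨.c2, .c5, .c4⟩ ⟨.c2, .c13, .c17⟩) (@D3.rec (fun _ => Pt) ⟨.c2, .c14, .c0⟩ ⟨.c3, .c8, .c4⟩ ⟨.c3, .c8, .c5⟩ ⟨.c2, .c5, .c10⟩ ⟨.c3, .c8, .c7⟩ ⟨.c2, .c5, .c11⟩ ⟨.c2, .c14, .c6⟩ ⟨.c3, .c8, .c12⟩ ⟨.c2, .c5, .c13⟩ ⟨.c2, .c6, .c2⟩ ⟨.c3, .c8, .c16⟩ ⟨.c2, .c5, .c15⟩ ⟨.c2, .c14, .c12⟩ ⟨.c2, .c6, .c6⟩ ⟨.c2, .c6, .c7⟩ ⟨.c2, .c13, .c14⟩ ⟨.c2, .c6, .c0⟩ ⟨.c2, .c14, .c17⟩)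
def f_e_3 : D2 → D3 → Pt := @D2.rec (fun _ => D3 → Pt) (@D3.rec (fun _ => Pt) ⟨.c3, .c8, .c14⟩ ⟨.c3, .c8, .c15⟩ ⟨.c2, .c6, .c3⟩ ⟨.c3, .c0, .c3⟩ ⟨.c3, .c9, .c0⟩ ⟨.c3, .c9, .c8⟩ ⟨.c3, .c9, .c3⟩ ⟨.c2, .c6, .c8⟩ ⟨.c2, .c6, .c17⟩ ⟨.c2, .c6, .c14⟩ ⟨.c3, .c0, .c10⟩ ⟨.c2, .c7, .c0⟩ ⟨.c2, .c6, .c15⟩ ⟨.c3, .c9, .c10⟩ ⟨.c3, .c9, .c12⟩ ⟨.c3, .c9, .c9⟩ ⟨.c3, .c0, .c16⟩ ⟨.c3, .c9, .c17⟩) (@D3.rec (fun _ => Pt) ⟨.c3, .c10, .c1⟩ ⟨.c3, .c10, .c3⟩ ⟨.c2, .c7, .c12⟩ ⟨.c3, .c10, .c6⟩ ⟨.c3, .c10, .c8⟩ ⟨.c2, .c7, .c14⟩ ⟨.c3, .c10, .c11⟩ ⟨.c2, .c7, .c15⟩ ⟨.c2, .c8, .c4⟩ ⟨.c2,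 .c13, .c7⟩ ⟨.c3, .c10, .c17⟩ ⟨.c2, .c8, .c0⟩ ⟨.c3, .c10, .c9⟩ ⟨.c3, .c11, .c2⟩ ⟨.c2, .c8, .c2⟩ ⟨.c2, .c9, .c1⟩ ⟨.c3, .c10, .c13⟩ ⟨.c3, .c10, .c14⟩) (@D3.rec (fun _ => Pt) ⟨.c3, .c11, .c9⟩ ⟨.c3, .c11, .c11⟩ ⟨.c2, .c8, .c6⟩ ⟨.c3, .c11, .c14⟩ ⟨.c2, .c8, .c7⟩ ⟨.c3, .c2, .c5⟩ ⟨.c3, .c12, .c1⟩ ⟨.c2, .c8, .c9⟩ ⟨.c2, .c8, .c16⟩ ⟨.c3, .c12, .c5⟩ ⟨.c2, .c8, .c11⟩ ⟨.c3, .c10, .c12⟩ ⟨.c2, .c9, .c2⟩ ⟨.c2, .c9, .c3⟩ ⟨.c3, .c12, .c11⟩ ⟨.c2, .c8, .c14⟩ ⟨.c3, .c11, .c0⟩ ⟨.c3, .c12, .c3⟩) (@D3.rec (fun _ => Pt) ⟨.c3, .c12, .c4⟩ ⟨.c2, .c8, .c17⟩ ⟨.c3, .c11, .c3⟩ ⟨.c3,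 .c12, .c7⟩ ⟨.c3, .c13, .c5⟩ ⟨.c3, .c11, .c6⟩ ⟨.c3, .c12, .c10⟩ ⟨.c2, .c9, .c4⟩ ⟨.c3, .c3, .c8⟩ ⟨.c2, .c9, .c11⟩ ⟨.c3, .c13, .c15⟩ ⟨.c3, .c3, .c11⟩ ⟨.c2, .c9, .c14⟩ ⟨.c3, .c3, .c13⟩ ⟨.c3, .c13, .c10⟩ ⟨.c3, .c14, .c4⟩ ⟨.c3, .c3, .c16⟩ ⟨.c3, .c13, .c14⟩) (@D3.rec (fun _ => Pt) ⟨.c2, .c9, .c12⟩ ⟨.c3, .c14, .c8⟩ ⟨.c3, .c14, .c9⟩ ⟨.c3, .c4, .c3⟩ ⟨.c2, .c9, .c16⟩ ⟨.c2, .c9, .c17⟩ ⟨.c2, .c10, .c2⟩ ⟨.c3, .c14, .c12⟩ ⟨.c2, .c10, .c3⟩ ⟨.c3, .c4, .c9⟩ ⟨.c3, .c14, .c16⟩ ⟨.c2, .c10, .c5⟩ ⟨.c3, .c4, .c12⟩ ⟨.c3, .c4, .c13⟩ ⟨.c3, .c4, .c14⟩ ⟨.c4, .c0, .c4⟩ ⟨.c2, .c10,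 .c8⟩ ⟨.c3, .c4, .c17⟩) (@D3.rec (fun _ => Pt) ⟨.c2, .c11, .c1⟩ ⟨.c2, .c11, .c2⟩ ⟨.c2, .c10, .c11⟩ ⟨.c3, .c5, .c3⟩ ⟨.c2, .c11, .c5⟩ ⟨.c4, .c0, .c16⟩ ⟨.c3, .c5, .c6⟩ ⟨.c2, .c11, .c7⟩ ⟨.c2, .c10, .c16⟩ ⟨.c3, .c5, .c9⟩ ⟨.c4, .c0, .c6⟩ ⟨.c4, .c1, .c6⟩ ⟨.c4, .c0, .c9⟩ ⟨.c3, .c5, .c13⟩ ⟨.c4, .c0, .c11⟩ ⟨.c3, .c5, .c15⟩ ⟨.c4, .c1, .c9⟩ ⟨.c4, .c0, .c15⟩) (@D3.rec (fun _ => Pt) ⟨.c2, .c11, .c6⟩ ⟨.c4, .c1, .c10⟩ ⟨.c2, .c11, .c16⟩ ⟨.c2, .c11, .c14⟩ ⟨.c2, .c11, .c17⟩ ⟨.c3, .c6, .c5⟩ ⟨.c2, .c12, .c0⟩ ⟨.c2, .c11, .c15⟩ ⟨.c3, .c6, .c8⟩ ⟨.c3, .c6, .c9⟩ ⟨.c2, .c12, .c1⟩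 ⟨.c4, .c1, .c13⟩ ⟨.c4, .c1, .c11⟩ ⟨.c4, .c1, .c15⟩ ⟨.c2, .c13, .c4⟩ ⟨.c4, .c2, .c4⟩ ⟨.c2, .c12, .c3⟩ ⟨.c2, .c12, .c11⟩) (@D3.rec (fun _ => Pt) ⟨.c2, .c12, .c5⟩ ⟨.c2, .c12, .c15⟩ ⟨.c3, .c7, .c2⟩ ⟨.c4, .c2, .c11⟩ ⟨.c2, .c13, .c0⟩ ⟨.c2, .c12, .c9⟩ ⟨.c4, .c2, .c5⟩ ⟨.c3, .c7, .c7⟩ ⟨.c4, .c2, .c12⟩ ⟨.c2, .c12, .c17⟩ ⟨.c3, .c7, .c10⟩ ⟨.c4, .c2, .c6⟩ ⟨.c3, .c7, .c12⟩ ⟨.c4, .c2, .c8⟩ ⟨.c4, .c2, .c16⟩ ⟨.c4, .c2, .c10⟩ ⟨.c3, .c7, .c16⟩ ⟨.c3, .c12, .c15⟩) (@D3.rec (fun _ => Pt) ⟨.c4, .c2, .c3⟩ ⟨.c3, .c8, .c1⟩ ⟨.c3, .c8, .c2⟩ ⟨.c3, .c10, .c15⟩ ⟨.c2, .c14, .c1⟩ ⟨.c2,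 .c14, .c2⟩ ⟨.c3, .c8, .c6⟩ ⟨.c2, .c14, .c4⟩ ⟨.c3, .c8, .c8⟩ ⟨.c3, .c8, .c9⟩ ⟨.c3, .c8, .c10⟩ ⟨.c4, .c3, .c13⟩ ⟨.c2, .c14, .c7⟩ ⟨.c3, .c8, .c13⟩ ⟨.c3, .c0, .c0⟩ ⟨.c3, .c0, .c1⟩ ⟨.c2, .c14, .c10⟩ ⟨.c3, .c8, .c17⟩) (@D3.rec (fun _ => Pt) ⟨.c3, .c0, .c4⟩ ⟨.c4, .c4, .c5⟩ ⟨.c3, .c9, .c2⟩ ⟨.c3, .c0, .c6⟩ ⟨.c4, .c3, .c15⟩ ⟨.c4, .c4, .c4⟩ ⟨.c4, .c4, .c0⟩ ⟨.c4, .c4, .c2⟩ ⟨.c3, .c0, .c5⟩ ⟨.c3, .c0, .c15⟩ ⟨.c3, .c0, .c13⟩ ⟨.c3, .c9, .c11⟩ ⟨.c3, .c0, .c14⟩ ⟨.c3, .c9, .c13⟩ ⟨.c3, .c9, .c14⟩ ⟨.c4, .c4, .c9⟩ ⟨.c4, .c4, .c13⟩ ⟨.c3, .c0, .c17⟩) (@D3.rec (fun _ => Pt)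 ⟨.c4, .c4, .c16⟩ ⟨.c3, .c1, .c0⟩ ⟨.c4, .c5, .c1⟩ ⟨.c3, .c1, .c1⟩ ⟨.c3, .c10, .c4⟩ ⟨.c4, .c5, .c6⟩ ⟨.c3, .c1, .c3⟩ ⟨.c4, .c5, .c8⟩ ⟨.c3, .c1, .c4⟩ ⟨.c3, .c1, .c12⟩ ⟨.c4, .c5, .c11⟩ ⟨.c3, .c1, .c6⟩ ⟨.c3, .c2, .c11⟩ ⟨.c3, .c1, .c16⟩ ⟨.c3, .c1, .c17⟩ ⟨.c3, .c8, .c3⟩ ⟨.c4, .c6, .c0⟩ ⟨.c3, .c1, .c10⟩) (@D3.rec (fun _ => Pt) ⟨.c3, .c2, .c16⟩ ⟨.c4, .c5, .c10⟩ ⟨.c3, .c1, .c13⟩ ⟨.c3, .c3, .c2⟩ ⟨.c4, .c5, .c13⟩ ⟨.c4, .c6, .c10⟩ ⟨.c3, .c3, .c5⟩ ⟨.c4, .c5, .c16⟩ ⟨.c4, .c6, .c14⟩ ⟨.c3, .c2, .c0⟩ ⟨.c4, .c6, .c16⟩ ⟨.c3, .c2, .c1⟩ ⟨.c3, .c11, .c12⟩ ⟨.c4, .c7, .c2⟩ ⟨.c3,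 .c2, .c3⟩ ⟨.c4, .c5, .c2⟩ ⟨.c3, .c11, .c16⟩ ⟨.c3, .c11, .c17⟩) (@D3.rec (fun _ => Pt) ⟨.c4, .c7, .c8⟩ ⟨.c3, .c2, .c6⟩ ⟨.c4, .c5, .c9⟩ ⟨.c3, .c2, .c17⟩ ⟨.c3, .c3, .c0⟩ ⟨.c3, .c2, .c9⟩ ⟨.c4, .c5, .c12⟩ ⟨.c3, .c3, .c3⟩ ⟨.c4, .c8, .c2⟩ ⟨.c4, .c5, .c15⟩ ⟨.c3, .c3, .c6⟩ ⟨.c3, .c2, .c14⟩ ⟨.c4, .c6, .c1⟩ ⟨.c4, .c7, .c10⟩ ⟨.c4, .c8, .c12⟩ ⟨.c3, .c7, .c17⟩ ⟨.c4, .c7, .c13⟩ ⟨.c4, .c6, .c4⟩) (@D3.rec (fun _ => Pt) ⟨.c4, .c7, .c15⟩ ⟨.c4, .c6, .c6⟩ ⟨.c4, .c9, .c4⟩ ⟨.c4, .c6, .c8⟩ ⟨.c4, .c8, .c1⟩ ⟨.c3, .c3, .c4⟩ ⟨.c4, .c9, .c8⟩ ⟨.c4, .c9, .c9⟩ ⟨.c4, .c6, .c13⟩ ⟨.c3,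 .c13, .c9⟩ ⟨.c3, .c3, .c14⟩ ⟨.c3, .c13, .c11⟩ ⟨.c4, .c9, .c16⟩ ⟨.c3, .c13, .c13⟩ ⟨.c3, .c3, .c17⟩ ⟨.c3, .c3, .c10⟩ ⟨.c4, .c10, .c2⟩ ⟨.c4, .c10, .c3⟩) (@D3.rec (fun _ => Pt) ⟨.c3, .c14, .c0⟩ ⟨.c4, .c10, .c6⟩ ⟨.c3, .c14, .c2⟩ ⟨.c4, .c9, .c13⟩ ⟨.c3, .c3, .c15⟩ ⟨.c4, .c10, .c10⟩ ⟨.c4, .c10, .c11⟩ ⟨.c3, .c14, .c7⟩ ⟨.c3, .c4, .c1⟩ ⟨.c3, .c4, .c2⟩ ⟨.c3, .c14, .c10⟩ ⟨.c3, .c14, .c11⟩ ⟨.c3, .c4, .c7⟩ ⟨.c3, .c14, .c13⟩ ⟨.c3, .c14, .c14⟩ ⟨.c3, .c14, .c15⟩ ⟨.c3, .c4, .c10⟩ ⟨.c3, .c14, .c17⟩)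
def f_e_4 : D2 → D3 → Pt := @D2.rec (fun _ => D3 → Pt) (@D3.rec (fun _ => Pt) ⟨.c4, .c0, .c0⟩ ⟨.c4, .c11, .c7⟩ ⟨.c4, .c0, .c2⟩ ⟨.c4, .c0, .c3⟩ ⟨.c3, .c4, .c15⟩ ⟨.c4, .c0, .c5⟩ ⟨.c3, .c5, .c10⟩ ⟨.c4, .c11, .c17⟩ ⟨.c4, .c0, .c8⟩ ⟨.c3, .c5, .c12⟩ ⟨.c4, .c0, .c10⟩ ⟨.c3, .c5, .c14⟩ ⟨.c4, .c0, .c12⟩ ⟨.c4, .c12, .c8⟩ ⟨.c4, .c0, .c14⟩ ⟨.c3, .c5, .c17⟩ ⟨.c3, .c5, .c5⟩ ⟨.c4, .c12, .c11⟩) (@D3.rec (fun _ => Pt) ⟨.c4, .c12, .c12⟩ ⟨.c4, .c1, .c1⟩ ⟨.c4, .c11, .c12⟩ ⟨.c4, .c1, .c3⟩ ⟨.c4, .c12, .c5⟩ ⟨.c4, .c11, .c16⟩ ⟨.c3, .c5, .c11⟩ ⟨.c4, .c1, .c7⟩ ⟨.c4, .c12, .c15⟩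 ⟨.c3, .c5, .c16⟩ ⟨.c3, .c6, .c1⟩ ⟨.c3, .c6, .c12⟩ ⟨.c4, .c1, .c12⟩ ⟨.c3, .c6, .c11⟩ ⟨.c4, .c1, .c14⟩ ⟨.c3, .c6, .c13⟩ ⟨.c4, .c1, .c16⟩ ⟨.c4, .c1, .c17⟩) (@D3.rec (fun _ => Pt) ⟨.c4, .c2, .c0⟩ ⟨.c4, .c2, .c1⟩ ⟨.c4, .c13, .c5⟩ ⟨.c3, .c8, .c0⟩ ⟨.c3, .c6, .c15⟩ ⟨.c3, .c7, .c6⟩ ⟨.c3, .c7, .c11⟩ ⟨.c4, .c2, .c7⟩ ⟨.c3, .c7, .c13⟩ ⟨.c4, .c13, .c11⟩ ⟨.c3, .c7, .c15⟩ ⟨.c3, .c7, .c3⟩ ⟨.c3, .c7, .c8⟩ ⟨.c4, .c13, .c6⟩ ⟨.c4, .c13, .c7⟩ ⟨.c4, .c13, .c8⟩ ⟨.c3, .c7, .c14⟩ ⟨.c4, .c8, .c15⟩) (@D3.rec (fun _ => Pt) ⟨.c4, .c13, .c10⟩ ⟨.c4, .c13, .c9⟩ ⟨.c4, .c8, .c10⟩ ⟨.c4,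 .c5, .c17⟩ ⟨.c4, .c3, .c4⟩ ⟨.c4, .c3, .c5⟩ ⟨.c4, .c3, .c6⟩ ⟨.c4, .c3, .c7⟩ ⟨.c4, .c3, .c8⟩ ⟨.c4, .c3, .c9⟩ ⟨.c4, .c14, .c1⟩ ⟨.c4, .c3, .c11⟩ ⟨.c4, .c3, .c12⟩ ⟨.c3, .c8, .c11⟩ ⟨.c4, .c3, .c14⟩ ⟨.c3, .c9, .c4⟩ ⟨.c4, .c14, .c6⟩ ⟨.c4, .c3, .c17⟩) (@D3.rec (fun _ => Pt) ⟨.c3, .c9, .c6⟩ ⟨.c4, .c4, .c1⟩ ⟨.c3, .c9, .c7⟩ ⟨.c4, .c14, .c7⟩ ⟨.c3, .c9, .c5⟩ ⟨.c3, .c9, .c1⟩ ⟨.c4, .c14, .c5⟩ ⟨.c4, .c14, .c10⟩ ⟨.c4, .c4, .c8⟩ ⟨.c3, .c9, .c15⟩ ⟨.c4, .c4, .c10⟩ ⟨.c4, .c4, .c11⟩ ⟨.c4, .c14, .c14⟩ ⟨.c3, .c9, .c16⟩ ⟨.c4, .c4, .c14⟩ ⟨.c5, .c0, .c0⟩ ⟨.c3, .c10, .c0⟩ ⟨.c4,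 .c4, .c17⟩) (@D3.rec (fun _ => Pt) ⟨.c5, .c0, .c3⟩ ⟨.c3, .c10, .c2⟩ ⟨.c3, .c11, .c15⟩ ⟨.c4, .c5, .c3⟩ ⟨.c4, .c5, .c4⟩ ⟨.c5, .c0, .c10⟩ ⟨.c3, .c10, .c5⟩ ⟨.c5, .c0, .c12⟩ ⟨.c3, .c10, .c7⟩ ⟨.c3, .c12, .c2⟩ ⟨.c3, .c11, .c1⟩ ⟨.c3, .c10, .c10⟩ ⟨.c3, .c12, .c6⟩ ⟨.c3, .c11, .c4⟩ ⟨.c5, .c1, .c5⟩ ⟨.c3, .c12, .c9⟩ ⟨.c3, .c11, .c7⟩ ⟨.c4, .c3, .c3⟩) (@D3.rec (fun _ => Pt) ⟨.c3, .c10, .c16⟩ ⟨.c3, .c12, .c12⟩ ⟨.c5, .c0, .c14⟩ ⟨.c5, .c1, .c13⟩ ⟨.c3, .c12, .c17⟩ ⟨.c5, .c1, .c0⟩ ⟨.c3, .c13, .c1⟩ ⟨.c5, .c2, .c2⟩ ⟨.c3, .c13, .c3⟩ ⟨.c5, .c1, .c4⟩ ⟨.c3, .c11, .c5⟩ ⟨.c5, .c2,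 .c6⟩ ⟨.c5, .c2, .c7⟩ ⟨.c3, .c13, .c8⟩ ⟨.c3, .c11, .c8⟩ ⟨.c4, .c6, .c15⟩ ⟨.c3, .c11, .c10⟩ ⟨.c5, .c0, .c1⟩) (@D3.rec (fun _ => Pt) ⟨.c4, .c7, .c0⟩ ⟨.c4, .c7, .c1⟩ ⟨.c3, .c11, .c13⟩ ⟨.c5, .c0, .c4⟩ ⟨.c4, .c7, .c4⟩ ⟨.c5, .c3, .c6⟩ ⟨.c5, .c0, .c7⟩ ⟨.c4, .c7, .c7⟩ ⟨.c3, .c12, .c0⟩ ⟨.c5, .c0, .c13⟩ ⟨.c3, .c12, .c13⟩ ⟨.c5, .c3, .c16⟩ ⟨.c5, .c0, .c16⟩ ⟨.c3, .c12, .c16⟩ ⟨.c5, .c0, .c17⟩ ⟨.c3, .c13, .c0⟩ ⟨.c5, .c1, .c1⟩ ⟨.c5, .c4, .c8⟩) (@D3.rec (fun _ => Pt) ⟨.c5, .c1, .c3⟩ ⟨.c3, .c13, .c4⟩ ⟨.c3, .c12, .c8⟩ ⟨.c5, .c4, .c12⟩ ⟨.c5, .c4, .c13⟩ ⟨.c5, .c1, .c8⟩ ⟨.c5,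 .c1, .c9⟩ ⟨.c5, .c3, .c11⟩ ⟨.c5, .c1, .c11⟩ ⟨.c5, .c5, .c0⟩ ⟨.c4, .c3, .c2⟩ ⟨.c5, .c3, .c15⟩ ⟨.c3, .c12, .c14⟩ ⟨.c5, .c5, .c3⟩ ⟨.c5, .c5, .c4⟩ ⟨.c4, .c2, .c17⟩ ⟨.c5, .c1, .c14⟩ ⟨.c5, .c5, .c5⟩) (@D3.rec (fun _ => Pt) ⟨.c5, .c1, .c16⟩ ⟨.c5, .c4, .c5⟩ ⟨.c5, .c5, .c7⟩ ⟨.c5, .c2, .c1⟩ ⟨.c3, .c13, .c2⟩ ⟨.c5, .c5, .c9⟩ ⟨.c5, .c5, .c10⟩ ⟨.c5, .c2, .c5⟩ ⟨.c3, .c13, .c6⟩ ⟨.c3, .c13, .c7⟩ ⟨.c4, .c9, .c10⟩ ⟨.c5, .c5, .c14⟩ ⟨.c4, .c9, .c12⟩ ⟨.c3, .c14, .c3⟩ ⟨.c5, .c6, .c0⟩ ⟨.c4, .c9, .c15⟩ ⟨.c3, .c13, .c12⟩ ⟨.c5, .c6, .c5⟩) (@D3.rec (fun _ => Pt) ⟨.c5, .c6, .c6⟩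 ⟨.c4, .c10, .c1⟩ ⟨.c3, .c13, .c16⟩ ⟨.c3, .c13, .c17⟩ ⟨.c5, .c6, .c9⟩ ⟨.c5, .c6, .c11⟩ ⟨.c3, .c14, .c1⟩ ⟨.c5, .c6, .c13⟩ ⟨.c5, .c6, .c14⟩ ⟨.c4, .c10, .c9⟩ ⟨.c3, .c14, .c5⟩ ⟨.c3, .c14, .c6⟩ ⟨.c5, .c5, .c11⟩ ⟨.c4, .c10, .c13⟩ ⟨.c4, .c10, .c14⟩ ⟨.c4, .c10, .c15⟩ ⟨.c4, .c10, .c16⟩ ⟨.c5, .c7, .c3⟩) (@D3.rec (fun _ => Pt) ⟨.c4, .c11, .c0⟩ ⟨.c4, .c11, .c1⟩ ⟨.c4, .c11, .c2⟩ ⟨.c4, .c11, .c3⟩ ⟨.c5, .c7, .c11⟩ ⟨.c4, .c11, .c5⟩ ⟨.c4, .c11, .c6⟩ ⟨.c4, .c0, .c1⟩ ⟨.c5, .c7, .c15⟩ ⟨.c5, .c7, .c16⟩ ⟨.c4, .c11, .c10⟩ ⟨.c4, .c11, .c11⟩ ⟨.c4, .c1, .c2⟩ ⟨.c4, .c11, .c13⟩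 ⟨.c5, .c8, .c5⟩ ⟨.c4, .c11, .c15⟩ ⟨.c4, .c1, .c5⟩ ⟨.c4, .c0, .c7⟩) (@D3.rec (fun _ => Pt) ⟨.c4, .c14, .c9⟩ ⟨.c5, .c7, .c4⟩ ⟨.c4, .c12, .c2⟩ ⟨.c4, .c12, .c3⟩ ⟨.c5, .c8, .c6⟩ ⟨.c4, .c1, .c4⟩ ⟨.c5, .c8, .c9⟩ ⟨.c4, .c12, .c7⟩ ⟨.c4, .c0, .c13⟩ ⟨.c5, .c8, .c2⟩ ⟨.c5, .c8, .c13⟩ ⟨.c4, .c0, .c17⟩ ⟨.c4, .c1, .c0⟩ ⟨.c5, .c8, .c0⟩ ⟨.c5, .c7, .c17⟩ ⟨.c4, .c1, .c8⟩ ⟨.c4, .c12, .c16⟩ ⟨.c4, .c12, .c17⟩) (@D3.rec (fun _ => Pt) ⟨.c4, .c13, .c0⟩ ⟨.c4, .c13, .c1⟩ ⟨.c5, .c9, .c1⟩ ⟨.c4, .c13, .c3⟩ ⟨.c4, .c13, .c4⟩ ⟨.c4, .c2, .c2⟩ ⟨.c4, .c2, .c13⟩ ⟨.c4, .c2, .c14⟩ ⟨.c4, .c2,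 .c15⟩ ⟨.c4, .c3, .c1⟩ ⟨.c4, .c3, .c0⟩ ⟨.c4, .c2, .c9⟩ ⟨.c4, .c13, .c12⟩ ⟨.c5, .c9, .c3⟩ ⟨.c4, .c13, .c14⟩ ⟨.c4, .c13, .c15⟩ ⟨.c5, .c9, .c6⟩ ⟨.c4, .c13, .c17⟩) (@D3.rec (fun _ => Pt) ⟨.c4, .c14, .c0⟩ ⟨.c4, .c3, .c10⟩ ⟨.c5, .c9, .c8⟩ ⟨.c5, .c9, .c7⟩ ⟨.c4, .c14, .c4⟩ ⟨.c4, .c4, .c6⟩ ⟨.c4, .c3, .c16⟩ ⟨.c4, .c4, .c3⟩ ⟨.c5, .c9, .c4⟩ ⟨.c4, .c12, .c0⟩ ⟨.c4, .c4, .c7⟩ ⟨.c5, .c9, .c5⟩ ⟨.c4, .c14, .c12⟩ ⟨.c5, .c9, .c9⟩ ⟨.c4, .c4, .c12⟩ ⟨.c4, .c14, .c15⟩ ⟨.c4, .c14, .c16⟩ ⟨.c4, .c14, .c17⟩)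
def f_e_5 : D2 → D3 → Pt := @D2.rec (fun _ => D3 → Pt) (@D3.rec (fun _ => Pt) ⟨.c4, .c4, .c15⟩ ⟨.c4, .c6, .c17⟩ ⟨.c5, .c0, .c2⟩ ⟨.c4, .c5, .c0⟩ ⟨.c4, .c7, .c3⟩ ⟨.c5, .c0, .c5⟩ ⟨.c5, .c10, .c7⟩ ⟨.c4, .c7, .c6⟩ ⟨.c5, .c0, .c8⟩ ⟨.c5, .c10, .c11⟩ ⟨.c4, .c5, .c5⟩ ⟨.c5, .c0, .c11⟩ ⟨.c4, .c5, .c7⟩ ⟨.c4, .c7, .c9⟩ ⟨.c4, .c6, .c2⟩ ⟨.c5, .c11, .c1⟩ ⟨.c4, .c7, .c12⟩ ⟨.c4, .c7, .c14⟩) (@D3.rec (fun _ => Pt) ⟨.c4, .c6, .c5⟩ ⟨.c4, .c7, .c16⟩ ⟨.c5, .c11, .c10⟩ ⟨.c4, .c8, .c0⟩ ⟨.c4, .c6, .c9⟩ ⟨.c4, .c5, .c14⟩ ⟨.c5, .c11, .c14⟩ ⟨.c5, .c11, .c15⟩ ⟨.c4, .c8, .c5⟩ ⟨.c4,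 .c8, .c6⟩ ⟨.c5, .c10, .c15⟩ ⟨.c4, .c8, .c8⟩ ⟨.c5, .c12, .c2⟩ ⟨.c4, .c6, .c3⟩ ⟨.c4, .c8, .c16⟩ ⟨.c5, .c12, .c4⟩ ⟨.c4, .c9, .c0⟩ ⟨.c5, .c11, .c7⟩) (@D3.rec (fun _ => Pt) ⟨.c5, .c12, .c7⟩ ⟨.c4, .c9, .c3⟩ ⟨.c4, .c6, .c7⟩ ⟨.c5, .c12, .c8⟩ ⟨.c5, .c12, .c9⟩ ⟨.c4, .c9, .c7⟩ ⟨.c4, .c6, .c11⟩ ⟨.c4, .c6, .c12⟩ ⟨.c5, .c12, .c12⟩ ⟨.c5, .c12, .c11⟩ ⟨.c5, .c2, .c10⟩ ⟨.c5, .c2, .c11⟩ ⟨.c5, .c2, .c12⟩ ⟨.c5, .c9, .c15⟩ ⟨.c5, .c2, .c14⟩ ⟨.c5, .c13, .c3⟩ ⟨.c5, .c10, .c0⟩ ⟨.c5, .c2, .c17⟩) (@D3.rec (fun _ => Pt) ⟨.c5, .c10, .c1⟩ ⟨.c5, .c3, .c1⟩ ⟨.c5, .c10, .c3⟩ ⟨.c5, .c13,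 .c13⟩ ⟨.c5, .c10, .c5⟩ ⟨.c5, .c3, .c5⟩ ⟨.c4, .c7, .c5⟩ ⟨.c5, .c13, .c17⟩ ⟨.c5, .c14, .c0⟩ ⟨.c5, .c10, .c10⟩ ⟨.c5, .c10, .c14⟩ ⟨.c4, .c8, .c7⟩ ⟨.c5, .c10, .c16⟩ ⟨.c5, .c14, .c8⟩ ⟨.c5, .c11, .c0⟩ ⟨.c4, .c8, .c11⟩ ⟨.c4, .c7, .c11⟩ ⟨.c5, .c14, .c12⟩) (@D3.rec (fun _ => Pt) ⟨.c5, .c14, .c13⟩ ⟨.c5, .c11, .c3⟩ ⟨.c5, .c11, .c4⟩ ⟨.c6, .c0, .c1⟩ ⟨.c5, .c11, .c6⟩ ⟨.c4, .c9, .c1⟩ ⟨.c6, .c0, .c5⟩ ⟨.c5, .c11, .c9⟩ ⟨.c4, .c7, .c17⟩ ⟨.c6, .c0, .c10⟩ ⟨.c6, .c0, .c11⟩ ⟨.c5, .c11, .c13⟩ ⟨.c4, .c8, .c3⟩ ⟨.c4, .c8, .c4⟩ ⟨.c6, .c0, .c15⟩ ⟨.c6, .c0, .c17⟩ ⟨.c6, .c1, .c1⟩ ⟨.c6,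 .c1, .c2⟩) (@D3.rec (fun _ => Pt) ⟨.c4, .c8, .c9⟩ ⟨.c6, .c1, .c3⟩ ⟨.c6, .c1, .c4⟩ ⟨.c4, .c8, .c13⟩ ⟨.c4, .c8, .c14⟩ ⟨.c4, .c8, .c17⟩ ⟨.c6, .c1, .c5⟩ ⟨.c4, .c9, .c2⟩ ⟨.c6, .c1, .c7⟩ ⟨.c4, .c9, .c5⟩ ⟨.c4, .c9, .c6⟩ ⟨.c4, .c10, .c12⟩ ⟨.c6, .c1, .c10⟩ ⟨.c5, .c5, .c13⟩ ⟨.c4, .c9, .c11⟩ ⟨.c6, .c1, .c14⟩ ⟨.c6, .c1, .c15⟩ ⟨.c5, .c5, .c17⟩) (@D3.rec (fun _ => Pt) ⟨.c4, .c9, .c14⟩ ⟨.c6, .c2, .c0⟩ ⟨.c6, .c2, .c1⟩ ⟨.c6, .c2, .c5⟩ ⟨.c5, .c6, .c4⟩ ⟨.c4, .c9, .c17⟩ ⟨.c4, .c10, .c0⟩ ⟨.c6, .c2, .c7⟩ ⟨.c6, .c2, .c9⟩ ⟨.c4, .c10, .c4⟩ ⟨.c6, .c0, .c16⟩ ⟨.c4, .c10, .c5⟩ ⟨.c6,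 .c2, .c11⟩ ⟨.c4, .c10, .c7⟩ ⟨.c4, .c10, .c8⟩ ⟨.c6, .c1, .c8⟩ ⟨.c6, .c1, .c9⟩ ⟨.c5, .c6, .c17⟩) (@D3.rec (fun _ => Pt) ⟨.c5, .c7, .c0⟩ ⟨.c6, .c3, .c1⟩ ⟨.c5, .c7, .c2⟩ ⟨.c4, .c10, .c17⟩ ⟨.c4, .c12, .c1⟩ ⟨.c5, .c7, .c5⟩ ⟨.c6, .c3, .c6⟩ ⟨.c5, .c7, .c7⟩ ⟨.c5, .c7, .c8⟩ ⟨.c6, .c3, .c9⟩ ⟨.c5, .c7, .c10⟩ ⟨.c4, .c11, .c4⟩ ⟨.c6, .c3, .c8⟩ ⟨.c6, .c3, .c7⟩ ⟨.c5, .c7, .c14⟩ ⟨.c4, .c11, .c8⟩ ⟨.c4, .c11, .c9⟩ ⟨.c4, .c12, .c14⟩) (@D3.rec (fun _ => Pt) ⟨.c4, .c12, .c13⟩ ⟨.c5, .c8, .c1⟩ ⟨.c4, .c12, .c9⟩ ⟨.c6, .c3, .c15⟩ ⟨.c5, .c8, .c4⟩ ⟨.c4, .c11, .c14⟩ ⟨.c4, .c12, .c4⟩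 ⟨.c6, .c3, .c2⟩ ⟨.c6, .c3, .c16⟩ ⟨.c4, .c12, .c6⟩ ⟨.c6, .c3, .c14⟩ ⟨.c6, .c4, .c1⟩ ⟨.c6, .c4, .c4⟩ ⟨.c4, .c12, .c10⟩ ⟨.c6, .c3, .c13⟩ ⟨.c6, .c1, .c6⟩ ⟨.c5, .c8, .c16⟩ ⟨.c5, .c8, .c17⟩) (@D3.rec (fun _ => Pt) ⟨.c6, .c4, .c7⟩ ⟨.c4, .c13, .c2⟩ ⟨.c5, .c9, .c2⟩ ⟨.c4, .c13, .c13⟩ ⟨.c4, .c14, .c8⟩ ⟨.c4, .c14, .c11⟩ ⟨.c4, .c13, .c16⟩ ⟨.c4, .c14, .c3⟩ ⟨.c4, .c14, .c2⟩ ⟨.c4, .c14, .c13⟩ ⟨.c5, .c9, .c10⟩ ⟨.c5, .c9, .c11⟩ ⟨.c6, .c4, .c15⟩ ⟨.c5, .c9, .c13⟩ ⟨.c5, .c9, .c14⟩ ⟨.c5, .c2, .c13⟩ ⟨.c5, .c9, .c16⟩ ⟨.c6, .c5, .c4⟩) (@D3.rec (fun _ => Pt) ⟨.c5, .c2, .c16⟩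 ⟨.c5, .c3, .c0⟩ ⟨.c5, .c10, .c2⟩ ⟨.c5, .c3, .c2⟩ ⟨.c6, .c5, .c13⟩ ⟨.c5, .c3, .c4⟩ ⟨.c5, .c10, .c6⟩ ⟨.c5, .c0, .c6⟩ ⟨.c6, .c5, .c17⟩ ⟨.c6, .c6, .c0⟩ ⟨.c5, .c3, .c9⟩ ⟨.c5, .c0, .c9⟩ ⟨.c5, .c10, .c12⟩ ⟨.c5, .c10, .c13⟩ ⟨.c5, .c3, .c10⟩ ⟨.c5, .c1, .c10⟩ ⟨.c5, .c3, .c12⟩ ⟨.c6, .c6, .c12⟩) (@D3.rec (fun _ => Pt) ⟨.c5, .c3, .c14⟩ ⟨.c5, .c0, .c15⟩ ⟨.c6, .c6, .c15⟩ ⟨.c5, .c4, .c1⟩ ⟨.c5, .c4, .c2⟩ ⟨.c6, .c7, .c2⟩ ⟨.c5, .c4, .c4⟩ ⟨.c5, .c1, .c17⟩ ⟨.c6, .c7, .c6⟩ ⟨.c5, .c4, .c7⟩ ⟨.c5, .c1, .c2⟩ ⟨.c6, .c7, .c11⟩ ⟨.c6, .c7, .c12⟩ ⟨.c5, .c4, .c11⟩ ⟨.c5, .c1, .c6⟩ ⟨.c5,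 .c1, .c7⟩ ⟨.c6, .c7, .c16⟩ ⟨.c6, .c8, .c0⟩) (@D3.rec (fun _ => Pt) ⟨.c6, .c8, .c2⟩ ⟨.c6, .c8, .c3⟩ ⟨.c5, .c1, .c12⟩ ⟨.c6, .c8, .c4⟩ ⟨.c5, .c1, .c15⟩ ⟨.c6, .c8, .c5⟩ ⟨.c6, .c8, .c6⟩ ⟨.c5, .c2, .c0⟩ ⟨.c5, .c2, .c3⟩ ⟨.c5, .c2, .c4⟩ ⟨.c6, .c8, .c8⟩ ⟨.c5, .c2, .c9⟩ ⟨.c5, .c2, .c8⟩ ⟨.c5, .c12, .c13⟩ ⟨.c6, .c8, .c12⟩ ⟨.c5, .c12, .c15⟩ ⟨.c5, .c12, .c16⟩ ⟨.c6, .c5, .c1⟩) (@D3.rec (fun _ => Pt) ⟨.c6, .c9, .c0⟩ ⟨.c6, .c5, .c3⟩ ⟨.c5, .c13, .c2⟩ ⟨.c5, .c2, .c15⟩ ⟨.c6, .c9, .c4⟩ ⟨.c6, .c9, .c5⟩ ⟨.c6, .c5, .c6⟩ ⟨.c6, .c5, .c7⟩ ⟨.c6, .c9, .c11⟩ ⟨.c6, .c5, .c9⟩ ⟨.c5,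 .c13, .c10⟩ ⟨.c6, .c9, .c15⟩ ⟨.c6, .c5, .c12⟩ ⟨.c5, .c3, .c3⟩ ⟨.c6, .c10, .c2⟩ ⟨.c6, .c10, .c3⟩ ⟨.c6, .c5, .c16⟩ ⟨.c5, .c3, .c7⟩) (@D3.rec (fun _ => Pt) ⟨.c5, .c3, .c8⟩ ⟨.c6, .c10, .c7⟩ ⟨.c6, .c10, .c9⟩ ⟨.c6, .c6, .c7⟩ ⟨.c6, .c10, .c14⟩ ⟨.c6, .c6, .c9⟩ ⟨.c6, .c10, .c17⟩ ⟨.c6, .c6, .c11⟩ ⟨.c5, .c3, .c13⟩ ⟨.c6, .c11, .c4⟩ ⟨.c6, .c11, .c5⟩ ⟨.c6, .c6, .c14⟩ ⟨.c5, .c3, .c17⟩ ⟨.c5, .c4, .c0⟩ ⟨.c6, .c11, .c8⟩ ⟨.c6, .c11, .c10⟩ ⟨.c6, .c6, .c17⟩ ⟨.c6, .c11, .c13⟩)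
def f_e_6 : D2 → D3 → Pt := @D2.rec (fun _ => D3 → Pt) (@D3.rec (fun _ => Pt) ⟨.c6, .c7, .c1⟩ ⟨.c5, .c4, .c3⟩ ⟨.c6, .c11, .c17⟩ ⟨.c6, .c12, .c0⟩ ⟨.c6, .c7, .c5⟩ ⟨.c5, .c4, .c6⟩ ⟨.c6, .c12, .c4⟩ ⟨.c6, .c12, .c5⟩ ⟨.c6, .c12, .c9⟩ ⟨.c6, .c7, .c10⟩ ⟨.c5, .c4, .c9⟩ ⟨.c5, .c4, .c10⟩ ⟨.c6, .c12, .c12⟩ ⟨.c6, .c12, .c14⟩ ⟨.c6, .c0, .c14⟩ ⟨.c5, .c4, .c14⟩ ⟨.c5, .c6, .c10⟩ ⟨.c5, .c4, .c15⟩) (@D3.rec (fun _ => Pt) ⟨.c6, .c12, .c16⟩ ⟨.c5, .c4, .c16⟩ ⟨.c5, .c4, .c17⟩ ⟨.c5, .c5, .c1⟩ ⟨.c5, .c5, .c2⟩ ⟨.c5, .c5, .c6⟩ ⟨.c5, .c8, .c15⟩ ⟨.c5, .c5, .c8⟩ ⟨.c5, .c6, .c15⟩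 ⟨.c5, .c6, .c16⟩ ⟨.c5, .c5, .c12⟩ ⟨.c6, .c13, .c6⟩ ⟨.c6, .c13, .c7⟩ ⟨.c6, .c1, .c13⟩ ⟨.c5, .c5, .c15⟩ ⟨.c5, .c5, .c16⟩ ⟨.c6, .c13, .c10⟩ ⟨.c6, .c13, .c12⟩) (@D3.rec (fun _ => Pt) ⟨.c5, .c6, .c1⟩ ⟨.c5, .c6, .c2⟩ ⟨.c6, .c13, .c14⟩ ⟨.c6, .c14, .c1⟩ ⟨.c6, .c13, .c16⟩ ⟨.c5, .c6, .c3⟩ ⟨.c6, .c14, .c4⟩ ⟨.c5, .c6, .c7⟩ ⟨.c6, .c12, .c13⟩ ⟨.c5, .c6, .c8⟩ ⟨.c6, .c14, .c5⟩ ⟨.c5, .c6, .c12⟩ ⟨.c6, .c12, .c17⟩ ⟨.c6, .c13, .c0⟩ ⟨.c6, .c13, .c1⟩ ⟨.c6, .c13, .c4⟩ ⟨.c6, .c13, .c5⟩ ⟨.c6, .c2, .c17⟩) (@D3.rec (fun _ => Pt) ⟨.c6, .c14, .c13⟩ ⟨.c5, .c7, .c1⟩ ⟨.c5, .c8, .c7⟩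 ⟨.c6, .c3, .c3⟩ ⟨.c6, .c14, .c16⟩ ⟨.c6, .c3, .c5⟩ ⟨.c5, .c7, .c6⟩ ⟨.c5, .c7, .c13⟩ ⟨.c5, .c7, .c12⟩ ⟨.c5, .c7, .c9⟩ ⟨.c7, .c0, .c0⟩ ⟨.c6, .c14, .c17⟩ ⟨.c7, .c0, .c3⟩ ⟨.c5, .c8, .c14⟩ ⟨.c5, .c8, .c10⟩ ⟨.c5, .c8, .c3⟩ ⟨.c5, .c8, .c8⟩ ⟨.c6, .c14, .c14⟩) (@D3.rec (fun _ => Pt) ⟨.c6, .c12, .c3⟩ ⟨.c5, .c8, .c11⟩ ⟨.c6, .c14, .c15⟩ ⟨.c7, .c0, .c7⟩ ⟨.c5, .c8, .c12⟩ ⟨.c6, .c13, .c2⟩ ⟨.c7, .c0, .c10⟩ ⟨.c5, .c9, .c0⟩ ⟨.c7, .c0, .c11⟩ ⟨.c6, .c4, .c9⟩ ⟨.c6, .c4, .c10⟩ ⟨.c6, .c4, .c11⟩ ⟨.c7, .c1, .c0⟩ ⟨.c6, .c4, .c13⟩ ⟨.c6, .c4, .c14⟩ ⟨.c5, .c9, .c12⟩ ⟨.c7, .c1, .c4⟩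 ⟨.c7, .c1, .c5⟩) (@D3.rec (fun _ => Pt) ⟨.c6, .c5, .c0⟩ ⟨.c5, .c12, .c17⟩ ⟨.c7, .c1, .c10⟩ ⟨.c5, .c13, .c1⟩ ⟨.c5, .c9, .c17⟩ ⟨.c7, .c1, .c13⟩ ⟨.c5, .c13, .c6⟩ ⟨.c5, .c13, .c7⟩ ⟨.c7, .c2, .c0⟩ ⟨.c5, .c13, .c9⟩ ⟨.c6, .c5, .c10⟩ ⟨.c7, .c2, .c4⟩ ⟨.c5, .c13, .c12⟩ ⟨.c5, .c10, .c4⟩ ⟨.c7, .c2, .c9⟩ ⟨.c7, .c2, .c10⟩ ⟨.c5, .c13, .c16⟩ ⟨.c5, .c10, .c8⟩) (@D3.rec (fun _ => Pt) ⟨.c5, .c10, .c9⟩ ⟨.c7, .c2, .c14⟩ ⟨.c7, .c2, .c16⟩ ⟨.c6, .c6, .c3⟩ ⟨.c6, .c6, .c4⟩ ⟨.c6, .c6, .c5⟩ ⟨.c6, .c6, .c6⟩ ⟨.c5, .c14, .c3⟩ ⟨.c7, .c3, .c7⟩ ⟨.c5, .c14, .c5⟩ ⟨.c7, .c3, .c10⟩ ⟨.c5,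 .c14, .c7⟩ ⟨.c5, .c10, .c17⟩ ⟨.c7, .c3, .c14⟩ ⟨.c5, .c14, .c11⟩ ⟨.c5, .c11, .c2⟩ ⟨.c7, .c3, .c16⟩ ⟨.c5, .c14, .c16⟩) (@D3.rec (fun _ => Pt) ⟨.c7, .c4, .c1⟩ ⟨.c6, .c0, .c0⟩ ⟨.c5, .c11, .c5⟩ ⟨.c7, .c4, .c6⟩ ⟨.c7, .c4, .c7⟩ ⟨.c6, .c0, .c4⟩ ⟨.c5, .c11, .c8⟩ ⟨.c7, .c4, .c11⟩ ⟨.c7, .c4, .c12⟩ ⟨.c7, .c4, .c16⟩ ⟨.c6, .c0, .c9⟩ ⟨.c5, .c11, .c11⟩ ⟨.c5, .c11, .c12⟩ ⟨.c7, .c5, .c1⟩ ⟨.c7, .c5, .c3⟩ ⟨.c6, .c7, .c15⟩ ⟨.c5, .c11, .c16⟩ ⟨.c6, .c7, .c17⟩) (@D3.rec (fun _ => Pt) ⟨.c5, .c11, .c17⟩ ⟨.c7, .c5, .c7⟩ ⟨.c5, .c12, .c0⟩ ⟨.c5, .c12, .c1⟩ ⟨.c5, .c12, .c3⟩ ⟨.c5,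 .c12, .c5⟩ ⟨.c5, .c12, .c6⟩ ⟨.c6, .c8, .c7⟩ ⟨.c5, .c12, .c10⟩ ⟨.c6, .c8, .c9⟩ ⟨.c6, .c8, .c10⟩ ⟨.c6, .c8, .c11⟩ ⟨.c5, .c12, .c14⟩ ⟨.c7, .c5, .c17⟩ ⟨.c7, .c6, .c0⟩ ⟨.c6, .c8, .c15⟩ ⟨.c7, .c6, .c3⟩ ⟨.c7, .c1, .c9⟩) (@D3.rec (fun _ => Pt) ⟨.c5, .c13, .c0⟩ ⟨.c7, .c6, .c7⟩ ⟨.c7, .c6, .c8⟩ ⟨.c7, .c1, .c12⟩ ⟨.c5, .c13, .c4⟩ ⟨.c5, .c13, .c5⟩ ⟨.c7, .c6, .c11⟩ ⟨.c7, .c6, .c13⟩ ⟨.c7, .c1, .c15⟩ ⟨.c7, .c6, .c17⟩ ⟨.c7, .c1, .c17⟩ ⟨.c5, .c13, .c8⟩ ⟨.c7, .c7, .c4⟩ ⟨.c7, .c7, .c5⟩ ⟨.c7, .c2, .c3⟩ ⟨.c5, .c13, .c11⟩ ⟨.c7, .c7, .c9⟩ ⟨.c7, .c7, .c10⟩) (@D3.rec (fun _ =>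 Pt) ⟨.c7, .c7, .c14⟩ ⟨.c7, .c2, .c8⟩ ⟨.c5, .c13, .c14⟩ ⟨.c5, .c13, .c15⟩ ⟨.c7, .c7, .c17⟩ ⟨.c7, .c8, .c1⟩ ⟨.c6, .c10, .c6⟩ ⟨.c5, .c14, .c1⟩ ⟨.c6, .c10, .c8⟩ ⟨.c5, .c14, .c2⟩ ⟨.c7, .c8, .c5⟩ ⟨.c7, .c3, .c4⟩ ⟨.c7, .c8, .c9⟩ ⟨.c7, .c3, .c6⟩ ⟨.c5, .c14, .c4⟩ ⟨.c7, .c8, .c12⟩ ⟨.c7, .c3, .c9⟩ ⟨.c5, .c14, .c6⟩) (@D3.rec (fun _ => Pt) ⟨.c7, .c8, .c15⟩ ⟨.c7, .c8, .c16⟩ ⟨.c7, .c4, .c0⟩ ⟨.c7, .c3, .c13⟩ ⟨.c5, .c14, .c9⟩ ⟨.c5, .c14, .c10⟩ ⟨.c7, .c9, .c3⟩ ⟨.c7, .c9, .c5⟩ ⟨.c5, .c14, .c14⟩ ⟨.c6, .c11, .c9⟩ ⟨.c5, .c14, .c15⟩ ⟨.c7, .c9, .c7⟩ ⟨.c7, .c9, .c9⟩ ⟨.c5, .c14,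 .c17⟩ ⟨.c7, .c8, .c14⟩ ⟨.c7, .c9, .c11⟩ ⟨.c7, .c4, .c5⟩ ⟨.c6, .c0, .c2⟩) (@D3.rec (fun _ => Pt) ⟨.c6, .c0, .c3⟩ ⟨.c7, .c9, .c14⟩ ⟨.c7, .c9, .c16⟩ ⟨.c6, .c4, .c0⟩ ⟨.c6, .c0, .c6⟩ ⟨.c6, .c0, .c7⟩ ⟨.c7, .c10, .c2⟩ ⟨.c7, .c10, .c7⟩ ⟨.c7, .c10, .c4⟩ ⟨.c6, .c0, .c8⟩ ⟨.c7, .c10, .c10⟩ ⟨.c6, .c12, .c11⟩ ⟨.c6, .c0, .c12⟩ ⟨.c6, .c2, .c8⟩ ⟨.c6, .c0, .c13⟩ ⟨.c7, .c10, .c11⟩ ⟨.c6, .c1, .c0⟩ ⟨.c6, .c2, .c12⟩) (@D3.rec (fun _ => Pt) ⟨.c6, .c2, .c13⟩ ⟨.c6, .c2, .c14⟩ ⟨.c6, .c4, .c5⟩ ⟨.c6, .c13, .c3⟩ ⟨.c6, .c2, .c15⟩ ⟨.c6, .c2, .c16⟩ ⟨.c6, .c1, .c11⟩ ⟨.c6, .c1, .c12⟩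 ⟨.c7, .c11, .c4⟩ ⟨.c7, .c11, .c6⟩ ⟨.c6, .c1, .c16⟩ ⟨.c7, .c9, .c15⟩ ⟨.c6, .c1, .c17⟩ ⟨.c7, .c11, .c8⟩ ⟨.c6, .c2, .c2⟩ ⟨.c7, .c11, .c14⟩ ⟨.c6, .c2, .c4⟩ ⟨.c7, .c11, .c16⟩) (@D3.rec (fun _ => Pt) ⟨.c7, .c11, .c12⟩ ⟨.c6, .c2, .c3⟩ ⟨.c7, .c12, .c1⟩ ⟨.c7, .c12, .c0⟩ ⟨.c6, .c2, .c6⟩ ⟨.c6, .c2, .c10⟩ ⟨.c7, .c10, .c12⟩ ⟨.c7, .c10, .c13⟩ ⟨.c7, .c10, .c14⟩ ⟨.c7, .c10, .c15⟩ ⟨.c7, .c10, .c16⟩ ⟨.c7, .c11, .c2⟩ ⟨.c7, .c11, .c3⟩ ⟨.c6, .c3, .c0⟩ ⟨.c6, .c3, .c17⟩ ⟨.c6, .c4, .c2⟩ ⟨.c6, .c3, .c4⟩ ⟨.c6, .c3, .c11⟩)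
def f_e_7 : D2 → D3 → Pt := @D2.rec (fun _ => D3 → Pt) (@D3.rec (fun _ => Pt) ⟨.c6, .c3, .c10⟩ ⟨.c7, .c7, .c8⟩ ⟨.c7, .c12, .c11⟩ ⟨.c6, .c3, .c12⟩ ⟨.c7, .c10, .c0⟩ ⟨.c7, .c12, .c15⟩ ⟨.c7, .c12, .c16⟩ ⟨.c6, .c4, .c3⟩ ⟨.c7, .c12, .c17⟩ ⟨.c7, .c11, .c0⟩ ⟨.c6, .c4, .c6⟩ ⟨.c6, .c4, .c8⟩ ⟨.c7, .c0, .c12⟩ ⟨.c7, .c13, .c4⟩ ⟨.c7, .c0, .c14⟩ ⟨.c7, .c0, .c15⟩ ⟨.c7, .c13, .c5⟩ ⟨.c7, .c0, .c17⟩) (@D3.rec (fun _ => Pt) ⟨.c6, .c4, .c12⟩ ⟨.c7, .c13, .c2⟩ ⟨.c7, .c13, .c11⟩ ⟨.c7, .c1, .c3⟩ ⟨.c6, .c4, .c16⟩ ⟨.c6, .c4, .c17⟩ ⟨.c7, .c13, .c14⟩ ⟨.c7, .c13, .c16⟩ ⟨.c7, .c14,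 .c0⟩ ⟨.c6, .c8, .c17⟩ ⟨.c6, .c5, .c2⟩ ⟨.c7, .c14, .c4⟩ ⟨.c6, .c9, .c3⟩ ⟨.c6, .c5, .c5⟩ ⟨.c7, .c14, .c7⟩ ⟨.c6, .c9, .c8⟩ ⟨.c7, .c14, .c10⟩ ⟨.c6, .c9, .c10⟩) (@D3.rec (fun _ => Pt) ⟨.c6, .c5, .c8⟩ ⟨.c7, .c14, .c15⟩ ⟨.c7, .c14, .c16⟩ ⟨.c6, .c9, .c14⟩ ⟨.c6, .c5, .c11⟩ ⟨.c8, .c0, .c2⟩ ⟨.c8, .c0, .c3⟩ ⟨.c8, .c0, .c7⟩ ⟨.c6, .c10, .c1⟩ ⟨.c6, .c5, .c14⟩ ⟨.c6, .c5, .c15⟩ ⟨.c8, .c0, .c10⟩ ⟨.c8, .c0, .c12⟩ ⟨.c7, .c2, .c13⟩ ⟨.c6, .c6, .c1⟩ ⟨.c7, .c13, .c15⟩ ⟨.c6, .c6, .c2⟩ ⟨.c8, .c0, .c16⟩) (@D3.rec (fun _ => Pt) ⟨.c7, .c3, .c0⟩ ⟨.c7, .c3, .c1⟩ ⟨.c7, .c3, .c2⟩ ⟨.c7,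 .c3, .c3⟩ ⟨.c6, .c10, .c11⟩ ⟨.c8, .c1, .c8⟩ ⟨.c6, .c10, .c13⟩ ⟨.c6, .c6, .c8⟩ ⟨.c8, .c1, .c12⟩ ⟨.c6, .c10, .c16⟩ ⟨.c6, .c6, .c10⟩ ⟨.c8, .c1, .c15⟩ ⟨.c8, .c2, .c0⟩ ⟨.c6, .c11, .c3⟩ ⟨.c6, .c6, .c13⟩ ⟨.c8, .c2, .c2⟩ ⟨.c6, .c6, .c16⟩ ⟨.c8, .c2, .c3⟩) (@D3.rec (fun _ => Pt) ⟨.c6, .c11, .c2⟩ ⟨.c6, .c7, .c0⟩ ⟨.c8, .c2, .c8⟩ ⟨.c8, .c2, .c9⟩ ⟨.c7, .c14, .c2⟩ ⟨.c6, .c11, .c16⟩ ⟨.c6, .c7, .c3⟩ ⟨.c6, .c7, .c4⟩ ⟨.c8, .c2, .c14⟩ ⟨.c8, .c2, .c16⟩ ⟨.c7, .c4, .c10⟩ ⟨.c6, .c7, .c7⟩ ⟨.c6, .c7, .c8⟩ ⟨.c8, .c3, .c3⟩ ⟨.c8, .c3, .c8⟩ ⟨.c8, .c3, .c5⟩ ⟨.c6, .c7, .c9⟩ ⟨.c8, .c3,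 .c11⟩) (@D3.rec (fun _ => Pt) ⟨.c7, .c5, .c0⟩ ⟨.c6, .c7, .c13⟩ ⟨.c7, .c5, .c2⟩ ⟨.c6, .c7, .c14⟩ ⟨.c8, .c3, .c15⟩ ⟨.c7, .c5, .c5⟩ ⟨.c7, .c5, .c6⟩ ⟨.c6, .c8, .c1⟩ ⟨.c7, .c5, .c8⟩ ⟨.c7, .c5, .c9⟩ ⟨.c7, .c5, .c10⟩ ⟨.c7, .c5, .c11⟩ ⟨.c7, .c5, .c12⟩ ⟨.c7, .c5, .c13⟩ ⟨.c7, .c5, .c14⟩ ⟨.c7, .c5, .c15⟩ ⟨.c7, .c5, .c16⟩ ⟨.c6, .c8, .c13⟩) (@D3.rec (fun _ => Pt) ⟨.c6, .c8, .c14⟩ ⟨.c8, .c4, .c10⟩ ⟨.c8, .c4, .c12⟩ ⟨.c6, .c8, .c16⟩ ⟨.c8, .c4, .c15⟩ ⟨.c8, .c4, .c16⟩ ⟨.c7, .c14, .c3⟩ ⟨.c6, .c9, .c1⟩ ⟨.c6, .c9, .c2⟩ ⟨.c8, .c5, .c1⟩ ⟨.c8, .c5, .c3⟩ ⟨.c6, .c9, .c6⟩ ⟨.c8,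 .c4, .c11⟩ ⟨.c6, .c9, .c7⟩ ⟨.c8, .c5, .c6⟩ ⟨.c8, .c5, .c9⟩ ⟨.c7, .c14, .c9⟩ ⟨.c6, .c9, .c9⟩) (@D3.rec (fun _ => Pt) ⟨.c8, .c5, .c13⟩ ⟨.c8, .c5, .c14⟩ ⟨.c8, .c1, .c7⟩ ⟨.c7, .c14, .c14⟩ ⟨.c6, .c9, .c12⟩ ⟨.c6, .c9, .c13⟩ ⟨.c8, .c6, .c2⟩ ⟨.c8, .c6, .c4⟩ ⟨.c7, .c0, .c1⟩ ⟨.c6, .c9, .c16⟩ ⟨.c6, .c9, .c17⟩ ⟨.c8, .c6, .c9⟩ ⟨.c8, .c6, .c14⟩ ⟨.c8, .c6, .c11⟩ ⟨.c6, .c10, .c0⟩ ⟨.c8, .c6, .c17⟩ ⟨.c7, .c7, .c16⟩ ⟨.c6, .c10, .c4⟩) (@D3.rec (fun _ => Pt) ⟨.c7, .c8, .c0⟩ ⟨.c6, .c10, .c5⟩ ⟨.c8, .c7, .c2⟩ ⟨.c7, .c8, .c3⟩ ⟨.c7, .c8, .c4⟩ ⟨.c6, .c10, .c10⟩ ⟨.c7, .c8, .c6⟩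 ⟨.c7, .c8, .c7⟩ ⟨.c8, .c6, .c6⟩ ⟨.c6, .c10, .c12⟩ ⟨.c8, .c7, .c10⟩ ⟨.c8, .c1, .c11⟩ ⟨.c6, .c10, .c15⟩ ⟨.c8, .c7, .c12⟩ ⟨.c6, .c11, .c14⟩ ⟨.c6, .c11, .c0⟩ ⟨.c6, .c11, .c1⟩ ⟨.c8, .c7, .c14⟩) (@D3.rec (fun _ => Pt) ⟨.c8, .c8, .c1⟩ ⟨.c8, .c7, .c16⟩ ⟨.c8, .c2, .c6⟩ ⟨.c6, .c11, .c6⟩ ⟨.c7, .c9, .c4⟩ ⟨.c6, .c11, .c7⟩ ⟨.c8, .c8, .c3⟩ ⟨.c6, .c11, .c11⟩ ⟨.c7, .c9, .c8⟩ ⟨.c6, .c11, .c12⟩ ⟨.c8, .c4, .c14⟩ ⟨.c6, .c11, .c15⟩ ⟨.c8, .c7, .c13⟩ ⟨.c8, .c8, .c7⟩ ⟨.c6, .c12, .c1⟩ ⟨.c6, .c13, .c11⟩ ⟨.c6, .c12, .c2⟩ ⟨.c8, .c8, .c9⟩) (@D3.rec (fun _ => Pt) ⟨.c7, .c0, .c4⟩ ⟨.c7,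 .c10, .c1⟩ ⟨.c6, .c12, .c6⟩ ⟨.c8, .c8, .c17⟩ ⟨.c6, .c12, .c8⟩ ⟨.c8, .c9, .c1⟩ ⟨.c8, .c8, .c15⟩ ⟨.c6, .c12, .c7⟩ ⟨.c8, .c9, .c4⟩ ⟨.c8, .c9, .c3⟩ ⟨.c6, .c12, .c10⟩ ⟨.c6, .c12, .c15⟩ ⟨.c6, .c14, .c6⟩ ⟨.c6, .c14, .c7⟩ ⟨.c6, .c14, .c8⟩ ⟨.c6, .c14, .c9⟩ ⟨.c6, .c14, .c10⟩ ⟨.c7, .c10, .c17⟩) (@D3.rec (fun _ => Pt) ⟨.c7, .c0, .c9⟩ ⟨.c7, .c11, .c1⟩ ⟨.c6, .c14, .c11⟩ ⟨.c6, .c14, .c12⟩ ⟨.c6, .c13, .c8⟩ ⟨.c8, .c5, .c2⟩ ⟨.c6, .c13, .c9⟩ ⟨.c8, .c9, .c17⟩ ⟨.c6, .c13, .c13⟩ ⟨.c8, .c8, .c10⟩ ⟨.c8, .c8, .c11⟩ ⟨.c8, .c10, .c4⟩ ⟨.c6, .c14, .c0⟩ ⟨.c8, .c10, .c7⟩ ⟨.c6, .c13,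 .c15⟩ ⟨.c8, .c10, .c10⟩ ⟨.c6, .c13, .c17⟩ ⟨.c8, .c10, .c13⟩) (@D3.rec (fun _ => Pt) ⟨.c6, .c14, .c3⟩ ⟨.c6, .c14, .c2⟩ ⟨.c8, .c9, .c9⟩ ⟨.c8, .c10, .c14⟩ ⟨.c8, .c9, .c7⟩ ⟨.c8, .c9, .c8⟩ ⟨.c8, .c9, .c10⟩ ⟨.c8, .c9, .c11⟩ ⟨.c8, .c9, .c15⟩ ⟨.c8, .c5, .c12⟩ ⟨.c8, .c6, .c7⟩ ⟨.c7, .c0, .c2⟩ ⟨.c8, .c11, .c1⟩ ⟨.c8, .c11, .c2⟩ ⟨.c8, .c8, .c13⟩ ⟨.c7, .c0, .c5⟩ ⟨.c7, .c0, .c6⟩ ⟨.c7, .c0, .c8⟩) (@D3.rec (fun _ => Pt) ⟨.c7, .c13, .c0⟩ ⟨.c7, .c13, .c1⟩ ⟨.c7, .c1, .c1⟩ ⟨.c7, .c13, .c3⟩ ⟨.c7, .c0, .c13⟩ ⟨.c7, .c0, .c16⟩ ⟨.c8, .c11, .c10⟩ ⟨.c7, .c13, .c7⟩ ⟨.c8, .c11, .c11⟩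 ⟨.c8, .c11, .c15⟩ ⟨.c7, .c13, .c10⟩ ⟨.c7, .c1, .c2⟩ ⟨.c8, .c11, .c7⟩ ⟨.c8, .c12, .c0⟩ ⟨.c7, .c1, .c6⟩ ⟨.c7, .c2, .c15⟩ ⟨.c7, .c1, .c7⟩ ⟨.c8, .c12, .c3⟩) (@D3.rec (fun _ => Pt) ⟨.c7, .c1, .c8⟩ ⟨.c8, .c12, .c7⟩ ⟨.c7, .c4, .c4⟩ ⟨.c7, .c6, .c6⟩ ⟨.c7, .c1, .c11⟩ ⟨.c8, .c12, .c12⟩ ⟨.c7, .c14, .c6⟩ ⟨.c7, .c1, .c14⟩ ⟨.c8, .c12, .c14⟩ ⟨.c7, .c6, .c16⟩ ⟨.c7, .c1, .c16⟩ ⟨.c8, .c13, .c2⟩ ⟨.c8, .c13, .c3⟩ ⟨.c8, .c13, .c7⟩ ⟨.c7, .c7, .c3⟩ ⟨.c7, .c2, .c1⟩ ⟨.c7, .c2, .c2⟩ ⟨.c8, .c13, .c10⟩)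
def f_e_8 : D2 → D3 → Pt := @D2.rec (fun _ => D3 → Pt) (@D3.rec (fun _ => Pt) ⟨.c8, .c13, .c12⟩ ⟨.c8, .c0, .c1⟩ ⟨.c7, .c2, .c5⟩ ⟨.c7, .c2, .c6⟩ ⟨.c8, .c13, .c17⟩ ⟨.c8, .c14, .c4⟩ ⟨.c8, .c14, .c1⟩ ⟨.c7, .c2, .c7⟩ ⟨.c8, .c14, .c7⟩ ⟨.c8, .c0, .c9⟩ ⟨.c7, .c2, .c11⟩ ⟨.c8, .c11, .c17⟩ ⟨.c7, .c2, .c12⟩ ⟨.c8, .c14, .c11⟩ ⟨.c8, .c0, .c14⟩ ⟨.c8, .c12, .c2⟩ ⟨.c7, .c2, .c17⟩ ⟨.c8, .c12, .c4⟩) (@D3.rec (fun _ => Pt) ⟨.c8, .c12, .c5⟩ ⟨.c8, .c1, .c1⟩ ⟨.c8, .c1, .c2⟩ ⟨.c8, .c1, .c3⟩ ⟨.c9, .c0, .c6⟩ ⟨.c8, .c1, .c5⟩ ⟨.c9, .c0, .c8⟩ ⟨.c7, .c7, .c2⟩ ⟨.c7, .c3, .c5⟩ ⟨.c9,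 .c0, .c11⟩ ⟨.c8, .c12, .c17⟩ ⟨.c7, .c8, .c11⟩ ⟨.c7, .c3, .c8⟩ ⟨.c9, .c0, .c15⟩ ⟨.c8, .c1, .c14⟩ ⟨.c7, .c3, .c11⟩ ⟨.c9, .c1, .c1⟩ ⟨.c9, .c1, .c0⟩) (@D3.rec (fun _ => Pt) ⟨.c7, .c3, .c12⟩ ⟨.c9, .c1, .c4⟩ ⟨.c7, .c3, .c15⟩ ⟨.c7, .c3, .c17⟩ ⟨.c9, .c1, .c7⟩ ⟨.c9, .c1, .c8⟩ ⟨.c7, .c9, .c2⟩ ⟨.c8, .c2, .c7⟩ ⟨.c7, .c4, .c2⟩ ⟨.c7, .c4, .c3⟩ ⟨.c9, .c1, .c12⟩ ⟨.c9, .c1, .c17⟩ ⟨.c9, .c1, .c14⟩ ⟨.c8, .c12, .c10⟩ ⟨.c7, .c4, .c8⟩ ⟨.c8, .c2, .c15⟩ ⟨.c7, .c4, .c9⟩ ⟨.c9, .c2, .c2⟩) (@D3.rec (fun _ => Pt) ⟨.c8, .c3, .c0⟩ ⟨.c8, .c3, .c1⟩ ⟨.c8, .c3, .c2⟩ ⟨.c7, .c4, .c13⟩ ⟨.c9,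 .c2, .c11⟩ ⟨.c7, .c4, .c15⟩ ⟨.c9, .c2, .c13⟩ ⟨.c9, .c2, .c9⟩ ⟨.c7, .c4, .c14⟩ ⟨.c9, .c2, .c16⟩ ⟨.c9, .c2, .c15⟩ ⟨.c7, .c4, .c17⟩ ⟨.c9, .c3, .c2⟩ ⟨.c8, .c3, .c13⟩ ⟨.c8, .c3, .c14⟩ ⟨.c7, .c5, .c4⟩ ⟨.c8, .c3, .c16⟩ ⟨.c8, .c3, .c17⟩) (@D3.rec (fun _ => Pt) ⟨.c8, .c4, .c0⟩ ⟨.c8, .c4, .c1⟩ ⟨.c8, .c4, .c2⟩ ⟨.c8, .c4, .c3⟩ ⟨.c8, .c4, .c4⟩ ⟨.c8, .c4, .c5⟩ ⟨.c8, .c4, .c6⟩ ⟨.c8, .c4, .c7⟩ ⟨.c8, .c4, .c8⟩ ⟨.c8, .c4, .c9⟩ ⟨.c7, .c6, .c1⟩ ⟨.c7, .c6, .c12⟩ ⟨.c7, .c6, .c2⟩ ⟨.c9, .c3, .c14⟩ ⟨.c7, .c9, .c10⟩ ⟨.c7, .c6, .c4⟩ ⟨.c7, .c6, .c5⟩ ⟨.c9, .c4, .c0⟩) (@D3.rec (fun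 _ => Pt) ⟨.c9, .c4, .c2⟩ ⟨.c7, .c6, .c9⟩ ⟨.c7, .c11, .c5⟩ ⟨.c7, .c6, .c10⟩ ⟨.c9, .c4, .c5⟩ ⟨.c9, .c3, .c13⟩ ⟨.c7, .c6, .c14⟩ ⟨.c9, .c3, .c15⟩ ⟨.c9, .c3, .c16⟩ ⟨.c7, .c6, .c15⟩ ⟨.c9, .c4, .c12⟩ ⟨.c8, .c13, .c0⟩ ⟨.c7, .c12, .c9⟩ ⟨.c7, .c7, .c0⟩ ⟨.c7, .c7, .c1⟩ ⟨.c9, .c4, .c16⟩ ⟨.c9, .c5, .c2⟩ ⟨.c9, .c5, .c0⟩) (@D3.rec (fun _ => Pt) ⟨.c9, .c0, .c10⟩ ⟨.c8, .c6, .c1⟩ ⟨.c7, .c7, .c6⟩ ⟨.c8, .c6, .c3⟩ ⟨.c7, .c7, .c7⟩ ⟨.c9, .c5, .c6⟩ ⟨.c7, .c8, .c8⟩ ⟨.c7, .c12, .c10⟩ ⟨.c8, .c6, .c8⟩ ⟨.c7, .c7, .c11⟩ ⟨.c9, .c5, .c15⟩ ⟨.c7, .c7, .c13⟩ ⟨.c9, .c4, .c14⟩ ⟨.c9, .c5,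 .c13⟩ ⟨.c7, .c7, .c12⟩ ⟨.c9, .c6, .c1⟩ ⟨.c9, .c6, .c0⟩ ⟨.c7, .c7, .c15⟩) (@D3.rec (fun _ => Pt) ⟨.c8, .c7, .c0⟩ ⟨.c8, .c7, .c1⟩ ⟨.c7, .c8, .c2⟩ ⟨.c8, .c7, .c3⟩ ⟨.c8, .c7, .c4⟩ ⟨.c8, .c7, .c5⟩ ⟨.c8, .c7, .c6⟩ ⟨.c8, .c7, .c7⟩ ⟨.c8, .c7, .c8⟩ ⟨.c8, .c7, .c9⟩ ⟨.c7, .c8, .c10⟩ ⟨.c9, .c6, .c15⟩ ⟨.c7, .c8, .c13⟩ ⟨.c7, .c9, .c12⟩ ⟨.c7, .c8, .c17⟩ ⟨.c9, .c7, .c3⟩ ⟨.c7, .c9, .c1⟩ ⟨.c9, .c3, .c17⟩) (@D3.rec (fun _ => Pt) ⟨.c9, .c7, .c1⟩ ⟨.c7, .c9, .c0⟩ ⟨.c9, .c7, .c6⟩ ⟨.c7, .c9, .c6⟩ ⟨.c8, .c8, .c4⟩ ⟨.c8, .c8, .c5⟩ ⟨.c9, .c4, .c1⟩ ⟨.c7, .c9, .c13⟩ ⟨.c9, .c6, .c17⟩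 ⟨.c7, .c9, .c17⟩ ⟨.c7, .c11, .c9⟩ ⟨.c7, .c11, .c10⟩ ⟨.c9, .c7, .c13⟩ ⟨.c7, .c12, .c14⟩ ⟨.c9, .c7, .c15⟩ ⟨.c7, .c10, .c6⟩ ⟨.c9, .c8, .c0⟩ ⟨.c7, .c10, .c3⟩) (@D3.rec (fun _ => Pt) ⟨.c9, .c8, .c3⟩ ⟨.c7, .c10, .c5⟩ ⟨.c9, .c8, .c6⟩ ⟨.c7, .c10, .c9⟩ ⟨.c7, .c10, .c8⟩ ⟨.c9, .c8, .c7⟩ ⟨.c9, .c8, .c8⟩ ⟨.c7, .c12, .c4⟩ ⟨.c7, .c12, .c5⟩ ⟨.c7, .c12, .c2⟩ ⟨.c7, .c12, .c6⟩ ⟨.c7, .c12, .c7⟩ ⟨.c8, .c9, .c12⟩ ⟨.c8, .c9, .c13⟩ ⟨.c8, .c9, .c14⟩ ⟨.c7, .c12, .c8⟩ ⟨.c9, .c4, .c4⟩ ⟨.c7, .c11, .c7⟩) (@D3.rec (fun _ => Pt) ⟨.c9, .c4, .c6⟩ ⟨.c9, .c4, .c7⟩ ⟨.c9, .c7, .c10⟩ ⟨.c9,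 .c7, .c11⟩ ⟨.c7, .c11, .c11⟩ ⟨.c9, .c9, .c4⟩ ⟨.c9, .c9, .c6⟩ ⟨.c7, .c11, .c13⟩ ⟨.c9, .c9, .c9⟩ ⟨.c8, .c10, .c9⟩ ⟨.c7, .c11, .c15⟩ ⟨.c9, .c9, .c12⟩ ⟨.c8, .c10, .c12⟩ ⟨.c7, .c11, .c17⟩ ⟨.c7, .c12, .c3⟩ ⟨.c9, .c8, .c11⟩ ⟨.c9, .c8, .c10⟩ ⟨.c9, .c8, .c12⟩) (@D3.rec (fun _ => Pt) ⟨.c9, .c5, .c10⟩ ⟨.c7, .c12, .c12⟩ ⟨.c7, .c12, .c13⟩ ⟨.c9, .c9, .c15⟩ ⟨.c8, .c11, .c4⟩ ⟨.c8, .c11, .c5⟩ ⟨.c8, .c11, .c6⟩ ⟨.c7, .c13, .c12⟩ ⟨.c9, .c10, .c2⟩ ⟨.c8, .c11, .c9⟩ ⟨.c7, .c13, .c6⟩ ⟨.c7, .c13, .c8⟩ ⟨.c9, .c10, .c5⟩ ⟨.c9, .c10, .c7⟩ ⟨.c9, .c10, .c6⟩ ⟨.c7, .c13, .c9⟩ ⟨.c9,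 .c10, .c10⟩ ⟨.c8, .c0, .c11⟩) (@D3.rec (fun _ => Pt) ⟨.c7, .c13, .c13⟩ ⟨.c9, .c10, .c1⟩ ⟨.c8, .c0, .c15⟩ ⟨.c7, .c13, .c17⟩ ⟨.c8, .c0, .c17⟩ ⟨.c8, .c1, .c0⟩ ⟨.c8, .c12, .c6⟩ ⟨.c7, .c14, .c1⟩ ⟨.c9, .c11, .c4⟩ ⟨.c9, .c11, .c3⟩ ⟨.c8, .c2, .c13⟩ ⟨.c8, .c12, .c11⟩ ⟨.c7, .c14, .c5⟩ ⟨.c8, .c12, .c13⟩ ⟨.c7, .c14, .c8⟩ ⟨.c9, .c11, .c10⟩ ⟨.c9, .c11, .c11⟩ ⟨.c8, .c1, .c10⟩) (@D3.rec (fun _ => Pt) ⟨.c8, .c5, .c11⟩ ⟨.c8, .c13, .c1⟩ ⟨.c7, .c14, .c11⟩ ⟨.c7, .c14, .c12⟩ ⟨.c9, .c12, .c2⟩ ⟨.c9, .c12, .c6⟩ ⟨.c9, .c12, .c4⟩ ⟨.c7, .c14, .c13⟩ ⟨.c9, .c12, .c9⟩ ⟨.c8, .c13,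 .c9⟩ ⟨.c7, .c14, .c17⟩ ⟨.c9, .c10, .c4⟩ ⟨.c8, .c0, .c0⟩ ⟨.c9, .c12, .c12⟩ ⟨.c8, .c13, .c14⟩ ⟨.c8, .c13, .c15⟩ ⟨.c8, .c13, .c16⟩ ⟨.c8, .c0, .c4⟩) (@D3.rec (fun _ => Pt) ⟨.c9, .c13, .c4⟩ ⟨.c8, .c0, .c6⟩ ⟨.c9, .c12, .c13⟩ ⟨.c9, .c13, .c2⟩ ⟨.c8, .c0, .c5⟩ ⟨.c9, .c13, .c8⟩ ⟨.c9, .c13, .c7⟩ ⟨.c8, .c0, .c8⟩ ⟨.c9, .c13, .c12⟩ ⟨.c8, .c14, .c9⟩ ⟨.c9, .c10, .c0⟩ ⟨.c8, .c0, .c13⟩ ⟨.c9, .c10, .c12⟩ ⟨.c9, .c10, .c13⟩ ⟨.c9, .c14, .c1⟩ ⟨.c8, .c14, .c15⟩ ⟨.c9, .c10, .c14⟩ ⟨.c9, .c10, .c15⟩)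
def f_e_9 : D2 → D3 → Pt := @D2.rec (fun _ => D3 → Pt) (@D3.rec (fun _ => Pt) ⟨.c9, .c10, .c16⟩ ⟨.c9, .c10, .c17⟩ ⟨.c9, .c11, .c0⟩ ⟨.c9, .c0, .c3⟩ ⟨.c9, .c11, .c15⟩ ⟨.c9, .c0, .c5⟩ ⟨.c8, .c1, .c4⟩ ⟨.c9, .c14, .c13⟩ ⟨.c8, .c1, .c6⟩ ⟨.c9, .c14, .c15⟩ ⟨.c8, .c6, .c0⟩ ⟨.c8, .c1, .c9⟩ ⟨.c10, .c0, .c1⟩ ⟨.c10, .c0, .c0⟩ ⟨.c9, .c11, .c16⟩ ⟨.c8, .c1, .c13⟩ ⟨.c9, .c0, .c16⟩ ⟨.c10, .c0, .c6⟩) (@D3.rec (fun _ => Pt) ⟨.c8, .c1, .c17⟩ ⟨.c8, .c1, .c16⟩ ⟨.c10, .c0, .c9⟩ ⟨.c10, .c0, .c8⟩ ⟨.c8, .c2, .c1⟩ ⟨.c10, .c0, .c13⟩ ⟨.c9, .c1, .c6⟩ ⟨.c8, .c2, .c4⟩ ⟨.c8, .c2, .c5⟩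 ⟨.c10, .c0, .c15⟩ ⟨.c10, .c0, .c17⟩ ⟨.c9, .c1, .c11⟩ ⟨.c8, .c2, .c10⟩ ⟨.c10, .c1, .c6⟩ ⟨.c8, .c2, .c12⟩ ⟨.c10, .c1, .c8⟩ ⟨.c10, .c1, .c4⟩ ⟨.c8, .c2, .c11⟩) (@D3.rec (fun _ => Pt) ⟨.c10, .c1, .c10⟩ ⟨.c9, .c11, .c6⟩ ⟨.c8, .c2, .c17⟩ ⟨.c9, .c2, .c3⟩ ⟨.c9, .c2, .c4⟩ ⟨.c10, .c1, .c13⟩ ⟨.c9, .c2, .c6⟩ ⟨.c9, .c2, .c7⟩ ⟨.c10, .c1, .c17⟩ ⟨.c8, .c3, .c7⟩ ⟨.c10, .c2, .c2⟩ ⟨.c8, .c3, .c4⟩ ⟨.c10, .c2, .c5⟩ ⟨.c8, .c3, .c6⟩ ⟨.c10, .c2, .c8⟩ ⟨.c8, .c3, .c10⟩ ⟨.c8, .c3, .c9⟩ ⟨.c10, .c2, .c12⟩) (@D3.rec (fun _ => Pt) ⟨.c10, .c2, .c10⟩ ⟨.c10, .c2, .c11⟩ ⟨.c8, .c3, .c12⟩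 ⟨.c9, .c3, .c3⟩ ⟨.c9, .c3, .c4⟩ ⟨.c9, .c3, .c5⟩ ⟨.c9, .c3, .c6⟩ ⟨.c9, .c3, .c7⟩ ⟨.c9, .c3, .c8⟩ ⟨.c9, .c3, .c9⟩ ⟨.c9, .c3, .c10⟩ ⟨.c9, .c3, .c11⟩ ⟨.c9, .c3, .c12⟩ ⟨.c8, .c5, .c5⟩ ⟨.c8, .c4, .c13⟩ ⟨.c8, .c5, .c7⟩ ⟨.c8, .c5, .c8⟩ ⟨.c8, .c7, .c17⟩) (@D3.rec (fun _ => Pt) ⟨.c8, .c4, .c17⟩ ⟨.c8, .c8, .c6⟩ ⟨.c8, .c5, .c0⟩ ⟨.c10, .c3, .c8⟩ ⟨.c8, .c9, .c16⟩ ⟨.c8, .c5, .c4⟩ ⟨.c8, .c10, .c0⟩ ⟨.c8, .c10, .c1⟩ ⟨.c10, .c3, .c1⟩ ⟨.c10, .c3, .c2⟩ ⟨.c10, .c3, .c3⟩ ⟨.c10, .c3, .c4⟩ ⟨.c8, .c5, .c10⟩ ⟨.c10, .c4, .c2⟩ ⟨.c8, .c6, .c12⟩ ⟨.c9, .c4, .c15⟩ ⟨.c8, .c5, .c15⟩ ⟨.c10,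 .c4, .c9⟩) (@D3.rec (fun _ => Pt) ⟨.c8, .c5, .c17⟩ ⟨.c10, .c4, .c7⟩ ⟨.c8, .c5, .c16⟩ ⟨.c10, .c4, .c11⟩ ⟨.c9, .c5, .c4⟩ ⟨.c9, .c5, .c5⟩ ⟨.c8, .c6, .c5⟩ ⟨.c9, .c5, .c7⟩ ⟨.c9, .c5, .c8⟩ ⟨.c10, .c4, .c6⟩ ⟨.c8, .c11, .c0⟩ ⟨.c9, .c5, .c11⟩ ⟨.c10, .c4, .c3⟩ ⟨.c8, .c6, .c13⟩ ⟨.c10, .c5, .c6⟩ ⟨.c8, .c6, .c10⟩ ⟨.c10, .c5, .c9⟩ ⟨.c10, .c4, .c4⟩) (@D3.rec (fun _ => Pt) ⟨.c8, .c6, .c16⟩ ⟨.c8, .c6, .c15⟩ ⟨.c10, .c5, .c11⟩ ⟨.c10, .c5, .c12⟩ ⟨.c9, .c6, .c4⟩ ⟨.c9, .c6, .c5⟩ ⟨.c9, .c6, .c6⟩ ⟨.c9, .c6, .c7⟩ ⟨.c9, .c6, .c8⟩ ⟨.c9, .c6, .c9⟩ ⟨.c9, .c6, .c10⟩ ⟨.c9, .c6, .c11⟩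 ⟨.c9, .c6, .c12⟩ ⟨.c9, .c6, .c13⟩ ⟨.c10, .c4, .c1⟩ ⟨.c8, .c7, .c11⟩ ⟨.c10, .c3, .c7⟩ ⟨.c8, .c8, .c8⟩) (@D3.rec (fun _ => Pt) ⟨.c10, .c3, .c5⟩ ⟨.c8, .c8, .c0⟩ ⟨.c10, .c6, .c6⟩ ⟨.c8, .c7, .c15⟩ ⟨.c10, .c6, .c8⟩ ⟨.c10, .c3, .c6⟩ ⟨.c8, .c8, .c2⟩ ⟨.c9, .c7, .c7⟩ ⟨.c10, .c3, .c9⟩ ⟨.c10, .c3, .c10⟩ ⟨.c8, .c10, .c2⟩ ⟨.c8, .c10, .c3⟩ ⟨.c10, .c6, .c15⟩ ⟨.c8, .c8, .c12⟩ ⟨.c10, .c7, .c0⟩ ⟨.c8, .c8, .c14⟩ ⟨.c10, .c7, .c3⟩ ⟨.c10, .c7, .c6⟩) (@D3.rec (fun _ => Pt) ⟨.c8, .c8, .c16⟩ ⟨.c10, .c7, .c9⟩ ⟨.c10, .c2, .c4⟩ ⟨.c8, .c9, .c0⟩ ⟨.c10, .c7, .c12⟩ ⟨.c9, .c8, .c5⟩ ⟨.c8,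 .c9, .c2⟩ ⟨.c8, .c9, .c5⟩ ⟨.c8, .c9, .c6⟩ ⟨.c10, .c7, .c14⟩ ⟨.c8, .c10, .c16⟩ ⟨.c8, .c10, .c15⟩ ⟨.c8, .c10, .c17⟩ ⟨.c9, .c8, .c13⟩ ⟨.c9, .c8, .c14⟩ ⟨.c9, .c8, .c15⟩ ⟨.c10, .c3, .c11⟩ ⟨.c10, .c3, .c12⟩) (@D3.rec (fun _ => Pt) ⟨.c10, .c3, .c13⟩ ⟨.c10, .c3, .c14⟩ ⟨.c10, .c6, .c13⟩ ⟨.c9, .c14, .c12⟩ ⟨.c8, .c10, .c5⟩ ⟨.c10, .c8, .c3⟩ ⟨.c8, .c10, .c6⟩ ⟨.c10, .c8, .c5⟩ ⟨.c9, .c9, .c8⟩ ⟨.c8, .c10, .c8⟩ ⟨.c10, .c8, .c8⟩ ⟨.c9, .c9, .c11⟩ ⟨.c8, .c10, .c11⟩ ⟨.c9, .c9, .c13⟩ ⟨.c9, .c9, .c14⟩ ⟨.c8, .c11, .c3⟩ ⟨.c10, .c8, .c12⟩ ⟨.c9, .c9, .c17⟩) (@D3.rec (fun _ =>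 Pt) ⟨.c8, .c14, .c10⟩ ⟨.c8, .c12, .c1⟩ ⟨.c8, .c11, .c8⟩ ⟨.c10, .c8, .c16⟩ ⟨.c8, .c13, .c11⟩ ⟨.c8, .c11, .c12⟩ ⟨.c8, .c11, .c14⟩ ⟨.c8, .c11, .c13⟩ ⟨.c10, .c9, .c2⟩ ⟨.c10, .c9, .c1⟩ ⟨.c8, .c11, .c16⟩ ⟨.c10, .c9, .c6⟩ ⟨.c8, .c14, .c12⟩ ⟨.c8, .c14, .c13⟩ ⟨.c8, .c14, .c16⟩ ⟨.c8, .c14, .c17⟩ ⟨.c9, .c0, .c0⟩ ⟨.c9, .c0, .c1⟩) (@D3.rec (fun _ => Pt) ⟨.c9, .c0, .c2⟩ ⟨.c9, .c11, .c1⟩ ⟨.c10, .c10, .c1⟩ ⟨.c8, .c12, .c9⟩ ⟨.c8, .c12, .c8⟩ ⟨.c10, .c10, .c3⟩ ⟨.c9, .c2, .c1⟩ ⟨.c9, .c11, .c7⟩ ⟨.c9, .c11, .c8⟩ ⟨.c9, .c11, .c9⟩ ⟨.c8, .c12, .c15⟩ ⟨.c8, .c12, .c16⟩ ⟨.c10,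 .c10, .c7⟩ ⟨.c10, .c10, .c11⟩ ⟨.c10, .c10, .c9⟩ ⟨.c9, .c0, .c4⟩ ⟨.c9, .c0, .c14⟩ ⟨.c9, .c11, .c17⟩) (@D3.rec (fun _ => Pt) ⟨.c9, .c12, .c0⟩ ⟨.c9, .c12, .c1⟩ ⟨.c8, .c13, .c4⟩ ⟨.c10, .c11, .c4⟩ ⟨.c8, .c13, .c6⟩ ⟨.c10, .c11, .c2⟩ ⟨.c8, .c13, .c5⟩ ⟨.c10, .c11, .c7⟩ ⟨.c10, .c11, .c6⟩ ⟨.c8, .c13, .c8⟩ ⟨.c10, .c11, .c10⟩ ⟨.c9, .c12, .c11⟩ ⟨.c8, .c13, .c13⟩ ⟨.c8, .c14, .c2⟩ ⟨.c10, .c9, .c0⟩ ⟨.c9, .c12, .c15⟩ ⟨.c10, .c11, .c17⟩ ⟨.c9, .c12, .c17⟩) (@D3.rec (fun _ => Pt) ⟨.c9, .c13, .c0⟩ ⟨.c10, .c11, .c3⟩ ⟨.c8, .c14, .c3⟩ ⟨.c10, .c11, .c1⟩ ⟨.c8, .c14, .c0⟩ ⟨.c10,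 .c12, .c7⟩ ⟨.c10, .c11, .c12⟩ ⟨.c8, .c14, .c6⟩ ⟨.c8, .c14, .c5⟩ ⟨.c10, .c12, .c12⟩ ⟨.c10, .c12, .c10⟩ ⟨.c10, .c12, .c11⟩ ⟨.c8, .c14, .c8⟩ ⟨.c10, .c8, .c15⟩ ⟨.c9, .c13, .c14⟩ ⟨.c10, .c8, .c14⟩ ⟨.c10, .c9, .c7⟩ ⟨.c10, .c9, .c8⟩) (@D3.rec (fun _ => Pt) ⟨.c10, .c9, .c9⟩ ⟨.c8, .c14, .c14⟩ ⟨.c10, .c13, .c2⟩ ⟨.c10, .c9, .c10⟩ ⟨.c10, .c9, .c11⟩ ⟨.c10, .c9, .c12⟩ ⟨.c10, .c9, .c13⟩ ⟨.c10, .c9, .c14⟩ ⟨.c10, .c9, .c15⟩ ⟨.c10, .c8, .c11⟩ ⟨.c9, .c14, .c10⟩ ⟨.c10, .c10, .c13⟩ ⟨.c9, .c9, .c3⟩ ⟨.c9, .c0, .c7⟩ ⟨.c10, .c13, .c11⟩ ⟨.c9, .c0, .c9⟩ ⟨.c10, .c13, .c13⟩ ⟨.c10,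 .c13, .c14⟩)
def f_e_10 : D2 → D3 → Pt := @D2.rec (fun _ => D3 → Pt) (@D3.rec (fun _ => Pt) ⟨.c9, .c0, .c13⟩ ⟨.c9, .c0, .c12⟩ ⟨.c10, .c13, .c16⟩ ⟨.c10, .c10, .c14⟩ ⟨.c10, .c14, .c0⟩ ⟨.c10, .c0, .c5⟩ ⟨.c9, .c0, .c17⟩ ⟨.c10, .c14, .c3⟩ ⟨.c9, .c1, .c3⟩ ⟨.c9, .c1, .c2⟩ ⟨.c10, .c14, .c6⟩ ⟨.c10, .c12, .c17⟩ ⟨.c10, .c14, .c5⟩ ⟨.c9, .c1, .c5⟩ ⟨.c10, .c0, .c14⟩ ⟨.c9, .c1, .c9⟩ ⟨.c10, .c14, .c2⟩ ⟨.c9, .c1, .c10⟩) (@D3.rec (fun _ => Pt) ⟨.c10, .c14, .c12⟩ ⟨.c10, .c14, .c15⟩ ⟨.c10, .c1, .c2⟩ ⟨.c10, .c14, .c17⟩ ⟨.c9, .c1, .c16⟩ ⟨.c11, .c0, .c1⟩ ⟨.c9, .c1, .c13⟩ ⟨.c11,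 .c0, .c3⟩ ⟨.c9, .c1, .c15⟩ ⟨.c11, .c0, .c6⟩ ⟨.c9, .c2, .c0⟩ ⟨.c11, .c0, .c8⟩ ⟨.c10, .c1, .c12⟩ ⟨.c9, .c2, .c5⟩ ⟨.c11, .c0, .c10⟩ ⟨.c11, .c0, .c12⟩ ⟨.c10, .c1, .c16⟩ ⟨.c9, .c2, .c8⟩) (@D3.rec (fun _ => Pt) ⟨.c11, .c0, .c15⟩ ⟨.c11, .c1, .c0⟩ ⟨.c9, .c2, .c10⟩ ⟨.c11, .c1, .c3⟩ ⟨.c9, .c8, .c2⟩ ⟨.c9, .c2, .c12⟩ ⟨.c11, .c1, .c7⟩ ⟨.c10, .c2, .c7⟩ ⟨.c9, .c2, .c14⟩ ⟨.c11, .c1, .c10⟩ ⟨.c9, .c3, .c0⟩ ⟨.c9, .c3, .c1⟩ ⟨.c9, .c2, .c17⟩ ⟨.c11, .c1, .c11⟩ ⟨.c11, .c1, .c12⟩ ⟨.c10, .c2, .c15⟩ ⟨.c10, .c2, .c16⟩ ⟨.c10, .c2, .c17⟩) (@D3.rec (fun _ => Pt) ⟨.c10, .c3, .c0⟩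 ⟨.c9, .c4, .c8⟩ ⟨.c9, .c4, .c9⟩ ⟨.c9, .c4, .c10⟩ ⟨.c9, .c4, .c11⟩ ⟨.c9, .c7, .c0⟩ ⟨.c9, .c7, .c5⟩ ⟨.c9, .c6, .c16⟩ ⟨.c9, .c4, .c3⟩ ⟨.c9, .c7, .c8⟩ ⟨.c9, .c7, .c9⟩ ⟨.c9, .c8, .c16⟩ ⟨.c9, .c8, .c17⟩ ⟨.c9, .c9, .c0⟩ ⟨.c9, .c9, .c1⟩ ⟨.c11, .c1, .c16⟩ ⟨.c10, .c9, .c4⟩ ⟨.c11, .c1, .c17⟩) (@D3.rec (fun _ => Pt) ⟨.c11, .c2, .c0⟩ ⟨.c9, .c6, .c14⟩ ⟨.c9, .c4, .c13⟩ ⟨.c9, .c5, .c12⟩ ⟨.c9, .c5, .c17⟩ ⟨.c10, .c4, .c5⟩ ⟨.c9, .c5, .c9⟩ ⟨.c9, .c5, .c1⟩ ⟨.c11, .c3, .c0⟩ ⟨.c9, .c4, .c17⟩ ⟨.c11, .c3, .c2⟩ ⟨.c9, .c5, .c3⟩ ⟨.c10, .c4, .c12⟩ ⟨.c10, .c4, .c13⟩ ⟨.c10, .c4, .c14⟩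 ⟨.c10, .c4, .c15⟩ ⟨.c10, .c4, .c16⟩ ⟨.c11, .c2, .c16⟩) (@D3.rec (fun _ => Pt) ⟨.c11, .c2, .c17⟩ ⟨.c11, .c3, .c10⟩ ⟨.c10, .c5, .c2⟩ ⟨.c11, .c2, .c12⟩ ⟨.c11, .c2, .c13⟩ ⟨.c11, .c3, .c15⟩ ⟨.c9, .c5, .c14⟩ ⟨.c11, .c4, .c0⟩ ⟨.c10, .c12, .c6⟩ ⟨.c9, .c5, .c16⟩ ⟨.c11, .c4, .c4⟩ ⟨.c9, .c6, .c2⟩ ⟨.c9, .c6, .c3⟩ ⟨.c11, .c4, .c5⟩ ⟨.c10, .c5, .c14⟩ ⟨.c10, .c5, .c15⟩ ⟨.c10, .c5, .c16⟩ ⟨.c10, .c5, .c17⟩) (@D3.rec (fun _ => Pt) ⟨.c10, .c6, .c0⟩ ⟨.c10, .c6, .c1⟩ ⟨.c10, .c6, .c2⟩ ⟨.c11, .c2, .c11⟩ ⟨.c11, .c2, .c2⟩ ⟨.c11, .c2, .c1⟩ ⟨.c9, .c7, .c2⟩ ⟨.c11, .c4, .c14⟩ ⟨.c9,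 .c7, .c4⟩ ⟨.c11, .c4, .c16⟩ ⟨.c11, .c2, .c3⟩ ⟨.c11, .c2, .c4⟩ ⟨.c11, .c2, .c5⟩ ⟨.c9, .c9, .c2⟩ ⟨.c11, .c5, .c2⟩ ⟨.c9, .c7, .c12⟩ ⟨.c11, .c5, .c5⟩ ⟨.c11, .c0, .c9⟩) (@D3.rec (fun _ => Pt) ⟨.c9, .c7, .c14⟩ ⟨.c11, .c5, .c8⟩ ⟨.c10, .c14, .c13⟩ ⟨.c9, .c7, .c16⟩ ⟨.c11, .c5, .c10⟩ ⟨.c11, .c1, .c5⟩ ⟨.c9, .c7, .c17⟩ ⟨.c11, .c5, .c13⟩ ⟨.c11, .c1, .c2⟩ ⟨.c9, .c8, .c1⟩ ⟨.c11, .c5, .c16⟩ ⟨.c11, .c1, .c6⟩ ⟨.c9, .c8, .c4⟩ ⟨.c10, .c7, .c13⟩ ⟨.c9, .c8, .c9⟩ ⟨.c10, .c7, .c15⟩ ⟨.c10, .c7, .c16⟩ ⟨.c11, .c2, .c6⟩) (@D3.rec (fun _ => Pt) ⟨.c11, .c2, .c7⟩ ⟨.c11, .c2, .c8⟩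 ⟨.c10, .c13, .c10⟩ ⟨.c9, .c9, .c5⟩ ⟨.c10, .c8, .c4⟩ ⟨.c9, .c9, .c7⟩ ⟨.c11, .c6, .c4⟩ ⟨.c10, .c8, .c7⟩ ⟨.c9, .c9, .c10⟩ ⟨.c10, .c8, .c9⟩ ⟨.c10, .c8, .c10⟩ ⟨.c9, .c14, .c9⟩ ⟨.c9, .c9, .c16⟩ ⟨.c11, .c6, .c8⟩ ⟨.c9, .c13, .c15⟩ ⟨.c9, .c13, .c13⟩ ⟨.c9, .c10, .c3⟩ ⟨.c11, .c6, .c12⟩) (@D3.rec (fun _ => Pt) ⟨.c9, .c12, .c14⟩ ⟨.c9, .c10, .c9⟩ ⟨.c9, .c10, .c8⟩ ⟨.c11, .c6, .c15⟩ ⟨.c10, .c3, .c16⟩ ⟨.c11, .c6, .c14⟩ ⟨.c9, .c10, .c11⟩ ⟨.c9, .c13, .c16⟩ ⟨.c9, .c13, .c17⟩ ⟨.c9, .c14, .c0⟩ ⟨.c9, .c14, .c3⟩ ⟨.c9, .c14, .c4⟩ ⟨.c9, .c14, .c5⟩ ⟨.c9, .c14, .c6⟩ ⟨.c9, .c14,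 .c7⟩ ⟨.c9, .c14, .c8⟩ ⟨.c11, .c7, .c9⟩ ⟨.c10, .c9, .c17⟩) (@D3.rec (fun _ => Pt) ⟨.c11, .c7, .c11⟩ ⟨.c9, .c11, .c2⟩ ⟨.c11, .c7, .c13⟩ ⟨.c9, .c11, .c5⟩ ⟨.c11, .c7, .c15⟩ ⟨.c10, .c10, .c5⟩ ⟨.c10, .c10, .c6⟩ ⟨.c9, .c11, .c12⟩ ⟨.c11, .c8, .c2⟩ ⟨.c9, .c11, .c14⟩ ⟨.c11, .c8, .c0⟩ ⟨.c9, .c11, .c13⟩ ⟨.c11, .c8, .c4⟩ ⟨.c9, .c14, .c11⟩ ⟨.c10, .c0, .c3⟩ ⟨.c10, .c10, .c15⟩ ⟨.c11, .c8, .c10⟩ ⟨.c10, .c10, .c17⟩) (@D3.rec (fun _ => Pt) ⟨.c10, .c11, .c0⟩ ⟨.c9, .c13, .c3⟩ ⟨.c9, .c12, .c5⟩ ⟨.c9, .c13, .c1⟩ ⟨.c9, .c12, .c3⟩ ⟨.c11, .c8, .c17⟩ ⟨.c9, .c12, .c8⟩ ⟨.c9, .c12,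 .c7⟩ ⟨.c11, .c9, .c2⟩ ⟨.c11, .c9, .c1⟩ ⟨.c9, .c12, .c10⟩ ⟨.c10, .c11, .c11⟩ ⟨.c9, .c13, .c6⟩ ⟨.c11, .c6, .c13⟩ ⟨.c11, .c8, .c9⟩ ⟨.c10, .c11, .c15⟩ ⟨.c11, .c8, .c7⟩ ⟨.c9, .c12, .c16⟩) (@D3.rec (fun _ => Pt) ⟨.c11, .c9, .c9⟩ ⟨.c11, .c9, .c11⟩ ⟨.c10, .c12, .c2⟩ ⟨.c11, .c8, .c15⟩ ⟨.c11, .c7, .c17⟩ ⟨.c11, .c8, .c14⟩ ⟨.c10, .c5, .c8⟩ ⟨.c9, .c13, .c5⟩ ⟨.c11, .c10, .c1⟩ ⟨.c11, .c9, .c4⟩ ⟨.c9, .c13, .c10⟩ ⟨.c9, .c13, .c11⟩ ⟨.c9, .c13, .c9⟩ ⟨.c11, .c10, .c2⟩ ⟨.c11, .c10, .c3⟩ ⟨.c11, .c6, .c11⟩ ⟨.c11, .c6, .c10⟩ ⟨.c10, .c0, .c11⟩) (@D3.rec (fun _ => Pt) ⟨.c11,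 .c7, .c1⟩ ⟨.c11, .c7, .c2⟩ ⟨.c9, .c14, .c2⟩ ⟨.c11, .c10, .c10⟩ ⟨.c11, .c7, .c3⟩ ⟨.c11, .c7, .c4⟩ ⟨.c11, .c7, .c5⟩ ⟨.c11, .c7, .c6⟩ ⟨.c11, .c6, .c7⟩ ⟨.c11, .c8, .c6⟩ ⟨.c10, .c8, .c2⟩ ⟨.c9, .c14, .c14⟩ ⟨.c11, .c8, .c16⟩ ⟨.c9, .c14, .c16⟩ ⟨.c9, .c14, .c17⟩ ⟨.c11, .c10, .c17⟩ ⟨.c10, .c0, .c2⟩ ⟨.c11, .c11, .c1⟩) (@D3.rec (fun _ => Pt) ⟨.c10, .c0, .c4⟩ ⟨.c11, .c11, .c2⟩ ⟨.c10, .c0, .c16⟩ ⟨.c10, .c0, .c7⟩ ⟨.c11, .c11, .c5⟩ ⟨.c10, .c0, .c12⟩ ⟨.c10, .c0, .c10⟩ ⟨.c11, .c10, .c7⟩ ⟨.c11, .c11, .c6⟩ ⟨.c11, .c8, .c1⟩ ⟨.c10, .c14, .c10⟩ ⟨.c11, .c9, .c14⟩ ⟨.c10, .c1,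 .c0⟩ ⟨.c10, .c7, .c2⟩ ⟨.c11, .c11, .c4⟩ ⟨.c10, .c1, .c1⟩ ⟨.c11, .c11, .c13⟩ ⟨.c10, .c1, .c3⟩)
def f_e_11 : D2 → D3 → Pt := @D2.rec (fun _ => D3 → Pt) (@D3.rec (fun _ => Pt) ⟨.c11, .c11, .c16⟩ ⟨.c10, .c1, .c5⟩ ⟨.c11, .c12, .c0⟩ ⟨.c10, .c1, .c7⟩ ⟨.c11, .c12, .c2⟩ ⟨.c11, .c0, .c5⟩ ⟨.c10, .c1, .c9⟩ ⟨.c11, .c12, .c4⟩ ⟨.c10, .c1, .c11⟩ ⟨.c10, .c6, .c17⟩ ⟨.c10, .c1, .c14⟩ ⟨.c11, .c12, .c8⟩ ⟨.c10, .c1, .c15⟩ ⟨.c11, .c12, .c9⟩ ⟨.c11, .c7, .c8⟩ ⟨.c10, .c2, .c0⟩ ⟨.c11, .c12, .c13⟩ ⟨.c11, .c9, .c6⟩) (@D3.rec (fun _ => Pt) ⟨.c10, .c2, .c1⟩ ⟨.c11, .c12, .c16⟩ ⟨.c10,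 .c7, .c8⟩ ⟨.c10, .c2, .c3⟩ ⟨.c11, .c13, .c2⟩ ⟨.c10, .c7, .c5⟩ ⟨.c10, .c7, .c11⟩ ⟨.c10, .c2, .c6⟩ ⟨.c11, .c1, .c8⟩ ⟨.c11, .c1, .c9⟩ ⟨.c10, .c2, .c9⟩ ⟨.c10, .c2, .c13⟩ ⟨.c10, .c2, .c14⟩ ⟨.c11, .c11, .c7⟩ ⟨.c11, .c13, .c9⟩ ⟨.c11, .c1, .c15⟩ ⟨.c10, .c3, .c15⟩ ⟨.c10, .c3, .c17⟩) (@D3.rec (fun _ => Pt) ⟨.c10, .c4, .c0⟩ ⟨.c10, .c6, .c5⟩ ⟨.c10, .c6, .c4⟩ ⟨.c10, .c6, .c10⟩ ⟨.c10, .c6, .c11⟩ ⟨.c10, .c6, .c12⟩ ⟨.c10, .c7, .c17⟩ ⟨.c10, .c8, .c0⟩ ⟨.c10, .c8, .c1⟩ ⟨.c11, .c6, .c16⟩ ⟨.c11, .c13, .c12⟩ ⟨.c10, .c6, .c3⟩ ⟨.c10, .c5, .c3⟩ ⟨.c10, .c5, .c4⟩ ⟨.c11, .c9, .c8⟩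 ⟨.c11, .c2, .c15⟩ ⟨.c10, .c4, .c17⟩ ⟨.c10, .c5, .c0⟩) (@D3.rec (fun _ => Pt) ⟨.c10, .c4, .c8⟩ ⟨.c11, .c14, .c9⟩ ⟨.c10, .c4, .c10⟩ ⟨.c11, .c14, .c11⟩ ⟨.c11, .c3, .c4⟩ ⟨.c11, .c3, .c5⟩ ⟨.c11, .c3, .c6⟩ ⟨.c11, .c12, .c11⟩ ⟨.c11, .c14, .c7⟩ ⟨.c11, .c14, .c8⟩ ⟨.c10, .c5, .c1⟩ ⟨.c11, .c14, .c16⟩ ⟨.c11, .c14, .c4⟩ ⟨.c11, .c14, .c5⟩ ⟨.c11, .c13, .c0⟩ ⟨.c10, .c5, .c5⟩ ⟨.c12, .c0, .c2⟩ ⟨.c11, .c8, .c12⟩) (@D3.rec (fun _ => Pt) ⟨.c10, .c5, .c7⟩ ⟨.c12, .c0, .c5⟩ ⟨.c11, .c9, .c17⟩ ⟨.c11, .c10, .c0⟩ ⟨.c10, .c5, .c10⟩ ⟨.c10, .c5, .c13⟩ ⟨.c11, .c4, .c6⟩ ⟨.c11, .c4,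 .c7⟩ ⟨.c11, .c4, .c8⟩ ⟨.c12, .c0, .c12⟩ ⟨.c11, .c4, .c10⟩ ⟨.c11, .c14, .c3⟩ ⟨.c11, .c13, .c15⟩ ⟨.c11, .c13, .c14⟩ ⟨.c10, .c6, .c7⟩ ⟨.c12, .c0, .c13⟩ ⟨.c10, .c6, .c9⟩ ⟨.c11, .c13, .c16⟩) (@D3.rec (fun _ => Pt) ⟨.c11, .c13, .c17⟩ ⟨.c11, .c12, .c6⟩ ⟨.c10, .c6, .c14⟩ ⟨.c12, .c0, .c16⟩ ⟨.c11, .c11, .c15⟩ ⟨.c10, .c6, .c16⟩ ⟨.c12, .c1, .c1⟩ ⟨.c11, .c12, .c7⟩ ⟨.c10, .c7, .c1⟩ ⟨.c11, .c11, .c11⟩ ⟨.c10, .c7, .c4⟩ ⟨.c11, .c13, .c3⟩ ⟨.c11, .c12, .c15⟩ ⟨.c10, .c7, .c7⟩ ⟨.c12, .c1, .c6⟩ ⟨.c11, .c13, .c1⟩ ⟨.c10, .c7, .c10⟩ ⟨.c11, .c13, .c4⟩) (@D3.rec (fun _ => Pt)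 ⟨.c11, .c6, .c0⟩ ⟨.c11, .c14, .c0⟩ ⟨.c11, .c10, .c14⟩ ⟨.c11, .c6, .c3⟩ ⟨.c10, .c8, .c6⟩ ⟨.c11, .c6, .c5⟩ ⟨.c11, .c13, .c8⟩ ⟨.c10, .c13, .c8⟩ ⟨.c10, .c8, .c13⟩ ⟨.c12, .c1, .c13⟩ ⟨.c10, .c12, .c16⟩ ⟨.c10, .c12, .c15⟩ ⟨.c10, .c8, .c17⟩ ⟨.c10, .c11, .c13⟩ ⟨.c10, .c9, .c5⟩ ⟨.c10, .c9, .c3⟩ ⟨.c11, .c2, .c9⟩ ⟨.c12, .c1, .c16⟩) (@D3.rec (fun _ => Pt) ⟨.c11, .c7, .c0⟩ ⟨.c10, .c13, .c0⟩ ⟨.c10, .c13, .c1⟩ ⟨.c10, .c13, .c4⟩ ⟨.c10, .c13, .c5⟩ ⟨.c10, .c13, .c6⟩ ⟨.c10, .c13, .c7⟩ ⟨.c12, .c2, .c7⟩ ⟨.c11, .c0, .c14⟩ ⟨.c10, .c9, .c16⟩ ⟨.c12, .c2, .c9⟩ ⟨.c10, .c10, .c0⟩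 ⟨.c12, .c2, .c11⟩ ⟨.c10, .c10, .c2⟩ ⟨.c12, .c2, .c13⟩ ⟨.c10, .c10, .c4⟩ ⟨.c11, .c7, .c16⟩ ⟨.c10, .c12, .c4⟩) (@D3.rec (fun _ => Pt) ⟨.c10, .c10, .c10⟩ ⟨.c10, .c14, .c9⟩ ⟨.c10, .c10, .c8⟩ ⟨.c12, .c3, .c0⟩ ⟨.c10, .c10, .c12⟩ ⟨.c12, .c3, .c2⟩ ⟨.c10, .c13, .c9⟩ ⟨.c10, .c11, .c16⟩ ⟨.c11, .c8, .c8⟩ ⟨.c10, .c11, .c14⟩ ⟨.c10, .c10, .c16⟩ ⟨.c12, .c3, .c5⟩ ⟨.c11, .c3, .c17⟩ ⟨.c11, .c8, .c13⟩ ⟨.c10, .c12, .c5⟩ ⟨.c10, .c12, .c3⟩ ⟨.c10, .c13, .c12⟩ ⟨.c10, .c11, .c5⟩) (@D3.rec (fun _ => Pt) ⟨.c12, .c3, .c11⟩ ⟨.c10, .c11, .c9⟩ ⟨.c10, .c11, .c8⟩ ⟨.c12, .c3, .c12⟩ ⟨.c10,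 .c12, .c9⟩ ⟨.c12, .c3, .c4⟩ ⟨.c11, .c0, .c17⟩ ⟨.c12, .c3, .c3⟩ ⟨.c11, .c2, .c14⟩ ⟨.c10, .c12, .c0⟩ ⟨.c12, .c4, .c1⟩ ⟨.c10, .c12, .c1⟩ ⟨.c12, .c4, .c2⟩ ⟨.c12, .c3, .c9⟩ ⟨.c10, .c14, .c11⟩ ⟨.c12, .c2, .c16⟩ ⟨.c12, .c3, .c8⟩ ⟨.c11, .c4, .c2⟩) (@D3.rec (fun _ => Pt) ⟨.c11, .c4, .c3⟩ ⟨.c10, .c12, .c8⟩ ⟨.c10, .c12, .c13⟩ ⟨.c10, .c12, .c14⟩ ⟨.c12, .c2, .c14⟩ ⟨.c12, .c4, .c10⟩ ⟨.c12, .c1, .c14⟩ ⟨.c10, .c14, .c7⟩ ⟨.c12, .c2, .c2⟩ ⟨.c12, .c4, .c15⟩ ⟨.c10, .c13, .c3⟩ ⟨.c12, .c2, .c3⟩ ⟨.c12, .c2, .c5⟩ ⟨.c12, .c1, .c12⟩ ⟨.c11, .c6, .c2⟩ ⟨.c11, .c10, .c15⟩ ⟨.c12,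 .c3, .c10⟩ ⟨.c10, .c13, .c15⟩) (@D3.rec (fun _ => Pt) ⟨.c12, .c5, .c0⟩ ⟨.c10, .c13, .c17⟩ ⟨.c10, .c14, .c1⟩ ⟨.c12, .c5, .c2⟩ ⟨.c10, .c14, .c14⟩ ⟨.c10, .c14, .c4⟩ ⟨.c10, .c14, .c8⟩ ⟨.c11, .c1, .c13⟩ ⟨.c12, .c4, .c13⟩ ⟨.c12, .c2, .c17⟩ ⟨.c12, .c4, .c4⟩ ⟨.c11, .c5, .c9⟩ ⟨.c12, .c5, .c3⟩ ⟨.c10, .c14, .c16⟩ ⟨.c12, .c5, .c10⟩ ⟨.c11, .c5, .c4⟩ ⟨.c11, .c0, .c0⟩ ⟨.c12, .c5, .c12⟩) (@D3.rec (fun _ => Pt) ⟨.c11, .c0, .c2⟩ ⟨.c12, .c5, .c13⟩ ⟨.c11, .c0, .c4⟩ ⟨.c11, .c12, .c3⟩ ⟨.c11, .c0, .c7⟩ ⟨.c12, .c5, .c1⟩ ⟨.c11, .c5, .c1⟩ ⟨.c11, .c5, .c7⟩ ⟨.c11, .c0, .c11⟩ ⟨.c11,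 .c0, .c13⟩ ⟨.c12, .c6, .c3⟩ ⟨.c11, .c3, .c7⟩ ⟨.c12, .c2, .c8⟩ ⟨.c11, .c0, .c16⟩ ⟨.c12, .c3, .c16⟩ ⟨.c11, .c5, .c12⟩ ⟨.c11, .c1, .c1⟩ ⟨.c12, .c6, .c9⟩) (@D3.rec (fun _ => Pt) ⟨.c11, .c3, .c14⟩ ⟨.c11, .c5, .c15⟩ ⟨.c11, .c1, .c4⟩ ⟨.c11, .c5, .c11⟩ ⟨.c11, .c5, .c17⟩ ⟨.c12, .c5, .c4⟩ ⟨.c11, .c13, .c6⟩ ⟨.c11, .c13, .c7⟩ ⟨.c11, .c6, .c6⟩ ⟨.c11, .c1, .c14⟩ ⟨.c12, .c3, .c13⟩ ⟨.c12, .c5, .c6⟩ ⟨.c11, .c2, .c10⟩ ⟨.c12, .c2, .c4⟩ ⟨.c11, .c4, .c13⟩ ⟨.c11, .c4, .c12⟩ ⟨.c11, .c4, .c17⟩ ⟨.c11, .c5, .c0⟩) (@D3.rec (fun _ => Pt) ⟨.c11, .c6, .c1⟩ ⟨.c12, .c5, .c16⟩ ⟨.c12,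 .c1, .c17⟩ ⟨.c11, .c4, .c11⟩ ⟨.c11, .c3, .c12⟩ ⟨.c11, .c3, .c13⟩ ⟨.c12, .c4, .c0⟩ ⟨.c11, .c3, .c8⟩ ⟨.c11, .c3, .c9⟩ ⟨.c11, .c3, .c1⟩ ⟨.c12, .c7, .c10⟩ ⟨.c11, .c3, .c3⟩ ⟨.c11, .c14, .c12⟩ ⟨.c12, .c7, .c0⟩ ⟨.c12, .c6, .c4⟩ ⟨.c12, .c7, .c9⟩ ⟨.c11, .c3, .c11⟩ ⟨.c12, .c7, .c14⟩)
def f_e_12 : D2 → D3 → Pt := @D2.rec (fun _ => D3 → Pt) (@D3.rec (fun _ => Pt) ⟨.c12, .c7, .c7⟩ ⟨.c12, .c6, .c10⟩ ⟨.c11, .c3, .c16⟩ ⟨.c12, .c7, .c17⟩ ⟨.c12, .c3, .c7⟩ ⟨.c11, .c4, .c1⟩ ⟨.c12, .c8, .c3⟩ ⟨.c12, .c4, .c7⟩ ⟨.c12, .c4, .c8⟩ ⟨.c12, .c5, .c17⟩ ⟨.c12, .c0, .c10⟩ ⟨.c12, .c7,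 .c1⟩ ⟨.c11, .c4, .c9⟩ ⟨.c11, .c4, .c15⟩ ⟨.c12, .c7, .c4⟩ ⟨.c12, .c6, .c0⟩ ⟨.c11, .c5, .c3⟩ ⟨.c12, .c8, .c7⟩) (@D3.rec (fun _ => Pt) ⟨.c12, .c5, .c11⟩ ⟨.c11, .c5, .c6⟩ ⟨.c12, .c6, .c1⟩ ⟨.c12, .c5, .c9⟩ ⟨.c12, .c6, .c13⟩ ⟨.c12, .c6, .c8⟩ ⟨.c11, .c5, .c14⟩ ⟨.c12, .c6, .c11⟩ ⟨.c12, .c6, .c6⟩ ⟨.c12, .c1, .c9⟩ ⟨.c12, .c3, .c14⟩ ⟨.c12, .c8, .c14⟩ ⟨.c11, .c10, .c13⟩ ⟨.c11, .c6, .c9⟩ ⟨.c11, .c10, .c6⟩ ⟨.c12, .c1, .c15⟩ ⟨.c11, .c6, .c17⟩ ⟨.c11, .c14, .c2⟩) (@D3.rec (fun _ => Pt) ⟨.c12, .c9, .c2⟩ ⟨.c12, .c2, .c1⟩ ⟨.c11, .c10, .c8⟩ ⟨.c11, .c10, .c11⟩ ⟨.c11, .c13,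 .c13⟩ ⟨.c11, .c10, .c12⟩ ⟨.c12, .c8, .c17⟩ ⟨.c11, .c7, .c7⟩ ⟨.c11, .c12, .c12⟩ ⟨.c11, .c7, .c10⟩ ⟨.c12, .c9, .c4⟩ ⟨.c11, .c7, .c12⟩ ⟨.c12, .c9, .c5⟩ ⟨.c11, .c7, .c14⟩ ⟨.c11, .c10, .c4⟩ ⟨.c12, .c9, .c9⟩ ⟨.c11, .c9, .c15⟩ ⟨.c11, .c11, .c9⟩) (@D3.rec (fun _ => Pt) ⟨.c11, .c8, .c3⟩ ⟨.c12, .c9, .c12⟩ ⟨.c11, .c8, .c5⟩ ⟨.c11, .c9, .c7⟩ ⟨.c11, .c9, .c5⟩ ⟨.c11, .c8, .c11⟩ ⟨.c12, .c9, .c16⟩ ⟨.c12, .c0, .c4⟩ ⟨.c11, .c9, .c16⟩ ⟨.c11, .c9, .c13⟩ ⟨.c11, .c10, .c16⟩ ⟨.c11, .c9, .c0⟩ ⟨.c11, .c9, .c3⟩ ⟨.c11, .c13, .c10⟩ ⟨.c12, .c1, .c10⟩ ⟨.c12, .c9, .c15⟩ ⟨.c11, .c12,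 .c14⟩ ⟨.c12, .c9, .c14⟩) (@D3.rec (fun _ => Pt) ⟨.c11, .c14, .c6⟩ ⟨.c11, .c9, .c10⟩ ⟨.c11, .c9, .c12⟩ ⟨.c12, .c10, .c8⟩ ⟨.c11, .c11, .c10⟩ ⟨.c12, .c9, .c10⟩ ⟨.c12, .c10, .c11⟩ ⟨.c12, .c0, .c7⟩ ⟨.c12, .c0, .c8⟩ ⟨.c12, .c9, .c7⟩ ⟨.c11, .c10, .c5⟩ ⟨.c12, .c9, .c13⟩ ⟨.c12, .c9, .c8⟩ ⟨.c11, .c11, .c8⟩ ⟨.c12, .c10, .c15⟩ ⟨.c11, .c10, .c9⟩ ⟨.c12, .c9, .c0⟩ ⟨.c12, .c10, .c1⟩) (@D3.rec (fun _ => Pt) ⟨.c11, .c11, .c0⟩ ⟨.c11, .c12, .c5⟩ ⟨.c11, .c11, .c3⟩ ⟨.c11, .c11, .c12⟩ ⟨.c11, .c13, .c5⟩ ⟨.c12, .c10, .c3⟩ ⟨.c11, .c13, .c11⟩ ⟨.c12, .c9, .c11⟩ ⟨.c12, .c10, .c9⟩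 ⟨.c12, .c1, .c3⟩ ⟨.c11, .c11, .c14⟩ ⟨.c12, .c1, .c0⟩ ⟨.c11, .c11, .c17⟩ ⟨.c11, .c12, .c1⟩ ⟨.c12, .c11, .c1⟩ ⟨.c12, .c5, .c15⟩ ⟨.c11, .c14, .c1⟩ ⟨.c12, .c0, .c9⟩) (@D3.rec (fun _ => Pt) ⟨.c12, .c0, .c15⟩ ⟨.c12, .c1, .c2⟩ ⟨.c12, .c11, .c2⟩ ⟨.c11, .c12, .c10⟩ ⟨.c11, .c14, .c14⟩ ⟨.c12, .c9, .c3⟩ ⟨.c12, .c1, .c8⟩ ⟨.c12, .c10, .c4⟩ ⟨.c12, .c1, .c5⟩ ⟨.c11, .c12, .c17⟩ ⟨.c12, .c0, .c1⟩ ⟨.c12, .c1, .c7⟩ ⟨.c12, .c11, .c14⟩ ⟨.c12, .c1, .c4⟩ ⟨.c12, .c10, .c2⟩ ⟨.c12, .c11, .c4⟩ ⟨.c12, .c6, .c16⟩ ⟨.c12, .c12, .c8⟩) (@D3.rec (fun _ => Pt) ⟨.c11, .c14, .c13⟩ ⟨.c12,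 .c0, .c11⟩ ⟨.c12, .c11, .c0⟩ ⟨.c12, .c9, .c1⟩ ⟨.c12, .c0, .c14⟩ ⟨.c12, .c11, .c8⟩ ⟨.c12, .c10, .c16⟩ ⟨.c12, .c0, .c0⟩ ⟨.c12, .c10, .c6⟩ ⟨.c11, .c14, .c15⟩ ⟨.c11, .c14, .c10⟩ ⟨.c12, .c11, .c17⟩ ⟨.c12, .c11, .c15⟩ ⟨.c12, .c12, .c4⟩ ⟨.c11, .c14, .c17⟩ ⟨.c12, .c11, .c10⟩ ⟨.c12, .c12, .c2⟩ ⟨.c12, .c0, .c3⟩) (@D3.rec (fun _ => Pt) ⟨.c12, .c12, .c5⟩ ⟨.c12, .c9, .c17⟩ ⟨.c12, .c11, .c13⟩ ⟨.c12, .c0, .c6⟩ ⟨.c12, .c10, .c12⟩ ⟨.c12, .c11, .c6⟩ ⟨.c12, .c11, .c11⟩ ⟨.c12, .c0, .c17⟩ ⟨.c12, .c11, .c7⟩ ⟨.c12, .c11, .c9⟩ ⟨.c12, .c12, .c0⟩ ⟨.c12, .c10, .c0⟩ ⟨.c12, .c13,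 .c1⟩ ⟨.c12, .c12, .c7⟩ ⟨.c12, .c1, .c11⟩ ⟨.c12, .c8, .c15⟩ ⟨.c12, .c8, .c16⟩ ⟨.c12, .c2, .c6⟩) (@D3.rec (fun _ => Pt) ⟨.c12, .c4, .c16⟩ ⟨.c12, .c7, .c3⟩ ⟨.c12, .c2, .c0⟩ ⟨.c12, .c6, .c5⟩ ⟨.c12, .c2, .c10⟩ ⟨.c12, .c2, .c12⟩ ⟨.c12, .c13, .c5⟩ ⟨.c12, .c4, .c9⟩ ⟨.c12, .c4, .c12⟩ ⟨.c12, .c2, .c15⟩ ⟨.c12, .c4, .c5⟩ ⟨.c12, .c5, .c7⟩ ⟨.c12, .c3, .c1⟩ ⟨.c12, .c4, .c11⟩ ⟨.c12, .c3, .c17⟩ ⟨.c12, .c3, .c15⟩ ⟨.c12, .c3, .c6⟩ ⟨.c12, .c8, .c1⟩) (@D3.rec (fun _ => Pt) ⟨.c12, .c8, .c11⟩ ⟨.c12, .c4, .c17⟩ ⟨.c12, .c6, .c14⟩ ⟨.c12, .c5, .c5⟩ ⟨.c12, .c6, .c7⟩ ⟨.c12, .c13,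 .c14⟩ ⟨.c12, .c7, .c8⟩ ⟨.c12, .c13, .c3⟩ ⟨.c12, .c4, .c3⟩ ⟨.c12, .c5, .c8⟩ ⟨.c12, .c14, .c1⟩ ⟨.c12, .c4, .c6⟩ ⟨.c12, .c8, .c4⟩ ⟨.c12, .c13, .c9⟩ ⟨.c12, .c13, .c6⟩ ⟨.c12, .c4, .c14⟩ ⟨.c12, .c7, .c6⟩ ⟨.c12, .c13, .c7⟩) (@D3.rec (fun _ => Pt) ⟨.c12, .c7, .c2⟩ ⟨.c12, .c5, .c14⟩ ⟨.c12, .c6, .c2⟩ ⟨.c12, .c13, .c12⟩ ⟨.c12, .c6, .c15⟩ ⟨.c12, .c13, .c15⟩ ⟨.c12, .c8, .c5⟩ ⟨.c12, .c8, .c8⟩ ⟨.c12, .c7, .c5⟩ ⟨.c12, .c8, .c9⟩ ⟨.c12, .c7, .c15⟩ ⟨.c12, .c8, .c6⟩ ⟨.c12, .c13, .c11⟩ ⟨.c12, .c8, .c2⟩ ⟨.c12, .c6, .c12⟩ ⟨.c12, .c7, .c12⟩ ⟨.c12, .c14, .c9⟩ ⟨.c12, .c7, .c11⟩)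 (@D3.rec (fun _ => Pt) ⟨.c12, .c8, .c10⟩ ⟨.c12, .c13, .c17⟩ ⟨.c12, .c7, .c16⟩ ⟨.c12, .c14, .c11⟩ ⟨.c12, .c7, .c13⟩ ⟨.c12, .c8, .c0⟩ ⟨.c12, .c14, .c2⟩ ⟨.c12, .c8, .c13⟩ ⟨.c12, .c6, .c17⟩ ⟨.c12, .c14, .c0⟩ ⟨.c12, .c14, .c5⟩ ⟨.c12, .c14, .c4⟩ ⟨.c12, .c14, .c6⟩ ⟨.c12, .c13, .c8⟩ ⟨.c12, .c14, .c7⟩ ⟨.c12, .c13, .c13⟩ ⟨.c12, .c13, .c10⟩ ⟨.c12, .c14, .c12⟩) (@D3.rec (fun _ => Pt) ⟨.c12, .c14, .c8⟩ ⟨.c12, .c8, .c12⟩ ⟨.c12, .c14, .c13⟩ ⟨.c12, .c10, .c7⟩ ⟨.c12, .c14, .c16⟩ ⟨.c12, .c9, .c6⟩ ⟨.c12, .c10, .c14⟩ ⟨.c12, .c10, .c17⟩ ⟨.c12, .c12, .c13⟩ ⟨.c12, .c10, .c13⟩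 ⟨.c12, .c12, .c16⟩ ⟨.c12, .c11, .c12⟩ ⟨.c12, .c11, .c3⟩ ⟨.c12, .c12, .c15⟩ ⟨.c12, .c10, .c5⟩ ⟨.c12, .c11, .c5⟩ ⟨.c12, .c14, .c14⟩ ⟨.c12, .c12, .c1⟩) (@D3.rec (fun _ => Pt) ⟨.c12, .c12, .c9⟩ ⟨.c12, .c10, .c10⟩ ⟨.c12, .c12, .c6⟩ ⟨.c12, .c14, .c17⟩ ⟨.c12, .c12, .c11⟩ ⟨.c12, .c12, .c10⟩ ⟨.c12, .c12, .c12⟩ ⟨.c12, .c12, .c14⟩ ⟨.c12, .c13, .c0⟩ ⟨.c12, .c11, .c16⟩ ⟨.c12, .c14, .c15⟩ ⟨.c12, .c12, .c3⟩ ⟨.c12, .c12, .c17⟩ ⟨.c12, .c13, .c2⟩ ⟨.c12, .c13, .c16⟩ ⟨.c12, .c14, .c10⟩ ⟨.c12, .c13, .c4⟩ ⟨.c12, .c14, .c3⟩)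
def f_e : Pt → Pt := @Pt.rec (fun _ => Pt) (@D1.rec (fun _ => D2 → D3 → Pt) f_e_0 f_e_1 f_e_2 f_e_3 f_e_4 f_e_5 f_e_6 f_e_7 f_e_8 f_e_9 f_e_10 f_e_11 f_e_12)
def fi_e : Pt → Pt := f_e
def f_f_0 : D2 → D3 → Pt := @D2.rec (fun _ => D3 → Pt) (@D3.rec (fun _ => Pt) ⟨.c0, .c0, .c0⟩ ⟨.c0, .c0, .c1⟩ ⟨.c0, .c0, .c2⟩ ⟨.c0, .c0, .c3⟩ ⟨.c0, .c0, .c4⟩ ⟨.c0, .c0, .c5⟩ ⟨.c0, .c0, .c6⟩ ⟨.c0, .c0, .c7⟩ ⟨.c0, .c0, .c13⟩ ⟨.c0, .c0, .c9⟩ ⟨.c0, .c0, .c10⟩ ⟨.c0, .c1, .c1⟩ ⟨.c0, .c0, .c12⟩ ⟨.c0, .c0, .c8⟩ ⟨.c0, .c1, .c5⟩ ⟨.c0, .c0, .c15⟩ ⟨.c0, .c0, .c16⟩ ⟨.c0, .c1, .c10⟩)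 (@D3.rec (fun _ => Pt) ⟨.c0, .c1, .c0⟩ ⟨.c0, .c0, .c11⟩ ⟨.c0, .c1, .c14⟩ ⟨.c0, .c1, .c3⟩ ⟨.c0, .c1, .c4⟩ ⟨.c0, .c0, .c14⟩ ⟨.c0, .c2, .c0⟩ ⟨.c0, .c2, .c1⟩ ⟨.c0, .c2, .c5⟩ ⟨.c0, .c1, .c9⟩ ⟨.c0, .c0, .c17⟩ ⟨.c0, .c2, .c10⟩ ⟨.c0, .c1, .c12⟩ ⟨.c0, .c1, .c13⟩ ⟨.c0, .c1, .c2⟩ ⟨.c0, .c2, .c14⟩ ⟨.c0, .c2, .c15⟩ ⟨.c0, .c1, .c17⟩) (@D3.rec (fun _ => Pt) ⟨.c0, .c1, .c6⟩ ⟨.c0, .c1, .c7⟩ ⟨.c0, .c3, .c2⟩ ⟨.c0, .c3, .c4⟩ ⟨.c0, .c3, .c8⟩ ⟨.c0, .c1, .c8⟩ ⟨.c0, .c3, .c10⟩ ⟨.c0, .c2, .c7⟩ ⟨.c0, .c2, .c8⟩ ⟨.c0, .c2, .c9⟩ ⟨.c0, .c1, .c11⟩ ⟨.c0, .c3, .c14⟩ ⟨.c0, .c3, .c15⟩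 ⟨.c0, .c2, .c13⟩ ⟨.c0, .c1, .c15⟩ ⟨.c0, .c1, .c16⟩ ⟨.c0, .c4, .c1⟩ ⟨.c0, .c4, .c3⟩) (@D3.rec (fun _ => Pt) ⟨.c0, .c3, .c0⟩ ⟨.c0, .c3, .c1⟩ ⟨.c0, .c2, .c2⟩ ⟨.c0, .c3, .c3⟩ ⟨.c0, .c2, .c3⟩ ⟨.c0, .c4, .c9⟩ ⟨.c0, .c4, .c11⟩ ⟨.c0, .c4, .c13⟩ ⟨.c0, .c2, .c4⟩ ⟨.c0, .c3, .c9⟩ ⟨.c0, .c2, .c6⟩ ⟨.c0, .c5, .c1⟩ ⟨.c0, .c3, .c12⟩ ⟨.c0, .c3, .c13⟩ ⟨.c0, .c2, .c11⟩ ⟨.c0, .c2, .c12⟩ ⟨.c0, .c5, .c6⟩ ⟨.c0, .c3, .c17⟩) (@D3.rec (fun _ => Pt) ⟨.c0, .c4, .c0⟩ ⟨.c0, .c2, .c16⟩ ⟨.c0, .c4, .c2⟩ ⟨.c0, .c2, .c17⟩ ⟨.c0, .c5, .c12⟩ ⟨.c0, .c5, .c14⟩ ⟨.c0, .c4, .c6⟩ ⟨.c0, .c6, .c1⟩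 ⟨.c0, .c4, .c8⟩ ⟨.c0, .c3, .c5⟩ ⟨.c0, .c4, .c10⟩ ⟨.c0, .c3, .c6⟩ ⟨.c0, .c4, .c12⟩ ⟨.c0, .c3, .c7⟩ ⟨.c0, .c6, .c5⟩ ⟨.c0, .c6, .c8⟩ ⟨.c0, .c4, .c16⟩ ⟨.c0, .c4, .c17⟩) (@D3.rec (fun _ => Pt) ⟨.c0, .c5, .c0⟩ ⟨.c0, .c3, .c11⟩ ⟨.c0, .c5, .c2⟩ ⟨.c0, .c5, .c3⟩ ⟨.c0, .c5, .c4⟩ ⟨.c0, .c5, .c5⟩ ⟨.c0, .c3, .c16⟩ ⟨.c0, .c6, .c17⟩ ⟨.c0, .c5, .c8⟩ ⟨.c0, .c7, .c2⟩ ⟨.c0, .c5, .c10⟩ ⟨.c0, .c5, .c11⟩ ⟨.c0, .c4, .c4⟩ ⟨.c0, .c5, .c13⟩ ⟨.c0, .c4, .c5⟩ ⟨.c0, .c7, .c7⟩ ⟨.c0, .c5, .c16⟩ ⟨.c0, .c7, .c13⟩) (@D3.rec (fun _ => Pt) ⟨.c0, .c6, .c0⟩ ⟨.c0, .c4, .c7⟩ ⟨.c0, .c7, .c16⟩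 ⟨.c0, .c6, .c3⟩ ⟨.c0, .c6, .c4⟩ ⟨.c0, .c4, .c14⟩ ⟨.c0, .c6, .c6⟩ ⟨.c0, .c6, .c7⟩ ⟨.c0, .c4, .c15⟩ ⟨.c0, .c6, .c9⟩ ⟨.c0, .c8, .c2⟩ ⟨.c0, .c8, .c6⟩ ⟨.c0, .c8, .c10⟩ ⟨.c0, .c6, .c13⟩ ⟨.c0, .c8, .c11⟩ ⟨.c0, .c6, .c15⟩ ⟨.c0, .c6, .c16⟩ ⟨.c0, .c5, .c7⟩) (@D3.rec (fun _ => Pt) ⟨.c0, .c8, .c16⟩ ⟨.c0, .c7, .c1⟩ ⟨.c0, .c5, .c9⟩ ⟨.c0, .c9, .c1⟩ ⟨.c0, .c7, .c4⟩ ⟨.c0, .c7, .c5⟩ ⟨.c0, .c7, .c6⟩ ⟨.c0, .c5, .c15⟩ ⟨.c0, .c7, .c8⟩ ⟨.c0, .c9, .c6⟩ ⟨.c0, .c9, .c10⟩ ⟨.c0, .c7, .c11⟩ ⟨.c0, .c9, .c13⟩ ⟨.c0, .c5, .c17⟩ ⟨.c0, .c9, .c16⟩ ⟨.c0, .c7, .c15⟩ ⟨.c0, .c6, .c2⟩ ⟨.c0,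 .c10, .c1⟩) (@D3.rec (fun _ => Pt) ⟨.c0, .c8, .c0⟩ ⟨.c0, .c8, .c1⟩ ⟨.c0, .c6, .c10⟩ ⟨.c0, .c8, .c3⟩ ⟨.c0, .c8, .c4⟩ ⟨.c0, .c8, .c5⟩ ⟨.c0, .c6, .c11⟩ ⟨.c0, .c8, .c7⟩ ⟨.c0, .c10, .c7⟩ ⟨.c0, .c10, .c15⟩ ⟨.c0, .c6, .c12⟩ ⟨.c0, .c6, .c14⟩ ⟨.c0, .c10, .c16⟩ ⟨.c0, .c8, .c13⟩ ⟨.c0, .c8, .c14⟩ ⟨.c0, .c11, .c1⟩ ⟨.c0, .c7, .c0⟩ ⟨.c0, .c11, .c4⟩) (@D3.rec (fun _ => Pt) ⟨.c0, .c9, .c0⟩ ⟨.c0, .c7, .c3⟩ ⟨.c0, .c11, .c7⟩ ⟨.c0, .c9, .c3⟩ ⟨.c0, .c9, .c4⟩ ⟨.c0, .c9, .c5⟩ ⟨.c0, .c7, .c9⟩ ⟨.c0, .c9, .c7⟩ ⟨.c0, .c11, .c14⟩ ⟨.c0, .c11, .c16⟩ ⟨.c0, .c7, .c10⟩ ⟨.c0, .c12, .c1⟩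 ⟨.c0, .c9, .c12⟩ ⟨.c0, .c7, .c12⟩ ⟨.c0, .c12, .c5⟩ ⟨.c0, .c12, .c6⟩ ⟨.c0, .c7, .c14⟩ ⟨.c0, .c12, .c9⟩) (@D3.rec (fun _ => Pt) ⟨.c0, .c10, .c0⟩ ⟨.c0, .c7, .c17⟩ ⟨.c0, .c12, .c12⟩ ⟨.c0, .c10, .c3⟩ ⟨.c0, .c10, .c4⟩ ⟨.c0, .c10, .c5⟩ ⟨.c0, .c10, .c6⟩ ⟨.c0, .c8, .c8⟩ ⟨.c0, .c10, .c8⟩ ⟨.c0, .c10, .c9⟩ ⟨.c0, .c10, .c10⟩ ⟨.c0, .c13, .c7⟩ ⟨.c0, .c10, .c12⟩ ⟨.c0, .c13, .c1⟩ ⟨.c0, .c13, .c10⟩ ⟨.c0, .c8, .c9⟩ ⟨.c0, .c8, .c12⟩ ⟨.c0, .c13, .c12⟩) (@D3.rec (fun _ => Pt) ⟨.c0, .c11, .c0⟩ ⟨.c0, .c8, .c15⟩ ⟨.c0, .c13, .c16⟩ ⟨.c0, .c13, .c17⟩ ⟨.c0, .c8, .c17⟩ ⟨.c0, .c14,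 .c2⟩ ⟨.c0, .c11, .c6⟩ ⟨.c0, .c9, .c2⟩ ⟨.c0, .c14, .c5⟩ ⟨.c0, .c11, .c9⟩ ⟨.c0, .c11, .c10⟩ ⟨.c0, .c11, .c11⟩ ⟨.c0, .c14, .c11⟩ ⟨.c0, .c11, .c13⟩ ⟨.c0, .c9, .c8⟩ ⟨.c0, .c14, .c14⟩ ⟨.c0, .c9, .c9⟩ ⟨.c1, .c0, .c0⟩) (@D3.rec (fun _ => Pt) ⟨.c1, .c0, .c1⟩ ⟨.c0, .c9, .c11⟩ ⟨.c1, .c0, .c4⟩ ⟨.c0, .c12, .c3⟩ ⟨.c0, .c12, .c4⟩ ⟨.c0, .c9, .c14⟩ ⟨.c0, .c9, .c15⟩ ⟨.c1, .c0, .c10⟩ ⟨.c1, .c0, .c11⟩ ⟨.c0, .c9, .c17⟩ ⟨.c1, .c0, .c14⟩ ⟨.c1, .c0, .c17⟩ ⟨.c0, .c10, .c2⟩ ⟨.c1, .c1, .c0⟩ ⟨.c0, .c12, .c14⟩ ⟨.c0, .c12, .c15⟩ ⟨.c0, .c12, .c16⟩ ⟨.c0, .c12, .c17⟩) (@D3.rec (fun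 _ => Pt) ⟨.c0, .c13, .c0⟩ ⟨.c0, .c10, .c13⟩ ⟨.c1, .c1, .c11⟩ ⟨.c0, .c13, .c3⟩ ⟨.c0, .c13, .c4⟩ ⟨.c0, .c13, .c5⟩ ⟨.c1, .c1, .c17⟩ ⟨.c0, .c10, .c11⟩ ⟨.c0, .c13, .c8⟩ ⟨.c1, .c2, .c3⟩ ⟨.c0, .c10, .c14⟩ ⟨.c0, .c13, .c11⟩ ⟨.c0, .c10, .c17⟩ ⟨.c1, .c2, .c5⟩ ⟨.c0, .c13, .c14⟩ ⟨.c0, .c13, .c15⟩ ⟨.c0, .c11, .c2⟩ ⟨.c0, .c11, .c3⟩) (@D3.rec (fun _ => Pt) ⟨.c1, .c2, .c10⟩ ⟨.c1, .c2, .c11⟩ ⟨.c0, .c11, .c5⟩ ⟨.c1, .c2, .c14⟩ ⟨.c1, .c2, .c17⟩ ⟨.c0, .c11, .c8⟩ ⟨.c1, .c3, .c0⟩ ⟨.c0, .c14, .c7⟩ ⟨.c0, .c14, .c8⟩ ⟨.c0, .c14, .c9⟩ ⟨.c1, .c3, .c8⟩ ⟨.c0, .c11, .c12⟩ ⟨.c0, .c14,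 .c12⟩ ⟨.c0, .c14, .c13⟩ ⟨.c0, .c11, .c15⟩ ⟨.c1, .c3, .c12⟩ ⟨.c1, .c3, .c13⟩ ⟨.c0, .c14, .c17⟩)
def f_f_1 : D2 → D3 → Pt := @D2.rec (fun _ => D3 → Pt) (@D3.rec (fun _ => Pt) ⟨.c0, .c11, .c17⟩ ⟨.c0, .c12, .c0⟩ ⟨.c1, .c4, .c1⟩ ⟨.c1, .c4, .c2⟩ ⟨.c0, .c12, .c2⟩ ⟨.c1, .c4, .c5⟩ ⟨.c1, .c0, .c6⟩ ⟨.c1, .c4, .c9⟩ ⟨.c1, .c0, .c8⟩ ⟨.c1, .c0, .c9⟩ ⟨.c0, .c12, .c7⟩ ⟨.c0, .c12, .c8⟩ ⟨.c1, .c4, .c13⟩ ⟨.c1, .c4, .c14⟩ ⟨.c0, .c12, .c10⟩ ⟨.c1, .c5, .c0⟩ ⟨.c1, .c5, .c4⟩ ⟨.c0, .c12, .c11⟩) (@D3.rec (fun _ => Pt) ⟨.c0, .c12, .c13⟩ ⟨.c1, .c1, .c1⟩ ⟨.c1, .c5, .c6⟩ ⟨.c1, .c1,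 .c3⟩ ⟨.c1, .c1, .c4⟩ ⟨.c1, .c1, .c5⟩ ⟨.c1, .c1, .c6⟩ ⟨.c1, .c1, .c7⟩ ⟨.c1, .c1, .c8⟩ ⟨.c1, .c6, .c0⟩ ⟨.c1, .c6, .c2⟩ ⟨.c0, .c13, .c2⟩ ⟨.c1, .c1, .c12⟩ ⟨.c1, .c1, .c13⟩ ⟨.c1, .c6, .c8⟩ ⟨.c1, .c1, .c15⟩ ⟨.c1, .c6, .c11⟩ ⟨.c0, .c13, .c6⟩) (@D3.rec (fun _ => Pt) ⟨.c1, .c5, .c5⟩ ⟨.c1, .c2, .c1⟩ ⟨.c1, .c6, .c13⟩ ⟨.c0, .c13, .c9⟩ ⟨.c1, .c2, .c4⟩ ⟨.c0, .c13, .c13⟩ ⟨.c1, .c6, .c16⟩ ⟨.c1, .c2, .c7⟩ ⟨.c1, .c2, .c8⟩ ⟨.c1, .c2, .c9⟩ ⟨.c0, .c14, .c0⟩ ⟨.c0, .c14, .c1⟩ ⟨.c1, .c7, .c5⟩ ⟨.c1, .c7, .c6⟩ ⟨.c0, .c14, .c3⟩ ⟨.c1, .c7, .c10⟩ ⟨.c1, .c7, .c14⟩ ⟨.c0, .c14, .c4⟩)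 (@D3.rec (fun _ => Pt) ⟨.c0, .c14, .c6⟩ ⟨.c1, .c3, .c1⟩ ⟨.c1, .c7, .c16⟩ ⟨.c1, .c3, .c3⟩ ⟨.c1, .c3, .c4⟩ ⟨.c1, .c8, .c5⟩ ⟨.c1, .c3, .c6⟩ ⟨.c1, .c8, .c8⟩ ⟨.c0, .c14, .c10⟩ ⟨.c1, .c7, .c15⟩ ⟨.c1, .c3, .c10⟩ ⟨.c1, .c3, .c11⟩ ⟨.c0, .c14, .c15⟩ ⟨.c0, .c14, .c16⟩ ⟨.c1, .c8, .c13⟩ ⟨.c1, .c8, .c14⟩ ⟨.c1, .c8, .c15⟩ ⟨.c1, .c3, .c17⟩) (@D3.rec (fun _ => Pt) ⟨.c1, .c4, .c0⟩ ⟨.c1, .c0, .c2⟩ ⟨.c1, .c0, .c3⟩ ⟨.c1, .c9, .c5⟩ ⟨.c1, .c9, .c6⟩ ⟨.c1, .c0, .c5⟩ ⟨.c1, .c9, .c10⟩ ⟨.c1, .c9, .c14⟩ ⟨.c1, .c9, .c16⟩ ⟨.c1, .c0, .c7⟩ ⟨.c1, .c4, .c10⟩ ⟨.c1, .c4, .c11⟩ ⟨.c1, .c4,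 .c12⟩ ⟨.c1, .c0, .c12⟩ ⟨.c1, .c0, .c13⟩ ⟨.c1, .c10, .c4⟩ ⟨.c1, .c10, .c5⟩ ⟨.c1, .c10, .c11⟩) (@D3.rec (fun _ => Pt) ⟨.c1, .c0, .c15⟩ ⟨.c1, .c10, .c14⟩ ⟨.c1, .c10, .c12⟩ ⟨.c1, .c10, .c17⟩ ⟨.c1, .c0, .c16⟩ ⟨.c1, .c2, .c0⟩ ⟨.c1, .c1, .c2⟩ ⟨.c1, .c5, .c7⟩ ⟨.c1, .c11, .c1⟩ ⟨.c1, .c11, .c4⟩ ⟨.c1, .c5, .c10⟩ ⟨.c1, .c5, .c11⟩ ⟨.c1, .c5, .c12⟩ ⟨.c1, .c5, .c13⟩ ⟨.c1, .c5, .c14⟩ ⟨.c1, .c11, .c14⟩ ⟨.c1, .c5, .c16⟩ ⟨.c1, .c12, .c0⟩) (@D3.rec (fun _ => Pt) ⟨.c1, .c1, .c9⟩ ⟨.c1, .c12, .c2⟩ ⟨.c1, .c1, .c10⟩ ⟨.c1, .c9, .c17⟩ ⟨.c1, .c6, .c4⟩ ⟨.c1, .c12, .c7⟩ ⟨.c1, .c6,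 .c6⟩ ⟨.c1, .c12, .c11⟩ ⟨.c1, .c1, .c14⟩ ⟨.c1, .c6, .c9⟩ ⟨.c1, .c12, .c14⟩ ⟨.c1, .c1, .c16⟩ ⟨.c1, .c11, .c0⟩ ⟨.c1, .c2, .c2⟩ ⟨.c1, .c11, .c5⟩ ⟨.c1, .c6, .c15⟩ ⟨.c1, .c2, .c6⟩ ⟨.c1, .c6, .c17⟩) (@D3.rec (fun _ => Pt) ⟨.c1, .c12, .c17⟩ ⟨.c1, .c7, .c1⟩ ⟨.c1, .c7, .c2⟩ ⟨.c1, .c7, .c3⟩ ⟨.c1, .c7, .c4⟩ ⟨.c1, .c2, .c12⟩ ⟨.c1, .c2, .c13⟩ ⟨.c1, .c13, .c6⟩ ⟨.c1, .c13, .c7⟩ ⟨.c1, .c13, .c13⟩ ⟨.c1, .c2, .c15⟩ ⟨.c1, .c13, .c16⟩ ⟨.c1, .c13, .c14⟩ ⟨.c1, .c14, .c1⟩ ⟨.c1, .c2, .c16⟩ ⟨.c1, .c3, .c9⟩ ⟨.c1, .c3, .c2⟩ ⟨.c1, .c7, .c17⟩) (@D3.rec (fun _ => Pt) ⟨.c1, .c14, .c3⟩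 ⟨.c1, .c8, .c1⟩ ⟨.c1, .c14, .c8⟩ ⟨.c1, .c8, .c3⟩ ⟨.c1, .c14, .c12⟩ ⟨.c1, .c3, .c5⟩ ⟨.c1, .c8, .c6⟩ ⟨.c1, .c14, .c15⟩ ⟨.c1, .c3, .c7⟩ ⟨.c1, .c14, .c2⟩ ⟨.c1, .c8, .c10⟩ ⟨.c1, .c8, .c11⟩ ⟨.c1, .c8, .c12⟩ ⟨.c1, .c3, .c14⟩ ⟨.c1, .c3, .c15⟩ ⟨.c1, .c3, .c16⟩ ⟨.c1, .c8, .c16⟩ ⟨.c2, .c0, .c2⟩) (@D3.rec (fun _ => Pt) ⟨.c2, .c0, .c3⟩ ⟨.c2, .c0, .c4⟩ ⟨.c1, .c9, .c2⟩ ⟨.c1, .c9, .c3⟩ ⟨.c1, .c9, .c4⟩ ⟨.c1, .c4, .c3⟩ ⟨.c1, .c4, .c4⟩ ⟨.c2, .c0, .c13⟩ ⟨.c2, .c0, .c14⟩ ⟨.c2, .c1, .c2⟩ ⟨.c1, .c4, .c6⟩ ⟨.c2, .c1, .c5⟩ ⟨.c2, .c1, .c3⟩ ⟨.c2, .c1, .c9⟩ ⟨.c1, .c4, .c7⟩ ⟨.c2,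 .c1, .c11⟩ ⟨.c1, .c4, .c8⟩ ⟨.c1, .c6, .c3⟩) (@D3.rec (fun _ => Pt) ⟨.c1, .c10, .c0⟩ ⟨.c1, .c10, .c1⟩ ⟨.c1, .c10, .c2⟩ ⟨.c1, .c10, .c3⟩ ⟨.c1, .c4, .c15⟩ ⟨.c1, .c4, .c16⟩ ⟨.c2, .c2, .c5⟩ ⟨.c2, .c2, .c1⟩ ⟨.c2, .c2, .c8⟩ ⟨.c2, .c2, .c3⟩ ⟨.c2, .c2, .c12⟩ ⟨.c1, .c4, .c17⟩ ⟨.c1, .c5, .c2⟩ ⟨.c2, .c2, .c17⟩ ⟨.c1, .c5, .c1⟩ ⟨.c2, .c2, .c14⟩ ⟨.c2, .c3, .c2⟩ ⟨.c1, .c5, .c3⟩) (@D3.rec (fun _ => Pt) ⟨.c1, .c6, .c12⟩ ⟨.c1, .c5, .c8⟩ ⟨.c1, .c11, .c2⟩ ⟨.c1, .c11, .c3⟩ ⟨.c1, .c5, .c9⟩ ⟨.c1, .c6, .c14⟩ ⟨.c1, .c11, .c6⟩ ⟨.c1, .c11, .c7⟩ ⟨.c1, .c11, .c8⟩ ⟨.c2, .c3, .c12⟩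 ⟨.c1, .c11, .c10⟩ ⟨.c2, .c3, .c15⟩ ⟨.c1, .c11, .c12⟩ ⟨.c2, .c4, .c1⟩ ⟨.c1, .c5, .c15⟩ ⟨.c1, .c11, .c15⟩ ⟨.c2, .c4, .c5⟩ ⟨.c2, .c4, .c6⟩) (@D3.rec (fun _ => Pt) ⟨.c1, .c5, .c17⟩ ⟨.c2, .c1, .c10⟩ ⟨.c1, .c6, .c1⟩ ⟨.c2, .c3, .c9⟩ ⟨.c2, .c1, .c13⟩ ⟨.c1, .c12, .c5⟩ ⟨.c2, .c4, .c13⟩ ⟨.c1, .c6, .c5⟩ ⟨.c1, .c12, .c8⟩ ⟨.c2, .c4, .c17⟩ ⟨.c2, .c5, .c0⟩ ⟨.c1, .c6, .c7⟩ ⟨.c2, .c2, .c13⟩ ⟨.c2, .c5, .c2⟩ ⟨.c1, .c6, .c10⟩ ⟨.c2, .c3, .c3⟩ ⟨.c1, .c12, .c16⟩ ⟨.c1, .c7, .c0⟩) (@D3.rec (fun _ => Pt) ⟨.c1, .c13, .c0⟩ ⟨.c2, .c5, .c4⟩ ⟨.c1, .c13, .c2⟩ ⟨.c1, .c13, .c3⟩ ⟨.c1,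 .c13, .c4⟩ ⟨.c1, .c13, .c5⟩ ⟨.c1, .c7, .c7⟩ ⟨.c1, .c7, .c8⟩ ⟨.c2, .c5, .c17⟩ ⟨.c2, .c5, .c13⟩ ⟨.c2, .c6, .c2⟩ ⟨.c2, .c5, .c15⟩ ⟨.c2, .c6, .c6⟩ ⟨.c1, .c7, .c9⟩ ⟨.c1, .c7, .c12⟩ ⟨.c2, .c6, .c11⟩ ⟨.c1, .c7, .c11⟩ ⟨.c2, .c6, .c8⟩) (@D3.rec (fun _ => Pt) ⟨.c2, .c6, .c14⟩ ⟨.c1, .c7, .c13⟩ ⟨.c1, .c8, .c9⟩ ⟨.c1, .c8, .c0⟩ ⟨.c1, .c14, .c4⟩ ⟨.c1, .c14, .c5⟩ ⟨.c1, .c14, .c6⟩ ⟨.c2, .c7, .c4⟩ ⟨.c1, .c8, .c2⟩ ⟨.c1, .c14, .c9⟩ ⟨.c2, .c7, .c3⟩ ⟨.c2, .c7, .c2⟩ ⟨.c1, .c8, .c4⟩ ⟨.c2, .c6, .c7⟩ ⟨.c2, .c7, .c8⟩ ⟨.c1, .c8, .c7⟩ ⟨.c2, .c6, .c15⟩ ⟨.c1, .c14, .c17⟩)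
def f_f_2 : D2 → D3 → Pt := @D2.rec (fun _ => D3 → Pt) (@D3.rec (fun _ => Pt) ⟨.c2, .c0, .c0⟩ ⟨.c2, .c0, .c1⟩ ⟨.c1, .c8, .c17⟩ ⟨.c1, .c9, .c0⟩ ⟨.c1, .c9, .c1⟩ ⟨.c2, .c0, .c5⟩ ⟨.c2, .c7, .c13⟩ ⟨.c2, .c7, .c14⟩ ⟨.c2, .c7, .c15⟩ ⟨.c2, .c8, .c4⟩ ⟨.c2, .c0, .c10⟩ ⟨.c2, .c0, .c11⟩ ⟨.c2, .c0, .c12⟩ ⟨.c1, .c9, .c7⟩ ⟨.c1, .c9, .c8⟩ ⟨.c2, .c8, .c13⟩ ⟨.c2, .c8, .c9⟩ ⟨.c2, .c8, .c16⟩) (@D3.rec (fun _ => Pt) ⟨.c2, .c8, .c11⟩ ⟨.c2, .c9, .c2⟩ ⟨.c1, .c9, .c9⟩ ⟨.c1, .c9, .c12⟩ ⟨.c2, .c9, .c7⟩ ⟨.c1, .c9, .c11⟩ ⟨.c2, .c9, .c4⟩ ⟨.c2, .c9, .c11⟩ ⟨.c2, .c9, .c12⟩ ⟨.c1, .c9,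 .c13⟩ ⟨.c1, .c12, .c1⟩ ⟨.c1, .c9, .c15⟩ ⟨.c2, .c9, .c17⟩ ⟨.c1, .c12, .c4⟩ ⟨.c2, .c1, .c14⟩ ⟨.c2, .c1, .c15⟩ ⟨.c2, .c1, .c16⟩ ⟨.c2, .c1, .c17⟩) (@D3.rec (fun _ => Pt) ⟨.c2, .c10, .c7⟩ ⟨.c1, .c10, .c7⟩ ⟨.c2, .c10, .c10⟩ ⟨.c1, .c10, .c9⟩ ⟨.c2, .c10, .c14⟩ ⟨.c1, .c10, .c6⟩ ⟨.c2, .c10, .c8⟩ ⟨.c2, .c11, .c1⟩ ⟨.c1, .c10, .c8⟩ ⟨.c2, .c10, .c11⟩ ⟨.c2, .c11, .c5⟩ ⟨.c2, .c11, .c6⟩ ⟨.c1, .c10, .c10⟩ ⟨.c1, .c12, .c12⟩ ⟨.c1, .c10, .c15⟩ ⟨.c2, .c11, .c10⟩ ⟨.c2, .c11, .c11⟩ ⟨.c1, .c10, .c13⟩) (@D3.rec (fun _ => Pt) ⟨.c2, .c3, .c0⟩ ⟨.c2, .c11, .c14⟩ ⟨.c1, .c10, .c16⟩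 ⟨.c1, .c12, .c15⟩ ⟨.c2, .c3, .c4⟩ ⟨.c2, .c3, .c5⟩ ⟨.c2, .c3, .c6⟩ ⟨.c2, .c3, .c7⟩ ⟨.c2, .c3, .c8⟩ ⟨.c1, .c12, .c3⟩ ⟨.c2, .c3, .c10⟩ ⟨.c2, .c12, .c8⟩ ⟨.c1, .c11, .c9⟩ ⟨.c2, .c3, .c13⟩ ⟨.c2, .c12, .c12⟩ ⟨.c1, .c11, .c11⟩ ⟨.c2, .c3, .c16⟩ ⟨.c2, .c12, .c16⟩) (@D3.rec (fun _ => Pt) ⟨.c2, .c12, .c17⟩ ⟨.c1, .c11, .c13⟩ ⟨.c2, .c9, .c3⟩ ⟨.c2, .c13, .c3⟩ ⟨.c2, .c13, .c4⟩ ⟨.c1, .c11, .c16⟩ ⟨.c1, .c11, .c17⟩ ⟨.c2, .c12, .c4⟩ ⟨.c2, .c9, .c14⟩ ⟨.c2, .c9, .c16⟩ ⟨.c2, .c4, .c10⟩ ⟨.c2, .c13, .c10⟩ ⟨.c2, .c7, .c6⟩ ⟨.c1, .c12, .c6⟩ ⟨.c2, .c11, .c2⟩ ⟨.c2, .c13, .c9⟩ ⟨.c2,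 .c13, .c8⟩ ⟨.c1, .c12, .c9⟩) (@D3.rec (fun _ => Pt) ⟨.c1, .c12, .c10⟩ ⟨.c2, .c11, .c7⟩ ⟨.c1, .c12, .c13⟩ ⟨.c2, .c11, .c15⟩ ⟨.c1, .c13, .c1⟩ ⟨.c2, .c5, .c5⟩ ⟨.c2, .c5, .c6⟩ ⟨.c2, .c5, .c7⟩ ⟨.c2, .c5, .c8⟩ ⟨.c2, .c5, .c9⟩ ⟨.c2, .c5, .c10⟩ ⟨.c2, .c5, .c11⟩ ⟨.c2, .c14, .c6⟩ ⟨.c1, .c13, .c9⟩ ⟨.c2, .c14, .c9⟩ ⟨.c1, .c13, .c11⟩ ⟨.c2, .c14, .c13⟩ ⟨.c1, .c13, .c8⟩) (@D3.rec (fun _ => Pt) ⟨.c2, .c14, .c7⟩ ⟨.c3, .c0, .c0⟩ ⟨.c1, .c13, .c10⟩ ⟨.c2, .c14, .c10⟩ ⟨.c3, .c0, .c4⟩ ⟨.c3, .c0, .c5⟩ ⟨.c1, .c13, .c12⟩ ⟨.c1, .c14, .c13⟩ ⟨.c1, .c13, .c17⟩ ⟨.c3, .c0, .c9⟩ ⟨.c3,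 .c0, .c10⟩ ⟨.c1, .c13, .c15⟩ ⟨.c2, .c6, .c12⟩ ⟨.c3, .c0, .c13⟩ ⟨.c1, .c14, .c0⟩ ⟨.c1, .c14, .c16⟩ ⟨.c2, .c6, .c16⟩ ⟨.c2, .c6, .c17⟩) (@D3.rec (fun _ => Pt) ⟨.c2, .c7, .c0⟩ ⟨.c2, .c7, .c1⟩ ⟨.c1, .c14, .c11⟩ ⟨.c1, .c14, .c10⟩ ⟨.c1, .c14, .c7⟩ ⟨.c3, .c0, .c1⟩ ⟨.c2, .c4, .c12⟩ ⟨.c3, .c0, .c6⟩ ⟨.c1, .c14, .c14⟩ ⟨.c3, .c0, .c14⟩ ⟨.c2, .c7, .c10⟩ ⟨.c2, .c7, .c11⟩ ⟨.c2, .c7, .c12⟩ ⟨.c2, .c0, .c6⟩ ⟨.c2, .c0, .c7⟩ ⟨.c2, .c0, .c8⟩ ⟨.c3, .c1, .c8⟩ ⟨.c3, .c1, .c3⟩) (@D3.rec (fun _ => Pt) ⟨.c3, .c1, .c4⟩ ⟨.c3, .c1, .c12⟩ ⟨.c3, .c1, .c6⟩ ⟨.c3, .c1, .c16⟩ ⟨.c2, .c0,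 .c9⟩ ⟨.c2, .c8, .c5⟩ ⟨.c2, .c8, .c6⟩ ⟨.c2, .c8, .c7⟩ ⟨.c3, .c2, .c5⟩ ⟨.c2, .c0, .c16⟩ ⟨.c3, .c2, .c8⟩ ⟨.c2, .c1, .c0⟩ ⟨.c3, .c2, .c12⟩ ⟨.c2, .c0, .c15⟩ ⟨.c3, .c2, .c6⟩ ⟨.c3, .c2, .c17⟩ ⟨.c2, .c0, .c17⟩ ⟨.c3, .c2, .c9⟩) (@D3.rec (fun _ => Pt) ⟨.c3, .c3, .c3⟩ ⟨.c3, .c3, .c4⟩ ⟨.c2, .c1, .c1⟩ ⟨.c2, .c4, .c2⟩ ⟨.c2, .c1, .c6⟩ ⟨.c3, .c3, .c9⟩ ⟨.c3, .c3, .c10⟩ ⟨.c2, .c1, .c4⟩ ⟨.c2, .c9, .c8⟩ ⟨.c3, .c3, .c14⟩ ⟨.c3, .c3, .c15⟩ ⟨.c2, .c1, .c7⟩ ⟨.c2, .c1, .c8⟩ ⟨.c3, .c4, .c2⟩ ⟨.c2, .c4, .c8⟩ ⟨.c2, .c9, .c15⟩ ⟨.c2, .c4, .c9⟩ ⟨.c2, .c1, .c12⟩) (@D3.rec (fun _ => Pt)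 ⟨.c3, .c1, .c17⟩ ⟨.c2, .c10, .c1⟩ ⟨.c2, .c10, .c2⟩ ⟨.c2, .c10, .c3⟩ ⟨.c3, .c4, .c9⟩ ⟨.c2, .c10, .c5⟩ ⟨.c3, .c4, .c13⟩ ⟨.c2, .c2, .c0⟩ ⟨.c2, .c2, .c6⟩ ⟨.c3, .c5, .c0⟩ ⟨.c2, .c2, .c2⟩ ⟨.c2, .c2, .c9⟩ ⟨.c3, .c5, .c4⟩ ⟨.c3, .c5, .c5⟩ ⟨.c2, .c2, .c4⟩ ⟨.c2, .c10, .c15⟩ ⟨.c3, .c4, .c15⟩ ⟨.c3, .c5, .c10⟩) (@D3.rec (fun _ => Pt) ⟨.c3, .c5, .c11⟩ ⟨.c2, .c2, .c7⟩ ⟨.c2, .c4, .c14⟩ ⟨.c3, .c5, .c14⟩ ⟨.c3, .c5, .c16⟩ ⟨.c2, .c2, .c10⟩ ⟨.c2, .c2, .c11⟩ ⟨.c2, .c5, .c1⟩ ⟨.c3, .c6, .c3⟩ ⟨.c3, .c6, .c5⟩ ⟨.c2, .c2, .c15⟩ ⟨.c2, .c2, .c16⟩ ⟨.c3, .c6, .c9⟩ ⟨.c2, .c11, .c13⟩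 ⟨.c2, .c3, .c1⟩ ⟨.c2, .c5, .c3⟩ ⟨.c2, .c11, .c16⟩ ⟨.c2, .c11, .c17⟩) (@D3.rec (fun _ => Pt) ⟨.c2, .c12, .c0⟩ ⟨.c2, .c12, .c1⟩ ⟨.c2, .c12, .c2⟩ ⟨.c2, .c12, .c3⟩ ⟨.c2, .c4, .c7⟩ ⟨.c2, .c12, .c5⟩ ⟨.c3, .c7, .c2⟩ ⟨.c3, .c7, .c3⟩ ⟨.c2, .c3, .c11⟩ ⟨.c2, .c12, .c9⟩ ⟨.c3, .c7, .c7⟩ ⟨.c3, .c7, .c8⟩ ⟨.c2, .c3, .c14⟩ ⟨.c3, .c3, .c0⟩ ⟨.c3, .c7, .c12⟩ ⟨.c3, .c7, .c14⟩ ⟨.c2, .c3, .c17⟩ ⟨.c2, .c4, .c0⟩) (@D3.rec (fun _ => Pt) ⟨.c3, .c6, .c17⟩ ⟨.c3, .c3, .c6⟩ ⟨.c3, .c8, .c0⟩ ⟨.c2, .c4, .c3⟩ ⟨.c2, .c4, .c4⟩ ⟨.c3, .c6, .c16⟩ ⟨.c3, .c3, .c17⟩ ⟨.c3, .c4, .c1⟩ ⟨.c2, .c4,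 .c16⟩ ⟨.c2, .c4, .c15⟩ ⟨.c2, .c4, .c11⟩ ⟨.c3, .c5, .c12⟩ ⟨.c3, .c7, .c5⟩ ⟨.c3, .c5, .c17⟩ ⟨.c3, .c6, .c1⟩ ⟨.c3, .c6, .c11⟩ ⟨.c2, .c13, .c16⟩ ⟨.c2, .c13, .c17⟩) (@D3.rec (fun _ => Pt) ⟨.c2, .c14, .c0⟩ ⟨.c2, .c14, .c1⟩ ⟨.c2, .c14, .c2⟩ ⟨.c3, .c8, .c6⟩ ⟨.c2, .c14, .c4⟩ ⟨.c3, .c8, .c9⟩ ⟨.c2, .c5, .c12⟩ ⟨.c2, .c6, .c0⟩ ⟨.c3, .c8, .c14⟩ ⟨.c2, .c5, .c14⟩ ⟨.c2, .c6, .c3⟩ ⟨.c3, .c9, .c0⟩ ⟨.c3, .c9, .c1⟩ ⟨.c2, .c5, .c16⟩ ⟨.c2, .c14, .c14⟩ ⟨.c3, .c8, .c11⟩ ⟨.c3, .c9, .c4⟩ ⟨.c3, .c9, .c5⟩)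
def f_f_3 : D2 → D3 → Pt := @D2.rec (fun _ => D3 → Pt) (@D3.rec (fun _ => Pt) ⟨.c2, .c6, .c1⟩ ⟨.c2, .c7, .c5⟩ ⟨.c3, .c9, .c7⟩ ⟨.c3, .c9, .c6⟩ ⟨.c2, .c6, .c4⟩ ⟨.c2, .c6, .c5⟩ ⟨.c2, .c7, .c7⟩ ⟨.c3, .c9, .c10⟩ ⟨.c3, .c9, .c11⟩ ⟨.c2, .c6, .c9⟩ ⟨.c2, .c6, .c10⟩ ⟨.c3, .c9, .c14⟩ ⟨.c3, .c0, .c12⟩ ⟨.c2, .c6, .c13⟩ ⟨.c2, .c7, .c9⟩ ⟨.c3, .c0, .c15⟩ ⟨.c3, .c9, .c15⟩ ⟨.c3, .c0, .c17⟩) (@D3.rec (fun _ => Pt) ⟨.c3, .c1, .c0⟩ ⟨.c3, .c1, .c1⟩ ⟨.c3, .c10, .c4⟩ ⟨.c2, .c7, .c17⟩ ⟨.c2, .c8, .c0⟩ ⟨.c3, .c10, .c9⟩ ⟨.c2, .c8, .c2⟩ ⟨.c3, .c10, .c13⟩ ⟨.c2, .c7, .c16⟩ ⟨.c3, .c10,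 .c5⟩ ⟨.c3, .c10, .c7⟩ ⟨.c3, .c11, .c1⟩ ⟨.c2, .c8, .c1⟩ ⟨.c3, .c10, .c10⟩ ⟨.c3, .c11, .c4⟩ ⟨.c3, .c11, .c5⟩ ⟨.c2, .c8, .c3⟩ ⟨.c2, .c10, .c0⟩) (@D3.rec (fun _ => Pt) ⟨.c3, .c2, .c0⟩ ⟨.c3, .c2, .c1⟩ ⟨.c3, .c11, .c12⟩ ⟨.c3, .c2, .c3⟩ ⟨.c3, .c11, .c16⟩ ⟨.c2, .c8, .c8⟩ ⟨.c2, .c8, .c14⟩ ⟨.c3, .c12, .c3⟩ ⟨.c2, .c8, .c10⟩ ⟨.c2, .c8, .c17⟩ ⟨.c3, .c12, .c7⟩ ⟨.c3, .c12, .c8⟩ ⟨.c2, .c8, .c12⟩ ⟨.c3, .c2, .c13⟩ ⟨.c3, .c12, .c0⟩ ⟨.c3, .c12, .c13⟩ ⟨.c3, .c12, .c14⟩ ⟨.c2, .c8, .c15⟩) (@D3.rec (fun _ => Pt) ⟨.c2, .c12, .c13⟩ ⟨.c3, .c13, .c0⟩ ⟨.c3, .c13, .c2⟩ ⟨.c2, .c9,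 .c0⟩ ⟨.c2, .c9, .c1⟩ ⟨.c3, .c13, .c7⟩ ⟨.c2, .c13, .c1⟩ ⟨.c3, .c13, .c10⟩ ⟨.c3, .c13, .c12⟩ ⟨.c2, .c9, .c5⟩ ⟨.c2, .c9, .c6⟩ ⟨.c3, .c13, .c17⟩ ⟨.c3, .c3, .c12⟩ ⟨.c3, .c14, .c1⟩ ⟨.c2, .c9, .c9⟩ ⟨.c2, .c9, .c10⟩ ⟨.c3, .c14, .c6⟩ ⟨.c2, .c13, .c6⟩) (@D3.rec (fun _ => Pt) ⟨.c3, .c4, .c0⟩ ⟨.c2, .c13, .c7⟩ ⟨.c2, .c9, .c13⟩ ⟨.c3, .c11, .c7⟩ ⟨.c3, .c10, .c6⟩ ⟨.c3, .c4, .c5⟩ ⟨.c3, .c14, .c11⟩ ⟨.c3, .c4, .c7⟩ ⟨.c3, .c14, .c14⟩ ⟨.c2, .c10, .c4⟩ ⟨.c3, .c4, .c10⟩ ⟨.c4, .c0, .c0⟩ ⟨.c4, .c0, .c1⟩ ⟨.c2, .c10, .c6⟩ ⟨.c3, .c4, .c14⟩ ⟨.c2, .c10, .c16⟩ ⟨.c4, .c0, .c6⟩ ⟨.c4,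 .c0, .c7⟩) (@D3.rec (fun _ => Pt) ⟨.c2, .c10, .c9⟩ ⟨.c3, .c5, .c1⟩ ⟨.c4, .c0, .c11⟩ ⟨.c4, .c0, .c13⟩ ⟨.c2, .c10, .c12⟩ ⟨.c2, .c10, .c13⟩ ⟨.c4, .c1, .c0⟩ ⟨.c3, .c5, .c7⟩ ⟨.c4, .c1, .c2⟩ ⟨.c4, .c1, .c4⟩ ⟨.c2, .c10, .c17⟩ ⟨.c2, .c11, .c0⟩ ⟨.c2, .c13, .c11⟩ ⟨.c4, .c1, .c5⟩ ⟨.c2, .c11, .c3⟩ ⟨.c4, .c1, .c8⟩ ⟨.c2, .c11, .c4⟩ ⟨.c2, .c13, .c13⟩) (@D3.rec (fun _ => Pt) ⟨.c3, .c6, .c0⟩ ⟨.c2, .c13, .c14⟩ ⟨.c4, .c1, .c12⟩ ⟨.c2, .c11, .c8⟩ ⟨.c4, .c1, .c14⟩ ⟨.c2, .c11, .c9⟩ ⟨.c4, .c1, .c17⟩ ⟨.c3, .c6, .c7⟩ ⟨.c3, .c6, .c8⟩ ⟨.c2, .c11, .c12⟩ ⟨.c4, .c2, .c1⟩ ⟨.c2, .c13,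 .c15⟩ ⟨.c3, .c6, .c12⟩ ⟨.c3, .c6, .c13⟩ ⟨.c3, .c6, .c14⟩ ⟨.c3, .c6, .c15⟩ ⟨.c2, .c13, .c5⟩ ⟨.c2, .c13, .c0⟩) (@D3.rec (fun _ => Pt) ⟨.c4, .c2, .c7⟩ ⟨.c4, .c2, .c9⟩ ⟨.c2, .c12, .c6⟩ ⟨.c2, .c12, .c7⟩ ⟨.c4, .c2, .c12⟩ ⟨.c2, .c13, .c12⟩ ⟨.c4, .c2, .c15⟩ ⟨.c2, .c12, .c10⟩ ⟨.c2, .c12, .c11⟩ ⟨.c4, .c2, .c11⟩ ⟨.c3, .c12, .c16⟩ ⟨.c4, .c2, .c14⟩ ⟨.c2, .c12, .c14⟩ ⟨.c4, .c2, .c13⟩ ⟨.c2, .c12, .c15⟩ ⟨.c4, .c2, .c5⟩ ⟨.c3, .c13, .c4⟩ ⟨.c3, .c13, .c6⟩) (@D3.rec (fun _ => Pt) ⟨.c2, .c13, .c2⟩ ⟨.c4, .c2, .c4⟩ ⟨.c3, .c14, .c3⟩ ⟨.c3, .c14, .c5⟩ ⟨.c4, .c3, .c4⟩ ⟨.c4, .c3,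 .c6⟩ ⟨.c2, .c14, .c3⟩ ⟨.c4, .c3, .c9⟩ ⟨.c4, .c3, .c10⟩ ⟨.c2, .c14, .c5⟩ ⟨.c3, .c8, .c10⟩ ⟨.c2, .c14, .c15⟩ ⟨.c4, .c3, .c15⟩ ⟨.c4, .c3, .c16⟩ ⟨.c2, .c14, .c8⟩ ⟨.c3, .c8, .c15⟩ ⟨.c4, .c4, .c2⟩ ⟨.c4, .c4, .c3⟩) (@D3.rec (fun _ => Pt) ⟨.c2, .c14, .c11⟩ ⟨.c2, .c14, .c12⟩ ⟨.c4, .c4, .c7⟩ ⟨.c3, .c9, .c3⟩ ⟨.c2, .c14, .c16⟩ ⟨.c2, .c14, .c17⟩ ⟨.c3, .c0, .c3⟩ ⟨.c3, .c0, .c2⟩ ⟨.c3, .c9, .c8⟩ ⟨.c4, .c4, .c8⟩ ⟨.c3, .c0, .c7⟩ ⟨.c3, .c0, .c8⟩ ⟨.c3, .c9, .c12⟩ ⟨.c3, .c9, .c13⟩ ⟨.c3, .c0, .c11⟩ ⟨.c3, .c0, .c16⟩ ⟨.c3, .c9, .c16⟩ ⟨.c4, .c4, .c14⟩) (@D3.rec (fun _ => Pt)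 ⟨.c3, .c10, .c0⟩ ⟨.c4, .c4, .c17⟩ ⟨.c3, .c10, .c2⟩ ⟨.c4, .c5, .c3⟩ ⟨.c3, .c1, .c2⟩ ⟨.c3, .c1, .c9⟩ ⟨.c3, .c4, .c4⟩ ⟨.c3, .c1, .c10⟩ ⟨.c4, .c5, .c10⟩ ⟨.c3, .c1, .c5⟩ ⟨.c3, .c1, .c13⟩ ⟨.c4, .c5, .c13⟩ ⟨.c4, .c5, .c14⟩ ⟨.c3, .c1, .c7⟩ ⟨.c3, .c10, .c14⟩ ⟨.c4, .c5, .c5⟩ ⟨.c4, .c5, .c7⟩ ⟨.c4, .c6, .c2⟩) (@D3.rec (fun _ => Pt) ⟨.c4, .c6, .c3⟩ ⟨.c3, .c1, .c11⟩ ⟨.c4, .c6, .c5⟩ ⟨.c4, .c6, .c7⟩ ⟨.c3, .c1, .c14⟩ ⟨.c3, .c1, .c15⟩ ⟨.c4, .c6, .c12⟩ ⟨.c3, .c4, .c3⟩ ⟨.c3, .c11, .c8⟩ ⟨.c4, .c6, .c15⟩ ⟨.c3, .c11, .c10⟩ ⟨.c4, .c7, .c0⟩ ⟨.c3, .c2, .c2⟩ ⟨.c3, .c11, .c13⟩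 ⟨.c4, .c7, .c4⟩ ⟨.c4, .c7, .c5⟩ ⟨.c3, .c2, .c4⟩ ⟨.c3, .c11, .c17⟩) (@D3.rec (fun _ => Pt) ⟨.c3, .c2, .c14⟩ ⟨.c4, .c7, .c10⟩ ⟨.c4, .c7, .c11⟩ ⟨.c3, .c2, .c7⟩ ⟨.c3, .c12, .c4⟩ ⟨.c4, .c7, .c15⟩ ⟨.c4, .c7, .c17⟩ ⟨.c3, .c2, .c10⟩ ⟨.c3, .c2, .c11⟩ ⟨.c4, .c8, .c4⟩ ⟨.c3, .c12, .c10⟩ ⟨.c4, .c8, .c7⟩ ⟨.c4, .c8, .c9⟩ ⟨.c3, .c2, .c15⟩ ⟨.c3, .c2, .c16⟩ ⟨.c4, .c8, .c14⟩ ⟨.c3, .c7, .c10⟩ ⟨.c4, .c8, .c17⟩) (@D3.rec (fun _ => Pt) ⟨.c3, .c3, .c1⟩ ⟨.c4, .c9, .c2⟩ ⟨.c3, .c3, .c2⟩ ⟨.c4, .c9, .c6⟩ ⟨.c3, .c7, .c16⟩ ⟨.c4, .c6, .c10⟩ ⟨.c3, .c7, .c17⟩ ⟨.c3, .c3, .c5⟩ ⟨.c4, .c6,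 .c11⟩ ⟨.c4, .c9, .c11⟩ ⟨.c3, .c3, .c7⟩ ⟨.c4, .c9, .c14⟩ ⟨.c3, .c3, .c8⟩ ⟨.c4, .c10, .c0⟩ ⟨.c3, .c13, .c14⟩ ⟨.c3, .c13, .c15⟩ ⟨.c3, .c13, .c16⟩ ⟨.c3, .c3, .c11⟩) (@D3.rec (fun _ => Pt) ⟨.c4, .c10, .c5⟩ ⟨.c3, .c3, .c13⟩ ⟨.c4, .c10, .c8⟩ ⟨.c3, .c8, .c2⟩ ⟨.c3, .c14, .c4⟩ ⟨.c3, .c8, .c3⟩ ⟨.c3, .c3, .c16⟩ ⟨.c4, .c6, .c9⟩ ⟨.c4, .c5, .c6⟩ ⟨.c3, .c14, .c9⟩ ⟨.c3, .c14, .c10⟩ ⟨.c3, .c4, .c6⟩ ⟨.c4, .c10, .c16⟩ ⟨.c4, .c10, .c17⟩ ⟨.c3, .c4, .c8⟩ ⟨.c3, .c14, .c15⟩ ⟨.c4, .c11, .c2⟩ ⟨.c4, .c11, .c4⟩)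
def f_f_4 : D2 → D3 → Pt := @D2.rec (fun _ => D3 → Pt) (@D3.rec (fun _ => Pt) ⟨.c3, .c4, .c11⟩ ⟨.c3, .c4, .c12⟩ ⟨.c4, .c11, .c9⟩ ⟨.c4, .c0, .c3⟩ ⟨.c4, .c11, .c12⟩ ⟨.c4, .c11, .c14⟩ ⟨.c3, .c4, .c16⟩ ⟨.c3, .c4, .c17⟩ ⟨.c4, .c12, .c1⟩ ⟨.c4, .c0, .c9⟩ ⟨.c4, .c12, .c4⟩ ⟨.c3, .c5, .c2⟩ ⟨.c4, .c12, .c6⟩ ⟨.c3, .c5, .c3⟩ ⟨.c4, .c12, .c10⟩ ⟨.c4, .c0, .c15⟩ ⟨.c4, .c0, .c16⟩ ⟨.c4, .c0, .c17⟩) (@D3.rec (fun _ => Pt) ⟨.c3, .c5, .c6⟩ ⟨.c4, .c12, .c14⟩ ⟨.c3, .c5, .c8⟩ ⟨.c4, .c9, .c1⟩ ⟨.c3, .c5, .c9⟩ ⟨.c3, .c5, .c13⟩ ⟨.c4, .c1, .c6⟩ ⟨.c4, .c8, .c11⟩ ⟨.c3, .c5, .c15⟩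 ⟨.c4, .c1, .c9⟩ ⟨.c4, .c3, .c13⟩ ⟨.c4, .c12, .c16⟩ ⟨.c3, .c6, .c2⟩ ⟨.c4, .c1, .c13⟩ ⟨.c3, .c6, .c4⟩ ⟨.c4, .c13, .c1⟩ ⟨.c4, .c1, .c16⟩ ⟨.c3, .c6, .c6⟩) (@D3.rec (fun _ => Pt) ⟨.c4, .c2, .c0⟩ ⟨.c3, .c6, .c10⟩ ⟨.c4, .c2, .c2⟩ ⟨.c4, .c2, .c3⟩ ⟨.c3, .c8, .c1⟩ ⟨.c3, .c7, .c15⟩ ⟨.c4, .c13, .c9⟩ ⟨.c3, .c7, .c0⟩ ⟨.c4, .c13, .c10⟩ ⟨.c3, .c7, .c1⟩ ⟨.c4, .c13, .c8⟩ ⟨.c3, .c7, .c9⟩ ⟨.c3, .c7, .c4⟩ ⟨.c3, .c7, .c13⟩ ⟨.c3, .c7, .c11⟩ ⟨.c3, .c7, .c6⟩ ⟨.c4, .c13, .c11⟩ ⟨.c4, .c8, .c13⟩) (@D3.rec (fun _ => Pt) ⟨.c4, .c13, .c6⟩ ⟨.c4, .c13, .c7⟩ ⟨.c4, .c9, .c5⟩ ⟨.c4, .c10,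 .c7⟩ ⟨.c3, .c8, .c4⟩ ⟨.c4, .c13, .c13⟩ ⟨.c3, .c8, .c5⟩ ⟨.c4, .c3, .c7⟩ ⟨.c4, .c13, .c16⟩ ⟨.c3, .c8, .c7⟩ ⟨.c3, .c8, .c8⟩ ⟨.c4, .c14, .c3⟩ ⟨.c4, .c3, .c12⟩ ⟨.c4, .c1, .c10⟩ ⟨.c4, .c14, .c5⟩ ⟨.c3, .c8, .c12⟩ ⟨.c3, .c8, .c13⟩ ⟨.c4, .c14, .c8⟩) (@D3.rec (fun _ => Pt) ⟨.c4, .c4, .c0⟩ ⟨.c4, .c14, .c9⟩ ⟨.c3, .c8, .c16⟩ ⟨.c3, .c8, .c17⟩ ⟨.c4, .c4, .c4⟩ ⟨.c4, .c4, .c5⟩ ⟨.c4, .c4, .c6⟩ ⟨.c3, .c9, .c2⟩ ⟨.c3, .c9, .c9⟩ ⟨.c4, .c4, .c9⟩ ⟨.c4, .c4, .c10⟩ ⟨.c4, .c4, .c11⟩ ⟨.c4, .c4, .c12⟩ ⟨.c4, .c14, .c16⟩ ⟨.c3, .c9, .c17⟩ ⟨.c4, .c4, .c15⟩ ⟨.c5, .c0, .c2⟩ ⟨.c3, .c10,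 .c1⟩) (@D3.rec (fun _ => Pt) ⟨.c4, .c5, .c0⟩ ⟨.c5, .c0, .c5⟩ ⟨.c5, .c0, .c6⟩ ⟨.c3, .c10, .c3⟩ ⟨.c4, .c5, .c4⟩ ⟨.c3, .c10, .c15⟩ ⟨.c3, .c14, .c8⟩ ⟨.c3, .c10, .c16⟩ ⟨.c5, .c0, .c14⟩ ⟨.c5, .c0, .c15⟩ ⟨.c3, .c10, .c8⟩ ⟨.c5, .c1, .c0⟩ ⟨.c5, .c1, .c2⟩ ⟨.c3, .c10, .c11⟩ ⟨.c3, .c10, .c12⟩ ⟨.c5, .c1, .c7⟩ ⟨.c4, .c5, .c16⟩ ⟨.c5, .c0, .c9⟩) (@D3.rec (fun _ => Pt) ⟨.c5, .c1, .c10⟩ ⟨.c5, .c1, .c12⟩ ⟨.c3, .c10, .c17⟩ ⟨.c3, .c11, .c0⟩ ⟨.c5, .c1, .c15⟩ ⟨.c3, .c11, .c2⟩ ⟨.c5, .c2, .c0⟩ ⟨.c3, .c11, .c3⟩ ⟨.c5, .c2, .c4⟩ ⟨.c3, .c14, .c7⟩ ⟨.c3, .c13, .c5⟩ ⟨.c3, .c13, .c8⟩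 ⟨.c3, .c11, .c6⟩ ⟨.c5, .c2, .c9⟩ ⟨.c5, .c2, .c11⟩ ⟨.c3, .c11, .c9⟩ ⟨.c5, .c2, .c14⟩ ⟨.c5, .c2, .c15⟩) (@D3.rec (fun _ => Pt) ⟨.c3, .c11, .c11⟩ ⟨.c4, .c7, .c1⟩ ⟨.c5, .c3, .c1⟩ ⟨.c5, .c3, .c3⟩ ⟨.c3, .c11, .c14⟩ ⟨.c3, .c11, .c15⟩ ⟨.c5, .c3, .c8⟩ ⟨.c4, .c7, .c7⟩ ⟨.c5, .c3, .c11⟩ ⟨.c5, .c3, .c13⟩ ⟨.c3, .c12, .c1⟩ ⟨.c3, .c12, .c2⟩ ⟨.c5, .c4, .c0⟩ ⟨.c4, .c7, .c13⟩ ⟨.c5, .c4, .c3⟩ ⟨.c3, .c12, .c5⟩ ⟨.c5, .c4, .c6⟩ ⟨.c3, .c12, .c6⟩) (@D3.rec (fun _ => Pt) ⟨.c5, .c4, .c10⟩ ⟨.c4, .c8, .c1⟩ ⟨.c5, .c1, .c5⟩ ⟨.c4, .c8, .c3⟩ ⟨.c3, .c12, .c9⟩ ⟨.c5, .c4, .c15⟩ ⟨.c5, .c4,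 .c16⟩ ⟨.c3, .c12, .c11⟩ ⟨.c5, .c4, .c17⟩ ⟨.c3, .c12, .c12⟩ ⟨.c5, .c5, .c2⟩ ⟨.c4, .c1, .c7⟩ ⟨.c5, .c1, .c13⟩ ⟨.c4, .c2, .c17⟩ ⟨.c3, .c12, .c15⟩ ⟨.c5, .c2, .c8⟩ ⟨.c5, .c5, .c1⟩ ⟨.c3, .c12, .c17⟩) (@D3.rec (fun _ => Pt) ⟨.c5, .c5, .c6⟩ ⟨.c4, .c1, .c3⟩ ⟨.c3, .c13, .c1⟩ ⟨.c5, .c5, .c8⟩ ⟨.c5, .c2, .c2⟩ ⟨.c4, .c3, .c2⟩ ⟨.c3, .c13, .c3⟩ ⟨.c5, .c2, .c3⟩ ⟨.c5, .c5, .c4⟩ ⟨.c5, .c2, .c7⟩ ⟨.c5, .c5, .c12⟩ ⟨.c3, .c13, .c9⟩ ⟨.c5, .c5, .c16⟩ ⟨.c4, .c9, .c13⟩ ⟨.c3, .c13, .c11⟩ ⟨.c5, .c6, .c2⟩ ⟨.c4, .c9, .c16⟩ ⟨.c4, .c9, .c17⟩) (@D3.rec (fun _ => Pt) ⟨.c3, .c13, .c13⟩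 ⟨.c5, .c6, .c8⟩ ⟨.c5, .c0, .c11⟩ ⟨.c4, .c10, .c3⟩ ⟨.c4, .c10, .c4⟩ ⟨.c3, .c14, .c0⟩ ⟨.c4, .c10, .c6⟩ ⟨.c4, .c3, .c3⟩ ⟨.c3, .c14, .c2⟩ ⟨.c5, .c1, .c17⟩ ⟨.c5, .c0, .c10⟩ ⟨.c4, .c10, .c11⟩ ⟨.c4, .c10, .c12⟩ ⟨.c4, .c10, .c13⟩ ⟨.c4, .c10, .c14⟩ ⟨.c5, .c7, .c1⟩ ⟨.c3, .c14, .c12⟩ ⟨.c3, .c14, .c13⟩) (@D3.rec (fun _ => Pt) ⟨.c4, .c11, .c0⟩ ⟨.c5, .c7, .c6⟩ ⟨.c3, .c14, .c16⟩ ⟨.c5, .c7, .c9⟩ ⟨.c3, .c14, .c17⟩ ⟨.c5, .c7, .c13⟩ ⟨.c4, .c11, .c6⟩ ⟨.c4, .c11, .c7⟩ ⟨.c4, .c11, .c8⟩ ⟨.c4, .c0, .c2⟩ ⟨.c5, .c8, .c0⟩ ⟨.c5, .c8, .c2⟩ ⟨.c4, .c0, .c4⟩ ⟨.c5, .c8, .c3⟩ ⟨.c4, .c0,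 .c5⟩ ⟨.c5, .c8, .c7⟩ ⟨.c4, .c11, .c16⟩ ⟨.c4, .c11, .c17⟩) (@D3.rec (fun _ => Pt) ⟨.c4, .c12, .c0⟩ ⟨.c4, .c0, .c8⟩ ⟨.c5, .c7, .c15⟩ ⟨.c5, .c8, .c8⟩ ⟨.c4, .c0, .c10⟩ ⟨.c4, .c12, .c5⟩ ⟨.c4, .c0, .c12⟩ ⟨.c5, .c8, .c11⟩ ⟨.c4, .c12, .c8⟩ ⟨.c4, .c12, .c9⟩ ⟨.c4, .c0, .c14⟩ ⟨.c4, .c14, .c4⟩ ⟨.c4, .c12, .c12⟩ ⟨.c4, .c12, .c13⟩ ⟨.c4, .c1, .c1⟩ ⟨.c4, .c12, .c15⟩ ⟨.c4, .c1, .c11⟩ ⟨.c4, .c12, .c17⟩) (@D3.rec (fun _ => Pt) ⟨.c4, .c13, .c0⟩ ⟨.c4, .c1, .c15⟩ ⟨.c5, .c9, .c0⟩ ⟨.c4, .c13, .c3⟩ ⟨.c4, .c13, .c4⟩ ⟨.c5, .c9, .c2⟩ ⟨.c4, .c3, .c0⟩ ⟨.c4, .c3, .c1⟩ ⟨.c4, .c2, .c10⟩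 ⟨.c4, .c2, .c6⟩ ⟨.c4, .c2, .c8⟩ ⟨.c4, .c2, .c16⟩ ⟨.c4, .c13, .c12⟩ ⟨.c4, .c3, .c5⟩ ⟨.c4, .c13, .c14⟩ ⟨.c5, .c9, .c5⟩ ⟨.c4, .c3, .c8⟩ ⟨.c5, .c9, .c8⟩) (@D3.rec (fun _ => Pt) ⟨.c4, .c14, .c0⟩ ⟨.c4, .c14, .c1⟩ ⟨.c4, .c14, .c2⟩ ⟨.c4, .c3, .c11⟩ ⟨.c4, .c12, .c11⟩ ⟨.c4, .c3, .c14⟩ ⟨.c4, .c14, .c6⟩ ⟨.c4, .c14, .c7⟩ ⟨.c4, .c3, .c17⟩ ⟨.c4, .c4, .c1⟩ ⟨.c4, .c14, .c10⟩ ⟨.c4, .c14, .c11⟩ ⟨.c4, .c14, .c12⟩ ⟨.c4, .c14, .c13⟩ ⟨.c5, .c9, .c11⟩ ⟨.c5, .c9, .c12⟩ ⟨.c4, .c4, .c13⟩ ⟨.c4, .c14, .c17⟩)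
def f_f_5 : D2 → D3 → Pt := @D2.rec (fun _ => D3 → Pt) (@D3.rec (fun _ => Pt) ⟨.c5, .c9, .c16⟩ ⟨.c5, .c9, .c17⟩ ⟨.c4, .c4, .c16⟩ ⟨.c5, .c10, .c2⟩ ⟨.c5, .c10, .c4⟩ ⟨.c4, .c5, .c1⟩ ⟨.c4, .c5, .c2⟩ ⟨.c5, .c10, .c9⟩ ⟨.c5, .c0, .c8⟩ ⟨.c4, .c5, .c17⟩ ⟨.c4, .c10, .c10⟩ ⟨.c4, .c10, .c2⟩ ⟨.c5, .c10, .c15⟩ ⟨.c5, .c10, .c17⟩ ⟨.c4, .c5, .c8⟩ ⟨.c4, .c5, .c9⟩ ⟨.c5, .c11, .c2⟩ ⟨.c5, .c11, .c5⟩) (@D3.rec (fun _ => Pt) ⟨.c4, .c5, .c11⟩ ⟨.c5, .c11, .c8⟩ ⟨.c4, .c5, .c12⟩ ⟨.c5, .c11, .c12⟩ ⟨.c5, .c1, .c4⟩ ⟨.c4, .c8, .c2⟩ ⟨.c5, .c1, .c6⟩ ⟨.c4, .c5, .c15⟩ ⟨.c5, .c11, .c17⟩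 ⟨.c5, .c12, .c0⟩ ⟨.c4, .c6, .c0⟩ ⟨.c5, .c12, .c1⟩ ⟨.c4, .c6, .c1⟩ ⟨.c4, .c8, .c12⟩ ⟨.c5, .c12, .c3⟩ ⟨.c4, .c6, .c4⟩ ⟨.c5, .c12, .c6⟩ ⟨.c4, .c10, .c9⟩) (@D3.rec (fun _ => Pt) ⟨.c4, .c6, .c6⟩ ⟨.c5, .c12, .c5⟩ ⟨.c4, .c9, .c4⟩ ⟨.c4, .c9, .c7⟩ ⟨.c4, .c6, .c8⟩ ⟨.c5, .c12, .c10⟩ ⟨.c5, .c12, .c11⟩ ⟨.c4, .c9, .c9⟩ ⟨.c4, .c8, .c15⟩ ⟨.c4, .c6, .c13⟩ ⟨.c5, .c12, .c14⟩ ⟨.c4, .c6, .c14⟩ ⟨.c5, .c2, .c12⟩ ⟨.c5, .c13, .c0⟩ ⟨.c4, .c6, .c16⟩ ⟨.c4, .c6, .c17⟩ ⟨.c5, .c13, .c5⟩ ⟨.c5, .c2, .c17⟩) (@D3.rec (fun _ => Pt) ⟨.c5, .c13, .c8⟩ ⟨.c4, .c7, .c2⟩ ⟨.c5, .c13, .c11⟩ ⟨.c4,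 .c7, .c3⟩ ⟨.c5, .c13, .c15⟩ ⟨.c5, .c3, .c5⟩ ⟨.c5, .c10, .c7⟩ ⟨.c5, .c3, .c7⟩ ⟨.c4, .c7, .c6⟩ ⟨.c5, .c14, .c2⟩ ⟨.c5, .c14, .c4⟩ ⟨.c4, .c7, .c8⟩ ⟨.c5, .c14, .c6⟩ ⟨.c4, .c7, .c9⟩ ⟨.c5, .c14, .c10⟩ ⟨.c5, .c3, .c15⟩ ⟨.c5, .c11, .c1⟩ ⟨.c5, .c3, .c17⟩) (@D3.rec (fun _ => Pt) ⟨.c4, .c7, .c12⟩ ⟨.c5, .c14, .c15⟩ ⟨.c5, .c14, .c17⟩ ⟨.c4, .c7, .c14⟩ ⟨.c6, .c0, .c3⟩ ⟨.c5, .c4, .c5⟩ ⟨.c4, .c7, .c16⟩ ⟨.c6, .c0, .c7⟩ ⟨.c5, .c11, .c10⟩ ⟨.c5, .c4, .c9⟩ ⟨.c4, .c8, .c0⟩ ⟨.c6, .c0, .c13⟩ ⟨.c6, .c0, .c14⟩ ⟨.c5, .c11, .c15⟩ ⟨.c5, .c4, .c14⟩ ⟨.c4, .c8, .c5⟩ ⟨.c4, .c8, .c6⟩ ⟨.c4,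 .c8, .c8⟩) (@D3.rec (fun _ => Pt) ⟨.c5, .c12, .c2⟩ ⟨.c4, .c8, .c16⟩ ⟨.c4, .c8, .c10⟩ ⟨.c5, .c12, .c12⟩ ⟨.c4, .c9, .c8⟩ ⟨.c5, .c12, .c4⟩ ⟨.c4, .c9, .c0⟩ ⟨.c5, .c12, .c7⟩ ⟨.c4, .c9, .c3⟩ ⟨.c6, .c1, .c4⟩ ⟨.c5, .c12, .c9⟩ ⟨.c5, .c12, .c13⟩ ⟨.c4, .c9, .c10⟩ ⟨.c6, .c1, .c12⟩ ⟨.c5, .c5, .c14⟩ ⟨.c5, .c5, .c15⟩ ⟨.c4, .c9, .c12⟩ ⟨.c6, .c1, .c17⟩) (@D3.rec (fun _ => Pt) ⟨.c5, .c6, .c0⟩ ⟨.c5, .c6, .c1⟩ ⟨.c4, .c9, .c15⟩ ⟨.c6, .c2, .c3⟩ ⟨.c6, .c2, .c4⟩ ⟨.c5, .c10, .c12⟩ ⟨.c5, .c6, .c6⟩ ⟨.c5, .c6, .c7⟩ ⟨.c4, .c10, .c1⟩ ⟨.c5, .c10, .c13⟩ ⟨.c5, .c6, .c10⟩ ⟨.c5, .c6,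 .c11⟩ ⟨.c5, .c6, .c12⟩ ⟨.c5, .c10, .c11⟩ ⟨.c5, .c6, .c14⟩ ⟨.c5, .c6, .c15⟩ ⟨.c5, .c6, .c16⟩ ⟨.c5, .c6, .c17⟩) (@D3.rec (fun _ => Pt) ⟨.c6, .c3, .c0⟩ ⟨.c4, .c10, .c15⟩ ⟨.c5, .c7, .c2⟩ ⟨.c5, .c7, .c3⟩ ⟨.c5, .c7, .c4⟩ ⟨.c6, .c3, .c4⟩ ⟨.c4, .c11, .c1⟩ ⟨.c6, .c3, .c8⟩ ⟨.c5, .c7, .c8⟩ ⟨.c4, .c11, .c3⟩ ⟨.c6, .c3, .c11⟩ ⟨.c5, .c7, .c11⟩ ⟨.c5, .c7, .c12⟩ ⟨.c4, .c11, .c5⟩ ⟨.c6, .c3, .c13⟩ ⟨.c4, .c12, .c2⟩ ⟨.c5, .c7, .c16⟩ ⟨.c5, .c7, .c17⟩) (@D3.rec (fun _ => Pt) ⟨.c4, .c11, .c10⟩ ⟨.c6, .c3, .c14⟩ ⟨.c4, .c11, .c11⟩ ⟨.c4, .c11, .c13⟩ ⟨.c6, .c3, .c17⟩ ⟨.c5, .c8,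 .c5⟩ ⟨.c5, .c8, .c6⟩ ⟨.c4, .c11, .c15⟩ ⟨.c4, .c12, .c3⟩ ⟨.c5, .c8, .c9⟩ ⟨.c5, .c8, .c10⟩ ⟨.c4, .c12, .c7⟩ ⟨.c6, .c4, .c3⟩ ⟨.c5, .c8, .c13⟩ ⟨.c5, .c8, .c14⟩ ⟨.c5, .c8, .c15⟩ ⟨.c5, .c8, .c16⟩ ⟨.c5, .c8, .c17⟩) (@D3.rec (fun _ => Pt) ⟨.c4, .c13, .c2⟩ ⟨.c6, .c4, .c8⟩ ⟨.c4, .c13, .c5⟩ ⟨.c5, .c9, .c3⟩ ⟨.c5, .c9, .c4⟩ ⟨.c4, .c13, .c15⟩ ⟨.c5, .c9, .c6⟩ ⟨.c5, .c9, .c7⟩ ⟨.c4, .c13, .c17⟩ ⟨.c6, .c4, .c10⟩ ⟨.c6, .c4, .c12⟩ ⟨.c4, .c14, .c14⟩ ⟨.c4, .c14, .c15⟩ ⟨.c6, .c4, .c17⟩ ⟨.c5, .c9, .c14⟩ ⟨.c6, .c5, .c2⟩ ⟨.c5, .c0, .c0⟩ ⟨.c5, .c0, .c1⟩) (@D3.rec (fun _ => Pt)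 ⟨.c6, .c5, .c5⟩ ⟨.c6, .c5, .c8⟩ ⟨.c5, .c0, .c3⟩ ⟨.c6, .c5, .c11⟩ ⟨.c5, .c0, .c4⟩ ⟨.c6, .c5, .c15⟩ ⟨.c5, .c10, .c6⟩ ⟨.c5, .c3, .c6⟩ ⟨.c5, .c10, .c8⟩ ⟨.c5, .c0, .c7⟩ ⟨.c6, .c6, .c2⟩ ⟨.c5, .c6, .c13⟩ ⟨.c5, .c6, .c5⟩ ⟨.c5, .c6, .c9⟩ ⟨.c6, .c6, .c8⟩ ⟨.c5, .c0, .c12⟩ ⟨.c6, .c6, .c10⟩ ⟨.c5, .c0, .c13⟩) (@D3.rec (fun _ => Pt) ⟨.c6, .c6, .c13⟩ ⟨.c5, .c3, .c16⟩ ⟨.c5, .c0, .c16⟩ ⟨.c6, .c6, .c16⟩ ⟨.c6, .c7, .c0⟩ ⟨.c5, .c0, .c17⟩ ⟨.c6, .c7, .c4⟩ ⟨.c5, .c11, .c7⟩ ⟨.c5, .c1, .c1⟩ ⟨.c6, .c7, .c8⟩ ⟨.c5, .c4, .c8⟩ ⟨.c5, .c11, .c11⟩ ⟨.c5, .c1, .c3⟩ ⟨.c6, .c7, .c14⟩ ⟨.c6,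 .c7, .c15⟩ ⟨.c5, .c4, .c13⟩ ⟨.c5, .c11, .c16⟩ ⟨.c5, .c1, .c8⟩) (@D3.rec (fun _ => Pt) ⟨.c5, .c1, .c9⟩ ⟨.c5, .c1, .c11⟩ ⟨.c5, .c5, .c0⟩ ⟨.c5, .c1, .c14⟩ ⟨.c5, .c5, .c5⟩ ⟨.c5, .c2, .c1⟩ ⟨.c5, .c1, .c16⟩ ⟨.c5, .c5, .c7⟩ ⟨.c6, .c8, .c8⟩ ⟨.c5, .c5, .c10⟩ ⟨.c5, .c2, .c5⟩ ⟨.c5, .c2, .c6⟩ ⟨.c5, .c5, .c3⟩ ⟨.c5, .c5, .c11⟩ ⟨.c5, .c2, .c10⟩ ⟨.c6, .c8, .c14⟩ ⟨.c5, .c12, .c16⟩ ⟨.c6, .c8, .c16⟩) (@D3.rec (fun _ => Pt) ⟨.c5, .c2, .c13⟩ ⟨.c6, .c9, .c2⟩ ⟨.c5, .c13, .c2⟩ ⟨.c6, .c5, .c4⟩ ⟨.c5, .c13, .c4⟩ ⟨.c5, .c2, .c16⟩ ⟨.c6, .c9, .c7⟩ ⟨.c6, .c9, .c9⟩ ⟨.c5, .c3, .c0⟩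 ⟨.c6, .c9, .c13⟩ ⟨.c5, .c13, .c10⟩ ⟨.c5, .c3, .c2⟩ ⟨.c6, .c9, .c17⟩ ⟨.c6, .c5, .c13⟩ ⟨.c5, .c13, .c14⟩ ⟨.c5, .c3, .c4⟩ ⟨.c6, .c10, .c5⟩ ⟨.c6, .c10, .c6⟩) (@D3.rec (fun _ => Pt) ⟨.c6, .c6, .c0⟩ ⟨.c5, .c14, .c1⟩ ⟨.c5, .c3, .c9⟩ ⟨.c6, .c10, .c12⟩ ⟨.c5, .c3, .c10⟩ ⟨.c6, .c10, .c15⟩ ⟨.c5, .c3, .c12⟩ ⟨.c6, .c11, .c1⟩ ⟨.c6, .c6, .c12⟩ ⟨.c5, .c14, .c9⟩ ⟨.c5, .c3, .c14⟩ ⟨.c6, .c11, .c7⟩ ⟨.c6, .c8, .c10⟩ ⟨.c6, .c6, .c15⟩ ⟨.c5, .c14, .c14⟩ ⟨.c5, .c4, .c1⟩ ⟨.c6, .c11, .c12⟩ ⟨.c5, .c4, .c2⟩)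
def f_f_6 : D2 → D3 → Pt := @D2.rec (fun _ => D3 → Pt) (@D3.rec (fun _ => Pt) ⟨.c6, .c11, .c15⟩ ⟨.c6, .c7, .c2⟩ ⟨.c6, .c0, .c2⟩ ⟨.c5, .c4, .c4⟩ ⟨.c6, .c12, .c2⟩ ⟨.c6, .c7, .c6⟩ ⟨.c6, .c0, .c6⟩ ⟨.c5, .c4, .c7⟩ ⟨.c6, .c12, .c7⟩ ⟨.c6, .c12, .c8⟩ ⟨.c6, .c12, .c11⟩ ⟨.c6, .c7, .c12⟩ ⟨.c6, .c0, .c12⟩ ⟨.c5, .c4, .c11⟩ ⟨.c5, .c4, .c12⟩ ⟨.c6, .c11, .c9⟩ ⟨.c6, .c7, .c17⟩ ⟨.c6, .c8, .c0⟩) (@D3.rec (fun _ => Pt) ⟨.c6, .c1, .c0⟩ ⟨.c6, .c8, .c2⟩ ⟨.c6, .c8, .c3⟩ ⟨.c6, .c8, .c4⟩ ⟨.c5, .c5, .c9⟩ ⟨.c6, .c8, .c6⟩ ⟨.c6, .c8, .c7⟩ ⟨.c6, .c8, .c5⟩ ⟨.c6, .c8, .c9⟩ ⟨.c6, .c8,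 .c11⟩ ⟨.c6, .c1, .c10⟩ ⟨.c6, .c1, .c11⟩ ⟨.c5, .c5, .c13⟩ ⟨.c6, .c13, .c9⟩ ⟨.c6, .c6, .c3⟩ ⟨.c6, .c1, .c15⟩ ⟨.c6, .c1, .c16⟩ ⟨.c5, .c5, .c17⟩) (@D3.rec (fun _ => Pt) ⟨.c6, .c6, .c4⟩ ⟨.c6, .c2, .c1⟩ ⟨.c6, .c2, .c2⟩ ⟨.c5, .c6, .c3⟩ ⟨.c5, .c6, .c4⟩ ⟨.c6, .c14, .c3⟩ ⟨.c6, .c14, .c2⟩ ⟨.c6, .c6, .c5⟩ ⟨.c6, .c2, .c8⟩ ⟨.c6, .c2, .c9⟩ ⟨.c6, .c2, .c10⟩ ⟨.c6, .c6, .c6⟩ ⟨.c6, .c2, .c12⟩ ⟨.c6, .c2, .c13⟩ ⟨.c6, .c2, .c14⟩ ⟨.c6, .c2, .c15⟩ ⟨.c6, .c2, .c16⟩ ⟨.c6, .c2, .c17⟩) (@D3.rec (fun _ => Pt) ⟨.c5, .c7, .c0⟩ ⟨.c6, .c3, .c1⟩ ⟨.c6, .c3, .c2⟩ ⟨.c6, .c14, .c15⟩ ⟨.c5,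 .c7, .c5⟩ ⟨.c7, .c0, .c0⟩ ⟨.c6, .c3, .c6⟩ ⟨.c6, .c3, .c7⟩ ⟨.c5, .c7, .c7⟩ ⟨.c6, .c3, .c9⟩ ⟨.c6, .c3, .c10⟩ ⟨.c5, .c7, .c10⟩ ⟨.c7, .c0, .c2⟩ ⟨.c5, .c7, .c14⟩ ⟨.c5, .c8, .c1⟩ ⟨.c6, .c3, .c15⟩ ⟨.c6, .c3, .c16⟩ ⟨.c5, .c8, .c4⟩) (@D3.rec (fun _ => Pt) ⟨.c6, .c4, .c0⟩ ⟨.c6, .c4, .c1⟩ ⟨.c6, .c4, .c2⟩ ⟨.c5, .c8, .c12⟩ ⟨.c7, .c0, .c8⟩ ⟨.c6, .c4, .c5⟩ ⟨.c6, .c4, .c6⟩ ⟨.c7, .c0, .c11⟩ ⟨.c5, .c9, .c1⟩ ⟨.c7, .c0, .c13⟩ ⟨.c5, .c9, .c9⟩ ⟨.c7, .c0, .c16⟩ ⟨.c5, .c9, .c10⟩ ⟨.c7, .c1, .c2⟩ ⟨.c6, .c4, .c14⟩ ⟨.c6, .c4, .c15⟩ ⟨.c6, .c4, .c16⟩ ⟨.c5, .c9, .c13⟩) (@D3.rec (fun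 _ => Pt) ⟨.c7, .c1, .c7⟩ ⟨.c7, .c1, .c8⟩ ⟨.c5, .c9, .c15⟩ ⟨.c7, .c1, .c11⟩ ⟨.c5, .c13, .c3⟩ ⟨.c5, .c10, .c0⟩ ⟨.c7, .c1, .c14⟩ ⟨.c7, .c1, .c16⟩ ⟨.c5, .c10, .c1⟩ ⟨.c7, .c2, .c2⟩ ⟨.c6, .c5, .c10⟩ ⟨.c5, .c10, .c3⟩ ⟨.c7, .c2, .c6⟩ ⟨.c5, .c13, .c13⟩ ⟨.c6, .c5, .c14⟩ ⟨.c5, .c10, .c5⟩ ⟨.c7, .c2, .c12⟩ ⟨.c7, .c2, .c13⟩) (@D3.rec (fun _ => Pt) ⟨.c5, .c14, .c0⟩ ⟨.c6, .c6, .c1⟩ ⟨.c5, .c10, .c10⟩ ⟨.c6, .c1, .c14⟩ ⟨.c6, .c2, .c0⟩ ⟨.c6, .c2, .c7⟩ ⟨.c6, .c2, .c11⟩ ⟨.c7, .c3, .c5⟩ ⟨.c5, .c10, .c14⟩ ⟨.c7, .c3, .c8⟩ ⟨.c5, .c10, .c16⟩ ⟨.c7, .c3, .c11⟩ ⟨.c5, .c14, .c8⟩ ⟨.c5,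 .c11, .c0⟩ ⟨.c7, .c3, .c15⟩ ⟨.c5, .c14, .c13⟩ ⟨.c5, .c11, .c3⟩ ⟨.c7, .c3, .c17⟩) (@D3.rec (fun _ => Pt) ⟨.c5, .c11, .c4⟩ ⟨.c7, .c4, .c3⟩ ⟨.c6, .c0, .c1⟩ ⟨.c6, .c7, .c3⟩ ⟨.c5, .c11, .c6⟩ ⟨.c7, .c4, .c9⟩ ⟨.c6, .c0, .c5⟩ ⟨.c6, .c7, .c7⟩ ⟨.c5, .c11, .c9⟩ ⟨.c7, .c4, .c14⟩ ⟨.c7, .c4, .c15⟩ ⟨.c7, .c5, .c0⟩ ⟨.c6, .c0, .c11⟩ ⟨.c6, .c7, .c13⟩ ⟨.c5, .c11, .c13⟩ ⟨.c5, .c11, .c14⟩ ⟨.c7, .c5, .c5⟩ ⟨.c6, .c0, .c16⟩) (@D3.rec (fun _ => Pt) ⟨.c6, .c0, .c17⟩ ⟨.c6, .c8, .c1⟩ ⟨.c6, .c1, .c1⟩ ⟨.c6, .c1, .c2⟩ ⟨.c6, .c1, .c3⟩ ⟨.c6, .c1, .c7⟩ ⟨.c6, .c1, .c5⟩ ⟨.c6, .c1, .c6⟩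 ⟨.c5, .c12, .c8⟩ ⟨.c6, .c1, .c8⟩ ⟨.c5, .c14, .c12⟩ ⟨.c6, .c1, .c9⟩ ⟨.c6, .c8, .c12⟩ ⟨.c6, .c8, .c13⟩ ⟨.c5, .c12, .c15⟩ ⟨.c7, .c6, .c2⟩ ⟨.c5, .c12, .c17⟩ ⟨.c7, .c6, .c5⟩) (@D3.rec (fun _ => Pt) ⟨.c7, .c1, .c10⟩ ⟨.c6, .c9, .c1⟩ ⟨.c5, .c13, .c1⟩ ⟨.c7, .c6, .c10⟩ ⟨.c7, .c5, .c15⟩ ⟨.c7, .c1, .c13⟩ ⟨.c6, .c9, .c6⟩ ⟨.c5, .c13, .c6⟩ ⟨.c7, .c6, .c15⟩ ⟨.c5, .c13, .c7⟩ ⟨.c7, .c7, .c1⟩ ⟨.c7, .c2, .c0⟩ ⟨.c6, .c9, .c12⟩ ⟨.c5, .c13, .c9⟩ ⟨.c7, .c7, .c7⟩ ⟨.c7, .c2, .c4⟩ ⟨.c6, .c9, .c16⟩ ⟨.c5, .c13, .c12⟩) (@D3.rec (fun _ => Pt) ⟨.c7, .c7, .c12⟩ ⟨.c7, .c7, .c13⟩ ⟨.c7,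 .c7, .c16⟩ ⟨.c7, .c2, .c10⟩ ⟨.c6, .c10, .c4⟩ ⟨.c5, .c13, .c16⟩ ⟨.c5, .c13, .c17⟩ ⟨.c7, .c8, .c3⟩ ⟨.c7, .c2, .c15⟩ ⟨.c7, .c2, .c16⟩ ⟨.c6, .c10, .c10⟩ ⟨.c7, .c8, .c8⟩ ⟨.c5, .c14, .c3⟩ ⟨.c7, .c8, .c10⟩ ⟨.c7, .c3, .c7⟩ ⟨.c5, .c14, .c5⟩ ⟨.c7, .c8, .c13⟩ ⟨.c7, .c3, .c10⟩) (@D3.rec (fun _ => Pt) ⟨.c6, .c11, .c0⟩ ⟨.c5, .c14, .c7⟩ ⟨.c7, .c9, .c0⟩ ⟨.c7, .c9, .c1⟩ ⟨.c7, .c5, .c11⟩ ⟨.c7, .c3, .c14⟩ ⟨.c6, .c11, .c6⟩ ⟨.c5, .c14, .c11⟩ ⟨.c7, .c5, .c6⟩ ⟨.c6, .c0, .c15⟩ ⟨.c7, .c3, .c16⟩ ⟨.c6, .c11, .c11⟩ ⟨.c5, .c14, .c16⟩ ⟨.c7, .c4, .c1⟩ ⟨.c6, .c11, .c14⟩ ⟨.c6, .c0,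 .c0⟩ ⟨.c7, .c9, .c13⟩ ⟨.c7, .c5, .c10⟩) (@D3.rec (fun _ => Pt) ⟨.c7, .c4, .c7⟩ ⟨.c6, .c12, .c1⟩ ⟨.c6, .c0, .c4⟩ ⟨.c7, .c4, .c10⟩ ⟨.c7, .c10, .c1⟩ ⟨.c7, .c4, .c12⟩ ⟨.c6, .c12, .c6⟩ ⟨.c6, .c0, .c8⟩ ⟨.c6, .c0, .c9⟩ ⟨.c7, .c10, .c9⟩ ⟨.c7, .c10, .c8⟩ ⟨.c6, .c0, .c10⟩ ⟨.c7, .c9, .c4⟩ ⟨.c7, .c5, .c2⟩ ⟨.c7, .c5, .c3⟩ ⟨.c6, .c12, .c15⟩ ⟨.c7, .c9, .c8⟩ ⟨.c7, .c5, .c8⟩) (@D3.rec (fun _ => Pt) ⟨.c7, .c5, .c9⟩ ⟨.c7, .c5, .c12⟩ ⟨.c7, .c5, .c13⟩ ⟨.c7, .c4, .c6⟩ ⟨.c7, .c5, .c14⟩ ⟨.c7, .c5, .c16⟩ ⟨.c7, .c3, .c0⟩ ⟨.c6, .c13, .c7⟩ ⟨.c6, .c13, .c8⟩ ⟨.c6, .c1, .c13⟩ ⟨.c7,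 .c3, .c1⟩ ⟨.c6, .c13, .c11⟩ ⟨.c6, .c13, .c12⟩ ⟨.c6, .c13, .c13⟩ ⟨.c7, .c3, .c2⟩ ⟨.c6, .c13, .c15⟩ ⟨.c6, .c13, .c16⟩ ⟨.c6, .c13, .c17⟩) (@D3.rec (fun _ => Pt) ⟨.c6, .c14, .c0⟩ ⟨.c7, .c12, .c0⟩ ⟨.c6, .c2, .c6⟩ ⟨.c6, .c2, .c5⟩ ⟨.c7, .c12, .c3⟩ ⟨.c7, .c3, .c3⟩ ⟨.c6, .c14, .c6⟩ ⟨.c6, .c14, .c7⟩ ⟨.c6, .c14, .c8⟩ ⟨.c6, .c14, .c9⟩ ⟨.c6, .c14, .c10⟩ ⟨.c6, .c14, .c11⟩ ⟨.c6, .c14, .c12⟩ ⟨.c6, .c14, .c13⟩ ⟨.c6, .c14, .c14⟩ ⟨.c6, .c3, .c3⟩ ⟨.c6, .c14, .c16⟩ ⟨.c6, .c14, .c17⟩)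
def f_f_7 : D2 → D3 → Pt := @D2.rec (fun _ => D3 → Pt) (@D3.rec (fun _ => Pt) ⟨.c6, .c3, .c5⟩ ⟨.c7, .c0, .c1⟩ ⟨.c6, .c3, .c12⟩ ⟨.c7, .c12, .c12⟩ ⟨.c7, .c0, .c4⟩ ⟨.c7, .c0, .c5⟩ ⟨.c7, .c0, .c6⟩ ⟨.c7, .c12, .c17⟩ ⟨.c6, .c4, .c4⟩ ⟨.c7, .c0, .c9⟩ ⟨.c7, .c13, .c0⟩ ⟨.c6, .c4, .c7⟩ ⟨.c7, .c13, .c2⟩ ⟨.c6, .c4, .c9⟩ ⟨.c7, .c13, .c6⟩ ⟨.c7, .c0, .c15⟩ ⟨.c6, .c4, .c11⟩ ⟨.c7, .c13, .c8⟩) (@D3.rec (fun _ => Pt) ⟨.c7, .c1, .c0⟩ ⟨.c7, .c1, .c1⟩ ⟨.c6, .c4, .c13⟩ ⟨.c7, .c13, .c13⟩ ⟨.c7, .c13, .c1⟩ ⟨.c7, .c1, .c5⟩ ⟨.c7, .c1, .c6⟩ ⟨.c6, .c5, .c0⟩ ⟨.c6, .c5, .c1⟩ ⟨.c7, .c14,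 .c1⟩ ⟨.c6, .c9, .c0⟩ ⟨.c6, .c5, .c3⟩ ⟨.c7, .c14, .c5⟩ ⟨.c6, .c9, .c5⟩ ⟨.c6, .c5, .c6⟩ ⟨.c7, .c14, .c8⟩ ⟨.c6, .c5, .c7⟩ ⟨.c7, .c14, .c12⟩) (@D3.rec (fun _ => Pt) ⟨.c6, .c9, .c11⟩ ⟨.c7, .c2, .c1⟩ ⟨.c6, .c5, .c9⟩ ⟨.c8, .c0, .c0⟩ ⟨.c6, .c9, .c15⟩ ⟨.c7, .c2, .c5⟩ ⟨.c6, .c5, .c12⟩ ⟨.c8, .c0, .c5⟩ ⟨.c8, .c0, .c6⟩ ⟨.c8, .c0, .c9⟩ ⟨.c6, .c10, .c3⟩ ⟨.c7, .c2, .c11⟩ ⟨.c6, .c5, .c16⟩ ⟨.c6, .c5, .c17⟩ ⟨.c8, .c0, .c14⟩ ⟨.c6, .c10, .c8⟩ ⟨.c6, .c10, .c9⟩ ⟨.c7, .c2, .c17⟩) (@D3.rec (fun _ => Pt) ⟨.c6, .c13, .c6⟩ ⟨.c6, .c13, .c10⟩ ⟨.c6, .c13, .c14⟩ ⟨.c6, .c14, .c5⟩ ⟨.c8,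 .c1, .c6⟩ ⟨.c6, .c6, .c7⟩ ⟨.c8, .c1, .c9⟩ ⟨.c6, .c10, .c14⟩ ⟨.c6, .c6, .c9⟩ ⟨.c8, .c1, .c13⟩ ⟨.c6, .c10, .c17⟩ ⟨.c6, .c6, .c11⟩ ⟨.c8, .c1, .c16⟩ ⟨.c8, .c1, .c17⟩ ⟨.c6, .c11, .c5⟩ ⟨.c6, .c6, .c14⟩ ⟨.c6, .c11, .c10⟩ ⟨.c6, .c6, .c17⟩) (@D3.rec (fun _ => Pt) ⟨.c8, .c2, .c5⟩ ⟨.c6, .c11, .c13⟩ ⟨.c7, .c4, .c2⟩ ⟨.c6, .c7, .c1⟩ ⟨.c8, .c2, .c11⟩ ⟨.c8, .c2, .c12⟩ ⟨.c6, .c13, .c3⟩ ⟨.c6, .c12, .c0⟩ ⟨.c7, .c4, .c8⟩ ⟨.c6, .c7, .c5⟩ ⟨.c6, .c12, .c3⟩ ⟨.c8, .c3, .c2⟩ ⟨.c6, .c12, .c5⟩ ⟨.c7, .c4, .c13⟩ ⟨.c6, .c7, .c9⟩ ⟨.c6, .c7, .c10⟩ ⟨.c8, .c3, .c10⟩ ⟨.c8, .c3, .c9⟩) (@D3.rec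 (fun _ => Pt) ⟨.c6, .c7, .c11⟩ ⟨.c8, .c3, .c13⟩ ⟨.c6, .c12, .c13⟩ ⟨.c6, .c12, .c14⟩ ⟨.c7, .c5, .c4⟩ ⟨.c6, .c7, .c16⟩ ⟨.c6, .c11, .c8⟩ ⟨.c8, .c4, .c0⟩ ⟨.c6, .c12, .c17⟩ ⟨.c6, .c13, .c0⟩ ⟨.c6, .c11, .c17⟩ ⟨.c6, .c11, .c4⟩ ⟨.c6, .c13, .c1⟩ ⟨.c6, .c13, .c2⟩ ⟨.c6, .c13, .c4⟩ ⟨.c6, .c9, .c4⟩ ⟨.c6, .c13, .c5⟩ ⟨.c8, .c1, .c1⟩) (@D3.rec (fun _ => Pt) ⟨.c7, .c6, .c0⟩ ⟨.c7, .c6, .c1⟩ ⟨.c6, .c8, .c15⟩ ⟨.c7, .c14, .c0⟩ ⟨.c7, .c6, .c4⟩ ⟨.c6, .c8, .c17⟩ ⟨.c8, .c5, .c0⟩ ⟨.c8, .c4, .c8⟩ ⟨.c7, .c14, .c4⟩ ⟨.c7, .c6, .c9⟩ ⟨.c6, .c9, .c3⟩ ⟨.c8, .c4, .c1⟩ ⟨.c7, .c14, .c6⟩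 ⟨.c7, .c14, .c7⟩ ⟨.c7, .c6, .c14⟩ ⟨.c6, .c9, .c8⟩ ⟨.c8, .c5, .c10⟩ ⟨.c7, .c14, .c10⟩) (@D3.rec (fun _ => Pt) ⟨.c7, .c7, .c0⟩ ⟨.c6, .c9, .c10⟩ ⟨.c8, .c5, .c16⟩ ⟨.c8, .c5, .c17⟩ ⟨.c8, .c6, .c1⟩ ⟨.c7, .c14, .c16⟩ ⟨.c7, .c7, .c6⟩ ⟨.c6, .c9, .c14⟩ ⟨.c8, .c0, .c1⟩ ⟨.c8, .c6, .c8⟩ ⟨.c8, .c0, .c3⟩ ⟨.c7, .c7, .c11⟩ ⟨.c6, .c10, .c0⟩ ⟨.c6, .c10, .c1⟩ ⟨.c8, .c6, .c16⟩ ⟨.c8, .c6, .c15⟩ ⟨.c6, .c10, .c2⟩ ⟨.c8, .c7, .c0⟩) (@D3.rec (fun _ => Pt) ⟨.c8, .c0, .c11⟩ ⟨.c8, .c0, .c12⟩ ⟨.c7, .c8, .c2⟩ ⟨.c6, .c10, .c7⟩ ⟨.c8, .c5, .c7⟩ ⟨.c8, .c7, .c5⟩ ⟨.c8, .c0, .c17⟩ ⟨.c8, .c1,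 .c0⟩ ⟨.c6, .c10, .c11⟩ ⟨.c8, .c1, .c8⟩ ⟨.c6, .c10, .c13⟩ ⟨.c8, .c7, .c11⟩ ⟨.c8, .c1, .c12⟩ ⟨.c6, .c10, .c16⟩ ⟨.c8, .c1, .c14⟩ ⟨.c8, .c2, .c7⟩ ⟨.c8, .c1, .c15⟩ ⟨.c7, .c8, .c17⟩) (@D3.rec (fun _ => Pt) ⟨.c6, .c11, .c2⟩ ⟨.c6, .c11, .c3⟩ ⟨.c8, .c8, .c2⟩ ⟨.c8, .c3, .c14⟩ ⟨.c6, .c12, .c12⟩ ⟨.c8, .c2, .c2⟩ ⟨.c7, .c9, .c6⟩ ⟨.c8, .c4, .c2⟩ ⟨.c6, .c12, .c16⟩ ⟨.c8, .c2, .c3⟩ ⟨.c7, .c9, .c10⟩ ⟨.c8, .c2, .c9⟩ ⟨.c7, .c9, .c12⟩ ⟨.c6, .c11, .c16⟩ ⟨.c8, .c4, .c5⟩ ⟨.c8, .c2, .c15⟩ ⟨.c8, .c2, .c16⟩ ⟨.c7, .c9, .c17⟩) (@D3.rec (fun _ => Pt) ⟨.c8, .c3, .c1⟩ ⟨.c6, .c12, .c4⟩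 ⟨.c8, .c8, .c4⟩ ⟨.c8, .c3, .c4⟩ ⟨.c8, .c3, .c5⟩ ⟨.c7, .c10, .c5⟩ ⟨.c7, .c10, .c6⟩ ⟨.c8, .c9, .c3⟩ ⟨.c6, .c12, .c10⟩ ⟨.c6, .c12, .c9⟩ ⟨.c8, .c9, .c6⟩ ⟨.c8, .c8, .c5⟩ ⟨.c8, .c3, .c16⟩ ⟨.c8, .c3, .c17⟩ ⟨.c8, .c4, .c3⟩ ⟨.c8, .c4, .c4⟩ ⟨.c8, .c3, .c0⟩ ⟨.c8, .c2, .c14⟩) (@D3.rec (fun _ => Pt) ⟨.c8, .c4, .c6⟩ ⟨.c8, .c2, .c8⟩ ⟨.c8, .c4, .c7⟩ ⟨.c8, .c4, .c9⟩ ⟨.c8, .c1, .c2⟩ ⟨.c7, .c11, .c5⟩ ⟨.c7, .c11, .c6⟩ ⟨.c7, .c11, .c7⟩ ⟨.c8, .c1, .c3⟩ ⟨.c7, .c11, .c9⟩ ⟨.c7, .c11, .c10⟩ ⟨.c8, .c1, .c4⟩ ⟨.c8, .c1, .c5⟩ ⟨.c7, .c11, .c13⟩ ⟨.c8, .c10, .c9⟩ ⟨.c7, .c11, .c15⟩ ⟨.c8,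 .c10, .c12⟩ ⟨.c7, .c11, .c17⟩) (@D3.rec (fun _ => Pt) ⟨.c6, .c14, .c1⟩ ⟨.c8, .c10, .c14⟩ ⟨.c7, .c12, .c2⟩ ⟨.c6, .c14, .c4⟩ ⟨.c7, .c12, .c4⟩ ⟨.c7, .c12, .c5⟩ ⟨.c7, .c12, .c6⟩ ⟨.c7, .c12, .c7⟩ ⟨.c7, .c12, .c8⟩ ⟨.c7, .c12, .c9⟩ ⟨.c7, .c12, .c10⟩ ⟨.c8, .c11, .c1⟩ ⟨.c7, .c0, .c3⟩ ⟨.c7, .c12, .c13⟩ ⟨.c7, .c12, .c14⟩ ⟨.c8, .c11, .c4⟩ ⟨.c8, .c11, .c5⟩ ⟨.c7, .c0, .c7⟩) (@D3.rec (fun _ => Pt) ⟨.c7, .c0, .c10⟩ ⟨.c7, .c1, .c4⟩ ⟨.c7, .c0, .c12⟩ ⟨.c8, .c11, .c7⟩ ⟨.c7, .c13, .c4⟩ ⟨.c7, .c13, .c5⟩ ⟨.c7, .c0, .c14⟩ ⟨.c8, .c11, .c12⟩ ⟨.c7, .c0, .c17⟩ ⟨.c8, .c11, .c13⟩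 ⟨.c8, .c11, .c14⟩ ⟨.c7, .c13, .c11⟩ ⟨.c7, .c13, .c12⟩ ⟨.c7, .c1, .c3⟩ ⟨.c8, .c11, .c6⟩ ⟨.c7, .c13, .c15⟩ ⟨.c7, .c13, .c16⟩ ⟨.c7, .c13, .c17⟩) (@D3.rec (fun _ => Pt) ⟨.c7, .c6, .c3⟩ ⟨.c7, .c1, .c9⟩ ⟨.c8, .c12, .c8⟩ ⟨.c8, .c12, .c9⟩ ⟨.c7, .c6, .c8⟩ ⟨.c7, .c1, .c12⟩ ⟨.c7, .c6, .c12⟩ ⟨.c7, .c6, .c13⟩ ⟨.c7, .c1, .c15⟩ ⟨.c8, .c12, .c16⟩ ⟨.c7, .c6, .c17⟩ ⟨.c7, .c14, .c11⟩ ⟨.c7, .c1, .c17⟩ ⟨.c8, .c13, .c5⟩ ⟨.c8, .c13, .c6⟩ ⟨.c8, .c13, .c9⟩ ⟨.c7, .c7, .c5⟩ ⟨.c7, .c14, .c17⟩)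
def f_f_8 : D2 → D3 → Pt := @D2.rec (fun _ => D3 → Pt) (@D3.rec (fun _ => Pt) ⟨.c7, .c2, .c3⟩ ⟨.c7, .c7, .c8⟩ ⟨.c8, .c13, .c16⟩ ⟨.c7, .c7, .c10⟩ ⟨.c8, .c0, .c4⟩ ⟨.c7, .c2, .c7⟩ ⟨.c7, .c2, .c8⟩ ⟨.c8, .c14, .c6⟩ ⟨.c8, .c14, .c5⟩ ⟨.c7, .c2, .c9⟩ ⟨.c8, .c14, .c9⟩ ⟨.c7, .c8, .c0⟩ ⟨.c7, .c8, .c1⟩ ⟨.c8, .c0, .c13⟩ ⟨.c7, .c2, .c14⟩ ⟨.c8, .c14, .c14⟩ ⟨.c8, .c14, .c15⟩ ⟨.c7, .c8, .c6⟩) (@D3.rec (fun _ => Pt) ⟨.c7, .c8, .c7⟩ ⟨.c7, .c5, .c17⟩ ⟨.c7, .c11, .c4⟩ ⟨.c7, .c11, .c8⟩ ⟨.c7, .c11, .c11⟩ ⟨.c7, .c11, .c12⟩ ⟨.c7, .c3, .c4⟩ ⟨.c9, .c0, .c9⟩ ⟨.c7, .c8, .c9⟩ ⟨.c7,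 .c3, .c6⟩ ⟨.c9, .c0, .c12⟩ ⟨.c9, .c0, .c13⟩ ⟨.c7, .c8, .c12⟩ ⟨.c7, .c3, .c9⟩ ⟨.c7, .c8, .c14⟩ ⟨.c7, .c8, .c16⟩ ⟨.c7, .c3, .c12⟩ ⟨.c7, .c3, .c13⟩) (@D3.rec (fun _ => Pt) ⟨.c9, .c1, .c3⟩ ⟨.c9, .c1, .c2⟩ ⟨.c7, .c9, .c5⟩ ⟨.c7, .c9, .c9⟩ ⟨.c8, .c2, .c4⟩ ⟨.c7, .c4, .c0⟩ ⟨.c9, .c1, .c10⟩ ⟨.c7, .c8, .c15⟩ ⟨.c7, .c11, .c1⟩ ⟨.c7, .c9, .c11⟩ ⟨.c8, .c2, .c10⟩ ⟨.c7, .c4, .c4⟩ ⟨.c7, .c4, .c5⟩ ⟨.c9, .c2, .c0⟩ ⟨.c7, .c10, .c17⟩ ⟨.c7, .c9, .c15⟩ ⟨.c7, .c9, .c16⟩ ⟨.c8, .c2, .c17⟩) (@D3.rec (fun _ => Pt) ⟨.c7, .c10, .c16⟩ ⟨.c7, .c10, .c0⟩ ⟨.c7, .c4, .c11⟩ ⟨.c9, .c2, .c7⟩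 ⟨.c7, .c10, .c3⟩ ⟨.c7, .c10, .c4⟩ ⟨.c8, .c3, .c6⟩ ⟨.c8, .c3, .c7⟩ ⟨.c9, .c2, .c15⟩ ⟨.c7, .c4, .c17⟩ ⟨.c7, .c4, .c16⟩ ⟨.c9, .c3, .c1⟩ ⟨.c9, .c2, .c17⟩ ⟨.c7, .c5, .c1⟩ ⟨.c7, .c9, .c3⟩ ⟨.c9, .c3, .c3⟩ ⟨.c7, .c10, .c12⟩ ⟨.c7, .c10, .c13⟩) (@D3.rec (fun _ => Pt) ⟨.c7, .c5, .c7⟩ ⟨.c7, .c6, .c11⟩ ⟨.c7, .c9, .c7⟩ ⟨.c7, .c10, .c14⟩ ⟨.c7, .c10, .c15⟩ ⟨.c7, .c9, .c14⟩ ⟨.c7, .c11, .c0⟩ ⟨.c7, .c11, .c2⟩ ⟨.c7, .c6, .c7⟩ ⟨.c7, .c11, .c3⟩ ⟨.c9, .c0, .c3⟩ ⟨.c8, .c4, .c11⟩ ⟨.c8, .c4, .c12⟩ ⟨.c8, .c4, .c13⟩ ⟨.c8, .c12, .c6⟩ ⟨.c9, .c1, .c6⟩ ⟨.c8, .c12, .c7⟩ ⟨.c8, .c4, .c17⟩)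 (@D3.rec (fun _ => Pt) ⟨.c7, .c6, .c6⟩ ⟨.c9, .c3, .c7⟩ ⟨.c8, .c12, .c11⟩ ⟨.c8, .c12, .c12⟩ ⟨.c8, .c5, .c4⟩ ⟨.c8, .c14, .c16⟩ ⟨.c9, .c3, .c8⟩ ⟨.c7, .c8, .c4⟩ ⟨.c8, .c12, .c13⟩ ⟨.c8, .c12, .c14⟩ ⟨.c7, .c6, .c16⟩ ⟨.c9, .c4, .c13⟩ ⟨.c8, .c13, .c1⟩ ⟨.c9, .c4, .c15⟩ ⟨.c8, .c13, .c3⟩ ⟨.c8, .c5, .c15⟩ ⟨.c7, .c7, .c2⟩ ⟨.c7, .c7, .c3⟩) (@D3.rec (fun _ => Pt) ⟨.c9, .c5, .c3⟩ ⟨.c7, .c7, .c4⟩ ⟨.c9, .c5, .c4⟩ ⟨.c8, .c13, .c11⟩ ⟨.c8, .c13, .c12⟩ ⟨.c8, .c6, .c5⟩ ⟨.c9, .c0, .c8⟩ ⟨.c8, .c13, .c15⟩ ⟨.c7, .c7, .c9⟩ ⟨.c9, .c5, .c11⟩ ⟨.c8, .c14, .c0⟩ ⟨.c8, .c14, .c1⟩ ⟨.c8,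 .c6, .c12⟩ ⟨.c8, .c6, .c13⟩ ⟨.c9, .c6, .c0⟩ ⟨.c7, .c7, .c15⟩ ⟨.c7, .c7, .c14⟩ ⟨.c9, .c6, .c3⟩) (@D3.rec (fun _ => Pt) ⟨.c7, .c7, .c17⟩ ⟨.c9, .c4, .c9⟩ ⟨.c9, .c6, .c4⟩ ⟨.c8, .c14, .c12⟩ ⟨.c8, .c14, .c13⟩ ⟨.c7, .c8, .c5⟩ ⟨.c9, .c4, .c10⟩ ⟨.c9, .c0, .c0⟩ ⟨.c9, .c0, .c1⟩ ⟨.c9, .c0, .c2⟩ ⟨.c9, .c0, .c11⟩ ⟨.c7, .c8, .c11⟩ ⟨.c9, .c0, .c15⟩ ⟨.c9, .c0, .c16⟩ ⟨.c9, .c1, .c11⟩ ⟨.c9, .c0, .c17⟩ ⟨.c9, .c1, .c0⟩ ⟨.c8, .c7, .c17⟩) (@D3.rec (fun _ => Pt) ⟨.c8, .c8, .c0⟩ ⟨.c9, .c1, .c8⟩ ⟨.c7, .c9, .c2⟩ ⟨.c9, .c3, .c4⟩ ⟨.c7, .c10, .c2⟩ ⟨.c7, .c10, .c11⟩ ⟨.c9, .c1, .c13⟩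 ⟨.c9, .c1, .c14⟩ ⟨.c8, .c8, .c8⟩ ⟨.c9, .c3, .c11⟩ ⟨.c9, .c2, .c3⟩ ⟨.c9, .c2, .c4⟩ ⟨.c9, .c2, .c5⟩ ⟨.c9, .c2, .c6⟩ ⟨.c9, .c7, .c2⟩ ⟨.c9, .c7, .c7⟩ ⟨.c9, .c2, .c10⟩ ⟨.c9, .c8, .c2⟩) (@D3.rec (fun _ => Pt) ⟨.c9, .c2, .c12⟩ ⟨.c9, .c8, .c5⟩ ⟨.c8, .c9, .c2⟩ ⟨.c7, .c10, .c7⟩ ⟨.c9, .c8, .c8⟩ ⟨.c8, .c9, .c5⟩ ⟨.c7, .c10, .c10⟩ ⟨.c9, .c3, .c5⟩ ⟨.c9, .c3, .c6⟩ ⟨.c9, .c3, .c9⟩ ⟨.c9, .c3, .c10⟩ ⟨.c8, .c13, .c14⟩ ⟨.c9, .c1, .c12⟩ ⟨.c9, .c2, .c2⟩ ⟨.c9, .c1, .c7⟩ ⟨.c9, .c3, .c12⟩ ⟨.c9, .c0, .c4⟩ ⟨.c9, .c0, .c5⟩) (@D3.rec (fun _ => Pt) ⟨.c8, .c10, .c0⟩ ⟨.c8, .c10, .c1⟩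 ⟨.c8, .c10, .c2⟩ ⟨.c8, .c10, .c3⟩ ⟨.c9, .c9, .c3⟩ ⟨.c9, .c0, .c7⟩ ⟨.c8, .c10, .c6⟩ ⟨.c9, .c9, .c8⟩ ⟨.c8, .c10, .c8⟩ ⟨.c7, .c11, .c14⟩ ⟨.c9, .c9, .c11⟩ ⟨.c8, .c10, .c11⟩ ⟨.c7, .c11, .c16⟩ ⟨.c9, .c9, .c13⟩ ⟨.c7, .c12, .c1⟩ ⟨.c8, .c10, .c15⟩ ⟨.c8, .c10, .c16⟩ ⟨.c8, .c10, .c17⟩) (@D3.rec (fun _ => Pt) ⟨.c8, .c11, .c0⟩ ⟨.c7, .c12, .c11⟩ ⟨.c9, .c9, .c14⟩ ⟨.c8, .c11, .c3⟩ ⟨.c7, .c12, .c15⟩ ⟨.c7, .c12, .c16⟩ ⟨.c7, .c13, .c14⟩ ⟨.c7, .c13, .c3⟩ ⟨.c9, .c10, .c0⟩ ⟨.c9, .c10, .c1⟩ ⟨.c8, .c11, .c10⟩ ⟨.c8, .c11, .c11⟩ ⟨.c7, .c13, .c7⟩ ⟨.c7, .c13, .c9⟩ ⟨.c7, .c13, .c10⟩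 ⟨.c9, .c10, .c9⟩ ⟨.c9, .c10, .c8⟩ ⟨.c8, .c11, .c17⟩) (@D3.rec (fun _ => Pt) ⟨.c8, .c12, .c0⟩ ⟨.c8, .c12, .c1⟩ ⟨.c9, .c9, .c16⟩ ⟨.c9, .c9, .c17⟩ ⟨.c8, .c12, .c4⟩ ⟨.c8, .c12, .c5⟩ ⟨.c8, .c4, .c14⟩ ⟨.c8, .c4, .c16⟩ ⟨.c7, .c14, .c2⟩ ⟨.c7, .c14, .c3⟩ ⟨.c9, .c11, .c5⟩ ⟨.c8, .c5, .c2⟩ ⟨.c8, .c5, .c3⟩ ⟨.c8, .c5, .c8⟩ ⟨.c8, .c5, .c9⟩ ⟨.c8, .c12, .c15⟩ ⟨.c7, .c14, .c9⟩ ⟨.c9, .c11, .c13⟩) (@D3.rec (fun _ => Pt) ⟨.c9, .c11, .c14⟩ ⟨.c8, .c5, .c12⟩ ⟨.c9, .c12, .c1⟩ ⟨.c8, .c5, .c14⟩ ⟨.c8, .c13, .c4⟩ ⟨.c7, .c14, .c13⟩ ⟨.c7, .c14, .c14⟩ ⟨.c9, .c12, .c8⟩ ⟨.c9, .c12, .c7⟩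 ⟨.c7, .c14, .c15⟩ ⟨.c9, .c12, .c11⟩ ⟨.c8, .c6, .c3⟩ ⟨.c8, .c6, .c4⟩ ⟨.c8, .c13, .c13⟩ ⟨.c8, .c9, .c11⟩ ⟨.c8, .c6, .c7⟩ ⟨.c8, .c0, .c2⟩ ⟨.c9, .c13, .c0⟩) (@D3.rec (fun _ => Pt) ⟨.c8, .c6, .c10⟩ ⟨.c8, .c6, .c11⟩ ⟨.c8, .c14, .c2⟩ ⟨.c8, .c14, .c3⟩ ⟨.c9, .c13, .c7⟩ ⟨.c8, .c0, .c8⟩ ⟨.c8, .c0, .c7⟩ ⟨.c9, .c13, .c11⟩ ⟨.c9, .c13, .c9⟩ ⟨.c8, .c0, .c10⟩ ⟨.c9, .c13, .c13⟩ ⟨.c9, .c13, .c14⟩ ⟨.c8, .c7, .c3⟩ ⟨.c8, .c7, .c4⟩ ⟨.c8, .c0, .c15⟩ ⟨.c8, .c0, .c16⟩ ⟨.c8, .c5, .c5⟩ ⟨.c9, .c14, .c2⟩)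
def f_f_9 : D2 → D3 → Pt := @D2.rec (fun _ => D3 → Pt) (@D3.rec (fun _ => Pt) ⟨.c8, .c7, .c7⟩ ⟨.c8, .c7, .c8⟩ ⟨.c8, .c7, .c9⟩ ⟨.c8, .c4, .c10⟩ ⟨.c8, .c9, .c16⟩ ⟨.c8, .c9, .c17⟩ ⟨.c9, .c14, .c12⟩ ⟨.c8, .c10, .c5⟩ ⟨.c8, .c6, .c6⟩ ⟨.c8, .c1, .c7⟩ ⟨.c9, .c14, .c16⟩ ⟨.c8, .c7, .c10⟩ ⟨.c8, .c1, .c10⟩ ⟨.c8, .c1, .c11⟩ ⟨.c10, .c0, .c2⟩ ⟨.c8, .c7, .c12⟩ ⟨.c8, .c7, .c13⟩ ⟨.c8, .c7, .c15⟩) (@D3.rec (fun _ => Pt) ⟨.c8, .c7, .c16⟩ ⟨.c10, .c0, .c8⟩ ⟨.c8, .c2, .c1⟩ ⟨.c8, .c2, .c0⟩ ⟨.c10, .c0, .c12⟩ ⟨.c10, .c0, .c10⟩ ⟨.c8, .c4, .c15⟩ ⟨.c8, .c9, .c14⟩ ⟨.c8, .c8, .c1⟩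 ⟨.c9, .c1, .c9⟩ ⟨.c8, .c2, .c6⟩ ⟨.c8, .c7, .c14⟩ ⟨.c8, .c9, .c12⟩ ⟨.c8, .c8, .c6⟩ ⟨.c8, .c8, .c7⟩ ⟨.c9, .c1, .c15⟩ ⟨.c9, .c1, .c16⟩ ⟨.c9, .c11, .c4⟩) (@D3.rec (fun _ => Pt) ⟨.c8, .c2, .c13⟩ ⟨.c10, .c1, .c11⟩ ⟨.c8, .c9, .c13⟩ ⟨.c8, .c8, .c10⟩ ⟨.c8, .c8, .c11⟩ ⟨.c8, .c8, .c12⟩ ⟨.c8, .c8, .c13⟩ ⟨.c8, .c3, .c3⟩ ⟨.c10, .c1, .c15⟩ ⟨.c10, .c1, .c16⟩ ⟨.c8, .c8, .c16⟩ ⟨.c10, .c2, .c4⟩ ⟨.c8, .c9, .c0⟩ ⟨.c10, .c2, .c7⟩ ⟨.c9, .c2, .c14⟩ ⟨.c8, .c3, .c8⟩ ⟨.c10, .c2, .c11⟩ ⟨.c8, .c3, .c12⟩) (@D3.rec (fun _ => Pt) ⟨.c9, .c3, .c0⟩ ⟨.c8, .c3, .c11⟩ ⟨.c10, .c2, .c14⟩ ⟨.c8,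 .c3, .c15⟩ ⟨.c8, .c8, .c3⟩ ⟨.c8, .c9, .c7⟩ ⟨.c8, .c9, .c8⟩ ⟨.c8, .c5, .c1⟩ ⟨.c8, .c5, .c6⟩ ⟨.c8, .c9, .c9⟩ ⟨.c8, .c9, .c10⟩ ⟨.c8, .c8, .c9⟩ ⟨.c8, .c9, .c15⟩ ⟨.c9, .c14, .c9⟩ ⟨.c9, .c14, .c10⟩ ⟨.c9, .c3, .c15⟩ ⟨.c9, .c3, .c16⟩ ⟨.c9, .c11, .c1⟩) (@D3.rec (fun _ => Pt) ⟨.c10, .c0, .c14⟩ ⟨.c9, .c11, .c2⟩ ⟨.c9, .c11, .c3⟩ ⟨.c9, .c4, .c3⟩ ⟨.c9, .c14, .c3⟩ ⟨.c10, .c2, .c17⟩ ⟨.c9, .c11, .c7⟩ ⟨.c9, .c11, .c8⟩ ⟨.c9, .c14, .c4⟩ ⟨.c8, .c7, .c1⟩ ⟨.c8, .c7, .c6⟩ ⟨.c9, .c11, .c9⟩ ⟨.c9, .c11, .c11⟩ ⟨.c8, .c5, .c11⟩ ⟨.c9, .c12, .c0⟩ ⟨.c8, .c5, .c13⟩ ⟨.c10, .c4, .c5⟩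 ⟨.c9, .c12, .c3⟩) (@D3.rec (fun _ => Pt) ⟨.c9, .c12, .c4⟩ ⟨.c9, .c5, .c1⟩ ⟨.c9, .c14, .c15⟩ ⟨.c8, .c6, .c0⟩ ⟨.c8, .c6, .c2⟩ ⟨.c10, .c3, .c16⟩ ⟨.c10, .c4, .c12⟩ ⟨.c9, .c12, .c13⟩ ⟨.c9, .c12, .c14⟩ ⟨.c9, .c12, .c16⟩ ⟨.c9, .c12, .c17⟩ ⟨.c8, .c6, .c9⟩ ⟨.c10, .c5, .c1⟩ ⟨.c10, .c5, .c2⟩ ⟨.c9, .c13, .c3⟩ ⟨.c10, .c5, .c8⟩ ⟨.c9, .c13, .c5⟩ ⟨.c9, .c5, .c17⟩) (@D3.rec (fun _ => Pt) ⟨.c8, .c6, .c14⟩ ⟨.c10, .c5, .c12⟩ ⟨.c9, .c6, .c2⟩ ⟨.c8, .c6, .c17⟩ ⟨.c8, .c7, .c2⟩ ⟨.c10, .c3, .c12⟩ ⟨.c10, .c3, .c17⟩ ⟨.c9, .c13, .c16⟩ ⟨.c9, .c13, .c17⟩ ⟨.c9, .c14, .c0⟩ ⟨.c10, .c4,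 .c0⟩ ⟨.c9, .c14, .c6⟩ ⟨.c9, .c14, .c7⟩ ⟨.c9, .c14, .c8⟩ ⟨.c9, .c14, .c17⟩ ⟨.c10, .c0, .c0⟩ ⟨.c10, .c0, .c4⟩ ⟨.c10, .c0, .c5⟩) (@D3.rec (fun _ => Pt) ⟨.c10, .c1, .c1⟩ ⟨.c10, .c1, .c2⟩ ⟨.c8, .c8, .c14⟩ ⟨.c10, .c0, .c16⟩ ⟨.c10, .c0, .c7⟩ ⟨.c9, .c7, .c5⟩ ⟨.c10, .c0, .c17⟩ ⟨.c8, .c8, .c15⟩ ⟨.c10, .c1, .c5⟩ ⟨.c10, .c1, .c7⟩ ⟨.c9, .c12, .c15⟩ ⟨.c10, .c1, .c12⟩ ⟨.c10, .c1, .c3⟩ ⟨.c10, .c6, .c17⟩ ⟨.c10, .c1, .c14⟩ ⟨.c10, .c7, .c2⟩ ⟨.c10, .c6, .c7⟩ ⟨.c10, .c2, .c1⟩) (@D3.rec (fun _ => Pt) ⟨.c10, .c7, .c8⟩ ⟨.c10, .c2, .c3⟩ ⟨.c8, .c8, .c17⟩ ⟨.c10, .c7, .c11⟩ ⟨.c10,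 .c2, .c6⟩ ⟨.c8, .c9, .c1⟩ ⟨.c10, .c7, .c13⟩ ⟨.c10, .c2, .c15⟩ ⟨.c8, .c9, .c4⟩ ⟨.c9, .c8, .c9⟩ ⟨.c10, .c2, .c16⟩ ⟨.c10, .c3, .c0⟩ ⟨.c9, .c11, .c17⟩ ⟨.c10, .c0, .c15⟩ ⟨.c10, .c1, .c4⟩ ⟨.c9, .c11, .c10⟩ ⟨.c9, .c14, .c11⟩ ⟨.c9, .c8, .c17⟩) (@D3.rec (fun _ => Pt) ⟨.c9, .c9, .c0⟩ ⟨.c9, .c9, .c1⟩ ⟨.c9, .c9, .c2⟩ ⟨.c8, .c10, .c4⟩ ⟨.c10, .c8, .c2⟩ ⟨.c9, .c14, .c14⟩ ⟨.c10, .c8, .c4⟩ ⟨.c9, .c9, .c7⟩ ⟨.c8, .c10, .c7⟩ ⟨.c10, .c8, .c7⟩ ⟨.c9, .c9, .c10⟩ ⟨.c8, .c10, .c10⟩ ⟨.c10, .c8, .c9⟩ ⟨.c8, .c10, .c13⟩ ⟨.c8, .c11, .c2⟩ ⟨.c10, .c8, .c10⟩ ⟨.c8, .c12, .c2⟩ ⟨.c8, .c12,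 .c3⟩) (@D3.rec (fun _ => Pt) ⟨.c8, .c11, .c8⟩ ⟨.c8, .c11, .c9⟩ ⟨.c10, .c8, .c15⟩ ⟨.c10, .c8, .c14⟩ ⟨.c9, .c10, .c4⟩ ⟨.c9, .c10, .c5⟩ ⟨.c9, .c10, .c6⟩ ⟨.c10, .c9, .c1⟩ ⟨.c8, .c11, .c16⟩ ⟨.c8, .c11, .c15⟩ ⟨.c10, .c9, .c5⟩ ⟨.c10, .c9, .c3⟩ ⟨.c9, .c10, .c12⟩ ⟨.c9, .c10, .c13⟩ ⟨.c10, .c8, .c11⟩ ⟨.c10, .c8, .c13⟩ ⟨.c9, .c10, .c16⟩ ⟨.c9, .c10, .c17⟩) (@D3.rec (fun _ => Pt) ⟨.c9, .c11, .c0⟩ ⟨.c9, .c3, .c17⟩ ⟨.c9, .c4, .c1⟩ ⟨.c9, .c4, .c2⟩ ⟨.c9, .c1, .c17⟩ ⟨.c8, .c12, .c10⟩ ⟨.c10, .c10, .c4⟩ ⟨.c9, .c4, .c6⟩ ⟨.c9, .c4, .c7⟩ ⟨.c9, .c4, .c11⟩ ⟨.c9, .c8, .c15⟩ ⟨.c9,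 .c4, .c12⟩ ⟨.c9, .c11, .c12⟩ ⟨.c8, .c12, .c17⟩ ⟨.c8, .c13, .c0⟩ ⟨.c10, .c9, .c10⟩ ⟨.c10, .c10, .c12⟩ ⟨.c9, .c8, .c12⟩) (@D3.rec (fun _ => Pt) ⟨.c9, .c4, .c14⟩ ⟨.c8, .c13, .c2⟩ ⟨.c10, .c11, .c0⟩ ⟨.c9, .c4, .c17⟩ ⟨.c9, .c5, .c0⟩ ⟨.c9, .c12, .c5⟩ ⟨.c10, .c11, .c6⟩ ⟨.c8, .c13, .c8⟩ ⟨.c8, .c13, .c7⟩ ⟨.c10, .c11, .c9⟩ ⟨.c10, .c11, .c8⟩ ⟨.c8, .c13, .c10⟩ ⟨.c10, .c11, .c11⟩ ⟨.c9, .c5, .c7⟩ ⟨.c9, .c5, .c8⟩ ⟨.c9, .c7, .c10⟩ ⟨.c9, .c5, .c9⟩ ⟨.c9, .c5, .c10⟩) (@D3.rec (fun _ => Pt) ⟨.c8, .c13, .c17⟩ ⟨.c10, .c12, .c1⟩ ⟨.c10, .c12, .c2⟩ ⟨.c9, .c5, .c14⟩ ⟨.c10, .c12,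 .c6⟩ ⟨.c9, .c5, .c16⟩ ⟨.c9, .c13, .c6⟩ ⟨.c8, .c14, .c4⟩ ⟨.c10, .c12, .c11⟩ ⟨.c8, .c14, .c8⟩ ⟨.c9, .c13, .c10⟩ ⟨.c8, .c14, .c7⟩ ⟨.c10, .c12, .c14⟩ ⟨.c8, .c14, .c10⟩ ⟨.c8, .c14, .c11⟩ ⟨.c10, .c12, .c15⟩ ⟨.c9, .c6, .c7⟩ ⟨.c9, .c6, .c8⟩) (@D3.rec (fun _ => Pt) ⟨.c9, .c6, .c9⟩ ⟨.c10, .c8, .c12⟩ ⟨.c8, .c14, .c17⟩ ⟨.c9, .c4, .c4⟩ ⟨.c9, .c4, .c8⟩ ⟨.c10, .c13, .c3⟩ ⟨.c9, .c6, .c11⟩ ⟨.c9, .c6, .c12⟩ ⟨.c9, .c6, .c13⟩ ⟨.c9, .c3, .c13⟩ ⟨.c9, .c3, .c14⟩ ⟨.c9, .c8, .c16⟩ ⟨.c9, .c0, .c6⟩ ⟨.c10, .c13, .c10⟩ ⟨.c9, .c9, .c5⟩ ⟨.c9, .c5, .c2⟩ ⟨.c9, .c0, .c10⟩ ⟨.c9, .c6,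 .c14⟩)
def f_f_10 : D2 → D3 → Pt := @D2.rec (fun _ => D3 → Pt) (@D3.rec (fun _ => Pt) ⟨.c9, .c6, .c15⟩ ⟨.c10, .c10, .c11⟩ ⟨.c9, .c0, .c14⟩ ⟨.c10, .c13, .c17⟩ ⟨.c9, .c6, .c16⟩ ⟨.c9, .c6, .c17⟩ ⟨.c10, .c14, .c2⟩ ⟨.c9, .c7, .c4⟩ ⟨.c9, .c1, .c1⟩ ⟨.c10, .c14, .c5⟩ ⟨.c9, .c1, .c5⟩ ⟨.c10, .c0, .c11⟩ ⟨.c9, .c1, .c4⟩ ⟨.c10, .c14, .c8⟩ ⟨.c9, .c4, .c0⟩ ⟨.c9, .c8, .c13⟩ ⟨.c9, .c7, .c3⟩ ⟨.c9, .c7, .c6⟩) (@D3.rec (fun _ => Pt) ⟨.c10, .c1, .c0⟩ ⟨.c9, .c7, .c0⟩ ⟨.c9, .c7, .c1⟩ ⟨.c9, .c7, .c12⟩ ⟨.c9, .c8, .c14⟩ ⟨.c9, .c7, .c8⟩ ⟨.c10, .c10, .c1⟩ ⟨.c9, .c7, .c9⟩ ⟨.c11,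 .c0, .c5⟩ ⟨.c10, .c1, .c9⟩ ⟨.c10, .c10, .c3⟩ ⟨.c9, .c2, .c1⟩ ⟨.c9, .c7, .c11⟩ ⟨.c11, .c0, .c9⟩ ⟨.c9, .c7, .c14⟩ ⟨.c9, .c2, .c8⟩ ⟨.c9, .c2, .c9⟩ ⟨.c11, .c0, .c14⟩) (@D3.rec (fun _ => Pt) ⟨.c11, .c0, .c13⟩ ⟨.c9, .c7, .c17⟩ ⟨.c11, .c1, .c2⟩ ⟨.c9, .c8, .c1⟩ ⟨.c9, .c2, .c11⟩ ⟨.c11, .c1, .c6⟩ ⟨.c9, .c8, .c4⟩ ⟨.c9, .c2, .c13⟩ ⟨.c11, .c1, .c9⟩ ⟨.c10, .c2, .c9⟩ ⟨.c11, .c1, .c8⟩ ⟨.c9, .c2, .c16⟩ ⟨.c11, .c1, .c12⟩ ⟨.c10, .c2, .c13⟩ ⟨.c9, .c3, .c2⟩ ⟨.c9, .c8, .c7⟩ ⟨.c9, .c8, .c10⟩ ⟨.c9, .c4, .c5⟩) (@D3.rec (fun _ => Pt) ⟨.c9, .c8, .c11⟩ ⟨.c10, .c13, .c8⟩ ⟨.c10,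 .c3, .c2⟩ ⟨.c10, .c3, .c3⟩ ⟨.c10, .c3, .c4⟩ ⟨.c10, .c9, .c16⟩ ⟨.c10, .c9, .c17⟩ ⟨.c10, .c14, .c9⟩ ⟨.c10, .c14, .c10⟩ ⟨.c10, .c10, .c0⟩ ⟨.c10, .c10, .c2⟩ ⟨.c10, .c13, .c4⟩ ⟨.c9, .c6, .c5⟩ ⟨.c10, .c10, .c5⟩ ⟨.c10, .c10, .c6⟩ ⟨.c10, .c13, .c5⟩ ⟨.c9, .c5, .c5⟩ ⟨.c9, .c6, .c6⟩) (@D3.rec (fun _ => Pt) ⟨.c9, .c6, .c10⟩ ⟨.c10, .c10, .c8⟩ ⟨.c10, .c10, .c9⟩ ⟨.c10, .c10, .c16⟩ ⟨.c10, .c10, .c17⟩ ⟨.c9, .c4, .c16⟩ ⟨.c11, .c2, .c14⟩ ⟨.c11, .c2, .c15⟩ ⟨.c10, .c11, .c3⟩ ⟨.c10, .c13, .c12⟩ ⟨.c10, .c11, .c5⟩ ⟨.c10, .c13, .c13⟩ ⟨.c9, .c5, .c6⟩ ⟨.c10, .c12, .c10⟩ ⟨.c11,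 .c2, .c9⟩ ⟨.c10, .c11, .c12⟩ ⟨.c10, .c11, .c13⟩ ⟨.c10, .c11, .c16⟩) (@D3.rec (fun _ => Pt) ⟨.c10, .c12, .c0⟩ ⟨.c9, .c5, .c12⟩ ⟨.c9, .c5, .c13⟩ ⟨.c11, .c2, .c3⟩ ⟨.c11, .c3, .c11⟩ ⟨.c10, .c12, .c4⟩ ⟨.c11, .c3, .c17⟩ ⟨.c10, .c12, .c5⟩ ⟨.c9, .c5, .c15⟩ ⟨.c11, .c4, .c3⟩ ⟨.c10, .c12, .c8⟩ ⟨.c10, .c10, .c15⟩ ⟨.c9, .c6, .c1⟩ ⟨.c10, .c5, .c13⟩ ⟨.c11, .c2, .c7⟩ ⟨.c11, .c2, .c10⟩ ⟨.c10, .c12, .c17⟩ ⟨.c10, .c13, .c0⟩) (@D3.rec (fun _ => Pt) ⟨.c10, .c13, .c1⟩ ⟨.c10, .c13, .c6⟩ ⟨.c10, .c13, .c7⟩ ⟨.c10, .c13, .c15⟩ ⟨.c10, .c14, .c1⟩ ⟨.c10, .c14, .c16⟩ ⟨.c10, .c14,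 .c13⟩ ⟨.c9, .c7, .c16⟩ ⟨.c10, .c14, .c14⟩ ⟨.c10, .c14, .c4⟩ ⟨.c10, .c11, .c14⟩ ⟨.c11, .c0, .c2⟩ ⟨.c11, .c0, .c4⟩ ⟨.c10, .c11, .c15⟩ ⟨.c10, .c14, .c11⟩ ⟨.c11, .c5, .c4⟩ ⟨.c11, .c0, .c0⟩ ⟨.c9, .c7, .c13⟩) (@D3.rec (fun _ => Pt) ⟨.c11, .c5, .c7⟩ ⟨.c11, .c0, .c11⟩ ⟨.c9, .c7, .c15⟩ ⟨.c11, .c5, .c9⟩ ⟨.c11, .c4, .c15⟩ ⟨.c11, .c0, .c17⟩ ⟨.c11, .c5, .c12⟩ ⟨.c11, .c1, .c1⟩ ⟨.c9, .c8, .c0⟩ ⟨.c11, .c5, .c15⟩ ⟨.c11, .c1, .c4⟩ ⟨.c9, .c8, .c3⟩ ⟨.c11, .c5, .c17⟩ ⟨.c9, .c8, .c6⟩ ⟨.c11, .c1, .c15⟩ ⟨.c10, .c10, .c7⟩ ⟨.c10, .c14, .c12⟩ ⟨.c10, .c13, .c9⟩) (@D3.rec (fun _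 => Pt) ⟨.c10, .c8, .c0⟩ ⟨.c10, .c8, .c1⟩ ⟨.c9, .c9, .c4⟩ ⟨.c11, .c6, .c2⟩ ⟨.c9, .c9, .c6⟩ ⟨.c11, .c6, .c3⟩ ⟨.c10, .c8, .c6⟩ ⟨.c9, .c9, .c9⟩ ⟨.c11, .c6, .c5⟩ ⟨.c9, .c9, .c12⟩ ⟨.c9, .c9, .c15⟩ ⟨.c9, .c10, .c14⟩ ⟨.c9, .c14, .c1⟩ ⟨.c9, .c10, .c15⟩ ⟨.c9, .c10, .c3⟩ ⟨.c9, .c10, .c2⟩ ⟨.c11, .c6, .c11⟩ ⟨.c11, .c6, .c10⟩) (@D3.rec (fun _ => Pt) ⟨.c10, .c9, .c0⟩ ⟨.c9, .c10, .c7⟩ ⟨.c11, .c6, .c14⟩ ⟨.c9, .c10, .c11⟩ ⟨.c10, .c9, .c4⟩ ⟨.c9, .c10, .c10⟩ ⟨.c11, .c6, .c17⟩ ⟨.c10, .c9, .c7⟩ ⟨.c10, .c9, .c8⟩ ⟨.c10, .c9, .c9⟩ ⟨.c9, .c11, .c15⟩ ⟨.c11, .c6, .c7⟩ ⟨.c11, .c6,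 .c9⟩ ⟨.c10, .c9, .c13⟩ ⟨.c10, .c9, .c14⟩ ⟨.c10, .c9, .c15⟩ ⟨.c10, .c3, .c5⟩ ⟨.c10, .c3, .c6⟩) (@D3.rec (fun _ => Pt) ⟨.c10, .c3, .c9⟩ ⟨.c10, .c1, .c6⟩ ⟨.c10, .c3, .c10⟩ ⟨.c10, .c1, .c10⟩ ⟨.c9, .c11, .c6⟩ ⟨.c10, .c3, .c13⟩ ⟨.c10, .c3, .c14⟩ ⟨.c10, .c7, .c15⟩ ⟨.c10, .c4, .c1⟩ ⟨.c10, .c4, .c2⟩ ⟨.c10, .c10, .c10⟩ ⟨.c10, .c0, .c1⟩ ⟨.c9, .c11, .c16⟩ ⟨.c11, .c7, .c3⟩ ⟨.c11, .c8, .c5⟩ ⟨.c10, .c5, .c11⟩ ⟨.c10, .c4, .c3⟩ ⟨.c10, .c4, .c4⟩) (@D3.rec (fun _ => Pt) ⟨.c9, .c12, .c2⟩ ⟨.c11, .c8, .c12⟩ ⟨.c11, .c8, .c13⟩ ⟨.c10, .c4, .c8⟩ ⟨.c11, .c8, .c16⟩ ⟨.c10, .c4,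 .c10⟩ ⟨.c9, .c12, .c6⟩ ⟨.c11, .c9, .c1⟩ ⟨.c9, .c12, .c10⟩ ⟨.c9, .c12, .c9⟩ ⟨.c11, .c9, .c3⟩ ⟨.c9, .c12, .c12⟩ ⟨.c10, .c4, .c15⟩ ⟨.c10, .c4, .c16⟩ ⟨.c10, .c6, .c10⟩ ⟨.c10, .c6, .c13⟩ ⟨.c10, .c4, .c17⟩ ⟨.c11, .c9, .c8⟩) (@D3.rec (fun _ => Pt) ⟨.c10, .c5, .c0⟩ ⟨.c9, .c13, .c1⟩ ⟨.c9, .c13, .c2⟩ ⟨.c11, .c9, .c12⟩ ⟨.c10, .c5, .c5⟩ ⟨.c10, .c5, .c7⟩ ⟨.c9, .c13, .c4⟩ ⟨.c11, .c10, .c0⟩ ⟨.c10, .c5, .c10⟩ ⟨.c10, .c12, .c9⟩ ⟨.c10, .c4, .c13⟩ ⟨.c9, .c13, .c8⟩ ⟨.c11, .c10, .c3⟩ ⟨.c10, .c12, .c13⟩ ⟨.c9, .c13, .c12⟩ ⟨.c9, .c13, .c15⟩ ⟨.c11, .c10, .c6⟩ ⟨.c10, .c5, .c16⟩)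 (@D3.rec (fun _ => Pt) ⟨.c10, .c5, .c17⟩ ⟨.c10, .c6, .c0⟩ ⟨.c11, .c6, .c8⟩ ⟨.c9, .c14, .c5⟩ ⟨.c10, .c3, .c11⟩ ⟨.c10, .c3, .c15⟩ ⟨.c10, .c6, .c1⟩ ⟨.c10, .c6, .c2⟩ ⟨.c10, .c3, .c1⟩ ⟨.c10, .c7, .c17⟩ ⟨.c9, .c14, .c13⟩ ⟨.c11, .c10, .c14⟩ ⟨.c10, .c4, .c9⟩ ⟨.c10, .c4, .c11⟩ ⟨.c11, .c8, .c2⟩ ⟨.c10, .c6, .c3⟩ ⟨.c11, .c8, .c4⟩ ⟨.c10, .c0, .c3⟩) (@D3.rec (fun _ => Pt) ⟨.c11, .c8, .c1⟩ ⟨.c10, .c6, .c4⟩ ⟨.c10, .c0, .c6⟩ ⟨.c11, .c11, .c4⟩ ⟨.c10, .c6, .c9⟩ ⟨.c10, .c0, .c9⟩ ⟨.c11, .c11, .c6⟩ ⟨.c10, .c14, .c7⟩ ⟨.c10, .c0, .c13⟩ ⟨.c10, .c3, .c7⟩ ⟨.c10, .c3, .c8⟩ ⟨.c10,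 .c6, .c14⟩ ⟨.c10, .c7, .c16⟩ ⟨.c10, .c6, .c6⟩ ⟨.c10, .c6, .c8⟩ ⟨.c11, .c7, .c9⟩ ⟨.c10, .c6, .c5⟩ ⟨.c11, .c11, .c15⟩)
def f_f_11 : D2 → D3 → Pt := @D2.rec (fun _ => D3 → Pt) (@D3.rec (fun _ => Pt) ⟨.c10, .c6, .c16⟩ ⟨.c11, .c7, .c11⟩ ⟨.c10, .c6, .c11⟩ ⟨.c11, .c7, .c13⟩ ⟨.c10, .c6, .c12⟩ ⟨.c10, .c1, .c8⟩ ⟨.c11, .c12, .c3⟩ ⟨.c11, .c0, .c7⟩ ⟨.c11, .c7, .c15⟩ ⟨.c10, .c1, .c13⟩ ⟨.c11, .c12, .c7⟩ ⟨.c10, .c7, .c1⟩ ⟨.c11, .c7, .c8⟩ ⟨.c10, .c2, .c0⟩ ⟨.c10, .c1, .c17⟩ ⟨.c11, .c12, .c12⟩ ⟨.c11, .c12, .c10⟩ ⟨.c10, .c7, .c5⟩) (@D3.rec (fun _ => Pt) ⟨.c11, .c12, .c15⟩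 ⟨.c10, .c7, .c7⟩ ⟨.c10, .c2, .c2⟩ ⟨.c11, .c13, .c1⟩ ⟨.c10, .c7, .c10⟩ ⟨.c11, .c12, .c11⟩ ⟨.c10, .c2, .c5⟩ ⟨.c11, .c13, .c4⟩ ⟨.c10, .c2, .c10⟩ ⟨.c10, .c2, .c8⟩ ⟨.c11, .c13, .c7⟩ ⟨.c11, .c13, .c6⟩ ⟨.c10, .c2, .c12⟩ ⟨.c11, .c13, .c10⟩ ⟨.c11, .c1, .c14⟩ ⟨.c10, .c7, .c14⟩ ⟨.c11, .c10, .c13⟩ ⟨.c11, .c1, .c17⟩) (@D3.rec (fun _ => Pt) ⟨.c11, .c2, .c0⟩ ⟨.c11, .c7, .c10⟩ ⟨.c11, .c11, .c9⟩ ⟨.c10, .c5, .c3⟩ ⟨.c11, .c7, .c12⟩ ⟨.c11, .c7, .c14⟩ ⟨.c11, .c10, .c11⟩ ⟨.c10, .c5, .c14⟩ ⟨.c11, .c7, .c16⟩ ⟨.c10, .c4, .c14⟩ ⟨.c10, .c5, .c15⟩ ⟨.c11, .c8, .c3⟩ ⟨.c11, .c8, .c9⟩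 ⟨.c11, .c8, .c11⟩ ⟨.c10, .c4, .c6⟩ ⟨.c10, .c4, .c7⟩ ⟨.c11, .c9, .c17⟩ ⟨.c11, .c14, .c6⟩) (@D3.rec (fun _ => Pt) ⟨.c11, .c9, .c11⟩ ⟨.c11, .c8, .c15⟩ ⟨.c11, .c10, .c16⟩ ⟨.c11, .c9, .c0⟩ ⟨.c11, .c10, .c2⟩ ⟨.c11, .c14, .c2⟩ ⟨.c11, .c9, .c4⟩ ⟨.c11, .c9, .c6⟩ ⟨.c11, .c9, .c7⟩ ⟨.c11, .c9, .c10⟩ ⟨.c11, .c8, .c10⟩ ⟨.c10, .c5, .c4⟩ ⟨.c11, .c13, .c16⟩ ⟨.c11, .c14, .c17⟩ ⟨.c11, .c9, .c14⟩ ⟨.c11, .c12, .c6⟩ ⟨.c11, .c9, .c15⟩ ⟨.c10, .c5, .c6⟩) (@D3.rec (fun _ => Pt) ⟨.c12, .c0, .c4⟩ ⟨.c11, .c9, .c16⟩ ⟨.c11, .c8, .c7⟩ ⟨.c10, .c5, .c9⟩ ⟨.c12, .c0, .c8⟩ ⟨.c11, .c8, .c8⟩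 ⟨.c11, .c14, .c0⟩ ⟨.c11, .c10, .c7⟩ ⟨.c11, .c10, .c8⟩ ⟨.c11, .c10, .c9⟩ ⟨.c11, .c10, .c12⟩ ⟨.c11, .c11, .c0⟩ ⟨.c11, .c11, .c3⟩ ⟨.c11, .c11, .c14⟩ ⟨.c11, .c11, .c11⟩ ⟨.c10, .c7, .c4⟩ ⟨.c11, .c11, .c12⟩ ⟨.c11, .c9, .c5⟩) (@D3.rec (fun _ => Pt) ⟨.c11, .c12, .c1⟩ ⟨.c11, .c7, .c17⟩ ⟨.c11, .c13, .c0⟩ ⟨.c11, .c11, .c10⟩ ⟨.c10, .c6, .c15⟩ ⟨.c12, .c1, .c0⟩ ⟨.c11, .c11, .c17⟩ ⟨.c10, .c7, .c0⟩ ⟨.c12, .c1, .c2⟩ ⟨.c10, .c7, .c3⟩ ⟨.c12, .c1, .c3⟩ ⟨.c11, .c12, .c14⟩ ⟨.c10, .c7, .c6⟩ ⟨.c12, .c1, .c5⟩ ⟨.c11, .c12, .c17⟩ ⟨.c10, .c7, .c9⟩ ⟨.c12, .c1, .c7⟩ ⟨.c10, .c7, .c12⟩)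 (@D3.rec (fun _ => Pt) ⟨.c11, .c8, .c0⟩ ⟨.c11, .c6, .c1⟩ ⟨.c10, .c8, .c3⟩ ⟨.c10, .c8, .c5⟩ ⟨.c12, .c1, .c9⟩ ⟨.c10, .c8, .c8⟩ ⟨.c12, .c1, .c11⟩ ⟨.c10, .c9, .c11⟩ ⟨.c10, .c13, .c2⟩ ⟨.c10, .c9, .c12⟩ ⟨.c10, .c8, .c17⟩ ⟨.c10, .c8, .c16⟩ ⟨.c12, .c1, .c14⟩ ⟨.c11, .c6, .c13⟩ ⟨.c10, .c9, .c2⟩ ⟨.c12, .c1, .c16⟩ ⟨.c11, .c6, .c16⟩ ⟨.c10, .c9, .c6⟩) (@D3.rec (fun _ => Pt) ⟨.c12, .c2, .c0⟩ ⟨.c11, .c7, .c1⟩ ⟨.c11, .c7, .c2⟩ ⟨.c10, .c10, .c13⟩ ⟨.c12, .c1, .c12⟩ ⟨.c11, .c7, .c5⟩ ⟨.c11, .c7, .c6⟩ ⟨.c11, .c7, .c7⟩ ⟨.c11, .c0, .c12⟩ ⟨.c10, .c14, .c15⟩ ⟨.c11, .c2, .c1⟩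 ⟨.c11, .c0, .c1⟩ ⟨.c11, .c2, .c4⟩ ⟨.c11, .c0, .c3⟩ ⟨.c11, .c2, .c5⟩ ⟨.c11, .c0, .c8⟩ ⟨.c11, .c2, .c8⟩ ⟨.c11, .c5, .c1⟩) (@D3.rec (fun _ => Pt) ⟨.c11, .c6, .c0⟩ ⟨.c10, .c14, .c0⟩ ⟨.c10, .c13, .c14⟩ ⟨.c11, .c2, .c11⟩ ⟨.c10, .c13, .c16⟩ ⟨.c10, .c10, .c14⟩ ⟨.c12, .c2, .c3⟩ ⟨.c11, .c4, .c2⟩ ⟨.c11, .c4, .c5⟩ ⟨.c11, .c2, .c12⟩ ⟨.c11, .c3, .c10⟩ ⟨.c11, .c2, .c13⟩ ⟨.c10, .c11, .c1⟩ ⟨.c10, .c11, .c2⟩ ⟨.c12, .c3, .c7⟩ ⟨.c11, .c3, .c1⟩ ⟨.c10, .c11, .c4⟩ ⟨.c12, .c3, .c10⟩) (@D3.rec (fun _ => Pt) ⟨.c11, .c3, .c3⟩ ⟨.c10, .c11, .c7⟩ ⟨.c12, .c3, .c12⟩ ⟨.c10, .c11, .c10⟩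 ⟨.c11, .c3, .c6⟩ ⟨.c11, .c4, .c17⟩ ⟨.c11, .c3, .c7⟩ ⟨.c11, .c3, .c8⟩ ⟨.c10, .c11, .c17⟩ ⟨.c12, .c4, .c0⟩ ⟨.c11, .c3, .c9⟩ ⟨.c11, .c3, .c0⟩ ⟨.c10, .c12, .c3⟩ ⟨.c12, .c4, .c3⟩ ⟨.c11, .c3, .c14⟩ ⟨.c11, .c3, .c16⟩ ⟨.c11, .c4, .c1⟩ ⟨.c11, .c2, .c16⟩) (@D3.rec (fun _ => Pt) ⟨.c10, .c12, .c7⟩ ⟨.c12, .c4, .c8⟩ ⟨.c11, .c3, .c4⟩ ⟨.c10, .c12, .c12⟩ ⟨.c12, .c4, .c11⟩ ⟨.c11, .c10, .c5⟩ ⟨.c10, .c12, .c16⟩ ⟨.c11, .c4, .c7⟩ ⟨.c11, .c4, .c8⟩ ⟨.c11, .c4, .c9⟩ ⟨.c12, .c1, .c13⟩ ⟨.c11, .c2, .c6⟩ ⟨.c11, .c4, .c10⟩ ⟨.c11, .c1, .c16⟩ ⟨.c10, .c13, .c11⟩ ⟨.c12, .c4, .c16⟩ ⟨.c11,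 .c3, .c2⟩ ⟨.c12, .c3, .c0⟩) (@D3.rec (fun _ => Pt) ⟨.c11, .c4, .c11⟩ ⟨.c12, .c3, .c2⟩ ⟨.c12, .c2, .c17⟩ ⟨.c11, .c4, .c12⟩ ⟨.c10, .c14, .c3⟩ ⟨.c12, .c5, .c3⟩ ⟨.c10, .c14, .c6⟩ ⟨.c12, .c5, .c5⟩ ⟨.c11, .c11, .c8⟩ ⟨.c11, .c2, .c2⟩ ⟨.c11, .c5, .c3⟩ ⟨.c11, .c4, .c14⟩ ⟨.c11, .c4, .c16⟩ ⟨.c12, .c2, .c9⟩ ⟨.c11, .c4, .c13⟩ ⟨.c10, .c14, .c17⟩ ⟨.c12, .c5, .c11⟩ ⟨.c11, .c5, .c6⟩) (@D3.rec (fun _ => Pt) ⟨.c12, .c2, .c11⟩ ⟨.c11, .c5, .c0⟩ ⟨.c12, .c2, .c13⟩ ⟨.c11, .c0, .c6⟩ ⟨.c12, .c5, .c15⟩ ⟨.c12, .c2, .c14⟩ ⟨.c11, .c3, .c15⟩ ⟨.c11, .c0, .c10⟩ ⟨.c12, .c6, .c1⟩ ⟨.c12,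 .c2, .c8⟩ ⟨.c11, .c0, .c16⟩ ⟨.c11, .c1, .c5⟩ ⟨.c11, .c0, .c15⟩ ⟨.c12, .c6, .c5⟩ ⟨.c11, .c5, .c11⟩ ⟨.c11, .c1, .c0⟩ ⟨.c12, .c6, .c8⟩ ⟨.c11, .c5, .c14⟩) (@D3.rec (fun _ => Pt) ⟨.c11, .c5, .c2⟩ ⟨.c11, .c1, .c3⟩ ⟨.c12, .c6, .c11⟩ ⟨.c12, .c6, .c4⟩ ⟨.c11, .c1, .c7⟩ ⟨.c12, .c6, .c14⟩ ⟨.c11, .c1, .c11⟩ ⟨.c11, .c1, .c10⟩ ⟨.c12, .c6, .c17⟩ ⟨.c12, .c6, .c16⟩ ⟨.c11, .c1, .c13⟩ ⟨.c12, .c7, .c1⟩ ⟨.c11, .c13, .c12⟩ ⟨.c11, .c13, .c13⟩ ⟨.c12, .c2, .c10⟩ ⟨.c12, .c5, .c7⟩ ⟨.c11, .c3, .c12⟩ ⟨.c12, .c2, .c12⟩) (@D3.rec (fun _ => Pt) ⟨.c11, .c4, .c6⟩ ⟨.c12, .c2, .c15⟩ ⟨.c11,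 .c3, .c5⟩ ⟨.c12, .c3, .c1⟩ ⟨.c12, .c3, .c4⟩ ⟨.c12, .c3, .c6⟩ ⟨.c11, .c2, .c17⟩ ⟨.c12, .c4, .c7⟩ ⟨.c12, .c7, .c8⟩ ⟨.c12, .c4, .c2⟩ ⟨.c12, .c3, .c9⟩ ⟨.c12, .c4, .c17⟩ ⟨.c12, .c4, .c10⟩ ⟨.c12, .c3, .c14⟩ ⟨.c12, .c3, .c16⟩ ⟨.c12, .c3, .c17⟩ ⟨.c12, .c3, .c5⟩ ⟨.c11, .c3, .c13⟩)
def f_f_12 : D2 → D3 → Pt := @D2.rec (fun _ => D3 → Pt) (@D3.rec (fun _ => Pt) ⟨.c12, .c7, .c4⟩ ⟨.c12, .c4, .c4⟩ ⟨.c12, .c6, .c0⟩ ⟨.c12, .c4, .c5⟩ ⟨.c11, .c4, .c0⟩ ⟨.c12, .c8, .c1⟩ ⟨.c12, .c4, .c6⟩ ⟨.c12, .c3, .c3⟩ ⟨.c11, .c4, .c4⟩ ⟨.c12, .c7, .c6⟩ ⟨.c12, .c4, .c13⟩ ⟨.c12, .c4, .c14⟩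 ⟨.c12, .c7, .c2⟩ ⟨.c12, .c5, .c9⟩ ⟨.c12, .c3, .c15⟩ ⟨.c12, .c2, .c16⟩ ⟨.c12, .c6, .c10⟩ ⟨.c12, .c5, .c8⟩) (@D3.rec (fun _ => Pt) ⟨.c11, .c5, .c5⟩ ⟨.c12, .c8, .c8⟩ ⟨.c11, .c5, .c8⟩ ⟨.c11, .c5, .c10⟩ ⟨.c12, .c6, .c7⟩ ⟨.c11, .c5, .c13⟩ ⟨.c12, .c8, .c10⟩ ⟨.c11, .c5, .c16⟩ ⟨.c12, .c8, .c12⟩ ⟨.c11, .c6, .c4⟩ ⟨.c12, .c8, .c13⟩ ⟨.c11, .c6, .c6⟩ ⟨.c11, .c7, .c4⟩ ⟨.c11, .c10, .c10⟩ ⟨.c11, .c6, .c12⟩ ⟨.c12, .c8, .c17⟩ ⟨.c11, .c6, .c15⟩ ⟨.c12, .c1, .c17⟩) (@D3.rec (fun _ => Pt) ⟨.c11, .c7, .c0⟩ ⟨.c12, .c9, .c1⟩ ⟨.c12, .c2, .c2⟩ ⟨.c11, .c8, .c6⟩ ⟨.c12, .c8, .c15⟩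 ⟨.c12, .c2, .c5⟩ ⟨.c12, .c2, .c6⟩ ⟨.c12, .c8, .c16⟩ ⟨.c11, .c12, .c9⟩ ⟨.c11, .c11, .c13⟩ ⟨.c11, .c13, .c14⟩ ⟨.c11, .c12, .c0⟩ ⟨.c11, .c13, .c17⟩ ⟨.c11, .c12, .c2⟩ ⟨.c11, .c12, .c5⟩ ⟨.c11, .c14, .c1⟩ ⟨.c12, .c0, .c15⟩ ⟨.c11, .c11, .c2⟩) (@D3.rec (fun _ => Pt) ⟨.c11, .c10, .c17⟩ ⟨.c11, .c14, .c3⟩ ⟨.c11, .c11, .c1⟩ ⟨.c12, .c0, .c7⟩ ⟨.c11, .c14, .c4⟩ ⟨.c11, .c14, .c16⟩ ⟨.c11, .c14, .c5⟩ ⟨.c11, .c8, .c14⟩ ⟨.c12, .c9, .c17⟩ ⟨.c11, .c14, .c10⟩ ⟨.c11, .c8, .c17⟩ ⟨.c12, .c10, .c1⟩ ⟨.c11, .c9, .c2⟩ ⟨.c12, .c10, .c3⟩ ⟨.c11, .c14, .c13⟩ ⟨.c12, .c0, .c14⟩ ⟨.c11,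 .c14, .c14⟩ ⟨.c11, .c14, .c15⟩) (@D3.rec (fun _ => Pt) ⟨.c11, .c9, .c9⟩ ⟨.c12, .c10, .c6⟩ ⟨.c11, .c14, .c9⟩ ⟨.c11, .c9, .c13⟩ ⟨.c12, .c0, .c1⟩ ⟨.c12, .c0, .c3⟩ ⟨.c12, .c0, .c6⟩ ⟨.c11, .c14, .c7⟩ ⟨.c11, .c10, .c1⟩ ⟨.c12, .c10, .c13⟩ ⟨.c11, .c14, .c12⟩ ⟨.c11, .c10, .c4⟩ ⟨.c12, .c10, .c16⟩ ⟨.c12, .c0, .c10⟩ ⟨.c12, .c0, .c11⟩ ⟨.c12, .c11, .c0⟩ ⟨.c11, .c10, .c15⟩ ⟨.c11, .c14, .c11⟩) (@D3.rec (fun _ => Pt) ⟨.c12, .c9, .c12⟩ ⟨.c12, .c9, .c13⟩ ⟨.c12, .c9, .c11⟩ ⟨.c11, .c11, .c5⟩ ⟨.c12, .c11, .c3⟩ ⟨.c11, .c11, .c7⟩ ⟨.c12, .c10, .c15⟩ ⟨.c11, .c13, .c15⟩ ⟨.c12,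 .c0, .c17⟩ ⟨.c12, .c0, .c13⟩ ⟨.c12, .c9, .c4⟩ ⟨.c11, .c11, .c16⟩ ⟨.c12, .c11, .c7⟩ ⟨.c12, .c9, .c5⟩ ⟨.c12, .c9, .c7⟩ ⟨.c11, .c12, .c4⟩ ⟨.c12, .c10, .c17⟩ ⟨.c12, .c9, .c8⟩) (@D3.rec (fun _ => Pt) ⟨.c12, .c0, .c2⟩ ⟨.c11, .c12, .c8⟩ ⟨.c12, .c11, .c12⟩ ⟨.c12, .c9, .c3⟩ ⟨.c11, .c13, .c3⟩ ⟨.c11, .c12, .c13⟩ ⟨.c12, .c11, .c16⟩ ⟨.c12, .c1, .c4⟩ ⟨.c11, .c12, .c16⟩ ⟨.c12, .c12, .c0⟩ ⟨.c12, .c0, .c16⟩ ⟨.c11, .c13, .c2⟩ ⟨.c12, .c12, .c3⟩ ⟨.c12, .c11, .c15⟩ ⟨.c11, .c13, .c5⟩ ⟨.c12, .c12, .c5⟩ ⟨.c11, .c13, .c9⟩ ⟨.c11, .c13, .c8⟩) (@D3.rec (fun _ => Pt) ⟨.c12, .c12,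 .c7⟩ ⟨.c11, .c13, .c11⟩ ⟨.c12, .c0, .c12⟩ ⟨.c12, .c7, .c3⟩ ⟨.c12, .c0, .c0⟩ ⟨.c12, .c9, .c6⟩ ⟨.c12, .c0, .c9⟩ ⟨.c12, .c9, .c15⟩ ⟨.c11, .c14, .c8⟩ ⟨.c12, .c10, .c12⟩ ⟨.c12, .c10, .c8⟩ ⟨.c12, .c10, .c0⟩ ⟨.c12, .c10, .c4⟩ ⟨.c12, .c10, .c5⟩ ⟨.c12, .c9, .c16⟩ ⟨.c12, .c12, .c9⟩ ⟨.c12, .c10, .c9⟩ ⟨.c12, .c11, .c11⟩) (@D3.rec (fun _ => Pt) ⟨.c12, .c10, .c10⟩ ⟨.c12, .c0, .c5⟩ ⟨.c12, .c12, .c15⟩ ⟨.c12, .c12, .c6⟩ ⟨.c12, .c9, .c14⟩ ⟨.c12, .c11, .c5⟩ ⟨.c12, .c9, .c10⟩ ⟨.c12, .c12, .c2⟩ ⟨.c12, .c1, .c1⟩ ⟨.c12, .c12, .c17⟩ ⟨.c12, .c1, .c6⟩ ⟨.c12, .c13, .c0⟩ ⟨.c12,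 .c1, .c8⟩ ⟨.c12, .c1, .c10⟩ ⟨.c12, .c12, .c8⟩ ⟨.c12, .c2, .c4⟩ ⟨.c12, .c2, .c7⟩ ⟨.c12, .c1, .c15⟩) (@D3.rec (fun _ => Pt) ⟨.c12, .c9, .c0⟩ ⟨.c12, .c2, .c1⟩ ⟨.c12, .c9, .c2⟩ ⟨.c12, .c6, .c3⟩ ⟨.c12, .c5, .c10⟩ ⟨.c12, .c5, .c13⟩ ⟨.c12, .c7, .c5⟩ ⟨.c12, .c5, .c14⟩ ⟨.c12, .c5, .c17⟩ ⟨.c12, .c13, .c7⟩ ⟨.c12, .c8, .c6⟩ ⟨.c12, .c5, .c2⟩ ⟨.c12, .c5, .c0⟩ ⟨.c12, .c5, .c1⟩ ⟨.c12, .c8, .c4⟩ ⟨.c12, .c7, .c7⟩ ⟨.c12, .c7, .c14⟩ ⟨.c12, .c3, .c8⟩) (@D3.rec (fun _ => Pt) ⟨.c12, .c7, .c11⟩ ⟨.c12, .c3, .c11⟩ ⟨.c12, .c13, .c12⟩ ⟨.c12, .c3, .c13⟩ ⟨.c12, .c7, .c12⟩ ⟨.c12,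 .c7, .c13⟩ ⟨.c12, .c4, .c1⟩ ⟨.c12, .c13, .c15⟩ ⟨.c12, .c7, .c10⟩ ⟨.c12, .c7, .c16⟩ ⟨.c12, .c8, .c0⟩ ⟨.c12, .c14, .c2⟩ ⟨.c12, .c7, .c9⟩ ⟨.c12, .c4, .c9⟩ ⟨.c12, .c14, .c0⟩ ⟨.c12, .c5, .c6⟩ ⟨.c12, .c4, .c12⟩ ⟨.c12, .c5, .c16⟩) (@D3.rec (fun _ => Pt) ⟨.c12, .c4, .c15⟩ ⟨.c12, .c13, .c9⟩ ⟨.c12, .c13, .c8⟩ ⟨.c12, .c5, .c4⟩ ⟨.c12, .c14, .c1⟩ ⟨.c12, .c8, .c5⟩ ⟨.c12, .c13, .c3⟩ ⟨.c12, .c5, .c12⟩ ⟨.c12, .c14, .c3⟩ ⟨.c12, .c13, .c4⟩ ⟨.c12, .c13, .c6⟩ ⟨.c12, .c7, .c17⟩ ⟨.c12, .c6, .c2⟩ ⟨.c12, .c14, .c6⟩ ⟨.c12, .c13, .c2⟩ ⟨.c12, .c6, .c13⟩ ⟨.c12, .c6, .c6⟩ ⟨.c12,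 .c14, .c8⟩) (@D3.rec (fun _ => Pt) ⟨.c12, .c6, .c9⟩ ⟨.c12, .c13, .c16⟩ ⟨.c12, .c8, .c7⟩ ⟨.c12, .c6, .c12⟩ ⟨.c12, .c14, .c7⟩ ⟨.c12, .c6, .c15⟩ ⟨.c12, .c8, .c3⟩ ⟨.c12, .c7, .c0⟩ ⟨.c12, .c8, .c14⟩ ⟨.c12, .c7, .c15⟩ ⟨.c12, .c13, .c10⟩ ⟨.c12, .c13, .c17⟩ ⟨.c12, .c13, .c13⟩ ⟨.c12, .c13, .c11⟩ ⟨.c12, .c13, .c14⟩ ⟨.c12, .c8, .c2⟩ ⟨.c12, .c14, .c10⟩ ⟨.c12, .c8, .c9⟩) (@D3.rec (fun _ => Pt) ⟨.c12, .c8, .c11⟩ ⟨.c12, .c14, .c9⟩ ⟨.c12, .c11, .c14⟩ ⟨.c12, .c11, .c6⟩ ⟨.c12, .c11, .c9⟩ ⟨.c12, .c14, .c17⟩ ⟨.c12, .c11, .c10⟩ ⟨.c12, .c9, .c9⟩ ⟨.c12, .c11, .c2⟩ ⟨.c12, .c11,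 .c1⟩ ⟨.c12, .c12, .c10⟩ ⟨.c12, .c12, .c13⟩ ⟨.c12, .c10, .c2⟩ ⟨.c12, .c12, .c12⟩ ⟨.c12, .c12, .c14⟩ ⟨.c12, .c10, .c7⟩ ⟨.c12, .c12, .c1⟩ ⟨.c12, .c12, .c11⟩) (@D3.rec (fun _ => Pt) ⟨.c12, .c10, .c14⟩ ⟨.c12, .c11, .c4⟩ ⟨.c12, .c10, .c11⟩ ⟨.c12, .c11, .c8⟩ ⟨.c12, .c14, .c14⟩ ⟨.c12, .c14, .c15⟩ ⟨.c12, .c11, .c13⟩ ⟨.c12, .c12, .c4⟩ ⟨.c12, .c11, .c17⟩ ⟨.c12, .c13, .c1⟩ ⟨.c12, .c12, .c16⟩ ⟨.c12, .c14, .c13⟩ ⟨.c12, .c14, .c16⟩ ⟨.c12, .c14, .c11⟩ ⟨.c12, .c14, .c4⟩ ⟨.c12, .c14, .c5⟩ ⟨.c12, .c14, .c12⟩ ⟨.c12, .c13, .c5⟩)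
def f_f : Pt → Pt := @Pt.rec (fun _ => Pt) (@D1.rec (fun _ => D2 → D3 → Pt) f_f_0 f_f_1 f_f_2 f_f_3 f_f_4 f_f_5 f_f_6 f_f_7 f_f_8 f_f_9 f_f_10 f_f_11 f_f_12)
def fi_f : Pt → Pt := f_f
def f_g_0 : D2 → D3 → Pt := @D2.rec (fun _ => D3 → Pt) (@D3.rec (fun _ => Pt) ⟨.c0, .c0, .c0⟩ ⟨.c0, .c0, .c1⟩ ⟨.c0, .c0, .c2⟩ ⟨.c0, .c0, .c3⟩ ⟨.c0, .c0, .c4⟩ ⟨.c0, .c0, .c5⟩ ⟨.c0, .c0, .c6⟩ ⟨.c0, .c0, .c7⟩ ⟨.c0, .c0, .c8⟩ ⟨.c0, .c0, .c9⟩ ⟨.c0, .c0, .c10⟩ ⟨.c0, .c0, .c11⟩ ⟨.c0, .c0, .c12⟩ ⟨.c0, .c1, .c4⟩ ⟨.c0, .c0, .c14⟩ ⟨.c0, .c0, .c15⟩ ⟨.c0, .c0, .c16⟩ ⟨.c0, .c0, .c17⟩)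 (@D3.rec (fun _ => Pt) ⟨.c0, .c1, .c0⟩ ⟨.c0, .c1, .c13⟩ ⟨.c0, .c1, .c2⟩ ⟨.c0, .c1, .c3⟩ ⟨.c0, .c0, .c13⟩ ⟨.c0, .c1, .c17⟩ ⟨.c0, .c1, .c6⟩ ⟨.c0, .c1, .c7⟩ ⟨.c0, .c1, .c8⟩ ⟨.c0, .c1, .c9⟩ ⟨.c0, .c2, .c9⟩ ⟨.c0, .c1, .c11⟩ ⟨.c0, .c1, .c12⟩ ⟨.c0, .c1, .c1⟩ ⟨.c0, .c2, .c13⟩ ⟨.c0, .c1, .c15⟩ ⟨.c0, .c1, .c16⟩ ⟨.c0, .c1, .c5⟩) (@D3.rec (fun _ => Pt) ⟨.c0, .c3, .c0⟩ ⟨.c0, .c3, .c1⟩ ⟨.c0, .c2, .c2⟩ ⟨.c0, .c2, .c3⟩ ⟨.c0, .c2, .c4⟩ ⟨.c0, .c3, .c9⟩ ⟨.c0, .c2, .c6⟩ ⟨.c0, .c2, .c7⟩ ⟨.c0, .c2, .c8⟩ ⟨.c0, .c1, .c10⟩ ⟨.c0, .c3, .c13⟩ ⟨.c0, .c2, .c11⟩ ⟨.c0, .c2, .c12⟩ ⟨.c0,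 .c1, .c14⟩ ⟨.c0, .c3, .c17⟩ ⟨.c0, .c4, .c0⟩ ⟨.c0, .c2, .c16⟩ ⟨.c0, .c2, .c17⟩) (@D3.rec (fun _ => Pt) ⟨.c0, .c2, .c0⟩ ⟨.c0, .c2, .c1⟩ ⟨.c0, .c4, .c6⟩ ⟨.c0, .c4, .c7⟩ ⟨.c0, .c4, .c8⟩ ⟨.c0, .c3, .c5⟩ ⟨.c0, .c3, .c6⟩ ⟨.c0, .c3, .c7⟩ ⟨.c0, .c4, .c17⟩ ⟨.c0, .c2, .c5⟩ ⟨.c0, .c5, .c0⟩ ⟨.c0, .c3, .c11⟩ ⟨.c0, .c3, .c12⟩ ⟨.c0, .c2, .c10⟩ ⟨.c0, .c5, .c3⟩ ⟨.c0, .c5, .c4⟩ ⟨.c0, .c3, .c16⟩ ⟨.c0, .c2, .c14⟩) (@D3.rec (fun _ => Pt) ⟨.c0, .c2, .c15⟩ ⟨.c0, .c5, .c8⟩ ⟨.c0, .c5, .c9⟩ ⟨.c0, .c5, .c10⟩ ⟨.c0, .c4, .c4⟩ ⟨.c0, .c4, .c5⟩ ⟨.c0, .c3, .c2⟩ ⟨.c0, .c3, .c3⟩ ⟨.c0,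 .c3, .c4⟩ ⟨.c0, .c5, .c16⟩ ⟨.c0, .c5, .c17⟩ ⟨.c0, .c6, .c0⟩ ⟨.c0, .c6, .c2⟩ ⟨.c0, .c6, .c3⟩ ⟨.c0, .c4, .c14⟩ ⟨.c0, .c4, .c15⟩ ⟨.c0, .c6, .c12⟩ ⟨.c0, .c3, .c8⟩) (@D3.rec (fun _ => Pt) ⟨.c0, .c3, .c10⟩ ⟨.c0, .c6, .c13⟩ ⟨.c0, .c5, .c2⟩ ⟨.c0, .c3, .c14⟩ ⟨.c0, .c3, .c15⟩ ⟨.c0, .c6, .c14⟩ ⟨.c0, .c6, .c15⟩ ⟨.c0, .c5, .c7⟩ ⟨.c0, .c4, .c1⟩ ⟨.c0, .c4, .c2⟩ ⟨.c0, .c4, .c3⟩ ⟨.c0, .c7, .c0⟩ ⟨.c0, .c7, .c1⟩ ⟨.c0, .c7, .c3⟩ ⟨.c0, .c7, .c4⟩ ⟨.c0, .c5, .c15⟩ ⟨.c0, .c4, .c9⟩ ⟨.c0, .c4, .c10⟩) (@D3.rec (fun _ => Pt) ⟨.c0, .c4, .c11⟩ ⟨.c0, .c6, .c1⟩ ⟨.c0, .c4, .c12⟩ ⟨.c0,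 .c4, .c13⟩ ⟨.c0, .c7, .c10⟩ ⟨.c0, .c7, .c11⟩ ⟨.c0, .c7, .c12⟩ ⟨.c0, .c7, .c14⟩ ⟨.c0, .c7, .c15⟩ ⟨.c0, .c7, .c17⟩ ⟨.c0, .c6, .c10⟩ ⟨.c0, .c6, .c11⟩ ⟨.c0, .c4, .c16⟩ ⟨.c0, .c5, .c1⟩ ⟨.c0, .c5, .c5⟩ ⟨.c0, .c5, .c6⟩ ⟨.c0, .c8, .c12⟩ ⟨.c0, .c8, .c13⟩) (@D3.rec (fun _ => Pt) ⟨.c0, .c5, .c11⟩ ⟨.c0, .c5, .c12⟩ ⟨.c0, .c7, .c2⟩ ⟨.c0, .c5, .c13⟩ ⟨.c0, .c5, .c14⟩ ⟨.c0, .c8, .c15⟩ ⟨.c0, .c8, .c17⟩ ⟨.c0, .c9, .c0⟩ ⟨.c0, .c9, .c2⟩ ⟨.c0, .c7, .c9⟩ ⟨.c0, .c6, .c4⟩ ⟨.c0, .c6, .c5⟩ ⟨.c0, .c6, .c6⟩ ⟨.c0, .c7, .c13⟩ ⟨.c0, .c6, .c7⟩ ⟨.c0, .c6, .c8⟩ ⟨.c0, .c7, .c16⟩ ⟨.c0,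 .c6, .c9⟩) (@D3.rec (fun _ => Pt) ⟨.c0, .c9, .c9⟩ ⟨.c0, .c9, .c11⟩ ⟨.c0, .c9, .c12⟩ ⟨.c0, .c9, .c14⟩ ⟨.c0, .c9, .c15⟩ ⟨.c0, .c9, .c17⟩ ⟨.c0, .c10, .c0⟩ ⟨.c0, .c10, .c2⟩ ⟨.c0, .c8, .c8⟩ ⟨.c0, .c8, .c9⟩ ⟨.c0, .c8, .c10⟩ ⟨.c0, .c8, .c11⟩ ⟨.c0, .c6, .c16⟩ ⟨.c0, .c6, .c17⟩ ⟨.c0, .c10, .c17⟩ ⟨.c0, .c7, .c5⟩ ⟨.c0, .c8, .c16⟩ ⟨.c0, .c7, .c6⟩) (@D3.rec (fun _ => Pt) ⟨.c0, .c7, .c7⟩ ⟨.c0, .c9, .c1⟩ ⟨.c0, .c7, .c8⟩ ⟨.c0, .c11, .c2⟩ ⟨.c0, .c11, .c3⟩ ⟨.c0, .c11, .c5⟩ ⟨.c0, .c11, .c6⟩ ⟨.c0, .c11, .c8⟩ ⟨.c0, .c9, .c8⟩ ⟨.c0, .c8, .c0⟩ ⟨.c0, .c9, .c10⟩ ⟨.c0, .c8, .c1⟩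 ⟨.c0, .c8, .c2⟩ ⟨.c0, .c9, .c13⟩ ⟨.c0, .c8, .c3⟩ ⟨.c0, .c8, .c4⟩ ⟨.c0, .c9, .c16⟩ ⟨.c0, .c8, .c5⟩) (@D3.rec (fun _ => Pt) ⟨.c0, .c8, .c6⟩ ⟨.c0, .c10, .c1⟩ ⟨.c0, .c8, .c7⟩ ⟨.c0, .c11, .c15⟩ ⟨.c0, .c11, .c17⟩ ⟨.c0, .c12, .c0⟩ ⟨.c0, .c12, .c2⟩ ⟨.c0, .c12, .c3⟩ ⟨.c0, .c12, .c7⟩ ⟨.c0, .c12, .c8⟩ ⟨.c0, .c12, .c10⟩ ⟨.c0, .c12, .c11⟩ ⟨.c0, .c12, .c13⟩ ⟨.c0, .c10, .c13⟩ ⟨.c0, .c10, .c14⟩ ⟨.c0, .c13, .c11⟩ ⟨.c0, .c10, .c16⟩ ⟨.c0, .c8, .c14⟩) (@D3.rec (fun _ => Pt) ⟨.c0, .c13, .c13⟩ ⟨.c0, .c11, .c1⟩ ⟨.c0, .c9, .c3⟩ ⟨.c0, .c9, .c4⟩ ⟨.c0, .c11, .c4⟩ ⟨.c0, .c9, .c5⟩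 ⟨.c0, .c9, .c6⟩ ⟨.c0, .c11, .c7⟩ ⟨.c0, .c9, .c7⟩ ⟨.c0, .c14, .c0⟩ ⟨.c0, .c14, .c1⟩ ⟨.c0, .c14, .c3⟩ ⟨.c0, .c14, .c4⟩ ⟨.c0, .c14, .c6⟩ ⟨.c0, .c14, .c13⟩ ⟨.c0, .c10, .c3⟩ ⟨.c0, .c11, .c16⟩ ⟨.c0, .c10, .c4⟩) (@D3.rec (fun _ => Pt) ⟨.c0, .c10, .c5⟩ ⟨.c0, .c12, .c1⟩ ⟨.c0, .c10, .c6⟩ ⟨.c0, .c10, .c7⟩ ⟨.c0, .c12, .c4⟩ ⟨.c0, .c12, .c5⟩ ⟨.c0, .c12, .c6⟩ ⟨.c0, .c10, .c8⟩ ⟨.c0, .c10, .c9⟩ ⟨.c0, .c12, .c9⟩ ⟨.c0, .c10, .c10⟩ ⟨.c0, .c10, .c11⟩ ⟨.c0, .c12, .c12⟩ ⟨.c0, .c10, .c12⟩ ⟨.c0, .c14, .c15⟩ ⟨.c0, .c14, .c16⟩ ⟨.c1, .c0, .c2⟩ ⟨.c1, .c0, .c3⟩) (@D3.rec (fun _ =>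 Pt) ⟨.c1, .c0, .c5⟩ ⟨.c1, .c0, .c6⟩ ⟨.c1, .c0, .c7⟩ ⟨.c1, .c0, .c12⟩ ⟨.c1, .c0, .c13⟩ ⟨.c1, .c0, .c15⟩ ⟨.c1, .c0, .c16⟩ ⟨.c1, .c2, .c0⟩ ⟨.c1, .c1, .c2⟩ ⟨.c0, .c13, .c9⟩ ⟨.c1, .c2, .c4⟩ ⟨.c0, .c10, .c15⟩ ⟨.c0, .c13, .c12⟩ ⟨.c0, .c11, .c0⟩ ⟨.c1, .c2, .c6⟩ ⟨.c0, .c13, .c15⟩ ⟨.c0, .c13, .c16⟩ ⟨.c0, .c13, .c17⟩) (@D3.rec (fun _ => Pt) ⟨.c0, .c11, .c9⟩ ⟨.c0, .c11, .c10⟩ ⟨.c0, .c14, .c2⟩ ⟨.c0, .c11, .c11⟩ ⟨.c0, .c11, .c12⟩ ⟨.c0, .c14, .c5⟩ ⟨.c0, .c11, .c13⟩ ⟨.c1, .c2, .c12⟩ ⟨.c1, .c2, .c13⟩ ⟨.c1, .c2, .c15⟩ ⟨.c1, .c2, .c16⟩ ⟨.c1, .c3, .c9⟩ ⟨.c1, .c3, .c2⟩ ⟨.c0,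 .c11, .c14⟩ ⟨.c0, .c14, .c14⟩ ⟨.c0, .c12, .c14⟩ ⟨.c0, .c12, .c15⟩ ⟨.c0, .c14, .c17⟩)
def f_g_1 : D2 → D3 → Pt := @D2.rec (fun _ => D3 → Pt) (@D3.rec (fun _ => Pt) ⟨.c1, .c0, .c0⟩ ⟨.c1, .c0, .c1⟩ ⟨.c0, .c12, .c16⟩ ⟨.c0, .c12, .c17⟩ ⟨.c1, .c0, .c4⟩ ⟨.c0, .c13, .c0⟩ ⟨.c0, .c13, .c1⟩ ⟨.c0, .c13, .c2⟩ ⟨.c1, .c0, .c8⟩ ⟨.c1, .c0, .c9⟩ ⟨.c1, .c0, .c10⟩ ⟨.c1, .c0, .c11⟩ ⟨.c0, .c13, .c3⟩ ⟨.c0, .c13, .c4⟩ ⟨.c1, .c0, .c14⟩ ⟨.c0, .c13, .c5⟩ ⟨.c0, .c13, .c6⟩ ⟨.c1, .c5, .c5⟩) (@D3.rec (fun _ => Pt) ⟨.c1, .c1, .c0⟩ ⟨.c1, .c1, .c1⟩ ⟨.c0, .c13, .c8⟩ ⟨.c1, .c3, .c14⟩ ⟨.c1,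 .c3, .c15⟩ ⟨.c1, .c3, .c16⟩ ⟨.c1, .c4, .c3⟩ ⟨.c1, .c4, .c4⟩ ⟨.c1, .c4, .c6⟩ ⟨.c1, .c4, .c7⟩ ⟨.c1, .c4, .c8⟩ ⟨.c1, .c6, .c3⟩ ⟨.c1, .c4, .c15⟩ ⟨.c1, .c4, .c16⟩ ⟨.c1, .c4, .c17⟩ ⟨.c1, .c5, .c2⟩ ⟨.c1, .c5, .c3⟩ ⟨.c1, .c6, .c12⟩) (@D3.rec (fun _ => Pt) ⟨.c0, .c13, .c7⟩ ⟨.c1, .c5, .c8⟩ ⟨.c1, .c2, .c2⟩ ⟨.c1, .c6, .c15⟩ ⟨.c0, .c13, .c10⟩ ⟨.c1, .c2, .c5⟩ ⟨.c0, .c13, .c14⟩ ⟨.c1, .c7, .c0⟩ ⟨.c1, .c2, .c8⟩ ⟨.c1, .c2, .c9⟩ ⟨.c1, .c2, .c10⟩ ⟨.c1, .c2, .c11⟩ ⟨.c0, .c14, .c7⟩ ⟨.c0, .c14, .c8⟩ ⟨.c1, .c2, .c14⟩ ⟨.c0, .c14, .c9⟩ ⟨.c0, .c14, .c10⟩ ⟨.c1, .c7, .c15⟩) (@D3.rec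 (fun _ => Pt) ⟨.c1, .c3, .c0⟩ ⟨.c1, .c3, .c1⟩ ⟨.c0, .c14, .c12⟩ ⟨.c1, .c7, .c7⟩ ⟨.c1, .c7, .c8⟩ ⟨.c1, .c7, .c9⟩ ⟨.c1, .c7, .c12⟩ ⟨.c1, .c7, .c13⟩ ⟨.c1, .c8, .c9⟩ ⟨.c0, .c14, .c11⟩ ⟨.c1, .c8, .c0⟩ ⟨.c1, .c3, .c11⟩ ⟨.c1, .c3, .c12⟩ ⟨.c1, .c3, .c13⟩ ⟨.c1, .c1, .c3⟩ ⟨.c1, .c1, .c4⟩ ⟨.c1, .c1, .c5⟩ ⟨.c1, .c3, .c17⟩) (@D3.rec (fun _ => Pt) ⟨.c1, .c4, .c0⟩ ⟨.c1, .c4, .c1⟩ ⟨.c1, .c4, .c2⟩ ⟨.c1, .c1, .c6⟩ ⟨.c1, .c1, .c7⟩ ⟨.c1, .c4, .c5⟩ ⟨.c1, .c1, .c8⟩ ⟨.c1, .c1, .c9⟩ ⟨.c1, .c1, .c10⟩ ⟨.c1, .c9, .c17⟩ ⟨.c1, .c4, .c10⟩ ⟨.c1, .c4, .c11⟩ ⟨.c1, .c4, .c12⟩ ⟨.c1, .c4,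 .c13⟩ ⟨.c1, .c4, .c14⟩ ⟨.c1, .c1, .c12⟩ ⟨.c1, .c1, .c13⟩ ⟨.c1, .c1, .c14⟩) (@D3.rec (fun _ => Pt) ⟨.c1, .c5, .c0⟩ ⟨.c1, .c5, .c1⟩ ⟨.c1, .c1, .c15⟩ ⟨.c1, .c1, .c16⟩ ⟨.c1, .c11, .c0⟩ ⟨.c1, .c0, .c17⟩ ⟨.c1, .c5, .c6⟩ ⟨.c1, .c5, .c7⟩ ⟨.c1, .c2, .c1⟩ ⟨.c1, .c8, .c16⟩ ⟨.c1, .c8, .c17⟩ ⟨.c1, .c9, .c0⟩ ⟨.c1, .c9, .c1⟩ ⟨.c1, .c9, .c7⟩ ⟨.c1, .c9, .c8⟩ ⟨.c1, .c9, .c9⟩ ⟨.c1, .c9, .c12⟩ ⟨.c1, .c9, .c13⟩) (@D3.rec (fun _ => Pt) ⟨.c1, .c12, .c1⟩ ⟨.c1, .c9, .c15⟩ ⟨.c1, .c12, .c4⟩ ⟨.c1, .c1, .c11⟩ ⟨.c1, .c10, .c7⟩ ⟨.c1, .c10, .c8⟩ ⟨.c1, .c10, .c9⟩ ⟨.c1, .c10, .c10⟩ ⟨.c1,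 .c12, .c12⟩ ⟨.c1, .c10, .c15⟩ ⟨.c1, .c10, .c16⟩ ⟨.c1, .c12, .c15⟩ ⟨.c1, .c1, .c17⟩ ⟨.c1, .c12, .c16⟩ ⟨.c1, .c6, .c14⟩ ⟨.c1, .c2, .c3⟩ ⟨.c1, .c6, .c16⟩ ⟨.c1, .c6, .c17⟩) (@D3.rec (fun _ => Pt) ⟨.c1, .c2, .c7⟩ ⟨.c1, .c13, .c1⟩ ⟨.c1, .c7, .c2⟩ ⟨.c1, .c7, .c3⟩ ⟨.c1, .c7, .c4⟩ ⟨.c1, .c7, .c5⟩ ⟨.c1, .c7, .c6⟩ ⟨.c1, .c3, .c3⟩ ⟨.c1, .c3, .c4⟩ ⟨.c1, .c3, .c5⟩ ⟨.c1, .c7, .c10⟩ ⟨.c1, .c7, .c11⟩ ⟨.c1, .c3, .c6⟩ ⟨.c1, .c3, .c7⟩ ⟨.c1, .c14, .c2⟩ ⟨.c1, .c2, .c17⟩ ⟨.c1, .c7, .c16⟩ ⟨.c1, .c7, .c17⟩) (@D3.rec (fun _ => Pt) ⟨.c1, .c3, .c10⟩ ⟨.c1, .c13, .c9⟩ ⟨.c1, .c13,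 .c10⟩ ⟨.c1, .c13, .c11⟩ ⟨.c1, .c13, .c12⟩ ⟨.c1, .c14, .c13⟩ ⟨.c1, .c13, .c17⟩ ⟨.c1, .c14, .c0⟩ ⟨.c1, .c14, .c16⟩ ⟨.c1, .c3, .c8⟩ ⟨.c1, .c8, .c10⟩ ⟨.c1, .c8, .c11⟩ ⟨.c1, .c8, .c12⟩ ⟨.c1, .c8, .c13⟩ ⟨.c1, .c8, .c14⟩ ⟨.c1, .c8, .c15⟩ ⟨.c1, .c5, .c9⟩ ⟨.c1, .c5, .c10⟩) (@D3.rec (fun _ => Pt) ⟨.c1, .c5, .c11⟩ ⟨.c1, .c5, .c12⟩ ⟨.c1, .c9, .c2⟩ ⟨.c1, .c9, .c3⟩ ⟨.c1, .c9, .c4⟩ ⟨.c1, .c9, .c5⟩ ⟨.c1, .c9, .c6⟩ ⟨.c1, .c5, .c13⟩ ⟨.c1, .c5, .c14⟩ ⟨.c1, .c5, .c15⟩ ⟨.c1, .c9, .c10⟩ ⟨.c1, .c9, .c11⟩ ⟨.c1, .c5, .c16⟩ ⟨.c1, .c5, .c17⟩ ⟨.c2, .c1, .c10⟩ ⟨.c1, .c6, .c1⟩ ⟨.c2,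 .c1, .c13⟩ ⟨.c1, .c4, .c9⟩) (@D3.rec (fun _ => Pt) ⟨.c1, .c10, .c0⟩ ⟨.c1, .c10, .c1⟩ ⟨.c1, .c10, .c2⟩ ⟨.c1, .c10, .c3⟩ ⟨.c1, .c10, .c4⟩ ⟨.c1, .c10, .c5⟩ ⟨.c1, .c10, .c6⟩ ⟨.c1, .c6, .c4⟩ ⟨.c1, .c6, .c5⟩ ⟨.c1, .c6, .c6⟩ ⟨.c1, .c6, .c7⟩ ⟨.c2, .c2, .c13⟩ ⟨.c1, .c10, .c12⟩ ⟨.c1, .c10, .c13⟩ ⟨.c2, .c3, .c0⟩ ⟨.c1, .c6, .c9⟩ ⟨.c1, .c6, .c10⟩ ⟨.c2, .c3, .c3⟩) (@D3.rec (fun _ => Pt) ⟨.c1, .c5, .c4⟩ ⟨.c1, .c11, .c1⟩ ⟨.c1, .c11, .c2⟩ ⟨.c1, .c11, .c3⟩ ⟨.c1, .c11, .c4⟩ ⟨.c2, .c0, .c5⟩ ⟨.c2, .c0, .c6⟩ ⟨.c2, .c0, .c7⟩ ⟨.c2, .c0, .c8⟩ ⟨.c2, .c0, .c9⟩ ⟨.c2, .c0, .c16⟩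 ⟨.c2, .c0, .c17⟩ ⟨.c2, .c1, .c0⟩ ⟨.c2, .c1, .c1⟩ ⟨.c2, .c4, .c2⟩ ⟨.c2, .c1, .c6⟩ ⟨.c2, .c1, .c7⟩ ⟨.c2, .c1, .c8⟩) (@D3.rec (fun _ => Pt) ⟨.c2, .c4, .c8⟩ ⟨.c1, .c6, .c0⟩ ⟨.c2, .c4, .c9⟩ ⟨.c2, .c1, .c12⟩ ⟨.c1, .c6, .c2⟩ ⟨.c2, .c2, .c6⟩ ⟨.c2, .c2, .c7⟩ ⟨.c2, .c4, .c14⟩ ⟨.c2, .c2, .c9⟩ ⟨.c2, .c2, .c10⟩ ⟨.c2, .c2, .c11⟩ ⟨.c2, .c5, .c1⟩ ⟨.c1, .c6, .c8⟩ ⟨.c2, .c3, .c1⟩ ⟨.c2, .c5, .c3⟩ ⟨.c1, .c6, .c11⟩ ⟨.c1, .c6, .c13⟩ ⟨.c1, .c12, .c17⟩) (@D3.rec (fun _ => Pt) ⟨.c1, .c13, .c0⟩ ⟨.c1, .c7, .c1⟩ ⟨.c1, .c13, .c2⟩ ⟨.c1, .c13, .c3⟩ ⟨.c1, .c13, .c4⟩ ⟨.c1, .c13, .c5⟩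 ⟨.c1, .c13, .c6⟩ ⟨.c1, .c13, .c7⟩ ⟨.c1, .c13, .c8⟩ ⟨.c1, .c8, .c1⟩ ⟨.c1, .c8, .c2⟩ ⟨.c1, .c8, .c3⟩ ⟨.c1, .c8, .c4⟩ ⟨.c2, .c6, .c7⟩ ⟨.c1, .c13, .c14⟩ ⟨.c1, .c13, .c15⟩ ⟨.c2, .c6, .c12⟩ ⟨.c1, .c8, .c6⟩) (@D3.rec (fun _ => Pt) ⟨.c1, .c8, .c7⟩ ⟨.c2, .c6, .c15⟩ ⟨.c1, .c7, .c14⟩ ⟨.c1, .c14, .c3⟩ ⟨.c1, .c14, .c4⟩ ⟨.c1, .c14, .c5⟩ ⟨.c2, .c6, .c0⟩ ⟨.c2, .c6, .c1⟩ ⟨.c2, .c7, .c5⟩ ⟨.c2, .c6, .c3⟩ ⟨.c2, .c6, .c4⟩ ⟨.c2, .c6, .c5⟩ ⟨.c2, .c7, .c7⟩ ⟨.c1, .c8, .c5⟩ ⟨.c2, .c6, .c13⟩ ⟨.c2, .c7, .c9⟩ ⟨.c1, .c8, .c8⟩ ⟨.c1, .c14, .c17⟩)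
def f_g_2 : D2 → D3 → Pt := @D2.rec (fun _ => D3 → Pt) (@D3.rec (fun _ => Pt) ⟨.c2, .c0, .c0⟩ ⟨.c2, .c0, .c1⟩ ⟨.c2, .c0, .c2⟩ ⟨.c2, .c0, .c3⟩ ⟨.c2, .c0, .c4⟩ ⟨.c1, .c11, .c5⟩ ⟨.c1, .c11, .c6⟩ ⟨.c1, .c11, .c7⟩ ⟨.c1, .c11, .c8⟩ ⟨.c1, .c11, .c9⟩ ⟨.c2, .c0, .c10⟩ ⟨.c2, .c0, .c11⟩ ⟨.c2, .c0, .c12⟩ ⟨.c2, .c0, .c13⟩ ⟨.c2, .c0, .c14⟩ ⟨.c2, .c0, .c15⟩ ⟨.c1, .c11, .c10⟩ ⟨.c1, .c11, .c11⟩) (@D3.rec (fun _ => Pt) ⟨.c1, .c11, .c12⟩ ⟨.c1, .c11, .c13⟩ ⟨.c2, .c9, .c3⟩ ⟨.c2, .c1, .c3⟩ ⟨.c2, .c1, .c4⟩ ⟨.c2, .c9, .c8⟩ ⟨.c1, .c11, .c15⟩ ⟨.c1, .c11, .c16⟩ ⟨.c1, .c11, .c17⟩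 ⟨.c2, .c9, .c14⟩ ⟨.c1, .c9, .c14⟩ ⟨.c2, .c9, .c16⟩ ⟨.c1, .c12, .c3⟩ ⟨.c1, .c9, .c16⟩ ⟨.c2, .c1, .c14⟩ ⟨.c2, .c1, .c15⟩ ⟨.c2, .c1, .c16⟩ ⟨.c2, .c1, .c17⟩) (@D3.rec (fun _ => Pt) ⟨.c2, .c2, .c0⟩ ⟨.c2, .c2, .c1⟩ ⟨.c2, .c2, .c2⟩ ⟨.c2, .c2, .c3⟩ ⟨.c2, .c2, .c4⟩ ⟨.c2, .c10, .c15⟩ ⟨.c1, .c12, .c5⟩ ⟨.c1, .c12, .c6⟩ ⟨.c2, .c11, .c2⟩ ⟨.c1, .c12, .c8⟩ ⟨.c1, .c12, .c9⟩ ⟨.c1, .c12, .c10⟩ ⟨.c2, .c11, .c7⟩ ⟨.c1, .c10, .c11⟩ ⟨.c2, .c2, .c14⟩ ⟨.c2, .c2, .c15⟩ ⟨.c2, .c2, .c16⟩ ⟨.c2, .c11, .c13⟩) (@D3.rec (fun _ => Pt) ⟨.c1, .c10, .c14⟩ ⟨.c1, .c12, .c13⟩ ⟨.c2, .c11, .c15⟩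 ⟨.c1, .c10, .c17⟩ ⟨.c2, .c3, .c4⟩ ⟨.c2, .c3, .c5⟩ ⟨.c2, .c3, .c6⟩ ⟨.c2, .c7, .c17⟩ ⟨.c2, .c8, .c0⟩ ⟨.c2, .c8, .c1⟩ ⟨.c2, .c8, .c2⟩ ⟨.c2, .c8, .c3⟩ ⟨.c2, .c10, .c0⟩ ⟨.c2, .c8, .c14⟩ ⟨.c2, .c8, .c15⟩ ⟨.c2, .c12, .c13⟩ ⟨.c2, .c8, .c17⟩ ⟨.c2, .c9, .c0⟩) (@D3.rec (fun _ => Pt) ⟨.c2, .c9, .c1⟩ ⟨.c2, .c13, .c1⟩ ⟨.c1, .c11, .c14⟩ ⟨.c2, .c9, .c9⟩ ⟨.c2, .c9, .c10⟩ ⟨.c2, .c13, .c6⟩ ⟨.c2, .c13, .c7⟩ ⟨.c2, .c9, .c13⟩ ⟨.c1, .c12, .c0⟩ ⟨.c1, .c12, .c2⟩ ⟨.c2, .c10, .c16⟩ ⟨.c2, .c10, .c17⟩ ⟨.c2, .c11, .c0⟩ ⟨.c2, .c13, .c11⟩ ⟨.c1, .c12, .c7⟩ ⟨.c2, .c11, .c3⟩ ⟨.c2, .c11,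 .c4⟩ ⟨.c2, .c13, .c13⟩) (@D3.rec (fun _ => Pt) ⟨.c2, .c13, .c14⟩ ⟨.c1, .c12, .c11⟩ ⟨.c2, .c13, .c15⟩ ⟨.c1, .c12, .c14⟩ ⟨.c2, .c5, .c4⟩ ⟨.c2, .c5, .c5⟩ ⟨.c2, .c5, .c6⟩ ⟨.c2, .c5, .c7⟩ ⟨.c2, .c5, .c8⟩ ⟨.c2, .c5, .c9⟩ ⟨.c2, .c5, .c10⟩ ⟨.c2, .c5, .c11⟩ ⟨.c2, .c5, .c12⟩ ⟨.c2, .c5, .c13⟩ ⟨.c2, .c5, .c14⟩ ⟨.c2, .c5, .c15⟩ ⟨.c2, .c5, .c16⟩ ⟨.c2, .c14, .c14⟩) (@D3.rec (fun _ => Pt) ⟨.c1, .c14, .c6⟩ ⟨.c1, .c14, .c7⟩ ⟨.c3, .c0, .c1⟩ ⟨.c1, .c14, .c9⟩ ⟨.c1, .c14, .c10⟩ ⟨.c1, .c14, .c11⟩ ⟨.c3, .c0, .c6⟩ ⟨.c1, .c13, .c13⟩ ⟨.c2, .c6, .c8⟩ ⟨.c2, .c6, .c9⟩ ⟨.c2, .c6,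 .c10⟩ ⟨.c3, .c0, .c12⟩ ⟨.c1, .c13, .c16⟩ ⟨.c1, .c14, .c14⟩ ⟨.c3, .c0, .c14⟩ ⟨.c1, .c14, .c1⟩ ⟨.c2, .c6, .c16⟩ ⟨.c2, .c6, .c17⟩) (@D3.rec (fun _ => Pt) ⟨.c2, .c7, .c0⟩ ⟨.c2, .c14, .c15⟩ ⟨.c2, .c14, .c16⟩ ⟨.c2, .c14, .c17⟩ ⟨.c3, .c0, .c3⟩ ⟨.c1, .c14, .c8⟩ ⟨.c3, .c0, .c2⟩ ⟨.c1, .c14, .c12⟩ ⟨.c3, .c0, .c16⟩ ⟨.c1, .c14, .c15⟩ ⟨.c2, .c7, .c10⟩ ⟨.c2, .c7, .c11⟩ ⟨.c2, .c7, .c12⟩ ⟨.c2, .c7, .c13⟩ ⟨.c2, .c7, .c14⟩ ⟨.c2, .c7, .c15⟩ ⟨.c2, .c7, .c16⟩ ⟨.c2, .c3, .c7⟩) (@D3.rec (fun _ => Pt) ⟨.c2, .c3, .c8⟩ ⟨.c2, .c3, .c9⟩ ⟨.c2, .c3, .c10⟩ ⟨.c2, .c3, .c11⟩ ⟨.c3, .c1,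 .c17⟩ ⟨.c2, .c8, .c5⟩ ⟨.c2, .c8, .c6⟩ ⟨.c2, .c8, .c7⟩ ⟨.c2, .c8, .c8⟩ ⟨.c2, .c8, .c9⟩ ⟨.c2, .c8, .c10⟩ ⟨.c2, .c8, .c11⟩ ⟨.c2, .c8, .c12⟩ ⟨.c3, .c2, .c13⟩ ⟨.c2, .c3, .c13⟩ ⟨.c2, .c3, .c14⟩ ⟨.c3, .c3, .c0⟩ ⟨.c2, .c3, .c16⟩) (@D3.rec (fun _ => Pt) ⟨.c2, .c3, .c17⟩ ⟨.c2, .c4, .c0⟩ ⟨.c3, .c3, .c6⟩ ⟨.c2, .c1, .c2⟩ ⟨.c2, .c9, .c4⟩ ⟨.c2, .c9, .c5⟩ ⟨.c2, .c9, .c6⟩ ⟨.c3, .c3, .c12⟩ ⟨.c2, .c1, .c5⟩ ⟨.c2, .c4, .c3⟩ ⟨.c2, .c4, .c4⟩ ⟨.c3, .c3, .c17⟩ ⟨.c3, .c4, .c1⟩ ⟨.c2, .c4, .c7⟩ ⟨.c2, .c1, .c9⟩ ⟨.c3, .c4, .c4⟩ ⟨.c2, .c1, .c11⟩ ⟨.c3, .c1, .c12⟩) (@D3.rec (fun _ =>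 Pt) ⟨.c2, .c3, .c12⟩ ⟨.c2, .c10, .c1⟩ ⟨.c2, .c10, .c2⟩ ⟨.c2, .c10, .c3⟩ ⟨.c2, .c10, .c4⟩ ⟨.c2, .c10, .c5⟩ ⟨.c2, .c10, .c6⟩ ⟨.c3, .c4, .c14⟩ ⟨.c2, .c10, .c8⟩ ⟨.c2, .c10, .c9⟩ ⟨.c3, .c5, .c1⟩ ⟨.c2, .c10, .c11⟩ ⟨.c2, .c10, .c12⟩ ⟨.c2, .c10, .c13⟩ ⟨.c3, .c5, .c7⟩ ⟨.c2, .c2, .c5⟩ ⟨.c2, .c4, .c10⟩ ⟨.c2, .c4, .c11⟩) (@D3.rec (fun _ => Pt) ⟨.c2, .c4, .c12⟩ ⟨.c3, .c5, .c12⟩ ⟨.c2, .c2, .c8⟩ ⟨.c2, .c4, .c15⟩ ⟨.c2, .c4, .c16⟩ ⟨.c3, .c5, .c17⟩ ⟨.c3, .c6, .c1⟩ ⟨.c2, .c2, .c12⟩ ⟨.c2, .c11, .c8⟩ ⟨.c2, .c11, .c9⟩ ⟨.c3, .c6, .c7⟩ ⟨.c3, .c6, .c8⟩ ⟨.c2, .c11, .c12⟩ ⟨.c2,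 .c2, .c17⟩ ⟨.c3, .c6, .c11⟩ ⟨.c2, .c3, .c2⟩ ⟨.c2, .c11, .c16⟩ ⟨.c2, .c11, .c17⟩) (@D3.rec (fun _ => Pt) ⟨.c2, .c12, .c0⟩ ⟨.c2, .c12, .c1⟩ ⟨.c3, .c1, .c9⟩ ⟨.c3, .c1, .c10⟩ ⟨.c3, .c1, .c11⟩ ⟨.c3, .c1, .c13⟩ ⟨.c3, .c1, .c14⟩ ⟨.c3, .c1, .c15⟩ ⟨.c3, .c4, .c3⟩ ⟨.c3, .c2, .c14⟩ ⟨.c3, .c2, .c15⟩ ⟨.c3, .c2, .c16⟩ ⟨.c3, .c7, .c10⟩ ⟨.c2, .c3, .c15⟩ ⟨.c3, .c3, .c1⟩ ⟨.c3, .c3, .c2⟩ ⟨.c3, .c7, .c16⟩ ⟨.c3, .c7, .c17⟩) (@D3.rec (fun _ => Pt) ⟨.c3, .c3, .c5⟩ ⟨.c2, .c4, .c1⟩ ⟨.c3, .c3, .c13⟩ ⟨.c3, .c8, .c2⟩ ⟨.c3, .c8, .c3⟩ ⟨.c3, .c3, .c16⟩ ⟨.c2, .c4, .c5⟩ ⟨.c2, .c4, .c6⟩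 ⟨.c3, .c5, .c8⟩ ⟨.c3, .c5, .c9⟩ ⟨.c3, .c5, .c13⟩ ⟨.c2, .c4, .c13⟩ ⟨.c3, .c5, .c15⟩ ⟨.c2, .c4, .c17⟩ ⟨.c2, .c5, .c0⟩ ⟨.c2, .c5, .c2⟩ ⟨.c2, .c13, .c16⟩ ⟨.c2, .c13, .c17⟩) (@D3.rec (fun _ => Pt) ⟨.c2, .c14, .c0⟩ ⟨.c2, .c14, .c1⟩ ⟨.c2, .c14, .c2⟩ ⟨.c2, .c14, .c3⟩ ⟨.c2, .c14, .c4⟩ ⟨.c2, .c14, .c5⟩ ⟨.c3, .c8, .c10⟩ ⟨.c2, .c14, .c7⟩ ⟨.c2, .c14, .c8⟩ ⟨.c3, .c8, .c15⟩ ⟨.c2, .c14, .c10⟩ ⟨.c2, .c14, .c11⟩ ⟨.c2, .c14, .c12⟩ ⟨.c3, .c9, .c3⟩ ⟨.c2, .c5, .c17⟩ ⟨.c2, .c7, .c1⟩ ⟨.c2, .c7, .c2⟩ ⟨.c2, .c7, .c3⟩)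
def f_g_3 : D2 → D3 → Pt := @D2.rec (fun _ => D3 → Pt) (@D3.rec (fun _ => Pt) ⟨.c3, .c9, .c6⟩ ⟨.c2, .c6, .c2⟩ ⟨.c2, .c7, .c6⟩ ⟨.c2, .c7, .c4⟩ ⟨.c3, .c9, .c5⟩ ⟨.c3, .c9, .c4⟩ ⟨.c2, .c6, .c6⟩ ⟨.c3, .c0, .c7⟩ ⟨.c3, .c0, .c8⟩ ⟨.c3, .c9, .c12⟩ ⟨.c3, .c9, .c13⟩ ⟨.c3, .c0, .c11⟩ ⟨.c2, .c6, .c11⟩ ⟨.c3, .c9, .c15⟩ ⟨.c2, .c6, .c14⟩ ⟨.c3, .c0, .c15⟩ ⟨.c2, .c7, .c8⟩ ⟨.c3, .c0, .c17⟩) (@D3.rec (fun _ => Pt) ⟨.c3, .c1, .c0⟩ ⟨.c3, .c1, .c1⟩ ⟨.c3, .c1, .c2⟩ ⟨.c3, .c1, .c3⟩ ⟨.c3, .c1, .c4⟩ ⟨.c3, .c1, .c5⟩ ⟨.c3, .c1, .c6⟩ ⟨.c3, .c1, .c7⟩ ⟨.c3, .c10, .c14⟩ ⟨.c2, .c12,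 .c2⟩ ⟨.c2, .c12, .c3⟩ ⟨.c2, .c12, .c4⟩ ⟨.c2, .c9, .c17⟩ ⟨.c2, .c12, .c5⟩ ⟨.c2, .c12, .c6⟩ ⟨.c2, .c12, .c7⟩ ⟨.c3, .c11, .c7⟩ ⟨.c2, .c8, .c4⟩) (@D3.rec (fun _ => Pt) ⟨.c3, .c2, .c0⟩ ⟨.c3, .c2, .c1⟩ ⟨.c3, .c2, .c2⟩ ⟨.c3, .c2, .c3⟩ ⟨.c3, .c2, .c4⟩ ⟨.c3, .c11, .c17⟩ ⟨.c3, .c2, .c6⟩ ⟨.c3, .c2, .c7⟩ ⟨.c3, .c12, .c4⟩ ⟨.c3, .c2, .c9⟩ ⟨.c3, .c2, .c10⟩ ⟨.c3, .c2, .c11⟩ ⟨.c3, .c12, .c10⟩ ⟨.c2, .c8, .c13⟩ ⟨.c2, .c12, .c9⟩ ⟨.c2, .c12, .c10⟩ ⟨.c2, .c12, .c11⟩ ⟨.c3, .c12, .c16⟩) (@D3.rec (fun _ => Pt) ⟨.c2, .c8, .c16⟩ ⟨.c2, .c12, .c14⟩ ⟨.c2, .c12, .c15⟩ ⟨.c3, .c13,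 .c4⟩ ⟨.c3, .c13, .c6⟩ ⟨.c2, .c13, .c0⟩ ⟨.c2, .c9, .c2⟩ ⟨.c3, .c3, .c7⟩ ⟨.c3, .c3, .c8⟩ ⟨.c3, .c13, .c14⟩ ⟨.c3, .c13, .c16⟩ ⟨.c3, .c3, .c11⟩ ⟨.c2, .c9, .c7⟩ ⟨.c2, .c13, .c2⟩ ⟨.c3, .c14, .c3⟩ ⟨.c3, .c14, .c5⟩ ⟨.c2, .c13, .c5⟩ ⟨.c2, .c9, .c11⟩) (@D3.rec (fun _ => Pt) ⟨.c3, .c14, .c8⟩ ⟨.c2, .c9, .c12⟩ ⟨.c3, .c11, .c1⟩ ⟨.c2, .c12, .c8⟩ ⟨.c2, .c9, .c15⟩ ⟨.c3, .c10, .c9⟩ ⟨.c3, .c4, .c6⟩ ⟨.c3, .c4, .c7⟩ ⟨.c3, .c4, .c8⟩ ⟨.c3, .c14, .c15⟩ ⟨.c3, .c4, .c10⟩ ⟨.c3, .c4, .c11⟩ ⟨.c3, .c4, .c12⟩ ⟨.c4, .c0, .c3⟩ ⟨.c2, .c10, .c7⟩ ⟨.c3, .c4, .c15⟩ ⟨.c3, .c4, .c16⟩ ⟨.c3,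 .c4, .c17⟩) (@D3.rec (fun _ => Pt) ⟨.c4, .c0, .c9⟩ ⟨.c2, .c10, .c10⟩ ⟨.c3, .c5, .c2⟩ ⟨.c3, .c5, .c3⟩ ⟨.c4, .c0, .c15⟩ ⟨.c4, .c0, .c17⟩ ⟨.c3, .c5, .c6⟩ ⟨.c2, .c10, .c14⟩ ⟨.c2, .c13, .c8⟩ ⟨.c2, .c13, .c9⟩ ⟨.c4, .c1, .c5⟩ ⟨.c3, .c9, .c7⟩ ⟨.c2, .c11, .c1⟩ ⟨.c2, .c13, .c10⟩ ⟨.c4, .c1, .c4⟩ ⟨.c2, .c13, .c12⟩ ⟨.c4, .c1, .c2⟩ ⟨.c2, .c11, .c5⟩) (@D3.rec (fun _ => Pt) ⟨.c4, .c1, .c10⟩ ⟨.c2, .c11, .c6⟩ ⟨.c3, .c6, .c2⟩ ⟨.c4, .c1, .c13⟩ ⟨.c3, .c6, .c4⟩ ⟨.c4, .c1, .c16⟩ ⟨.c3, .c6, .c6⟩ ⟨.c2, .c11, .c10⟩ ⟨.c2, .c11, .c11⟩ ⟨.c4, .c2, .c0⟩ ⟨.c3, .c6, .c10⟩ ⟨.c2, .c11,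 .c14⟩ ⟨.c3, .c6, .c12⟩ ⟨.c3, .c6, .c13⟩ ⟨.c3, .c10, .c15⟩ ⟨.c3, .c10, .c16⟩ ⟨.c3, .c10, .c17⟩ ⟨.c3, .c11, .c0⟩) (@D3.rec (fun _ => Pt) ⟨.c3, .c11, .c2⟩ ⟨.c3, .c11, .c3⟩ ⟨.c3, .c14, .c7⟩ ⟨.c3, .c13, .c8⟩ ⟨.c3, .c11, .c6⟩ ⟨.c3, .c12, .c11⟩ ⟨.c3, .c12, .c12⟩ ⟨.c4, .c1, .c7⟩ ⟨.c4, .c2, .c17⟩ ⟨.c3, .c12, .c15⟩ ⟨.c2, .c12, .c12⟩ ⟨.c3, .c12, .c17⟩ ⟨.c4, .c1, .c3⟩ ⟨.c3, .c13, .c1⟩ ⟨.c4, .c3, .c2⟩ ⟨.c3, .c13, .c3⟩ ⟨.c2, .c12, .c16⟩ ⟨.c2, .c12, .c17⟩) (@D3.rec (fun _ => Pt) ⟨.c4, .c3, .c3⟩ ⟨.c3, .c14, .c2⟩ ⟨.c2, .c13, .c3⟩ ⟨.c2, .c13, .c4⟩ ⟨.c3, .c8, .c4⟩ ⟨.c3,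 .c8, .c5⟩ ⟨.c4, .c3, .c7⟩ ⟨.c3, .c8, .c7⟩ ⟨.c3, .c8, .c8⟩ ⟨.c4, .c3, .c12⟩ ⟨.c2, .c14, .c6⟩ ⟨.c3, .c8, .c11⟩ ⟨.c3, .c8, .c12⟩ ⟨.c3, .c8, .c13⟩ ⟨.c4, .c4, .c0⟩ ⟨.c2, .c14, .c9⟩ ⟨.c3, .c8, .c16⟩ ⟨.c3, .c8, .c17⟩) (@D3.rec (fun _ => Pt) ⟨.c4, .c4, .c4⟩ ⟨.c4, .c4, .c6⟩ ⟨.c3, .c9, .c2⟩ ⟨.c2, .c14, .c13⟩ ⟨.c3, .c0, .c5⟩ ⟨.c3, .c0, .c4⟩ ⟨.c3, .c0, .c0⟩ ⟨.c3, .c5, .c11⟩ ⟨.c4, .c3, .c15⟩ ⟨.c3, .c9, .c9⟩ ⟨.c4, .c4, .c9⟩ ⟨.c4, .c4, .c10⟩ ⟨.c3, .c0, .c9⟩ ⟨.c3, .c0, .c10⟩ ⟨.c4, .c4, .c11⟩ ⟨.c3, .c0, .c13⟩ ⟨.c3, .c9, .c16⟩ ⟨.c3, .c9, .c17⟩) (@D3.rec (fun _ => Pt)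 ⟨.c3, .c10, .c0⟩ ⟨.c3, .c10, .c1⟩ ⟨.c3, .c10, .c2⟩ ⟨.c3, .c10, .c3⟩ ⟨.c4, .c5, .c4⟩ ⟨.c3, .c10, .c5⟩ ⟨.c3, .c10, .c6⟩ ⟨.c3, .c10, .c7⟩ ⟨.c3, .c10, .c8⟩ ⟨.c3, .c4, .c5⟩ ⟨.c3, .c10, .c10⟩ ⟨.c3, .c10, .c11⟩ ⟨.c3, .c10, .c12⟩ ⟨.c4, .c5, .c16⟩ ⟨.c3, .c1, .c8⟩ ⟨.c3, .c6, .c14⟩ ⟨.c3, .c6, .c15⟩ ⟨.c3, .c6, .c16⟩) (@D3.rec (fun _ => Pt) ⟨.c3, .c6, .c17⟩ ⟨.c3, .c4, .c2⟩ ⟨.c3, .c7, .c0⟩ ⟨.c3, .c7, .c1⟩ ⟨.c4, .c6, .c9⟩ ⟨.c4, .c6, .c11⟩ ⟨.c3, .c7, .c4⟩ ⟨.c3, .c1, .c16⟩ ⟨.c3, .c11, .c8⟩ ⟨.c3, .c11, .c9⟩ ⟨.c3, .c11, .c10⟩ ⟨.c3, .c11, .c11⟩ ⟨.c4, .c7, .c1⟩ ⟨.c3, .c11,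 .c13⟩ ⟨.c3, .c11, .c14⟩ ⟨.c3, .c11, .c15⟩ ⟨.c4, .c7, .c7⟩ ⟨.c3, .c2, .c5⟩) (@D3.rec (fun _ => Pt) ⟨.c3, .c12, .c0⟩ ⟨.c3, .c12, .c1⟩ ⟨.c3, .c12, .c2⟩ ⟨.c4, .c7, .c13⟩ ⟨.c3, .c2, .c8⟩ ⟨.c3, .c12, .c5⟩ ⟨.c3, .c12, .c6⟩ ⟨.c4, .c8, .c1⟩ ⟨.c4, .c8, .c3⟩ ⟨.c3, .c12, .c9⟩ ⟨.c3, .c2, .c12⟩ ⟨.c3, .c7, .c5⟩ ⟨.c3, .c7, .c6⟩ ⟨.c4, .c8, .c11⟩ ⟨.c4, .c8, .c13⟩ ⟨.c3, .c7, .c9⟩ ⟨.c3, .c2, .c17⟩ ⟨.c3, .c7, .c11⟩) (@D3.rec (fun _ => Pt) ⟨.c4, .c9, .c1⟩ ⟨.c3, .c7, .c13⟩ ⟨.c4, .c9, .c5⟩ ⟨.c3, .c7, .c15⟩ ⟨.c3, .c3, .c3⟩ ⟨.c4, .c9, .c8⟩ ⟨.c3, .c3, .c4⟩ ⟨.c4, .c6, .c3⟩ ⟨.c3,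 .c7, .c3⟩ ⟨.c3, .c13, .c9⟩ ⟨.c4, .c9, .c13⟩ ⟨.c3, .c13, .c11⟩ ⟨.c4, .c9, .c17⟩ ⟨.c3, .c13, .c13⟩ ⟨.c3, .c3, .c9⟩ ⟨.c4, .c10, .c2⟩ ⟨.c3, .c3, .c10⟩ ⟨.c4, .c10, .c4⟩) (@D3.rec (fun _ => Pt) ⟨.c3, .c14, .c0⟩ ⟨.c4, .c10, .c7⟩ ⟨.c3, .c8, .c1⟩ ⟨.c3, .c3, .c14⟩ ⟨.c4, .c10, .c10⟩ ⟨.c3, .c3, .c15⟩ ⟨.c4, .c6, .c2⟩ ⟨.c3, .c7, .c2⟩ ⟨.c3, .c4, .c0⟩ ⟨.c4, .c5, .c10⟩ ⟨.c4, .c4, .c17⟩ ⟨.c4, .c10, .c14⟩ ⟨.c3, .c14, .c12⟩ ⟨.c3, .c14, .c13⟩ ⟨.c4, .c11, .c0⟩ ⟨.c3, .c4, .c9⟩ ⟨.c3, .c14, .c16⟩ ⟨.c3, .c14, .c17⟩)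
def f_g_4 : D2 → D3 → Pt := @D2.rec (fun _ => D3 → Pt) (@D3.rec (fun _ => Pt) ⟨.c4, .c11, .c6⟩ ⟨.c4, .c11, .c8⟩ ⟨.c4, .c0, .c2⟩ ⟨.c3, .c4, .c13⟩ ⟨.c4, .c0, .c4⟩ ⟨.c4, .c0, .c5⟩ ⟨.c4, .c11, .c16⟩ ⟨.c4, .c12, .c0⟩ ⟨.c4, .c0, .c8⟩ ⟨.c3, .c5, .c0⟩ ⟨.c4, .c0, .c10⟩ ⟨.c4, .c12, .c5⟩ ⟨.c4, .c0, .c12⟩ ⟨.c4, .c12, .c9⟩ ⟨.c4, .c0, .c14⟩ ⟨.c3, .c5, .c4⟩ ⟨.c4, .c12, .c11⟩ ⟨.c3, .c5, .c5⟩) (@D3.rec (fun _ => Pt) ⟨.c4, .c12, .c13⟩ ⟨.c4, .c1, .c1⟩ ⟨.c3, .c5, .c16⟩ ⟨.c3, .c7, .c12⟩ ⟨.c3, .c5, .c14⟩ ⟨.c3, .c5, .c10⟩ ⟨.c4, .c4, .c2⟩ ⟨.c3, .c7, .c7⟩ ⟨.c4, .c8, .c7⟩ ⟨.c4,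 .c11, .c12⟩ ⟨.c3, .c6, .c0⟩ ⟨.c4, .c1, .c11⟩ ⟨.c4, .c12, .c17⟩ ⟨.c3, .c6, .c3⟩ ⟨.c4, .c13, .c0⟩ ⟨.c4, .c1, .c15⟩ ⟨.c3, .c6, .c5⟩ ⟨.c4, .c13, .c3⟩) (@D3.rec (fun _ => Pt) ⟨.c3, .c6, .c9⟩ ⟨.c4, .c13, .c4⟩ ⟨.c4, .c2, .c2⟩ ⟨.c4, .c5, .c17⟩ ⟨.c4, .c6, .c0⟩ ⟨.c4, .c6, .c1⟩ ⟨.c4, .c6, .c4⟩ ⟨.c4, .c10, .c9⟩ ⟨.c4, .c6, .c6⟩ ⟨.c4, .c9, .c7⟩ ⟨.c4, .c6, .c8⟩ ⟨.c4, .c6, .c13⟩ ⟨.c4, .c8, .c15⟩ ⟨.c4, .c8, .c6⟩ ⟨.c4, .c8, .c8⟩ ⟨.c4, .c8, .c16⟩ ⟨.c4, .c8, .c10⟩ ⟨.c3, .c7, .c8⟩) (@D3.rec (fun _ => Pt) ⟨.c4, .c9, .c0⟩ ⟨.c4, .c9, .c3⟩ ⟨.c3, .c7, .c14⟩ ⟨.c3, .c8, .c0⟩ ⟨.c4,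 .c13, .c12⟩ ⟨.c4, .c3, .c5⟩ ⟨.c4, .c13, .c14⟩ ⟨.c3, .c8, .c6⟩ ⟨.c4, .c3, .c8⟩ ⟨.c4, .c14, .c0⟩ ⟨.c4, .c14, .c2⟩ ⟨.c4, .c3, .c11⟩ ⟨.c3, .c8, .c9⟩ ⟨.c4, .c3, .c13⟩ ⟨.c4, .c3, .c14⟩ ⟨.c3, .c9, .c8⟩ ⟨.c4, .c14, .c7⟩ ⟨.c4, .c3, .c17⟩) (@D3.rec (fun _ => Pt) ⟨.c3, .c8, .c14⟩ ⟨.c4, .c4, .c1⟩ ⟨.c4, .c1, .c6⟩ ⟨.c4, .c14, .c6⟩ ⟨.c3, .c9, .c0⟩ ⟨.c4, .c14, .c5⟩ ⟨.c3, .c9, .c1⟩ ⟨.c4, .c14, .c11⟩ ⟨.c4, .c14, .c12⟩ ⟨.c3, .c9, .c10⟩ ⟨.c3, .c9, .c11⟩ ⟨.c3, .c9, .c14⟩ ⟨.c4, .c4, .c12⟩ ⟨.c4, .c4, .c13⟩ ⟨.c4, .c14, .c17⟩ ⟨.c4, .c4, .c15⟩ ⟨.c4, .c4, .c16⟩ ⟨.c3, .c14, .c10⟩)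 (@D3.rec (fun _ => Pt) ⟨.c4, .c5, .c0⟩ ⟨.c4, .c5, .c1⟩ ⟨.c4, .c5, .c2⟩ ⟨.c5, .c0, .c8⟩ ⟨.c3, .c10, .c4⟩ ⟨.c4, .c5, .c5⟩ ⟨.c4, .c5, .c6⟩ ⟨.c4, .c5, .c7⟩ ⟨.c4, .c5, .c8⟩ ⟨.c4, .c5, .c9⟩ ⟨.c3, .c14, .c9⟩ ⟨.c4, .c5, .c11⟩ ⟨.c4, .c5, .c12⟩ ⟨.c5, .c1, .c4⟩ ⟨.c5, .c1, .c6⟩ ⟨.c4, .c5, .c15⟩ ⟨.c3, .c10, .c13⟩ ⟨.c4, .c2, .c3⟩) (@D3.rec (fun _ => Pt) ⟨.c4, .c2, .c4⟩ ⟨.c4, .c2, .c5⟩ ⟨.c3, .c14, .c6⟩ ⟨.c3, .c13, .c7⟩ ⟨.c4, .c2, .c6⟩ ⟨.c5, .c1, .c17⟩ ⟨.c4, .c2, .c8⟩ ⟨.c5, .c2, .c3⟩ ⟨.c4, .c2, .c10⟩ ⟨.c3, .c11, .c4⟩ ⟨.c5, .c2, .c6⟩ ⟨.c3, .c11, .c5⟩ ⟨.c5, .c2, .c8⟩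 ⟨.c4, .c2, .c11⟩ ⟨.c4, .c6, .c14⟩ ⟨.c5, .c2, .c12⟩ ⟨.c4, .c6, .c16⟩ ⟨.c4, .c6, .c17⟩) (@D3.rec (fun _ => Pt) ⟨.c5, .c2, .c17⟩ ⟨.c3, .c11, .c12⟩ ⟨.c4, .c7, .c2⟩ ⟨.c4, .c7, .c3⟩ ⟨.c5, .c3, .c5⟩ ⟨.c5, .c3, .c7⟩ ⟨.c4, .c7, .c6⟩ ⟨.c3, .c11, .c16⟩ ⟨.c4, .c7, .c8⟩ ⟨.c4, .c7, .c9⟩ ⟨.c5, .c3, .c15⟩ ⟨.c5, .c3, .c17⟩ ⟨.c4, .c7, .c12⟩ ⟨.c3, .c12, .c3⟩ ⟨.c4, .c7, .c14⟩ ⟨.c5, .c4, .c5⟩ ⟨.c4, .c7, .c16⟩ ⟨.c5, .c4, .c9⟩) (@D3.rec (fun _ => Pt) ⟨.c4, .c8, .c0⟩ ⟨.c3, .c12, .c7⟩ ⟨.c5, .c4, .c12⟩ ⟨.c3, .c12, .c8⟩ ⟨.c5, .c4, .c14⟩ ⟨.c4, .c8, .c5⟩ ⟨.c4, .c2, .c13⟩ ⟨.c4, .c1,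 .c8⟩ ⟨.c4, .c2, .c14⟩ ⟨.c5, .c5, .c1⟩ ⟨.c4, .c2, .c16⟩ ⟨.c3, .c12, .c13⟩ ⟨.c5, .c5, .c3⟩ ⟨.c3, .c12, .c14⟩ ⟨.c5, .c2, .c9⟩ ⟨.c4, .c2, .c12⟩ ⟨.c4, .c2, .c15⟩ ⟨.c5, .c4, .c17⟩) (@D3.rec (fun _ => Pt) ⟨.c4, .c3, .c0⟩ ⟨.c3, .c13, .c0⟩ ⟨.c5, .c4, .c16⟩ ⟨.c4, .c3, .c1⟩ ⟨.c5, .c5, .c9⟩ ⟨.c3, .c13, .c2⟩ ⟨.c5, .c1, .c12⟩ ⟨.c4, .c2, .c9⟩ ⟨.c3, .c13, .c5⟩ ⟨.c5, .c1, .c13⟩ ⟨.c4, .c9, .c10⟩ ⟨.c5, .c5, .c15⟩ ⟨.c4, .c9, .c12⟩ ⟨.c3, .c13, .c10⟩ ⟨.c5, .c6, .c1⟩ ⟨.c4, .c9, .c15⟩ ⟨.c5, .c6, .c5⟩ ⟨.c3, .c13, .c12⟩) (@D3.rec (fun _ => Pt) ⟨.c5, .c6, .c7⟩ ⟨.c4, .c10, .c1⟩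 ⟨.c3, .c13, .c15⟩ ⟨.c5, .c6, .c9⟩ ⟨.c3, .c13, .c17⟩ ⟨.c5, .c6, .c12⟩ ⟨.c5, .c6, .c13⟩ ⟨.c3, .c14, .c1⟩ ⟨.c5, .c1, .c10⟩ ⟨.c4, .c2, .c7⟩ ⟨.c3, .c14, .c4⟩ ⟨.c5, .c0, .c14⟩ ⟨.c5, .c0, .c15⟩ ⟨.c5, .c0, .c2⟩ ⟨.c3, .c14, .c11⟩ ⟨.c4, .c10, .c15⟩ ⟨.c5, .c7, .c2⟩ ⟨.c5, .c7, .c4⟩) (@D3.rec (fun _ => Pt) ⟨.c3, .c14, .c14⟩ ⟨.c4, .c11, .c1⟩ ⟨.c5, .c7, .c8⟩ ⟨.c4, .c11, .c3⟩ ⟨.c5, .c7, .c12⟩ ⟨.c4, .c11, .c5⟩ ⟨.c4, .c0, .c0⟩ ⟨.c5, .c7, .c15⟩ ⟨.c4, .c0, .c1⟩ ⟨.c5, .c7, .c17⟩ ⟨.c4, .c11, .c10⟩ ⟨.c4, .c11, .c11⟩ ⟨.c4, .c1, .c9⟩ ⟨.c4, .c11, .c13⟩ ⟨.c5, .c8, .c6⟩ ⟨.c4, .c11,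 .c15⟩ ⟨.c4, .c0, .c6⟩ ⟨.c4, .c14, .c9⟩) (@D3.rec (fun _ => Pt) ⟨.c4, .c0, .c7⟩ ⟨.c5, .c7, .c3⟩ ⟨.c4, .c12, .c2⟩ ⟨.c4, .c12, .c3⟩ ⟨.c5, .c8, .c5⟩ ⟨.c4, .c0, .c11⟩ ⟨.c5, .c8, .c10⟩ ⟨.c4, .c12, .c7⟩ ⟨.c5, .c8, .c2⟩ ⟨.c4, .c0, .c13⟩ ⟨.c5, .c8, .c14⟩ ⟨.c4, .c0, .c16⟩ ⟨.c5, .c8, .c0⟩ ⟨.c4, .c1, .c0⟩ ⟨.c5, .c7, .c16⟩ ⟨.c5, .c3, .c11⟩ ⟨.c5, .c8, .c16⟩ ⟨.c4, .c1, .c12⟩) (@D3.rec (fun _ => Pt) ⟨.c4, .c1, .c14⟩ ⟨.c5, .c8, .c17⟩ ⟨.c4, .c13, .c2⟩ ⟨.c4, .c1, .c17⟩ ⟨.c4, .c2, .c1⟩ ⟨.c4, .c13, .c5⟩ ⟨.c5, .c1, .c9⟩ ⟨.c5, .c1, .c11⟩ ⟨.c5, .c1, .c14⟩ ⟨.c5, .c2, .c1⟩ ⟨.c5,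 .c1, .c16⟩ ⟨.c5, .c2, .c5⟩ ⟨.c4, .c3, .c4⟩ ⟨.c5, .c9, .c4⟩ ⟨.c4, .c3, .c6⟩ ⟨.c4, .c13, .c15⟩ ⟨.c5, .c9, .c7⟩ ⟨.c4, .c13, .c17⟩) (@D3.rec (fun _ => Pt) ⟨.c4, .c3, .c9⟩ ⟨.c5, .c9, .c8⟩ ⟨.c4, .c3, .c10⟩ ⟨.c5, .c9, .c6⟩ ⟨.c4, .c14, .c4⟩ ⟨.c4, .c4, .c5⟩ ⟨.c4, .c4, .c3⟩ ⟨.c4, .c3, .c16⟩ ⟨.c5, .c9, .c3⟩ ⟨.c4, .c11, .c17⟩ ⟨.c5, .c9, .c5⟩ ⟨.c4, .c4, .c7⟩ ⟨.c4, .c4, .c8⟩ ⟨.c4, .c14, .c13⟩ ⟨.c4, .c14, .c14⟩ ⟨.c4, .c14, .c15⟩ ⟨.c5, .c9, .c14⟩ ⟨.c4, .c4, .c14⟩)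
def f_g_5 : D2 → D3 → Pt := @D2.rec (fun _ => D3 → Pt) (@D3.rec (fun _ => Pt) ⟨.c5, .c0, .c0⟩ ⟨.c5, .c0, .c1⟩ ⟨.c4, .c10, .c13⟩ ⟨.c5, .c0, .c3⟩ ⟨.c5, .c0, .c4⟩ ⟨.c5, .c10, .c6⟩ ⟨.c5, .c10, .c8⟩ ⟨.c5, .c0, .c7⟩ ⟨.c4, .c5, .c3⟩ ⟨.c5, .c0, .c9⟩ ⟨.c5, .c0, .c10⟩ ⟨.c5, .c0, .c11⟩ ⟨.c5, .c0, .c12⟩ ⟨.c5, .c0, .c13⟩ ⟨.c4, .c10, .c11⟩ ⟨.c4, .c10, .c12⟩ ⟨.c5, .c0, .c16⟩ ⟨.c5, .c0, .c17⟩) (@D3.rec (fun _ => Pt) ⟨.c5, .c11, .c7⟩ ⟨.c5, .c1, .c1⟩ ⟨.c5, .c11, .c11⟩ ⟨.c5, .c1, .c3⟩ ⟨.c4, .c5, .c13⟩ ⟨.c5, .c11, .c14⟩ ⟨.c4, .c5, .c14⟩ ⟨.c5, .c11, .c16⟩ ⟨.c5, .c1, .c8⟩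 ⟨.c4, .c13, .c6⟩ ⟨.c4, .c10, .c8⟩ ⟨.c4, .c13, .c7⟩ ⟨.c4, .c9, .c6⟩ ⟨.c4, .c9, .c9⟩ ⟨.c4, .c13, .c8⟩ ⟨.c5, .c12, .c5⟩ ⟨.c4, .c13, .c10⟩ ⟨.c4, .c6, .c5⟩) (@D3.rec (fun _ => Pt) ⟨.c5, .c12, .c6⟩ ⟨.c4, .c13, .c9⟩ ⟨.c5, .c12, .c8⟩ ⟨.c4, .c6, .c7⟩ ⟨.c5, .c12, .c3⟩ ⟨.c4, .c13, .c11⟩ ⟨.c4, .c6, .c10⟩ ⟨.c5, .c12, .c12⟩ ⟨.c4, .c6, .c12⟩ ⟨.c4, .c8, .c14⟩ ⟨.c5, .c2, .c10⟩ ⟨.c5, .c12, .c16⟩ ⟨.c4, .c6, .c15⟩ ⟨.c5, .c2, .c13⟩ ⟨.c5, .c13, .c2⟩ ⟨.c5, .c13, .c4⟩ ⟨.c5, .c2, .c16⟩ ⟨.c4, .c7, .c0⟩) (@D3.rec (fun _ => Pt) ⟨.c5, .c3, .c0⟩ ⟨.c5, .c13, .c10⟩ ⟨.c5, .c3, .c2⟩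 ⟨.c5, .c13, .c14⟩ ⟨.c5, .c3, .c4⟩ ⟨.c4, .c7, .c4⟩ ⟨.c5, .c13, .c17⟩ ⟨.c4, .c7, .c5⟩ ⟨.c5, .c14, .c1⟩ ⟨.c5, .c3, .c9⟩ ⟨.c5, .c3, .c10⟩ ⟨.c4, .c12, .c15⟩ ⟨.c5, .c3, .c12⟩ ⟨.c5, .c14, .c9⟩ ⟨.c5, .c3, .c14⟩ ⟨.c4, .c7, .c10⟩ ⟨.c5, .c14, .c12⟩ ⟨.c4, .c7, .c11⟩) (@D3.rec (fun _ => Pt) ⟨.c5, .c14, .c14⟩ ⟨.c5, .c4, .c1⟩ ⟨.c5, .c4, .c2⟩ ⟨.c6, .c0, .c2⟩ ⟨.c5, .c4, .c4⟩ ⟨.c4, .c7, .c15⟩ ⟨.c6, .c0, .c6⟩ ⟨.c5, .c4, .c7⟩ ⟨.c6, .c0, .c10⟩ ⟨.c4, .c7, .c17⟩ ⟨.c6, .c0, .c12⟩ ⟨.c5, .c4, .c11⟩ ⟨.c4, .c8, .c2⟩ ⟨.c6, .c0, .c15⟩ ⟨.c4, .c8, .c4⟩ ⟨.c6, .c1, .c0⟩ ⟨.c4, .c9, .c2⟩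 ⟨.c4, .c8, .c17⟩) (@D3.rec (fun _ => Pt) ⟨.c6, .c1, .c3⟩ ⟨.c4, .c8, .c9⟩ ⟨.c5, .c12, .c10⟩ ⟨.c4, .c8, .c12⟩ ⟨.c5, .c12, .c11⟩ ⟨.c6, .c1, .c2⟩ ⟨.c5, .c12, .c0⟩ ⟨.c6, .c1, .c1⟩ ⟨.c5, .c12, .c1⟩ ⟨.c4, .c9, .c4⟩ ⟨.c5, .c12, .c2⟩ ⟨.c5, .c11, .c1⟩ ⟨.c6, .c1, .c11⟩ ⟨.c5, .c5, .c13⟩ ⟨.c6, .c1, .c14⟩ ⟨.c4, .c9, .c11⟩ ⟨.c6, .c1, .c16⟩ ⟨.c5, .c5, .c17⟩) (@D3.rec (fun _ => Pt) ⟨.c6, .c2, .c0⟩ ⟨.c4, .c9, .c14⟩ ⟨.c6, .c2, .c2⟩ ⟨.c5, .c6, .c3⟩ ⟨.c5, .c6, .c4⟩ ⟨.c4, .c9, .c16⟩ ⟨.c6, .c2, .c7⟩ ⟨.c4, .c10, .c0⟩ ⟨.c6, .c2, .c10⟩ ⟨.c4, .c10, .c3⟩ ⟨.c5, .c11, .c2⟩ ⟨.c6,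 .c2, .c11⟩ ⟨.c4, .c10, .c5⟩ ⟨.c4, .c10, .c6⟩ ⟨.c5, .c10, .c15⟩ ⟨.c5, .c10, .c17⟩ ⟨.c5, .c9, .c17⟩ ⟨.c5, .c9, .c16⟩) (@D3.rec (fun _ => Pt) ⟨.c5, .c7, .c0⟩ ⟨.c6, .c3, .c2⟩ ⟨.c4, .c10, .c16⟩ ⟨.c4, .c12, .c1⟩ ⟨.c4, .c10, .c17⟩ ⟨.c5, .c7, .c5⟩ ⟨.c6, .c3, .c7⟩ ⟨.c5, .c7, .c7⟩ ⟨.c4, .c11, .c2⟩ ⟨.c6, .c3, .c10⟩ ⟨.c5, .c7, .c10⟩ ⟨.c6, .c3, .c8⟩ ⟨.c4, .c11, .c4⟩ ⟨.c6, .c3, .c6⟩ ⟨.c5, .c7, .c14⟩ ⟨.c4, .c11, .c7⟩ ⟨.c4, .c12, .c14⟩ ⟨.c4, .c11, .c9⟩) (@D3.rec (fun _ => Pt) ⟨.c4, .c12, .c12⟩ ⟨.c5, .c8, .c1⟩ ⟨.c4, .c12, .c8⟩ ⟨.c6, .c3, .c16⟩ ⟨.c5, .c8, .c4⟩ ⟨.c4, .c12,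 .c4⟩ ⟨.c4, .c11, .c14⟩ ⟨.c6, .c3, .c1⟩ ⟨.c6, .c3, .c15⟩ ⟨.c6, .c3, .c14⟩ ⟨.c4, .c12, .c6⟩ ⟨.c6, .c4, .c2⟩ ⟨.c5, .c8, .c12⟩ ⟨.c6, .c3, .c13⟩ ⟨.c4, .c12, .c10⟩ ⟨.c5, .c14, .c4⟩ ⟨.c4, .c12, .c16⟩ ⟨.c4, .c13, .c1⟩) (@D3.rec (fun _ => Pt) ⟨.c6, .c4, .c6⟩ ⟨.c5, .c9, .c1⟩ ⟨.c6, .c2, .c17⟩ ⟨.c4, .c14, .c8⟩ ⟨.c4, .c13, .c13⟩ ⟨.c4, .c14, .c10⟩ ⟨.c4, .c14, .c3⟩ ⟨.c4, .c13, .c16⟩ ⟨.c4, .c14, .c1⟩ ⟨.c5, .c9, .c9⟩ ⟨.c5, .c9, .c10⟩ ⟨.c6, .c4, .c14⟩ ⟨.c6, .c4, .c16⟩ ⟨.c5, .c9, .c13⟩ ⟨.c4, .c14, .c16⟩ ⟨.c5, .c9, .c15⟩ ⟨.c5, .c6, .c17⟩ ⟨.c5, .c6, .c16⟩) (@D3.rec (fun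 _ => Pt) ⟨.c5, .c10, .c0⟩ ⟨.c5, .c10, .c1⟩ ⟨.c6, .c5, .c10⟩ ⟨.c5, .c10, .c3⟩ ⟨.c6, .c5, .c14⟩ ⟨.c5, .c10, .c5⟩ ⟨.c5, .c0, .c5⟩ ⟨.c6, .c5, .c17⟩ ⟨.c5, .c0, .c6⟩ ⟨.c6, .c6, .c1⟩ ⟨.c5, .c10, .c10⟩ ⟨.c5, .c10, .c11⟩ ⟨.c5, .c10, .c12⟩ ⟨.c5, .c10, .c13⟩ ⟨.c5, .c10, .c14⟩ ⟨.c5, .c6, .c14⟩ ⟨.c5, .c10, .c16⟩ ⟨.c5, .c6, .c15⟩) (@D3.rec (fun _ => Pt) ⟨.c5, .c11, .c0⟩ ⟨.c5, .c5, .c11⟩ ⟨.c5, .c6, .c10⟩ ⟨.c5, .c11, .c3⟩ ⟨.c5, .c11, .c4⟩ ⟨.c6, .c7, .c3⟩ ⟨.c5, .c11, .c6⟩ ⟨.c5, .c1, .c0⟩ ⟨.c6, .c7, .c7⟩ ⟨.c5, .c11, .c9⟩ ⟨.c6, .c7, .c11⟩ ⟨.c5, .c1, .c2⟩ ⟨.c6, .c7, .c13⟩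 ⟨.c5, .c11, .c13⟩ ⟨.c5, .c1, .c5⟩ ⟨.c6, .c7, .c16⟩ ⟨.c5, .c1, .c7⟩ ⟨.c6, .c8, .c1⟩) (@D3.rec (fun _ => Pt) ⟨.c5, .c5, .c6⟩ ⟨.c5, .c5, .c8⟩ ⟨.c5, .c5, .c10⟩ ⟨.c5, .c2, .c4⟩ ⟨.c6, .c8, .c5⟩ ⟨.c5, .c1, .c15⟩ ⟨.c5, .c2, .c0⟩ ⟨.c6, .c8, .c6⟩ ⟨.c5, .c2, .c2⟩ ⟨.c6, .c8, .c4⟩ ⟨.c5, .c5, .c2⟩ ⟨.c5, .c5, .c4⟩ ⟨.c5, .c2, .c7⟩ ⟨.c6, .c8, .c10⟩ ⟨.c6, .c8, .c13⟩ ⟨.c5, .c12, .c15⟩ ⟨.c5, .c2, .c11⟩ ⟨.c5, .c12, .c17⟩) (@D3.rec (fun _ => Pt) ⟨.c6, .c9, .c1⟩ ⟨.c5, .c13, .c1⟩ ⟨.c5, .c2, .c14⟩ ⟨.c6, .c9, .c4⟩ ⟨.c5, .c2, .c15⟩ ⟨.c6, .c9, .c6⟩ ⟨.c5, .c13, .c6⟩ ⟨.c5, .c13,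 .c7⟩ ⟨.c6, .c9, .c12⟩ ⟨.c5, .c13, .c9⟩ ⟨.c5, .c3, .c1⟩ ⟨.c6, .c9, .c16⟩ ⟨.c5, .c13, .c12⟩ ⟨.c6, .c10, .c2⟩ ⟨.c5, .c3, .c3⟩ ⟨.c6, .c10, .c4⟩ ⟨.c5, .c13, .c16⟩ ⟨.c5, .c3, .c6⟩) (@D3.rec (fun _ => Pt) ⟨.c6, .c10, .c7⟩ ⟨.c5, .c3, .c8⟩ ⟨.c6, .c10, .c10⟩ ⟨.c5, .c14, .c3⟩ ⟨.c5, .c8, .c15⟩ ⟨.c5, .c14, .c5⟩ ⟨.c6, .c11, .c0⟩ ⟨.c5, .c14, .c7⟩ ⟨.c6, .c11, .c4⟩ ⟨.c5, .c3, .c13⟩ ⟨.c6, .c11, .c6⟩ ⟨.c5, .c14, .c11⟩ ⟨.c5, .c3, .c16⟩ ⟨.c6, .c11, .c8⟩ ⟨.c5, .c4, .c0⟩ ⟨.c6, .c11, .c11⟩ ⟨.c5, .c14, .c16⟩ ⟨.c6, .c11, .c14⟩)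
def f_g_6 : D2 → D3 → Pt := @D2.rec (fun _ => D3 → Pt) (@D3.rec (fun _ => Pt) ⟨.c6, .c0, .c0⟩ ⟨.c6, .c11, .c17⟩ ⟨.c5, .c4, .c3⟩ ⟨.c6, .c12, .c1⟩ ⟨.c6, .c0, .c4⟩ ⟨.c6, .c12, .c4⟩ ⟨.c5, .c4, .c6⟩ ⟨.c6, .c12, .c6⟩ ⟨.c6, .c0, .c8⟩ ⟨.c6, .c0, .c9⟩ ⟨.c5, .c4, .c8⟩ ⟨.c6, .c12, .c12⟩ ⟨.c5, .c4, .c10⟩ ⟨.c6, .c12, .c15⟩ ⟨.c6, .c7, .c15⟩ ⟨.c5, .c4, .c13⟩ ⟨.c6, .c6, .c15⟩ ⟨.c6, .c12, .c16⟩) (@D3.rec (fun _ => Pt) ⟨.c5, .c4, .c15⟩ ⟨.c5, .c5, .c7⟩ ⟨.c5, .c5, .c5⟩ ⟨.c5, .c5, .c0⟩ ⟨.c6, .c8, .c8⟩ ⟨.c6, .c8, .c2⟩ ⟨.c6, .c10, .c14⟩ ⟨.c6, .c8, .c3⟩ ⟨.c6, .c6, .c12⟩ ⟨.c6,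 .c5, .c4⟩ ⟨.c6, .c13, .c6⟩ ⟨.c5, .c5, .c12⟩ ⟨.c6, .c13, .c8⟩ ⟨.c6, .c1, .c13⟩ ⟨.c5, .c5, .c14⟩ ⟨.c6, .c13, .c10⟩ ⟨.c5, .c5, .c16⟩ ⟨.c6, .c13, .c13⟩) (@D3.rec (fun _ => Pt) ⟨.c5, .c6, .c0⟩ ⟨.c6, .c13, .c14⟩ ⟨.c5, .c6, .c2⟩ ⟨.c6, .c13, .c17⟩ ⟨.c6, .c14, .c0⟩ ⟨.c6, .c2, .c5⟩ ⟨.c6, .c2, .c6⟩ ⟨.c5, .c6, .c6⟩ ⟨.c6, .c6, .c13⟩ ⟨.c6, .c14, .c5⟩ ⟨.c5, .c6, .c8⟩ ⟨.c5, .c6, .c11⟩ ⟨.c6, .c5, .c5⟩ ⟨.c6, .c6, .c16⟩ ⟨.c6, .c6, .c8⟩ ⟨.c6, .c6, .c10⟩ ⟨.c6, .c5, .c2⟩ ⟨.c5, .c9, .c2⟩) (@D3.rec (fun _ => Pt) ⟨.c6, .c14, .c14⟩ ⟨.c5, .c8, .c7⟩ ⟨.c5, .c7, .c1⟩ ⟨.c6, .c3, .c3⟩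 ⟨.c6, .c14, .c17⟩ ⟨.c6, .c3, .c5⟩ ⟨.c5, .c7, .c13⟩ ⟨.c5, .c7, .c6⟩ ⟨.c5, .c7, .c11⟩ ⟨.c7, .c0, .c0⟩ ⟨.c5, .c7, .c9⟩ ⟨.c6, .c14, .c16⟩ ⟨.c6, .c3, .c12⟩ ⟨.c5, .c8, .c13⟩ ⟨.c5, .c8, .c9⟩ ⟨.c5, .c8, .c8⟩ ⟨.c5, .c8, .c3⟩ ⟨.c6, .c14, .c13⟩) (@D3.rec (fun _ => Pt) ⟨.c6, .c10, .c12⟩ ⟨.c6, .c14, .c15⟩ ⟨.c5, .c8, .c11⟩ ⟨.c7, .c0, .c6⟩ ⟨.c6, .c4, .c4⟩ ⟨.c6, .c10, .c15⟩ ⟨.c5, .c9, .c0⟩ ⟨.c7, .c0, .c10⟩ ⟨.c6, .c14, .c12⟩ ⟨.c6, .c4, .c9⟩ ⟨.c7, .c0, .c15⟩ ⟨.c6, .c4, .c11⟩ ⟨.c7, .c1, .c1⟩ ⟨.c6, .c4, .c13⟩ ⟨.c5, .c9, .c11⟩ ⟨.c7, .c1, .c4⟩ ⟨.c5, .c9, .c12⟩ ⟨.c7, .c1,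 .c6⟩) (@D3.rec (fun _ => Pt) ⟨.c6, .c5, .c0⟩ ⟨.c6, .c5, .c1⟩ ⟨.c6, .c2, .c16⟩ ⟨.c6, .c5, .c3⟩ ⟨.c6, .c1, .c9⟩ ⟨.c6, .c2, .c12⟩ ⟨.c6, .c5, .c6⟩ ⟨.c6, .c5, .c7⟩ ⟨.c7, .c2, .c1⟩ ⟨.c6, .c5, .c9⟩ ⟨.c5, .c10, .c2⟩ ⟨.c7, .c2, .c5⟩ ⟨.c6, .c5, .c12⟩ ⟨.c7, .c2, .c9⟩ ⟨.c5, .c10, .c4⟩ ⟨.c7, .c2, .c11⟩ ⟨.c6, .c5, .c16⟩ ⟨.c5, .c10, .c7⟩) (@D3.rec (fun _ => Pt) ⟨.c7, .c2, .c14⟩ ⟨.c5, .c10, .c9⟩ ⟨.c7, .c2, .c17⟩ ⟨.c6, .c6, .c3⟩ ⟨.c6, .c6, .c4⟩ ⟨.c6, .c6, .c5⟩ ⟨.c6, .c6, .c6⟩ ⟨.c6, .c6, .c7⟩ ⟨.c6, .c2, .c14⟩ ⟨.c6, .c6, .c9⟩ ⟨.c6, .c2, .c15⟩ ⟨.c6, .c6, .c11⟩ ⟨.c6, .c1,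 .c8⟩ ⟨.c6, .c2, .c8⟩ ⟨.c6, .c6, .c14⟩ ⟨.c6, .c0, .c16⟩ ⟨.c6, .c2, .c13⟩ ⟨.c6, .c6, .c17⟩) (@D3.rec (fun _ => Pt) ⟨.c7, .c4, .c2⟩ ⟨.c6, .c7, .c1⟩ ⟨.c7, .c4, .c6⟩ ⟨.c5, .c11, .c5⟩ ⟨.c7, .c4, .c8⟩ ⟨.c6, .c7, .c5⟩ ⟨.c7, .c4, .c11⟩ ⟨.c5, .c11, .c8⟩ ⟨.c7, .c4, .c13⟩ ⟨.c6, .c7, .c9⟩ ⟨.c6, .c7, .c10⟩ ⟨.c5, .c11, .c10⟩ ⟨.c7, .c5, .c1⟩ ⟨.c5, .c11, .c12⟩ ⟨.c7, .c5, .c4⟩ ⟨.c6, .c0, .c14⟩ ⟨.c5, .c11, .c15⟩ ⟨.c7, .c5, .c6⟩) (@D3.rec (fun _ => Pt) ⟨.c7, .c5, .c7⟩ ⟨.c5, .c11, .c17⟩ ⟨.c6, .c1, .c5⟩ ⟨.c6, .c1, .c7⟩ ⟨.c5, .c12, .c9⟩ ⟨.c5, .c12, .c4⟩ ⟨.c5, .c12, .c7⟩ ⟨.c7,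 .c5, .c12⟩ ⟨.c6, .c1, .c4⟩ ⟨.c7, .c5, .c11⟩ ⟨.c5, .c12, .c13⟩ ⟨.c7, .c5, .c15⟩ ⟨.c7, .c5, .c17⟩ ⟨.c5, .c12, .c14⟩ ⟨.c7, .c6, .c1⟩ ⟨.c6, .c8, .c15⟩ ⟨.c7, .c6, .c4⟩ ⟨.c6, .c8, .c17⟩) (@D3.rec (fun _ => Pt) ⟨.c7, .c6, .c7⟩ ⟨.c5, .c13, .c0⟩ ⟨.c7, .c6, .c9⟩ ⟨.c6, .c9, .c3⟩ ⟨.c5, .c13, .c3⟩ ⟨.c7, .c6, .c11⟩ ⟨.c5, .c13, .c5⟩ ⟨.c7, .c6, .c14⟩ ⟨.c6, .c9, .c8⟩ ⟨.c7, .c7, .c0⟩ ⟨.c6, .c9, .c10⟩ ⟨.c7, .c7, .c4⟩ ⟨.c5, .c13, .c8⟩ ⟨.c7, .c7, .c6⟩ ⟨.c6, .c9, .c14⟩ ⟨.c7, .c7, .c9⟩ ⟨.c5, .c13, .c11⟩ ⟨.c7, .c7, .c11⟩) (@D3.rec (fun _ => Pt) ⟨.c6, .c10, .c0⟩ ⟨.c6, .c10,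 .c1⟩ ⟨.c5, .c13, .c13⟩ ⟨.c7, .c7, .c17⟩ ⟨.c5, .c13, .c15⟩ ⟨.c7, .c8, .c2⟩ ⟨.c7, .c2, .c13⟩ ⟨.c5, .c14, .c0⟩ ⟨.c7, .c8, .c4⟩ ⟨.c7, .c8, .c5⟩ ⟨.c5, .c14, .c2⟩ ⟨.c6, .c10, .c11⟩ ⟨.c6, .c4, .c0⟩ ⟨.c6, .c10, .c13⟩ ⟨.c6, .c1, .c6⟩ ⟨.c6, .c4, .c5⟩ ⟨.c6, .c10, .c16⟩ ⟨.c7, .c8, .c15⟩) (@D3.rec (fun _ => Pt) ⟨.c5, .c14, .c6⟩ ⟨.c7, .c8, .c17⟩ ⟨.c6, .c11, .c2⟩ ⟨.c6, .c11, .c3⟩ ⟨.c5, .c14, .c8⟩ ⟨.c7, .c9, .c3⟩ ⟨.c5, .c14, .c10⟩ ⟨.c7, .c9, .c6⟩ ⟨.c5, .c14, .c13⟩ ⟨.c7, .c5, .c5⟩ ⟨.c7, .c9, .c7⟩ ⟨.c5, .c14, .c15⟩ ⟨.c7, .c9, .c10⟩ ⟨.c7, .c8, .c14⟩ ⟨.c5, .c14, .c17⟩ ⟨.c7,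 .c9, .c12⟩ ⟨.c6, .c11, .c16⟩ ⟨.c6, .c0, .c1⟩) (@D3.rec (fun _ => Pt) ⟨.c7, .c9, .c14⟩ ⟨.c6, .c0, .c3⟩ ⟨.c7, .c9, .c17⟩ ⟨.c7, .c8, .c9⟩ ⟨.c6, .c0, .c5⟩ ⟨.c7, .c10, .c2⟩ ⟨.c6, .c0, .c7⟩ ⟨.c7, .c10, .c5⟩ ⟨.c7, .c10, .c6⟩ ⟨.c6, .c12, .c9⟩ ⟨.c6, .c12, .c10⟩ ⟨.c7, .c5, .c0⟩ ⟨.c6, .c0, .c11⟩ ⟨.c7, .c3, .c14⟩ ⟨.c7, .c10, .c11⟩ ⟨.c6, .c0, .c13⟩ ⟨.c6, .c0, .c17⟩ ⟨.c7, .c1, .c13⟩) (@D3.rec (fun _ => Pt) ⟨.c7, .c3, .c16⟩ ⟨.c7, .c3, .c7⟩ ⟨.c7, .c8, .c12⟩ ⟨.c7, .c5, .c10⟩ ⟨.c7, .c3, .c10⟩ ⟨.c7, .c1, .c10⟩ ⟨.c6, .c1, .c10⟩ ⟨.c7, .c11, .c4⟩ ⟨.c6, .c1, .c12⟩ ⟨.c7, .c11,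 .c7⟩ ⟨.c6, .c1, .c15⟩ ⟨.c7, .c3, .c8⟩ ⟨.c7, .c11, .c8⟩ ⟨.c6, .c1, .c17⟩ ⟨.c6, .c2, .c1⟩ ⟨.c7, .c11, .c11⟩ ⟨.c7, .c11, .c12⟩ ⟨.c6, .c2, .c3⟩) (@D3.rec (fun _ => Pt) ⟨.c6, .c2, .c4⟩ ⟨.c7, .c11, .c16⟩ ⟨.c7, .c11, .c17⟩ ⟨.c7, .c12, .c2⟩ ⟨.c6, .c14, .c4⟩ ⟨.c6, .c2, .c9⟩ ⟨.c7, .c3, .c11⟩ ⟨.c7, .c3, .c15⟩ ⟨.c7, .c1, .c11⟩ ⟨.c7, .c1, .c14⟩ ⟨.c7, .c3, .c5⟩ ⟨.c7, .c1, .c8⟩ ⟨.c6, .c4, .c8⟩ ⟨.c6, .c3, .c17⟩ ⟨.c6, .c3, .c0⟩ ⟨.c6, .c4, .c1⟩ ⟨.c6, .c3, .c11⟩ ⟨.c6, .c3, .c4⟩)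
def f_g_7 : D2 → D3 → Pt := @D2.rec (fun _ => D3 → Pt) (@D3.rec (fun _ => Pt) ⟨.c6, .c3, .c9⟩ ⟨.c7, .c8, .c8⟩ ⟨.c7, .c12, .c9⟩ ⟨.c7, .c0, .c3⟩ ⟨.c7, .c8, .c10⟩ ⟨.c7, .c6, .c15⟩ ⟨.c6, .c4, .c3⟩ ⟨.c7, .c12, .c16⟩ ⟨.c7, .c12, .c8⟩ ⟨.c7, .c8, .c13⟩ ⟨.c6, .c4, .c7⟩ ⟨.c7, .c11, .c3⟩ ⟨.c7, .c0, .c12⟩ ⟨.c7, .c13, .c5⟩ ⟨.c7, .c0, .c14⟩ ⟨.c6, .c4, .c10⟩ ⟨.c7, .c13, .c4⟩ ⟨.c7, .c0, .c17⟩) (@D3.rec (fun _ => Pt) ⟨.c7, .c13, .c2⟩ ⟨.c6, .c4, .c12⟩ ⟨.c7, .c13, .c12⟩ ⟨.c7, .c1, .c3⟩ ⟨.c6, .c4, .c15⟩ ⟨.c7, .c13, .c14⟩ ⟨.c6, .c4, .c17⟩ ⟨.c7, .c13, .c17⟩ ⟨.c6, .c14, .c11⟩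 ⟨.c7, .c1, .c9⟩ ⟨.c6, .c13, .c5⟩ ⟨.c6, .c14, .c8⟩ ⟨.c7, .c1, .c12⟩ ⟨.c6, .c12, .c17⟩ ⟨.c6, .c14, .c9⟩ ⟨.c7, .c1, .c15⟩ ⟨.c7, .c14, .c11⟩ ⟨.c7, .c1, .c17⟩) (@D3.rec (fun _ => Pt) ⟨.c7, .c14, .c15⟩ ⟨.c6, .c5, .c8⟩ ⟨.c7, .c14, .c17⟩ ⟨.c7, .c2, .c3⟩ ⟨.c8, .c0, .c2⟩ ⟨.c6, .c5, .c11⟩ ⟨.c8, .c0, .c4⟩ ⟨.c7, .c2, .c7⟩ ⟨.c7, .c2, .c8⟩ ⟨.c6, .c5, .c13⟩ ⟨.c8, .c0, .c10⟩ ⟨.c6, .c5, .c15⟩ ⟨.c8, .c0, .c13⟩ ⟨.c6, .c10, .c6⟩ ⟨.c6, .c6, .c0⟩ ⟨.c8, .c0, .c15⟩ ⟨.c8, .c0, .c16⟩ ⟨.c6, .c6, .c2⟩) (@D3.rec (fun _ => Pt) ⟨.c7, .c3, .c0⟩ ⟨.c7, .c3, .c1⟩ ⟨.c7, .c3, .c2⟩ ⟨.c7,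 .c3, .c3⟩ ⟨.c7, .c3, .c4⟩ ⟨.c6, .c14, .c10⟩ ⟨.c7, .c3, .c6⟩ ⟨.c6, .c13, .c1⟩ ⟨.c6, .c13, .c11⟩ ⟨.c7, .c3, .c9⟩ ⟨.c6, .c13, .c4⟩ ⟨.c6, .c14, .c6⟩ ⟨.c7, .c3, .c12⟩ ⟨.c7, .c3, .c13⟩ ⟨.c6, .c12, .c13⟩ ⟨.c6, .c14, .c7⟩ ⟨.c6, .c13, .c0⟩ ⟨.c8, .c2, .c4⟩) (@D3.rec (fun _ => Pt) ⟨.c7, .c4, .c0⟩ ⟨.c8, .c2, .c8⟩ ⟨.c6, .c7, .c0⟩ ⟨.c8, .c2, .c10⟩ ⟨.c7, .c4, .c4⟩ ⟨.c7, .c4, .c5⟩ ⟨.c6, .c7, .c2⟩ ⟨.c8, .c2, .c14⟩ ⟨.c6, .c7, .c4⟩ ⟨.c8, .c2, .c17⟩ ⟨.c8, .c3, .c0⟩ ⟨.c6, .c7, .c6⟩ ⟨.c8, .c3, .c3⟩ ⟨.c6, .c7, .c8⟩ ⟨.c8, .c3, .c6⟩ ⟨.c8, .c3, .c7⟩ ⟨.c7, .c4, .c16⟩ ⟨.c7, .c4,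 .c17⟩) (@D3.rec (fun _ => Pt) ⟨.c6, .c12, .c11⟩ ⟨.c6, .c7, .c12⟩ ⟨.c8, .c3, .c14⟩ ⟨.c8, .c3, .c15⟩ ⟨.c6, .c7, .c14⟩ ⟨.c6, .c11, .c9⟩ ⟨.c6, .c7, .c17⟩ ⟨.c6, .c8, .c0⟩ ⟨.c8, .c4, .c1⟩ ⟨.c8, .c4, .c2⟩ ⟨.c6, .c13, .c3⟩ ⟨.c6, .c8, .c9⟩ ⟨.c6, .c8, .c7⟩ ⟨.c8, .c2, .c15⟩ ⟨.c8, .c2, .c7⟩ ⟨.c6, .c8, .c11⟩ ⟨.c8, .c4, .c8⟩ ⟨.c6, .c8, .c12⟩) (@D3.rec (fun _ => Pt) ⟨.c8, .c4, .c10⟩ ⟨.c6, .c8, .c14⟩ ⟨.c8, .c4, .c13⟩ ⟨.c8, .c4, .c15⟩ ⟨.c6, .c8, .c16⟩ ⟨.c8, .c4, .c17⟩ ⟨.c7, .c6, .c6⟩ ⟨.c6, .c9, .c0⟩ ⟨.c8, .c5, .c1⟩ ⟨.c6, .c9, .c2⟩ ⟨.c8, .c5, .c4⟩ ⟨.c6, .c9, .c5⟩ ⟨.c8,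 .c5, .c5⟩ ⟨.c8, .c5, .c6⟩ ⟨.c6, .c9, .c7⟩ ⟨.c7, .c0, .c5⟩ ⟨.c7, .c6, .c16⟩ ⟨.c8, .c5, .c13⟩) (@D3.rec (fun _ => Pt) ⟨.c6, .c9, .c9⟩ ⟨.c8, .c5, .c15⟩ ⟨.c7, .c7, .c2⟩ ⟨.c7, .c7, .c3⟩ ⟨.c6, .c9, .c11⟩ ⟨.c8, .c6, .c2⟩ ⟨.c6, .c9, .c13⟩ ⟨.c8, .c6, .c5⟩ ⟨.c8, .c6, .c6⟩ ⟨.c6, .c9, .c15⟩ ⟨.c8, .c6, .c9⟩ ⟨.c6, .c9, .c17⟩ ⟨.c8, .c6, .c12⟩ ⟨.c8, .c6, .c13⟩ ⟨.c7, .c7, .c14⟩ ⟨.c7, .c7, .c15⟩ ⟨.c8, .c0, .c9⟩ ⟨.c6, .c10, .c3⟩) (@D3.rec (fun _ => Pt) ⟨.c8, .c7, .c1⟩ ⟨.c8, .c7, .c2⟩ ⟨.c6, .c10, .c5⟩ ⟨.c8, .c0, .c14⟩ ⟨.c6, .c10, .c8⟩ ⟨.c6, .c10, .c9⟩ ⟨.c7, .c14, .c6⟩ ⟨.c8,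 .c7, .c6⟩ ⟨.c7, .c0, .c1⟩ ⟨.c6, .c12, .c3⟩ ⟨.c7, .c0, .c4⟩ ⟨.c7, .c8, .c11⟩ ⟨.c6, .c13, .c2⟩ ⟨.c7, .c0, .c9⟩ ⟨.c6, .c11, .c13⟩ ⟨.c6, .c10, .c17⟩ ⟨.c8, .c7, .c14⟩ ⟨.c6, .c11, .c1⟩) (@D3.rec (fun _ => Pt) ⟨.c8, .c7, .c17⟩ ⟨.c8, .c8, .c0⟩ ⟨.c7, .c9, .c2⟩ ⟨.c6, .c11, .c5⟩ ⟨.c8, .c3, .c13⟩ ⟨.c8, .c8, .c3⟩ ⟨.c6, .c11, .c7⟩ ⟨.c6, .c11, .c10⟩ ⟨.c8, .c4, .c0⟩ ⟨.c8, .c4, .c14⟩ ⟨.c6, .c11, .c12⟩ ⟨.c8, .c7, .c13⟩ ⟨.c6, .c11, .c15⟩ ⟨.c8, .c8, .c8⟩ ⟨.c6, .c12, .c0⟩ ⟨.c8, .c1, .c12⟩ ⟨.c8, .c8, .c9⟩ ⟨.c6, .c12, .c2⟩) (@D3.rec (fun _ => Pt) ⟨.c8, .c7, .c10⟩ ⟨.c8, .c3,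 .c2⟩ ⟨.c6, .c12, .c5⟩ ⟨.c8, .c8, .c14⟩ ⟨.c8, .c8, .c15⟩ ⟨.c6, .c12, .c7⟩ ⟨.c6, .c12, .c8⟩ ⟨.c8, .c9, .c1⟩ ⟨.c8, .c9, .c2⟩ ⟨.c8, .c9, .c5⟩ ⟨.c7, .c10, .c10⟩ ⟨.c6, .c12, .c14⟩ ⟨.c8, .c1, .c15⟩ ⟨.c8, .c2, .c2⟩ ⟨.c7, .c14, .c4⟩ ⟨.c7, .c14, .c7⟩ ⟨.c8, .c1, .c8⟩ ⟨.c8, .c4, .c5⟩) (@D3.rec (fun _ => Pt) ⟨.c8, .c7, .c12⟩ ⟨.c8, .c1, .c14⟩ ⟨.c7, .c14, .c0⟩ ⟨.c7, .c0, .c11⟩ ⟨.c6, .c13, .c7⟩ ⟨.c8, .c9, .c16⟩ ⟨.c8, .c9, .c17⟩ ⟨.c6, .c13, .c9⟩ ⟨.c6, .c13, .c12⟩ ⟨.c8, .c1, .c9⟩ ⟨.c8, .c1, .c13⟩ ⟨.c6, .c13, .c15⟩ ⟨.c6, .c13, .c16⟩ ⟨.c8, .c1, .c16⟩ ⟨.c8, .c10, .c4⟩ ⟨.c8,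 .c10, .c5⟩ ⟨.c6, .c14, .c1⟩ ⟨.c6, .c14, .c2⟩) (@D3.rec (fun _ => Pt) ⟨.c8, .c9, .c9⟩ ⟨.c8, .c10, .c13⟩ ⟨.c6, .c14, .c3⟩ ⟨.c8, .c10, .c15⟩ ⟨.c7, .c14, .c1⟩ ⟨.c8, .c1, .c17⟩ ⟨.c7, .c14, .c5⟩ ⟨.c8, .c1, .c6⟩ ⟨.c7, .c0, .c8⟩ ⟨.c7, .c0, .c2⟩ ⟨.c8, .c5, .c16⟩ ⟨.c8, .c5, .c12⟩ ⟨.c8, .c10, .c17⟩ ⟨.c8, .c5, .c10⟩ ⟨.c8, .c7, .c11⟩ ⟨.c8, .c5, .c9⟩ ⟨.c7, .c0, .c7⟩ ⟨.c8, .c9, .c15⟩) (@D3.rec (fun _ => Pt) ⟨.c8, .c4, .c9⟩ ⟨.c7, .c13, .c1⟩ ⟨.c7, .c1, .c0⟩ ⟨.c7, .c13, .c3⟩ ⟨.c7, .c0, .c16⟩ ⟨.c7, .c0, .c13⟩ ⟨.c8, .c11, .c11⟩ ⟨.c7, .c13, .c7⟩ ⟨.c8, .c11, .c10⟩ ⟨.c7, .c13,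 .c9⟩ ⟨.c7, .c13, .c10⟩ ⟨.c8, .c11, .c7⟩ ⟨.c7, .c1, .c2⟩ ⟨.c8, .c12, .c1⟩ ⟨.c7, .c1, .c5⟩ ⟨.c8, .c12, .c2⟩ ⟨.c8, .c12, .c3⟩ ⟨.c7, .c1, .c7⟩) (@D3.rec (fun _ => Pt) ⟨.c7, .c11, .c2⟩ ⟨.c7, .c12, .c4⟩ ⟨.c7, .c14, .c2⟩ ⟨.c7, .c14, .c3⟩ ⟨.c7, .c10, .c14⟩ ⟨.c7, .c12, .c6⟩ ⟨.c7, .c8, .c6⟩ ⟨.c7, .c10, .c15⟩ ⟨.c8, .c12, .c15⟩ ⟨.c7, .c14, .c9⟩ ⟨.c8, .c13, .c2⟩ ⟨.c7, .c1, .c16⟩ ⟨.c8, .c13, .c4⟩ ⟨.c7, .c14, .c13⟩ ⟨.c7, .c14, .c14⟩ ⟨.c7, .c2, .c0⟩ ⟨.c8, .c13, .c10⟩ ⟨.c7, .c2, .c2⟩)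
def f_g_8 : D2 → D3 → Pt := @D2.rec (fun _ => D3 → Pt) (@D3.rec (fun _ => Pt) ⟨.c8, .c13, .c13⟩ ⟨.c8, .c13, .c14⟩ ⟨.c7, .c2, .c4⟩ ⟨.c8, .c13, .c17⟩ ⟨.c7, .c2, .c6⟩ ⟨.c8, .c14, .c2⟩ ⟨.c8, .c14, .c3⟩ ⟨.c8, .c0, .c7⟩ ⟨.c8, .c0, .c8⟩ ⟨.c7, .c7, .c16⟩ ⟨.c7, .c2, .c10⟩ ⟨.c8, .c14, .c10⟩ ⟨.c8, .c14, .c11⟩ ⟨.c7, .c2, .c12⟩ ⟨.c7, .c8, .c3⟩ ⟨.c7, .c2, .c15⟩ ⟨.c7, .c2, .c16⟩ ⟨.c8, .c14, .c16⟩) (@D3.rec (fun _ => Pt) ⟨.c8, .c14, .c17⟩ ⟨.c8, .c1, .c1⟩ ⟨.c8, .c1, .c2⟩ ⟨.c8, .c1, .c3⟩ ⟨.c8, .c1, .c4⟩ ⟨.c8, .c1, .c5⟩ ⟨.c7, .c12, .c7⟩ ⟨.c8, .c1, .c7⟩ ⟨.c7, .c10, .c16⟩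 ⟨.c7, .c11, .c9⟩ ⟨.c8, .c1, .c10⟩ ⟨.c8, .c1, .c11⟩ ⟨.c7, .c9, .c15⟩ ⟨.c7, .c11, .c10⟩ ⟨.c7, .c11, .c1⟩ ⟨.c7, .c10, .c12⟩ ⟨.c7, .c11, .c13⟩ ⟨.c7, .c12, .c5⟩) (@D3.rec (fun _ => Pt) ⟨.c8, .c2, .c0⟩ ⟨.c8, .c2, .c1⟩ ⟨.c7, .c10, .c13⟩ ⟨.c9, .c1, .c7⟩ ⟨.c7, .c3, .c17⟩ ⟨.c9, .c1, .c9⟩ ⟨.c8, .c2, .c6⟩ ⟨.c7, .c5, .c14⟩ ⟨.c7, .c4, .c1⟩ ⟨.c9, .c1, .c12⟩ ⟨.c7, .c4, .c3⟩ ⟨.c9, .c1, .c15⟩ ⟨.c9, .c1, .c16⟩ ⟨.c8, .c2, .c13⟩ ⟨.c7, .c4, .c7⟩ ⟨.c7, .c5, .c13⟩ ⟨.c9, .c2, .c2⟩ ⟨.c7, .c4, .c9⟩) (@D3.rec (fun _ => Pt) ⟨.c7, .c4, .c10⟩ ⟨.c9, .c2, .c3⟩ ⟨.c7, .c10, .c1⟩ ⟨.c7,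 .c4, .c12⟩ ⟨.c9, .c2, .c8⟩ ⟨.c9, .c2, .c9⟩ ⟨.c7, .c4, .c14⟩ ⟨.c7, .c4, .c15⟩ ⟨.c9, .c2, .c13⟩ ⟨.c9, .c2, .c14⟩ ⟨.c9, .c3, .c0⟩ ⟨.c8, .c3, .c11⟩ ⟨.c8, .c3, .c12⟩ ⟨.c7, .c9, .c4⟩ ⟨.c7, .c5, .c2⟩ ⟨.c7, .c5, .c3⟩ ⟨.c9, .c1, .c11⟩ ⟨.c9, .c3, .c4⟩) (@D3.rec (fun _ => Pt) ⟨.c7, .c9, .c8⟩ ⟨.c7, .c5, .c8⟩ ⟨.c7, .c5, .c9⟩ ⟨.c9, .c3, .c7⟩ ⟨.c9, .c3, .c8⟩ ⟨.c7, .c10, .c17⟩ ⟨.c9, .c2, .c4⟩ ⟨.c9, .c1, .c6⟩ ⟨.c7, .c5, .c16⟩ ⟨.c7, .c13, .c0⟩ ⟨.c7, .c6, .c0⟩ ⟨.c9, .c3, .c13⟩ ⟨.c9, .c3, .c14⟩ ⟨.c7, .c6, .c2⟩ ⟨.c7, .c9, .c9⟩ ⟨.c7, .c6, .c3⟩ ⟨.c9, .c4, .c0⟩ ⟨.c7, .c6, .c5⟩)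 (@D3.rec (fun _ => Pt) ⟨.c9, .c4, .c3⟩ ⟨.c7, .c6, .c8⟩ ⟨.c9, .c4, .c4⟩ ⟨.c9, .c4, .c5⟩ ⟨.c7, .c6, .c10⟩ ⟨.c7, .c6, .c12⟩ ⟨.c7, .c6, .c13⟩ ⟨.c8, .c14, .c14⟩ ⟨.c9, .c4, .c8⟩ ⟨.c7, .c12, .c15⟩ ⟨.c7, .c12, .c13⟩ ⟨.c8, .c5, .c11⟩ ⟨.c7, .c12, .c11⟩ ⟨.c7, .c6, .c17⟩ ⟨.c9, .c4, .c16⟩ ⟨.c7, .c7, .c1⟩ ⟨.c7, .c12, .c10⟩ ⟨.c9, .c5, .c1⟩) (@D3.rec (fun _ => Pt) ⟨.c8, .c6, .c0⟩ ⟨.c8, .c13, .c9⟩ ⟨.c7, .c7, .c5⟩ ⟨.c9, .c5, .c5⟩ ⟨.c9, .c5, .c6⟩ ⟨.c7, .c7, .c7⟩ ⟨.c7, .c7, .c8⟩ ⟨.c9, .c5, .c2⟩ ⟨.c8, .c13, .c16⟩ ⟨.c7, .c7, .c10⟩ ⟨.c9, .c5, .c12⟩ ⟨.c9, .c5, .c13⟩ ⟨.c7, .c7,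 .c12⟩ ⟨.c7, .c7, .c13⟩ ⟨.c9, .c4, .c14⟩ ⟨.c9, .c5, .c17⟩ ⟨.c9, .c6, .c2⟩ ⟨.c8, .c6, .c17⟩) (@D3.rec (fun _ => Pt) ⟨.c8, .c14, .c9⟩ ⟨.c7, .c8, .c0⟩ ⟨.c7, .c8, .c1⟩ ⟨.c9, .c6, .c5⟩ ⟨.c9, .c6, .c6⟩ ⟨.c8, .c14, .c15⟩ ⟨.c7, .c8, .c7⟩ ⟨.c8, .c12, .c11⟩ ⟨.c8, .c12, .c13⟩ ⟨.c9, .c6, .c10⟩ ⟨.c7, .c10, .c0⟩ ⟨.c7, .c12, .c14⟩ ⟨.c7, .c11, .c0⟩ ⟨.c7, .c9, .c11⟩ ⟨.c7, .c8, .c16⟩ ⟨.c9, .c7, .c0⟩ ⟨.c9, .c7, .c1⟩ ⟨.c7, .c9, .c0⟩) (@D3.rec (fun _ => Pt) ⟨.c7, .c9, .c1⟩ ⟨.c9, .c3, .c17⟩ ⟨.c9, .c7, .c5⟩ ⟨.c7, .c9, .c5⟩ ⟨.c9, .c2, .c7⟩ ⟨.c9, .c3, .c3⟩ ⟨.c9, .c6, .c16⟩ ⟨.c9,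 .c6, .c17⟩ ⟨.c7, .c9, .c13⟩ ⟨.c7, .c9, .c16⟩ ⟨.c9, .c0, .c11⟩ ⟨.c9, .c0, .c15⟩ ⟨.c9, .c6, .c14⟩ ⟨.c9, .c6, .c15⟩ ⟨.c7, .c10, .c3⟩ ⟨.c7, .c10, .c4⟩ ⟨.c9, .c0, .c17⟩ ⟨.c9, .c7, .c15⟩) (@D3.rec (fun _ => Pt) ⟨.c9, .c7, .c16⟩ ⟨.c7, .c10, .c7⟩ ⟨.c7, .c10, .c8⟩ ⟨.c9, .c8, .c7⟩ ⟨.c9, .c8, .c6⟩ ⟨.c7, .c10, .c9⟩ ⟨.c9, .c8, .c9⟩ ⟨.c8, .c12, .c7⟩ ⟨.c9, .c1, .c0⟩ ⟨.c7, .c12, .c0⟩ ⟨.c8, .c12, .c12⟩ ⟨.c9, .c0, .c8⟩ ⟨.c9, .c0, .c16⟩ ⟨.c9, .c3, .c11⟩ ⟨.c8, .c12, .c6⟩ ⟨.c7, .c12, .c17⟩ ⟨.c7, .c11, .c5⟩ ⟨.c7, .c11, .c6⟩) (@D3.rec (fun _ => Pt) ⟨.c9, .c0, .c12⟩ ⟨.c9, .c8,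 .c16⟩ ⟨.c9, .c0, .c9⟩ ⟨.c9, .c0, .c13⟩ ⟨.c7, .c11, .c14⟩ ⟨.c7, .c11, .c15⟩ ⟨.c8, .c12, .c8⟩ ⟨.c9, .c1, .c1⟩ ⟨.c9, .c1, .c2⟩ ⟨.c9, .c6, .c11⟩ ⟨.c9, .c9, .c4⟩ ⟨.c9, .c9, .c5⟩ ⟨.c9, .c3, .c9⟩ ⟨.c7, .c12, .c1⟩ ⟨.c9, .c8, .c11⟩ ⟨.c7, .c12, .c3⟩ ⟨.c8, .c12, .c9⟩ ⟨.c7, .c12, .c12⟩) (@D3.rec (fun _ => Pt) ⟨.c9, .c5, .c3⟩ ⟨.c9, .c8, .c12⟩ ⟨.c9, .c4, .c12⟩ ⟨.c9, .c4, .c13⟩ ⟨.c9, .c8, .c15⟩ ⟨.c9, .c3, .c12⟩ ⟨.c8, .c11, .c6⟩ ⟨.c7, .c13, .c11⟩ ⟨.c8, .c11, .c8⟩ ⟨.c8, .c11, .c9⟩ ⟨.c7, .c13, .c8⟩ ⟨.c7, .c13, .c6⟩ ⟨.c9, .c10, .c6⟩ ⟨.c9, .c10, .c4⟩ ⟨.c9, .c10, .c5⟩ ⟨.c8,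 .c11, .c15⟩ ⟨.c8, .c11, .c16⟩ ⟨.c9, .c10, .c0⟩) (@D3.rec (fun _ => Pt) ⟨.c9, .c10, .c1⟩ ⟨.c7, .c13, .c13⟩ ⟨.c7, .c13, .c15⟩ ⟨.c7, .c13, .c16⟩ ⟨.c9, .c10, .c14⟩ ⟨.c9, .c10, .c15⟩ ⟨.c8, .c9, .c14⟩ ⟨.c8, .c9, .c7⟩ ⟨.c8, .c10, .c6⟩ ⟨.c8, .c10, .c16⟩ ⟨.c8, .c12, .c10⟩ ⟨.c8, .c7, .c7⟩ ⟨.c8, .c9, .c10⟩ ⟨.c8, .c7, .c8⟩ ⟨.c9, .c11, .c10⟩ ⟨.c7, .c14, .c8⟩ ⟨.c9, .c11, .c12⟩ ⟨.c8, .c12, .c17⟩) (@D3.rec (fun _ => Pt) ⟨.c8, .c13, .c0⟩ ⟨.c9, .c11, .c17⟩ ⟨.c7, .c14, .c10⟩ ⟨.c9, .c12, .c2⟩ ⟨.c7, .c14, .c12⟩ ⟨.c9, .c10, .c12⟩ ⟨.c9, .c12, .c5⟩ ⟨.c8, .c13, .c7⟩ ⟨.c8, .c13,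 .c8⟩ ⟨.c8, .c6, .c1⟩ ⟨.c7, .c14, .c16⟩ ⟨.c9, .c10, .c7⟩ ⟨.c9, .c12, .c12⟩ ⟨.c8, .c0, .c0⟩ ⟨.c8, .c0, .c1⟩ ⟨.c9, .c12, .c15⟩ ⟨.c8, .c6, .c8⟩ ⟨.c8, .c0, .c3⟩) (@D3.rec (fun _ => Pt) ⟨.c9, .c13, .c1⟩ ⟨.c9, .c13, .c2⟩ ⟨.c8, .c0, .c5⟩ ⟨.c8, .c0, .c6⟩ ⟨.c9, .c12, .c13⟩ ⟨.c9, .c13, .c6⟩ ⟨.c9, .c13, .c10⟩ ⟨.c8, .c14, .c7⟩ ⟨.c8, .c14, .c8⟩ ⟨.c8, .c7, .c0⟩ ⟨.c8, .c0, .c11⟩ ⟨.c8, .c0, .c12⟩ ⟨.c9, .c12, .c6⟩ ⟨.c9, .c13, .c15⟩ ⟨.c8, .c5, .c7⟩ ⟨.c8, .c7, .c5⟩ ⟨.c8, .c0, .c17⟩ ⟨.c8, .c1, .c0⟩)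
def f_g_9 : D2 → D3 → Pt := @D2.rec (fun _ => D3 → Pt) (@D3.rec (fun _ => Pt) ⟨.c9, .c14, .c3⟩ ⟨.c9, .c14, .c4⟩ ⟨.c9, .c14, .c5⟩ ⟨.c9, .c0, .c3⟩ ⟨.c9, .c0, .c4⟩ ⟨.c9, .c0, .c5⟩ ⟨.c9, .c0, .c6⟩ ⟨.c9, .c0, .c7⟩ ⟨.c8, .c9, .c11⟩ ⟨.c8, .c10, .c2⟩ ⟨.c9, .c0, .c10⟩ ⟨.c8, .c8, .c10⟩ ⟨.c8, .c10, .c0⟩ ⟨.c8, .c10, .c3⟩ ⟨.c9, .c0, .c14⟩ ⟨.c8, .c8, .c11⟩ ⟨.c8, .c9, .c12⟩ ⟨.c8, .c8, .c16⟩) (@D3.rec (fun _ => Pt) ⟨.c8, .c9, .c8⟩ ⟨.c8, .c10, .c7⟩ ⟨.c8, .c10, .c8⟩ ⟨.c10, .c0, .c11⟩ ⟨.c9, .c1, .c4⟩ ⟨.c9, .c1, .c5⟩ ⟨.c8, .c4, .c7⟩ ⟨.c8, .c2, .c3⟩ ⟨.c10, .c0, .c15⟩ ⟨.c8,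 .c2, .c5⟩ ⟨.c10, .c1, .c0⟩ ⟨.c8, .c3, .c16⟩ ⟨.c8, .c2, .c9⟩ ⟨.c10, .c1, .c3⟩ ⟨.c10, .c1, .c4⟩ ⟨.c8, .c2, .c11⟩ ⟨.c8, .c2, .c12⟩ ⟨.c10, .c1, .c8⟩) (@D3.rec (fun _ => Pt) ⟨.c10, .c1, .c9⟩ ⟨.c9, .c2, .c1⟩ ⟨.c8, .c2, .c16⟩ ⟨.c8, .c3, .c1⟩ ⟨.c8, .c4, .c6⟩ ⟨.c10, .c1, .c5⟩ ⟨.c10, .c1, .c12⟩ ⟨.c8, .c8, .c4⟩ ⟨.c8, .c3, .c4⟩ ⟨.c8, .c3, .c5⟩ ⟨.c10, .c1, .c1⟩ ⟨.c10, .c1, .c17⟩ ⟨.c10, .c2, .c0⟩ ⟨.c8, .c3, .c8⟩ ⟨.c8, .c3, .c9⟩ ⟨.c10, .c2, .c10⟩ ⟨.c10, .c2, .c8⟩ ⟨.c10, .c2, .c9⟩) (@D3.rec (fun _ => Pt) ⟨.c8, .c3, .c10⟩ ⟨.c10, .c2, .c13⟩ ⟨.c9, .c3, .c2⟩ ⟨.c8, .c8,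 .c5⟩ ⟨.c8, .c3, .c17⟩ ⟨.c10, .c0, .c14⟩ ⟨.c10, .c1, .c2⟩ ⟨.c8, .c4, .c3⟩ ⟨.c8, .c4, .c4⟩ ⟨.c8, .c10, .c12⟩ ⟨.c10, .c2, .c17⟩ ⟨.c8, .c9, .c13⟩ ⟨.c8, .c11, .c5⟩ ⟨.c8, .c4, .c11⟩ ⟨.c8, .c4, .c12⟩ ⟨.c9, .c14, .c1⟩ ⟨.c10, .c3, .c1⟩ ⟨.c8, .c8, .c1⟩) (@D3.rec (fun _ => Pt) ⟨.c8, .c4, .c16⟩ ⟨.c10, .c3, .c7⟩ ⟨.c10, .c3, .c8⟩ ⟨.c8, .c5, .c0⟩ ⟨.c8, .c5, .c2⟩ ⟨.c8, .c5, .c3⟩ ⟨.c10, .c0, .c1⟩ ⟨.c10, .c3, .c11⟩ ⟨.c8, .c5, .c8⟩ ⟨.c9, .c13, .c13⟩ ⟨.c9, .c14, .c2⟩ ⟨.c10, .c3, .c15⟩ ⟨.c8, .c11, .c2⟩ ⟨.c8, .c11, .c3⟩ ⟨.c8, .c6, .c14⟩ ⟨.c9, .c12, .c1⟩ ⟨.c8, .c5, .c14⟩ ⟨.c10,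 .c4, .c6⟩) (@D3.rec (fun _ => Pt) ⟨.c10, .c4, .c7⟩ ⟨.c8, .c5, .c17⟩ ⟨.c8, .c6, .c7⟩ ⟨.c8, .c11, .c0⟩ ⟨.c9, .c12, .c11⟩ ⟨.c8, .c6, .c3⟩ ⟨.c8, .c6, .c4⟩ ⟨.c10, .c4, .c13⟩ ⟨.c10, .c4, .c14⟩ ⟨.c10, .c4, .c9⟩ ⟨.c10, .c4, .c11⟩ ⟨.c9, .c13, .c0⟩ ⟨.c8, .c6, .c10⟩ ⟨.c8, .c6, .c11⟩ ⟨.c10, .c5, .c3⟩ ⟨.c10, .c4, .c3⟩ ⟨.c10, .c5, .c4⟩ ⟨.c8, .c6, .c15⟩) (@D3.rec (fun _ => Pt) ⟨.c10, .c5, .c11⟩ ⟨.c10, .c4, .c4⟩ ⟨.c8, .c6, .c16⟩ ⟨.c10, .c5, .c13⟩ ⟨.c9, .c13, .c14⟩ ⟨.c8, .c7, .c3⟩ ⟨.c8, .c7, .c4⟩ ⟨.c9, .c11, .c7⟩ ⟨.c10, .c5, .c14⟩ ⟨.c10, .c5, .c15⟩ ⟨.c8, .c7, .c9⟩ ⟨.c8,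 .c10, .c9⟩ ⟨.c9, .c11, .c8⟩ ⟨.c9, .c11, .c9⟩ ⟨.c8, .c8, .c12⟩ ⟨.c8, .c8, .c13⟩ ⟨.c8, .c8, .c6⟩ ⟨.c8, .c8, .c7⟩) (@D3.rec (fun _ => Pt) ⟨.c8, .c7, .c15⟩ ⟨.c8, .c7, .c16⟩ ⟨.c10, .c1, .c15⟩ ⟨.c10, .c3, .c5⟩ ⟨.c10, .c6, .c5⟩ ⟨.c8, .c8, .c2⟩ ⟨.c10, .c3, .c6⟩ ⟨.c10, .c1, .c16⟩ ⟨.c9, .c14, .c17⟩ ⟨.c10, .c6, .c4⟩ ⟨.c9, .c14, .c15⟩ ⟨.c10, .c0, .c0⟩ ⟨.c10, .c0, .c4⟩ ⟨.c10, .c4, .c1⟩ ⟨.c10, .c6, .c3⟩ ⟨.c8, .c8, .c17⟩ ⟨.c8, .c9, .c0⟩ ⟨.c9, .c11, .c2⟩) (@D3.rec (fun _ => Pt) ⟨.c10, .c0, .c6⟩ ⟨.c10, .c0, .c7⟩ ⟨.c10, .c7, .c5⟩ ⟨.c10, .c7, .c3⟩ ⟨.c10, .c7, .c4⟩ ⟨.c10,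 .c2, .c15⟩ ⟨.c8, .c9, .c4⟩ ⟨.c8, .c9, .c3⟩ ⟨.c10, .c7, .c14⟩ ⟨.c8, .c9, .c6⟩ ⟨.c9, .c11, .c3⟩ ⟨.c8, .c10, .c14⟩ ⟨.c8, .c11, .c1⟩ ⟨.c9, .c11, .c1⟩ ⟨.c10, .c0, .c5⟩ ⟨.c8, .c11, .c4⟩ ⟨.c8, .c10, .c1⟩ ⟨.c9, .c12, .c8⟩) (@D3.rec (fun _ => Pt) ⟨.c10, .c0, .c2⟩ ⟨.c10, .c7, .c17⟩ ⟨.c9, .c14, .c16⟩ ⟨.c9, .c14, .c6⟩ ⟨.c8, .c10, .c10⟩ ⟨.c8, .c10, .c11⟩ ⟨.c9, .c11, .c4⟩ ⟨.c9, .c11, .c5⟩ ⟨.c10, .c5, .c16⟩ ⟨.c10, .c0, .c9⟩ ⟨.c10, .c0, .c10⟩ ⟨.c10, .c6, .c1⟩ ⟨.c10, .c8, .c3⟩ ⟨.c10, .c3, .c0⟩ ⟨.c10, .c7, .c15⟩ ⟨.c10, .c4, .c2⟩ ⟨.c9, .c9, .c16⟩ ⟨.c9, .c9, .c17⟩) (@D3.rec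 (fun _ => Pt) ⟨.c8, .c11, .c17⟩ ⟨.c8, .c12, .c0⟩ ⟨.c9, .c10, .c2⟩ ⟨.c9, .c10, .c3⟩ ⟨.c8, .c11, .c13⟩ ⟨.c8, .c11, .c14⟩ ⟨.c8, .c11, .c12⟩ ⟨.c8, .c13, .c11⟩ ⟨.c10, .c9, .c0⟩ ⟨.c10, .c9, .c4⟩ ⟨.c9, .c10, .c10⟩ ⟨.c9, .c10, .c11⟩ ⟨.c8, .c13, .c5⟩ ⟨.c10, .c8, .c14⟩ ⟨.c8, .c12, .c4⟩ ⟨.c8, .c12, .c5⟩ ⟨.c10, .c9, .c10⟩ ⟨.c10, .c9, .c11⟩) (@D3.rec (fun _ => Pt) ⟨.c10, .c9, .c12⟩ ⟨.c9, .c8, .c13⟩ ⟨.c9, .c7, .c17⟩ ⟨.c9, .c8, .c10⟩ ⟨.c9, .c9, .c6⟩ ⟨.c9, .c9, .c7⟩ ⟨.c9, .c11, .c6⟩ ⟨.c9, .c6, .c7⟩ ⟨.c9, .c6, .c12⟩ ⟨.c9, .c6, .c13⟩ ⟨.c8, .c12, .c14⟩ ⟨.c10, .c10, .c7⟩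 ⟨.c8, .c12, .c16⟩ ⟨.c10, .c9, .c7⟩ ⟨.c10, .c10, .c10⟩ ⟨.c9, .c11, .c15⟩ ⟨.c9, .c11, .c16⟩ ⟨.c8, .c13, .c1⟩) (@D3.rec (fun _ => Pt) ⟨.c10, .c10, .c15⟩ ⟨.c9, .c4, .c15⟩ ⟨.c8, .c13, .c3⟩ ⟨.c10, .c11, .c1⟩ ⟨.c10, .c11, .c2⟩ ⟨.c8, .c13, .c6⟩ ⟨.c8, .c14, .c12⟩ ⟨.c10, .c9, .c8⟩ ⟨.c9, .c8, .c17⟩ ⟨.c9, .c12, .c9⟩ ⟨.c9, .c12, .c10⟩ ⟨.c9, .c5, .c4⟩ ⟨.c8, .c13, .c12⟩ ⟨.c8, .c14, .c4⟩ ⟨.c10, .c9, .c2⟩ ⟨.c8, .c13, .c15⟩ ⟨.c10, .c11, .c14⟩ ⟨.c10, .c11, .c15⟩) (@D3.rec (fun _ => Pt) ⟨.c9, .c5, .c11⟩ ⟨.c8, .c14, .c0⟩ ⟨.c8, .c14, .c1⟩ ⟨.c10, .c11, .c4⟩ ⟨.c10, .c11, .c3⟩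 ⟨.c10, .c12, .c3⟩ ⟨.c8, .c14, .c5⟩ ⟨.c10, .c12, .c10⟩ ⟨.c10, .c11, .c12⟩ ⟨.c10, .c12, .c9⟩ ⟨.c8, .c14, .c6⟩ ⟨.c10, .c12, .c13⟩ ⟨.c9, .c13, .c12⟩ ⟨.c9, .c4, .c9⟩ ⟨.c9, .c6, .c4⟩ ⟨.c8, .c14, .c13⟩ ⟨.c10, .c10, .c11⟩ ⟨.c10, .c11, .c7⟩) (@D3.rec (fun _ => Pt) ⟨.c10, .c12, .c16⟩ ⟨.c9, .c3, .c15⟩ ⟨.c9, .c4, .c10⟩ ⟨.c9, .c0, .c0⟩ ⟨.c9, .c0, .c1⟩ ⟨.c9, .c0, .c2⟩ ⟨.c9, .c9, .c3⟩ ⟨.c10, .c13, .c4⟩ ⟨.c10, .c13, .c5⟩ ⟨.c9, .c14, .c9⟩ ⟨.c9, .c14, .c10⟩ ⟨.c9, .c14, .c11⟩ ⟨.c10, .c9, .c13⟩ ⟨.c9, .c14, .c13⟩ ⟨.c9, .c14, .c14⟩ ⟨.c9, .c7, .c10⟩ ⟨.c9, .c9, .c2⟩ ⟨.c9, .c7,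 .c8⟩)
def f_g_10 : D2 → D3 → Pt := @D2.rec (fun _ => D3 → Pt) (@D3.rec (fun _ => Pt) ⟨.c9, .c7, .c11⟩ ⟨.c9, .c4, .c6⟩ ⟨.c9, .c9, .c0⟩ ⟨.c10, .c0, .c3⟩ ⟨.c9, .c7, .c12⟩ ⟨.c9, .c8, .c14⟩ ⟨.c9, .c8, .c0⟩ ⟨.c9, .c8, .c1⟩ ⟨.c10, .c12, .c17⟩ ⟨.c9, .c9, .c9⟩ ⟨.c9, .c9, .c10⟩ ⟨.c9, .c1, .c3⟩ ⟨.c10, .c14, .c7⟩ ⟨.c10, .c0, .c13⟩ ⟨.c9, .c3, .c5⟩ ⟨.c9, .c1, .c8⟩ ⟨.c10, .c14, .c11⟩ ⟨.c10, .c14, .c12⟩) (@D3.rec (fun _ => Pt) ⟨.c9, .c1, .c10⟩ ⟨.c9, .c2, .c10⟩ ⟨.c9, .c3, .c6⟩ ⟨.c9, .c1, .c13⟩ ⟨.c9, .c1, .c14⟩ ⟨.c9, .c2, .c5⟩ ⟨.c10, .c14, .c17⟩ ⟨.c11, .c0, .c0⟩ ⟨.c9,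 .c1, .c17⟩ ⟨.c9, .c2, .c0⟩ ⟨.c11, .c0, .c6⟩ ⟨.c11, .c0, .c7⟩ ⟨.c9, .c2, .c6⟩ ⟨.c11, .c0, .c1⟩ ⟨.c11, .c0, .c2⟩ ⟨.c9, .c7, .c2⟩ ⟨.c9, .c7, .c7⟩ ⟨.c9, .c2, .c11⟩) (@D3.rec (fun _ => Pt) ⟨.c9, .c2, .c12⟩ ⟨.c10, .c14, .c9⟩ ⟨.c10, .c14, .c15⟩ ⟨.c10, .c14, .c16⟩ ⟨.c11, .c1, .c5⟩ ⟨.c11, .c0, .c15⟩ ⟨.c11, .c0, .c16⟩ ⟨.c11, .c1, .c8⟩ ⟨.c9, .c2, .c16⟩ ⟨.c9, .c2, .c17⟩ ⟨.c9, .c2, .c15⟩ ⟨.c11, .c1, .c11⟩ ⟨.c11, .c1, .c10⟩ ⟨.c9, .c3, .c1⟩ ⟨.c11, .c1, .c14⟩ ⟨.c9, .c8, .c5⟩ ⟨.c10, .c14, .c10⟩ ⟨.c9, .c3, .c10⟩) (@D3.rec (fun _ => Pt) ⟨.c9, .c9, .c13⟩ ⟨.c9, .c3, .c16⟩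 ⟨.c10, .c8, .c15⟩ ⟨.c10, .c13, .c2⟩ ⟨.c11, .c1, .c16⟩ ⟨.c9, .c7, .c3⟩ ⟨.c9, .c7, .c6⟩ ⟨.c9, .c4, .c1⟩ ⟨.c9, .c4, .c2⟩ ⟨.c10, .c13, .c14⟩ ⟨.c11, .c2, .c2⟩ ⟨.c9, .c4, .c7⟩ ⟨.c10, .c11, .c6⟩ ⟨.c10, .c13, .c16⟩ ⟨.c11, .c2, .c6⟩ ⟨.c9, .c4, .c11⟩ ⟨.c10, .c9, .c1⟩ ⟨.c10, .c12, .c15⟩) (@D3.rec (fun _ => Pt) ⟨.c10, .c13, .c3⟩ ⟨.c9, .c7, .c13⟩ ⟨.c9, .c9, .c15⟩ ⟨.c9, .c5, .c15⟩ ⟨.c9, .c6, .c1⟩ ⟨.c10, .c11, .c0⟩ ⟨.c9, .c4, .c17⟩ ⟨.c9, .c5, .c0⟩ ⟨.c11, .c2, .c16⟩ ⟨.c9, .c5, .c9⟩ ⟨.c11, .c2, .c17⟩ ⟨.c9, .c5, .c10⟩ ⟨.c10, .c11, .c11⟩ ⟨.c9, .c5, .c7⟩ ⟨.c9, .c5, .c8⟩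 ⟨.c11, .c3, .c4⟩ ⟨.c11, .c3, .c5⟩ ⟨.c11, .c3, .c0⟩) (@D3.rec (fun _ => Pt) ⟨.c11, .c3, .c2⟩ ⟨.c10, .c12, .c1⟩ ⟨.c10, .c12, .c2⟩ ⟨.c9, .c5, .c14⟩ ⟨.c9, .c5, .c16⟩ ⟨.c10, .c10, .c0⟩ ⟨.c11, .c2, .c12⟩ ⟨.c11, .c3, .c12⟩ ⟨.c11, .c4, .c2⟩ ⟨.c11, .c2, .c13⟩ ⟨.c11, .c3, .c13⟩ ⟨.c9, .c6, .c0⟩ ⟨.c11, .c4, .c5⟩ ⟨.c9, .c6, .c3⟩ ⟨.c9, .c6, .c8⟩ ⟨.c9, .c6, .c9⟩ ⟨.c9, .c9, .c8⟩ ⟨.c10, .c10, .c5⟩) (@D3.rec (fun _ => Pt) ⟨.c11, .c4, .c6⟩ ⟨.c9, .c9, .c11⟩ ⟨.c10, .c10, .c6⟩ ⟨.c9, .c7, .c14⟩ ⟨.c9, .c7, .c9⟩ ⟨.c9, .c7, .c4⟩ ⟨.c11, .c0, .c12⟩ ⟨.c11, .c0, .c13⟩ ⟨.c11, .c2,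 .c1⟩ ⟨.c11, .c4, .c13⟩ ⟨.c10, .c13, .c12⟩ ⟨.c10, .c13, .c15⟩ ⟨.c11, .c4, .c12⟩ ⟨.c10, .c13, .c13⟩ ⟨.c10, .c9, .c16⟩ ⟨.c10, .c14, .c0⟩ ⟨.c10, .c14, .c1⟩ ⟨.c11, .c5, .c1⟩) (@D3.rec (fun _ => Pt) ⟨.c11, .c2, .c11⟩ ⟨.c11, .c4, .c11⟩ ⟨.c11, .c0, .c17⟩ ⟨.c9, .c8, .c3⟩ ⟨.c9, .c8, .c4⟩ ⟨.c9, .c8, .c2⟩ ⟨.c10, .c10, .c1⟩ ⟨.c10, .c10, .c2⟩ ⟨.c11, .c3, .c14⟩ ⟨.c10, .c14, .c3⟩ ⟨.c10, .c14, .c4⟩ ⟨.c11, .c5, .c11⟩ ⟨.c11, .c5, .c10⟩ ⟨.c11, .c1, .c15⟩ ⟨.c9, .c8, .c8⟩ ⟨.c9, .c9, .c14⟩ ⟨.c10, .c9, .c17⟩ ⟨.c9, .c9, .c1⟩) (@D3.rec (fun _ => Pt) ⟨.c10, .c11, .c9⟩ ⟨.c10, .c13,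 .c17⟩ ⟨.c10, .c13, .c6⟩ ⟨.c9, .c9, .c12⟩ ⟨.c11, .c0, .c5⟩ ⟨.c10, .c10, .c3⟩ ⟨.c10, .c10, .c4⟩ ⟨.c11, .c4, .c7⟩ ⟨.c10, .c14, .c6⟩ ⟨.c11, .c4, .c10⟩ ⟨.c11, .c6, .c0⟩ ⟨.c10, .c8, .c11⟩ ⟨.c10, .c8, .c12⟩ ⟨.c10, .c8, .c13⟩ ⟨.c9, .c10, .c13⟩ ⟨.c10, .c3, .c2⟩ ⟨.c10, .c8, .c16⟩ ⟨.c10, .c8, .c17⟩) (@D3.rec (fun _ => Pt) ⟨.c9, .c10, .c8⟩ ⟨.c10, .c3, .c16⟩ ⟨.c9, .c12, .c14⟩ ⟨.c11, .c6, .c13⟩ ⟨.c9, .c10, .c9⟩ ⟨.c11, .c6, .c16⟩ ⟨.c10, .c9, .c6⟩ ⟨.c9, .c11, .c13⟩ ⟨.c9, .c12, .c7⟩ ⟨.c11, .c6, .c10⟩ ⟨.c9, .c10, .c16⟩ ⟨.c9, .c10, .c17⟩ ⟨.c9, .c11, .c0⟩ ⟨.c9, .c14, .c12⟩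 ⟨.c11, .c7, .c3⟩ ⟨.c11, .c7, .c4⟩ ⟨.c10, .c6, .c14⟩ ⟨.c10, .c7, .c16⟩) (@D3.rec (fun _ => Pt) ⟨.c10, .c5, .c5⟩ ⟨.c10, .c7, .c6⟩ ⟨.c10, .c7, .c7⟩ ⟨.c10, .c8, .c5⟩ ⟨.c10, .c8, .c6⟩ ⟨.c10, .c5, .c17⟩ ⟨.c10, .c6, .c2⟩ ⟨.c9, .c11, .c11⟩ ⟨.c11, .c7, .c17⟩ ⟨.c11, .c8, .c0⟩ ⟨.c9, .c11, .c14⟩ ⟨.c9, .c13, .c16⟩ ⟨.c11, .c7, .c1⟩ ⟨.c10, .c10, .c13⟩ ⟨.c10, .c10, .c14⟩ ⟨.c9, .c12, .c0⟩ ⟨.c11, .c8, .c7⟩ ⟨.c11, .c8, .c8⟩) (@D3.rec (fun _ => Pt) ⟨.c10, .c4, .c5⟩ ⟨.c9, .c12, .c3⟩ ⟨.c9, .c12, .c4⟩ ⟨.c9, .c13, .c4⟩ ⟨.c9, .c13, .c3⟩ ⟨.c11, .c8, .c14⟩ ⟨.c10, .c3, .c12⟩ ⟨.c9,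 .c13, .c17⟩ ⟨.c11, .c7, .c2⟩ ⟨.c10, .c8, .c0⟩ ⟨.c10, .c11, .c10⟩ ⟨.c10, .c4, .c12⟩ ⟨.c9, .c13, .c8⟩ ⟨.c11, .c6, .c15⟩ ⟨.c9, .c12, .c16⟩ ⟨.c9, .c12, .c17⟩ ⟨.c11, .c8, .c10⟩ ⟨.c11, .c8, .c9⟩) (@D3.rec (fun _ => Pt) ⟨.c11, .c9, .c5⟩ ⟨.c10, .c5, .c1⟩ ⟨.c10, .c5, .c2⟩ ⟨.c9, .c13, .c5⟩ ⟨.c11, .c8, .c2⟩ ⟨.c11, .c8, .c17⟩ ⟨.c11, .c9, .c17⟩ ⟨.c11, .c8, .c15⟩ ⟨.c11, .c9, .c13⟩ ⟨.c9, .c13, .c9⟩ ⟨.c9, .c13, .c7⟩ ⟨.c11, .c10, .c2⟩ ⟨.c11, .c9, .c4⟩ ⟨.c9, .c13, .c11⟩ ⟨.c11, .c10, .c5⟩ ⟨.c10, .c3, .c17⟩ ⟨.c9, .c14, .c0⟩ ⟨.c10, .c0, .c8⟩) (@D3.rec (fun _ => Pt) ⟨.c11,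 .c8, .c4⟩ ⟨.c11, .c9, .c2⟩ ⟨.c10, .c3, .c3⟩ ⟨.c10, .c4, .c0⟩ ⟨.c9, .c14, .c7⟩ ⟨.c9, .c14, .c8⟩ ⟨.c10, .c8, .c2⟩ ⟨.c11, .c10, .c11⟩ ⟨.c10, .c13, .c8⟩ ⟨.c10, .c13, .c9⟩ ⟨.c11, .c7, .c5⟩ ⟨.c10, .c13, .c11⟩ ⟨.c10, .c6, .c10⟩ ⟨.c10, .c6, .c13⟩ ⟨.c10, .c3, .c9⟩ ⟨.c10, .c6, .c11⟩ ⟨.c10, .c3, .c13⟩ ⟨.c10, .c8, .c1⟩) (@D3.rec (fun _ => Pt) ⟨.c10, .c6, .c15⟩ ⟨.c10, .c6, .c16⟩ ⟨.c11, .c9, .c14⟩ ⟨.c10, .c7, .c9⟩ ⟨.c10, .c7, .c10⟩ ⟨.c11, .c10, .c7⟩ ⟨.c10, .c8, .c8⟩ ⟨.c10, .c0, .c12⟩ ⟨.c11, .c11, .c8⟩ ⟨.c10, .c2, .c1⟩ ⟨.c10, .c2, .c16⟩ ⟨.c10, .c0, .c16⟩ ⟨.c10, .c0,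 .c17⟩ ⟨.c11, .c9, .c6⟩ ⟨.c11, .c11, .c10⟩ ⟨.c10, .c2, .c2⟩ ⟨.c10, .c2, .c3⟩ ⟨.c10, .c1, .c6⟩)
def f_g_11 : D2 → D3 → Pt := @D2.rec (fun _ => D3 → Pt) (@D3.rec (fun _ => Pt) ⟨.c10, .c1, .c7⟩ ⟨.c10, .c1, .c13⟩ ⟨.c10, .c1, .c14⟩ ⟨.c11, .c11, .c16⟩ ⟨.c11, .c11, .c17⟩ ⟨.c10, .c8, .c4⟩ ⟨.c10, .c1, .c10⟩ ⟨.c10, .c1, .c11⟩ ⟨.c11, .c12, .c4⟩ ⟨.c11, .c12, .c6⟩ ⟨.c11, .c12, .c0⟩ ⟨.c11, .c12, .c1⟩ ⟨.c10, .c6, .c6⟩ ⟨.c10, .c6, .c7⟩ ⟨.c11, .c12, .c11⟩ ⟨.c10, .c2, .c5⟩ ⟨.c10, .c2, .c6⟩ ⟨.c10, .c7, .c2⟩) (@D3.rec (fun _ => Pt) ⟨.c11, .c8, .c1⟩ ⟨.c11, .c11, .c9⟩ ⟨.c11,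 .c13, .c0⟩ ⟨.c11, .c11, .c13⟩ ⟨.c11, .c11, .c14⟩ ⟨.c10, .c2, .c4⟩ ⟨.c11, .c13, .c3⟩ ⟨.c11, .c12, .c13⟩ ⟨.c10, .c2, .c7⟩ ⟨.c11, .c13, .c6⟩ ⟨.c10, .c2, .c12⟩ ⟨.c10, .c2, .c11⟩ ⟨.c11, .c13, .c9⟩ ⟨.c11, .c13, .c8⟩ ⟨.c10, .c2, .c14⟩ ⟨.c10, .c7, .c13⟩ ⟨.c10, .c3, .c4⟩ ⟨.c11, .c6, .c11⟩) (@D3.rec (fun _ => Pt) ⟨.c11, .c10, .c10⟩ ⟨.c10, .c6, .c8⟩ ⟨.c10, .c3, .c10⟩ ⟨.c11, .c8, .c16⟩ ⟨.c11, .c10, .c17⟩ ⟨.c11, .c13, .c15⟩ ⟨.c10, .c3, .c14⟩ ⟨.c11, .c9, .c1⟩ ⟨.c11, .c11, .c1⟩ ⟨.c11, .c6, .c14⟩ ⟨.c11, .c10, .c6⟩ ⟨.c10, .c7, .c0⟩ ⟨.c10, .c5, .c6⟩ ⟨.c10, .c5, .c9⟩ ⟨.c11,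 .c8, .c12⟩ ⟨.c11, .c8, .c13⟩ ⟨.c10, .c4, .c8⟩ ⟨.c10, .c4, .c10⟩) (@D3.rec (fun _ => Pt) ⟨.c10, .c4, .c17⟩ ⟨.c11, .c14, .c7⟩ ⟨.c10, .c5, .c0⟩ ⟨.c11, .c14, .c8⟩ ⟨.c10, .c4, .c15⟩ ⟨.c10, .c4, .c16⟩ ⟨.c11, .c14, .c12⟩ ⟨.c11, .c7, .c8⟩ ⟨.c11, .c14, .c9⟩ ⟨.c11, .c14, .c11⟩ ⟨.c11, .c9, .c11⟩ ⟨.c11, .c9, .c12⟩ ⟨.c10, .c5, .c7⟩ ⟨.c10, .c5, .c10⟩ ⟨.c10, .c7, .c8⟩ ⟨.c11, .c7, .c11⟩ ⟨.c11, .c7, .c12⟩ ⟨.c11, .c9, .c8⟩) (@D3.rec (fun _ => Pt) ⟨.c11, .c14, .c4⟩ ⟨.c12, .c0, .c0⟩ ⟨.c10, .c5, .c8⟩ ⟨.c12, .c0, .c7⟩ ⟨.c11, .c14, .c5⟩ ⟨.c10, .c5, .c12⟩ ⟨.c10, .c6, .c0⟩ ⟨.c10,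 .c8, .c7⟩ ⟨.c11, .c7, .c16⟩ ⟨.c12, .c0, .c9⟩ ⟨.c10, .c8, .c9⟩ ⟨.c10, .c7, .c1⟩ ⟨.c10, .c6, .c12⟩ ⟨.c10, .c6, .c9⟩ ⟨.c11, .c12, .c9⟩ ⟨.c11, .c12, .c10⟩ ⟨.c11, .c13, .c14⟩ ⟨.c11, .c10, .c16⟩) (@D3.rec (fun _ => Pt) ⟨.c11, .c11, .c0⟩ ⟨.c10, .c6, .c17⟩ ⟨.c11, .c7, .c9⟩ ⟨.c11, .c7, .c10⟩ ⟨.c11, .c12, .c15⟩ ⟨.c11, .c11, .c2⟩ ⟨.c11, .c11, .c3⟩ ⟨.c12, .c0, .c15⟩ ⟨.c11, .c14, .c3⟩ ⟨.c11, .c12, .c14⟩ ⟨.c10, .c7, .c12⟩ ⟨.c10, .c7, .c11⟩ ⟨.c11, .c11, .c15⟩ ⟨.c11, .c7, .c13⟩ ⟨.c11, .c7, .c14⟩ ⟨.c12, .c0, .c1⟩ ⟨.c11, .c11, .c5⟩ ⟨.c12, .c1, .c4⟩) (@D3.rec (fun _ =>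 Pt) ⟨.c10, .c8, .c10⟩ ⟨.c11, .c9, .c3⟩ ⟨.c11, .c10, .c12⟩ ⟨.c11, .c12, .c3⟩ ⟨.c11, .c7, .c15⟩ ⟨.c12, .c0, .c10⟩ ⟨.c11, .c11, .c7⟩ ⟨.c11, .c6, .c7⟩ ⟨.c11, .c6, .c8⟩ ⟨.c11, .c6, .c9⟩ ⟨.c10, .c9, .c9⟩ ⟨.c11, .c1, .c17⟩ ⟨.c11, .c6, .c12⟩ ⟨.c10, .c9, .c3⟩ ⟨.c11, .c2, .c9⟩ ⟨.c10, .c11, .c13⟩ ⟨.c10, .c9, .c5⟩ ⟨.c12, .c1, .c17⟩) (@D3.rec (fun _ => Pt) ⟨.c11, .c7, .c0⟩ ⟨.c10, .c10, .c12⟩ ⟨.c10, .c11, .c8⟩ ⟨.c10, .c9, .c14⟩ ⟨.c10, .c9, .c15⟩ ⟨.c10, .c13, .c10⟩ ⟨.c12, .c2, .c3⟩ ⟨.c12, .c2, .c4⟩ ⟨.c11, .c3, .c7⟩ ⟨.c11, .c5, .c2⟩ ⟨.c11, .c5, .c3⟩ ⟨.c11, .c3, .c15⟩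 ⟨.c11, .c3, .c16⟩ ⟨.c11, .c5, .c13⟩ ⟨.c11, .c5, .c14⟩ ⟨.c11, .c6, .c4⟩ ⟨.c11, .c4, .c8⟩ ⟨.c10, .c10, .c8⟩) (@D3.rec (fun _ => Pt) ⟨.c10, .c10, .c9⟩ ⟨.c11, .c1, .c0⟩ ⟨.c10, .c12, .c4⟩ ⟨.c12, .c2, .c16⟩ ⟨.c10, .c13, .c0⟩ ⟨.c12, .c2, .c2⟩ ⟨.c11, .c8, .c6⟩ ⟨.c10, .c10, .c16⟩ ⟨.c10, .c10, .c17⟩ ⟨.c10, .c11, .c17⟩ ⟨.c10, .c11, .c16⟩ ⟨.c12, .c3, .c3⟩ ⟨.c11, .c2, .c14⟩ ⟨.c11, .c2, .c15⟩ ⟨.c10, .c11, .c5⟩ ⟨.c10, .c12, .c7⟩ ⟨.c11, .c2, .c3⟩ ⟨.c10, .c12, .c5⟩) (@D3.rec (fun _ => Pt) ⟨.c12, .c3, .c8⟩ ⟨.c11, .c2, .c7⟩ ⟨.c10, .c13, .c1⟩ ⟨.c11, .c6, .c1⟩ ⟨.c10, .c12,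 .c12⟩ ⟨.c10, .c12, .c0⟩ ⟨.c10, .c14, .c13⟩ ⟨.c12, .c3, .c5⟩ ⟨.c11, .c3, .c17⟩ ⟨.c12, .c3, .c4⟩ ⟨.c12, .c3, .c15⟩ ⟨.c11, .c3, .c10⟩ ⟨.c11, .c3, .c11⟩ ⟨.c10, .c12, .c8⟩ ⟨.c10, .c14, .c2⟩ ⟨.c12, .c3, .c0⟩ ⟨.c12, .c3, .c11⟩ ⟨.c10, .c12, .c6⟩) (@D3.rec (fun _ => Pt) ⟨.c12, .c4, .c7⟩ ⟨.c12, .c3, .c9⟩ ⟨.c10, .c12, .c11⟩ ⟨.c12, .c4, .c10⟩ ⟨.c12, .c3, .c14⟩ ⟨.c10, .c12, .c14⟩ ⟨.c11, .c2, .c10⟩ ⟨.c10, .c14, .c5⟩ ⟨.c12, .c3, .c2⟩ ⟨.c12, .c3, .c13⟩ ⟨.c11, .c2, .c0⟩ ⟨.c10, .c13, .c7⟩ ⟨.c11, .c6, .c2⟩ ⟨.c11, .c10, .c13⟩ ⟨.c12, .c2, .c5⟩ ⟨.c11, .c10, .c15⟩ ⟨.c11, .c4,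 .c17⟩ ⟨.c11, .c2, .c4⟩) (@D3.rec (fun _ => Pt) ⟨.c11, .c5, .c0⟩ ⟨.c11, .c2, .c8⟩ ⟨.c11, .c5, .c5⟩ ⟨.c11, .c5, .c6⟩ ⟨.c12, .c4, .c4⟩ ⟨.c11, .c5, .c16⟩ ⟨.c12, .c4, .c13⟩ ⟨.c11, .c6, .c6⟩ ⟨.c10, .c14, .c8⟩ ⟨.c11, .c1, .c1⟩ ⟨.c10, .c14, .c14⟩ ⟨.c12, .c3, .c16⟩ ⟨.c12, .c5, .c8⟩ ⟨.c11, .c1, .c3⟩ ⟨.c11, .c1, .c4⟩ ⟨.c11, .c5, .c12⟩ ⟨.c11, .c0, .c3⟩ ⟨.c11, .c0, .c4⟩) (@D3.rec (fun _ => Pt) ⟨.c11, .c0, .c10⟩ ⟨.c11, .c0, .c11⟩ ⟨.c12, .c5, .c12⟩ ⟨.c11, .c6, .c3⟩ ⟨.c11, .c0, .c8⟩ ⟨.c12, .c5, .c16⟩ ⟨.c11, .c0, .c9⟩ ⟨.c12, .c6, .c0⟩ ⟨.c12, .c5, .c13⟩ ⟨.c11, .c4, .c14⟩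 ⟨.c11, .c4, .c15⟩ ⟨.c11, .c0, .c14⟩ ⟨.c12, .c6, .c4⟩ ⟨.c11, .c1, .c7⟩ ⟨.c11, .c5, .c9⟩ ⟨.c11, .c5, .c4⟩ ⟨.c12, .c2, .c17⟩ ⟨.c12, .c5, .c7⟩) (@D3.rec (fun _ => Pt) ⟨.c11, .c1, .c2⟩ ⟨.c12, .c6, .c10⟩ ⟨.c12, .c5, .c10⟩ ⟨.c11, .c1, .c6⟩ ⟨.c12, .c6, .c13⟩ ⟨.c12, .c6, .c6⟩ ⟨.c11, .c1, .c9⟩ ⟨.c12, .c6, .c16⟩ ⟨.c11, .c1, .c13⟩ ⟨.c11, .c1, .c12⟩ ⟨.c12, .c4, .c15⟩ ⟨.c12, .c7, .c0⟩ ⟨.c12, .c1, .c14⟩ ⟨.c12, .c2, .c7⟩ ⟨.c11, .c4, .c16⟩ ⟨.c11, .c2, .c5⟩ ⟨.c12, .c3, .c10⟩ ⟨.c12, .c5, .c0⟩) (@D3.rec (fun _ => Pt) ⟨.c12, .c3, .c12⟩ ⟨.c12, .c5, .c1⟩ ⟨.c12, .c1, .c16⟩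 ⟨.c11, .c5, .c8⟩ ⟨.c11, .c4, .c0⟩ ⟨.c11, .c4, .c4⟩ ⟨.c12, .c3, .c7⟩ ⟨.c11, .c3, .c1⟩ ⟨.c11, .c3, .c3⟩ ⟨.c11, .c3, .c8⟩ ⟨.c12, .c7, .c9⟩ ⟨.c11, .c3, .c9⟩ ⟨.c11, .c3, .c6⟩ ⟨.c12, .c5, .c6⟩ ⟨.c12, .c2, .c8⟩ ⟨.c12, .c7, .c10⟩ ⟨.c12, .c4, .c2⟩ ⟨.c12, .c4, .c3⟩)
def f_g_12 : D2 → D3 → Pt := @D2.rec (fun _ => D3 → Pt) (@D3.rec (fun _ => Pt) ⟨.c11, .c4, .c1⟩ ⟨.c11, .c5, .c15⟩ ⟨.c12, .c2, .c11⟩ ⟨.c12, .c2, .c12⟩ ⟨.c12, .c4, .c0⟩ ⟨.c12, .c7, .c7⟩ ⟨.c12, .c7, .c15⟩ ⟨.c11, .c4, .c3⟩ ⟨.c12, .c8, .c4⟩ ⟨.c11, .c4, .c9⟩ ⟨.c11, .c6, .c5⟩ ⟨.c12, .c2, .c15⟩ ⟨.c12, .c5,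 .c17⟩ ⟨.c12, .c6, .c3⟩ ⟨.c12, .c4, .c17⟩ ⟨.c11, .c5, .c7⟩ ⟨.c12, .c2, .c9⟩ ⟨.c12, .c2, .c10⟩) (@D3.rec (fun _ => Pt) ⟨.c12, .c6, .c8⟩ ⟨.c12, .c5, .c2⟩ ⟨.c12, .c8, .c6⟩ ⟨.c12, .c6, .c7⟩ ⟨.c11, .c5, .c17⟩ ⟨.c12, .c5, .c11⟩ ⟨.c12, .c2, .c13⟩ ⟨.c12, .c7, .c16⟩ ⟨.c12, .c5, .c4⟩ ⟨.c12, .c5, .c15⟩ ⟨.c12, .c2, .c14⟩ ⟨.c12, .c4, .c12⟩ ⟨.c12, .c1, .c12⟩ ⟨.c12, .c1, .c13⟩ ⟨.c11, .c13, .c12⟩ ⟨.c12, .c1, .c15⟩ ⟨.c11, .c14, .c2⟩ ⟨.c11, .c6, .c17⟩) (@D3.rec (fun _ => Pt) ⟨.c12, .c9, .c0⟩ ⟨.c12, .c2, .c1⟩ ⟨.c11, .c8, .c5⟩ ⟨.c11, .c7, .c6⟩ ⟨.c11, .c7, .c7⟩ ⟨.c11, .c10,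 .c14⟩ ⟨.c12, .c9, .c1⟩ ⟨.c11, .c13, .c13⟩ ⟨.c11, .c14, .c14⟩ ⟨.c12, .c0, .c16⟩ ⟨.c12, .c0, .c17⟩ ⟨.c12, .c0, .c2⟩ ⟨.c12, .c0, .c3⟩ ⟨.c12, .c1, .c6⟩ ⟨.c12, .c1, .c10⟩ ⟨.c12, .c0, .c11⟩ ⟨.c11, .c8, .c3⟩ ⟨.c11, .c12, .c16⟩) (@D3.rec (fun _ => Pt) ⟨.c11, .c9, .c15⟩ ⟨.c12, .c9, .c10⟩ ⟨.c11, .c10, .c8⟩ ⟨.c11, .c8, .c11⟩ ⟨.c11, .c9, .c9⟩ ⟨.c11, .c9, .c7⟩ ⟨.c12, .c9, .c14⟩ ⟨.c11, .c14, .c6⟩ ⟨.c11, .c9, .c0⟩ ⟨.c11, .c10, .c1⟩ ⟨.c11, .c13, .c16⟩ ⟨.c11, .c9, .c16⟩ ⟨.c11, .c14, .c0⟩ ⟨.c11, .c10, .c9⟩ ⟨.c11, .c10, .c4⟩ ⟨.c11, .c9, .c10⟩ ⟨.c11, .c11, .c11⟩ ⟨.c12,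 .c9, .c16⟩) (@D3.rec (fun _ => Pt) ⟨.c12, .c0, .c4⟩ ⟨.c12, .c9, .c15⟩ ⟨.c11, .c14, .c16⟩ ⟨.c11, .c14, .c17⟩ ⟨.c11, .c11, .c4⟩ ⟨.c12, .c9, .c12⟩ ⟨.c12, .c10, .c2⟩ ⟨.c11, .c10, .c0⟩ ⟨.c12, .c10, .c12⟩ ⟨.c12, .c10, .c0⟩ ⟨.c11, .c10, .c3⟩ ⟨.c12, .c10, .c15⟩ ⟨.c12, .c1, .c11⟩ ⟨.c11, .c11, .c6⟩ ⟨.c12, .c9, .c13⟩ ⟨.c11, .c13, .c10⟩ ⟨.c12, .c9, .c2⟩ ⟨.c12, .c0, .c14⟩) (@D3.rec (fun _ => Pt) ⟨.c11, .c13, .c17⟩ ⟨.c11, .c14, .c1⟩ ⟨.c12, .c1, .c1⟩ ⟨.c12, .c10, .c9⟩ ⟨.c12, .c1, .c8⟩ ⟨.c12, .c10, .c16⟩ ⟨.c11, .c14, .c13⟩ ⟨.c11, .c12, .c17⟩ ⟨.c11, .c11, .c12⟩ ⟨.c12,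 .c10, .c4⟩ ⟨.c11, .c13, .c2⟩ ⟨.c12, .c1, .c5⟩ ⟨.c11, .c12, .c2⟩ ⟨.c11, .c12, .c8⟩ ⟨.c12, .c11, .c8⟩ ⟨.c12, .c1, .c9⟩ ⟨.c11, .c12, .c5⟩ ⟨.c12, .c0, .c12⟩) (@D3.rec (fun _ => Pt) ⟨.c11, .c12, .c7⟩ ⟨.c12, .c11, .c11⟩ ⟨.c12, .c11, .c9⟩ ⟨.c12, .c0, .c13⟩ ⟨.c11, .c12, .c12⟩ ⟨.c12, .c11, .c15⟩ ⟨.c11, .c13, .c5⟩ ⟨.c12, .c1, .c3⟩ ⟨.c12, .c1, .c0⟩ ⟨.c12, .c9, .c11⟩ ⟨.c11, .c13, .c1⟩ ⟨.c12, .c12, .c2⟩ ⟨.c12, .c11, .c6⟩ ⟨.c11, .c13, .c4⟩ ⟨.c12, .c10, .c11⟩ ⟨.c12, .c11, .c17⟩ ⟨.c11, .c13, .c7⟩ ⟨.c12, .c11, .c0⟩) (@D3.rec (fun _ => Pt) ⟨.c11, .c13, .c11⟩ ⟨.c12, .c9,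 .c9⟩ ⟨.c12, .c12, .c8⟩ ⟨.c12, .c8, .c17⟩ ⟨.c12, .c10, .c1⟩ ⟨.c12, .c11, .c1⟩ ⟨.c12, .c10, .c3⟩ ⟨.c12, .c0, .c5⟩ ⟨.c12, .c9, .c17⟩ ⟨.c11, .c14, .c10⟩ ⟨.c11, .c14, .c15⟩ ⟨.c12, .c11, .c4⟩ ⟨.c12, .c9, .c3⟩ ⟨.c12, .c12, .c11⟩ ⟨.c12, .c10, .c8⟩ ⟨.c12, .c0, .c6⟩ ⟨.c12, .c1, .c7⟩ ⟨.c12, .c9, .c5⟩) (@D3.rec (fun _ => Pt) ⟨.c12, .c9, .c6⟩ ⟨.c12, .c10, .c6⟩ ⟨.c12, .c12, .c10⟩ ⟨.c12, .c11, .c10⟩ ⟨.c12, .c0, .c8⟩ ⟨.c12, .c11, .c14⟩ ⟨.c12, .c1, .c2⟩ ⟨.c12, .c9, .c4⟩ ⟨.c12, .c12, .c0⟩ ⟨.c12, .c11, .c2⟩ ⟨.c12, .c11, .c7⟩ ⟨.c12, .c9, .c7⟩ ⟨.c12, .c10, .c14⟩ ⟨.c12, .c10,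 .c17⟩ ⟨.c12, .c9, .c8⟩ ⟨.c12, .c8, .c15⟩ ⟨.c12, .c8, .c16⟩ ⟨.c12, .c7, .c3⟩) (@D3.rec (fun _ => Pt) ⟨.c12, .c2, .c0⟩ ⟨.c12, .c2, .c6⟩ ⟨.c12, .c4, .c16⟩ ⟨.c12, .c7, .c12⟩ ⟨.c12, .c8, .c7⟩ ⟨.c12, .c7, .c17⟩ ⟨.c12, .c8, .c0⟩ ⟨.c12, .c8, .c11⟩ ⟨.c12, .c8, .c14⟩ ⟨.c12, .c7, .c1⟩ ⟨.c12, .c3, .c1⟩ ⟨.c12, .c6, .c9⟩ ⟨.c12, .c4, .c5⟩ ⟨.c12, .c4, .c14⟩ ⟨.c12, .c3, .c6⟩ ⟨.c12, .c4, .c1⟩ ⟨.c12, .c3, .c17⟩ ⟨.c12, .c7, .c8⟩) (@D3.rec (fun _ => Pt) ⟨.c12, .c4, .c9⟩ ⟨.c12, .c7, .c4⟩ ⟨.c12, .c4, .c6⟩ ⟨.c12, .c7, .c6⟩ ⟨.c12, .c5, .c9⟩ ⟨.c12, .c13, .c11⟩ ⟨.c12, .c8, .c1⟩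 ⟨.c12, .c13, .c10⟩ ⟨.c12, .c7, .c14⟩ ⟨.c12, .c5, .c3⟩ ⟨.c12, .c13, .c9⟩ ⟨.c12, .c6, .c14⟩ ⟨.c12, .c4, .c8⟩ ⟨.c12, .c14, .c1⟩ ⟨.c12, .c8, .c12⟩ ⟨.c12, .c4, .c11⟩ ⟨.c12, .c5, .c5⟩ ⟨.c12, .c8, .c13⟩) (@D3.rec (fun _ => Pt) ⟨.c12, .c6, .c17⟩ ⟨.c12, .c7, .c5⟩ ⟨.c12, .c8, .c9⟩ ⟨.c12, .c14, .c0⟩ ⟨.c12, .c7, .c11⟩ ⟨.c12, .c13, .c13⟩ ⟨.c12, .c6, .c12⟩ ⟨.c12, .c8, .c10⟩ ⟨.c12, .c5, .c14⟩ ⟨.c12, .c6, .c2⟩ ⟨.c12, .c8, .c3⟩ ⟨.c12, .c6, .c1⟩ ⟨.c12, .c13, .c14⟩ ⟨.c12, .c14, .c5⟩ ⟨.c12, .c8, .c5⟩ ⟨.c12, .c6, .c5⟩ ⟨.c12, .c14, .c2⟩ ⟨.c12, .c6, .c15⟩) (@D3.rec (fun _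 => Pt) ⟨.c12, .c8, .c8⟩ ⟨.c12, .c13, .c8⟩ ⟨.c12, .c6, .c11⟩ ⟨.c12, .c14, .c10⟩ ⟨.c12, .c14, .c4⟩ ⟨.c12, .c13, .c5⟩ ⟨.c12, .c14, .c9⟩ ⟨.c12, .c13, .c7⟩ ⟨.c12, .c7, .c2⟩ ⟨.c12, .c13, .c12⟩ ⟨.c12, .c8, .c2⟩ ⟨.c12, .c7, .c13⟩ ⟨.c12, .c13, .c2⟩ ⟨.c12, .c13, .c17⟩ ⟨.c12, .c13, .c4⟩ ⟨.c12, .c13, .c15⟩ ⟨.c12, .c13, .c3⟩ ⟨.c12, .c13, .c16⟩) (@D3.rec (fun _ => Pt) ⟨.c12, .c14, .c3⟩ ⟨.c12, .c13, .c6⟩ ⟨.c12, .c12, .c12⟩ ⟨.c12, .c12, .c16⟩ ⟨.c12, .c12, .c14⟩ ⟨.c12, .c12, .c5⟩ ⟨.c12, .c13, .c1⟩ ⟨.c12, .c12, .c7⟩ ⟨.c12, .c12, .c1⟩ ⟨.c12, .c10, .c10⟩ ⟨.c12, .c10, .c7⟩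 ⟨.c12, .c10, .c5⟩ ⟨.c12, .c12, .c9⟩ ⟨.c12, .c11, .c5⟩ ⟨.c12, .c11, .c12⟩ ⟨.c12, .c12, .c15⟩ ⟨.c12, .c12, .c17⟩ ⟨.c12, .c12, .c13⟩) (@D3.rec (fun _ => Pt) ⟨.c12, .c11, .c3⟩ ⟨.c12, .c10, .c13⟩ ⟨.c12, .c11, .c16⟩ ⟨.c12, .c13, .c0⟩ ⟨.c12, .c12, .c4⟩ ⟨.c12, .c11, .c13⟩ ⟨.c12, .c14, .c13⟩ ⟨.c12, .c14, .c16⟩ ⟨.c12, .c14, .c17⟩ ⟨.c12, .c12, .c6⟩ ⟨.c12, .c12, .c3⟩ ⟨.c12, .c14, .c15⟩ ⟨.c12, .c14, .c14⟩ ⟨.c12, .c14, .c6⟩ ⟨.c12, .c14, .c12⟩ ⟨.c12, .c14, .c11⟩ ⟨.c12, .c14, .c7⟩ ⟨.c12, .c14, .c8⟩)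
def f_g : Pt → Pt := @Pt.rec (fun _ => Pt) (@D1.rec (fun _ => D2 → D3 → Pt) f_g_0 f_g_1 f_g_2 f_g_3 f_g_4 f_g_5 f_g_6 f_g_7 f_g_8 f_g_9 f_g_10 f_g_11 f_g_12)
def fi_g : Pt → Pt := f_g
def f_h_0 : D2 → D3 → Pt := @D2.rec (fun _ => D3 → Pt) (@D3.rec (fun _ => Pt) ⟨.c0, .c0, .c0⟩ ⟨.c0, .c0, .c1⟩ ⟨.c0, .c0, .c2⟩ ⟨.c0, .c0, .c3⟩ ⟨.c0, .c0, .c4⟩ ⟨.c0, .c0, .c9⟩ ⟨.c0, .c0, .c6⟩ ⟨.c0, .c0, .c12⟩ ⟨.c0, .c0, .c14⟩ ⟨.c0, .c0, .c5⟩ ⟨.c0, .c1, .c0⟩ ⟨.c0, .c1, .c2⟩ ⟨.c0, .c0, .c7⟩ ⟨.c0, .c1, .c5⟩ ⟨.c0, .c0, .c8⟩ ⟨.c0, .c0, .c15⟩ ⟨.c0, .c1, .c9⟩ ⟨.c0, .c1, .c11⟩) (@D3.rec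 (fun _ => Pt) ⟨.c0, .c0, .c10⟩ ⟨.c0, .c1, .c14⟩ ⟨.c0, .c0, .c11⟩ ⟨.c0, .c1, .c3⟩ ⟨.c0, .c1, .c17⟩ ⟨.c0, .c0, .c13⟩ ⟨.c0, .c1, .c6⟩ ⟨.c0, .c1, .c7⟩ ⟨.c0, .c2, .c6⟩ ⟨.c0, .c0, .c16⟩ ⟨.c0, .c2, .c10⟩ ⟨.c0, .c0, .c17⟩ ⟨.c0, .c1, .c12⟩ ⟨.c0, .c2, .c13⟩ ⟨.c0, .c1, .c1⟩ ⟨.c0, .c1, .c15⟩ ⟨.c0, .c1, .c16⟩ ⟨.c0, .c1, .c4⟩) (@D3.rec (fun _ => Pt) ⟨.c0, .c2, .c0⟩ ⟨.c0, .c2, .c1⟩ ⟨.c0, .c2, .c2⟩ ⟨.c0, .c3, .c7⟩ ⟨.c0, .c2, .c4⟩ ⟨.c0, .c3, .c10⟩ ⟨.c0, .c1, .c8⟩ ⟨.c0, .c2, .c7⟩ ⟨.c0, .c2, .c8⟩ ⟨.c0, .c3, .c13⟩ ⟨.c0, .c1, .c10⟩ ⟨.c0, .c2, .c11⟩ ⟨.c0, .c2, .c12⟩ ⟨.c0,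 .c1, .c13⟩ ⟨.c0, .c2, .c14⟩ ⟨.c0, .c2, .c15⟩ ⟨.c0, .c2, .c16⟩ ⟨.c0, .c4, .c5⟩) (@D3.rec (fun _ => Pt) ⟨.c0, .c3, .c0⟩ ⟨.c0, .c3, .c1⟩ ⟨.c0, .c3, .c2⟩ ⟨.c0, .c3, .c3⟩ ⟨.c0, .c4, .c13⟩ ⟨.c0, .c3, .c5⟩ ⟨.c0, .c4, .c15⟩ ⟨.c0, .c2, .c3⟩ ⟨.c0, .c3, .c8⟩ ⟨.c0, .c5, .c0⟩ ⟨.c0, .c2, .c5⟩ ⟨.c0, .c3, .c11⟩ ⟨.c0, .c5, .c2⟩ ⟨.c0, .c2, .c9⟩ ⟨.c0, .c3, .c14⟩ ⟨.c0, .c3, .c15⟩ ⟨.c0, .c5, .c7⟩ ⟨.c0, .c3, .c17⟩) (@D3.rec (fun _ => Pt) ⟨.c0, .c4, .c0⟩ ⟨.c0, .c4, .c1⟩ ⟨.c0, .c4, .c2⟩ ⟨.c0, .c5, .c14⟩ ⟨.c0, .c5, .c15⟩ ⟨.c0, .c2, .c17⟩ ⟨.c0, .c4, .c6⟩ ⟨.c0, .c4, .c7⟩ ⟨.c0,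 .c6, .c3⟩ ⟨.c0, .c4, .c9⟩ ⟨.c0, .c4, .c10⟩ ⟨.c0, .c6, .c8⟩ ⟨.c0, .c6, .c9⟩ ⟨.c0, .c3, .c4⟩ ⟨.c0, .c6, .c10⟩ ⟨.c0, .c3, .c6⟩ ⟨.c0, .c4, .c16⟩ ⟨.c0, .c4, .c17⟩) (@D3.rec (fun _ => Pt) ⟨.c0, .c3, .c9⟩ ⟨.c0, .c5, .c1⟩ ⟨.c0, .c3, .c12⟩ ⟨.c0, .c5, .c3⟩ ⟨.c0, .c5, .c4⟩ ⟨.c0, .c5, .c5⟩ ⟨.c0, .c6, .c17⟩ ⟨.c0, .c3, .c16⟩ ⟨.c0, .c5, .c8⟩ ⟨.c0, .c5, .c9⟩ ⟨.c0, .c7, .c4⟩ ⟨.c0, .c5, .c11⟩ ⟨.c0, .c7, .c7⟩ ⟨.c0, .c7, .c8⟩ ⟨.c0, .c4, .c3⟩ ⟨.c0, .c4, .c4⟩ ⟨.c0, .c5, .c16⟩ ⟨.c0, .c5, .c17⟩) (@D3.rec (fun _ => Pt) ⟨.c0, .c7, .c15⟩ ⟨.c0, .c6, .c1⟩ ⟨.c0, .c7, .c17⟩ ⟨.c0,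 .c4, .c8⟩ ⟨.c0, .c6, .c4⟩ ⟨.c0, .c8, .c2⟩ ⟨.c0, .c8, .c3⟩ ⟨.c0, .c8, .c5⟩ ⟨.c0, .c4, .c11⟩ ⟨.c0, .c4, .c12⟩ ⟨.c0, .c4, .c14⟩ ⟨.c0, .c6, .c11⟩ ⟨.c0, .c6, .c12⟩ ⟨.c0, .c6, .c13⟩ ⟨.c0, .c6, .c14⟩ ⟨.c0, .c8, .c13⟩ ⟨.c0, .c8, .c14⟩ ⟨.c0, .c5, .c6⟩) (@D3.rec (fun _ => Pt) ⟨.c0, .c7, .c0⟩ ⟨.c0, .c9, .c0⟩ ⟨.c0, .c7, .c2⟩ ⟨.c0, .c9, .c2⟩ ⟨.c0, .c5, .c10⟩ ⟨.c0, .c9, .c3⟩ ⟨.c0, .c9, .c5⟩ ⟨.c0, .c5, .c12⟩ ⟨.c0, .c5, .c13⟩ ⟨.c0, .c7, .c9⟩ ⟨.c0, .c7, .c10⟩ ⟨.c0, .c9, .c12⟩ ⟨.c0, .c9, .c14⟩ ⟨.c0, .c7, .c13⟩ ⟨.c0, .c9, .c17⟩ ⟨.c0, .c6, .c0⟩ ⟨.c0, .c10, .c1⟩ ⟨.c0, .c6,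 .c2⟩) (@D3.rec (fun _ => Pt) ⟨.c0, .c10, .c4⟩ ⟨.c0, .c10, .c6⟩ ⟨.c0, .c6, .c5⟩ ⟨.c0, .c6, .c6⟩ ⟨.c0, .c10, .c9⟩ ⟨.c0, .c6, .c7⟩ ⟨.c0, .c8, .c6⟩ ⟨.c0, .c8, .c7⟩ ⟨.c0, .c8, .c8⟩ ⟨.c0, .c8, .c9⟩ ⟨.c0, .c8, .c10⟩ ⟨.c0, .c8, .c11⟩ ⟨.c0, .c10, .c17⟩ ⟨.c0, .c6, .c15⟩ ⟨.c0, .c6, .c16⟩ ⟨.c0, .c11, .c2⟩ ⟨.c0, .c8, .c16⟩ ⟨.c0, .c11, .c5⟩) (@D3.rec (fun _ => Pt) ⟨.c0, .c7, .c1⟩ ⟨.c0, .c11, .c7⟩ ⟨.c0, .c7, .c3⟩ ⟨.c0, .c7, .c5⟩ ⟨.c0, .c11, .c10⟩ ⟨.c0, .c7, .c6⟩ ⟨.c0, .c9, .c6⟩ ⟨.c0, .c9, .c7⟩ ⟨.c0, .c9, .c8⟩ ⟨.c0, .c11, .c17⟩ ⟨.c0, .c9, .c10⟩ ⟨.c0, .c12, .c2⟩ ⟨.c0,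 .c7, .c11⟩ ⟨.c0, .c12, .c5⟩ ⟨.c0, .c7, .c12⟩ ⟨.c0, .c12, .c8⟩ ⟨.c0, .c12, .c9⟩ ⟨.c0, .c7, .c14⟩) (@D3.rec (fun _ => Pt) ⟨.c0, .c10, .c0⟩ ⟨.c0, .c7, .c16⟩ ⟨.c0, .c10, .c2⟩ ⟨.c0, .c12, .c14⟩ ⟨.c0, .c8, .c0⟩ ⟨.c0, .c12, .c17⟩ ⟨.c0, .c8, .c1⟩ ⟨.c0, .c10, .c7⟩ ⟨.c0, .c13, .c3⟩ ⟨.c0, .c8, .c4⟩ ⟨.c0, .c13, .c4⟩ ⟨.c0, .c10, .c11⟩ ⟨.c0, .c10, .c12⟩ ⟨.c0, .c10, .c13⟩ ⟨.c0, .c10, .c14⟩ ⟨.c0, .c10, .c15⟩ ⟨.c0, .c13, .c12⟩ ⟨.c0, .c8, .c12⟩) (@D3.rec (fun _ => Pt) ⟨.c0, .c11, .c0⟩ ⟨.c0, .c13, .c16⟩ ⟨.c0, .c8, .c15⟩ ⟨.c0, .c14, .c1⟩ ⟨.c0, .c14, .c2⟩ ⟨.c0, .c8, .c17⟩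 ⟨.c0, .c11, .c6⟩ ⟨.c0, .c9, .c1⟩ ⟨.c0, .c11, .c8⟩ ⟨.c0, .c14, .c7⟩ ⟨.c0, .c9, .c4⟩ ⟨.c0, .c14, .c8⟩ ⟨.c0, .c11, .c12⟩ ⟨.c0, .c11, .c13⟩ ⟨.c0, .c11, .c14⟩ ⟨.c0, .c14, .c15⟩ ⟨.c1, .c0, .c0⟩ ⟨.c0, .c9, .c9⟩) (@D3.rec (fun _ => Pt) ⟨.c1, .c0, .c3⟩ ⟨.c1, .c0, .c4⟩ ⟨.c0, .c9, .c11⟩ ⟨.c0, .c12, .c3⟩ ⟨.c1, .c0, .c8⟩ ⟨.c0, .c9, .c13⟩ ⟨.c1, .c0, .c11⟩ ⟨.c1, .c0, .c12⟩ ⟨.c0, .c9, .c15⟩ ⟨.c0, .c9, .c16⟩ ⟨.c1, .c0, .c13⟩ ⟨.c0, .c12, .c11⟩ ⟨.c0, .c12, .c12⟩ ⟨.c0, .c12, .c13⟩ ⟨.c0, .c10, .c3⟩ ⟨.c1, .c1, .c5⟩ ⟨.c1, .c1, .c6⟩ ⟨.c0, .c10, .c5⟩) (@D3.rec (fun _ => Pt)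 ⟨.c1, .c1, .c7⟩ ⟨.c0, .c13, .c1⟩ ⟨.c0, .c13, .c2⟩ ⟨.c0, .c10, .c8⟩ ⟨.c0, .c10, .c10⟩ ⟨.c1, .c1, .c13⟩ ⟨.c1, .c1, .c14⟩ ⟨.c0, .c13, .c7⟩ ⟨.c0, .c13, .c8⟩ ⟨.c0, .c13, .c9⟩ ⟨.c0, .c13, .c10⟩ ⟨.c0, .c13, .c11⟩ ⟨.c0, .c10, .c16⟩ ⟨.c0, .c13, .c13⟩ ⟨.c0, .c13, .c14⟩ ⟨.c1, .c2, .c8⟩ ⟨.c0, .c11, .c1⟩ ⟨.c1, .c2, .c11⟩) (@D3.rec (fun _ => Pt) ⟨.c1, .c2, .c12⟩ ⟨.c0, .c11, .c3⟩ ⟨.c0, .c11, .c4⟩ ⟨.c1, .c2, .c13⟩ ⟨.c0, .c14, .c4⟩ ⟨.c0, .c14, .c5⟩ ⟨.c0, .c14, .c6⟩ ⟨.c0, .c11, .c9⟩ ⟨.c0, .c11, .c11⟩ ⟨.c1, .c3, .c4⟩ ⟨.c1, .c3, .c5⟩ ⟨.c0, .c14, .c11⟩ ⟨.c0, .c14, .c12⟩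 ⟨.c0, .c14, .c13⟩ ⟨.c1, .c3, .c12⟩ ⟨.c0, .c11, .c15⟩ ⟨.c1, .c3, .c16⟩ ⟨.c1, .c3, .c17⟩)
def f_h_1 : D2 → D3 → Pt := @D2.rec (fun _ => D3 → Pt) (@D3.rec (fun _ => Pt) ⟨.c0, .c11, .c16⟩ ⟨.c1, .c4, .c2⟩ ⟨.c1, .c4, .c3⟩ ⟨.c0, .c12, .c0⟩ ⟨.c0, .c12, .c1⟩ ⟨.c1, .c4, .c4⟩ ⟨.c1, .c0, .c6⟩ ⟨.c1, .c0, .c7⟩ ⟨.c0, .c12, .c4⟩ ⟨.c1, .c4, .c12⟩ ⟨.c1, .c4, .c13⟩ ⟨.c0, .c12, .c6⟩ ⟨.c0, .c12, .c7⟩ ⟨.c0, .c12, .c10⟩ ⟨.c1, .c4, .c14⟩ ⟨.c1, .c4, .c16⟩ ⟨.c1, .c4, .c17⟩ ⟨.c1, .c0, .c17⟩) (@D3.rec (fun _ => Pt) ⟨.c1, .c1, .c0⟩ ⟨.c1, .c1, .c1⟩ ⟨.c1, .c1, .c2⟩ ⟨.c1, .c1, .c3⟩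 ⟨.c1, .c5, .c11⟩ ⟨.c0, .c12, .c15⟩ ⟨.c0, .c12, .c16⟩ ⟨.c0, .c13, .c0⟩ ⟨.c1, .c5, .c14⟩ ⟨.c1, .c5, .c15⟩ ⟨.c1, .c1, .c10⟩ ⟨.c1, .c1, .c11⟩ ⟨.c1, .c1, .c12⟩ ⟨.c0, .c13, .c5⟩ ⟨.c0, .c13, .c6⟩ ⟨.c1, .c6, .c6⟩ ⟨.c1, .c6, .c7⟩ ⟨.c1, .c6, .c8⟩) (@D3.rec (fun _ => Pt) ⟨.c1, .c2, .c0⟩ ⟨.c1, .c2, .c1⟩ ⟨.c1, .c6, .c14⟩ ⟨.c1, .c2, .c3⟩ ⟨.c1, .c2, .c4⟩ ⟨.c1, .c2, .c5⟩ ⟨.c1, .c2, .c6⟩ ⟨.c1, .c2, .c7⟩ ⟨.c0, .c13, .c15⟩ ⟨.c1, .c7, .c4⟩ ⟨.c1, .c7, .c5⟩ ⟨.c0, .c13, .c17⟩ ⟨.c0, .c14, .c0⟩ ⟨.c0, .c14, .c3⟩ ⟨.c1, .c7, .c6⟩ ⟨.c1, .c7, .c8⟩ ⟨.c1, .c7, .c9⟩ ⟨.c1, .c2, .c17⟩)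 (@D3.rec (fun _ => Pt) ⟨.c1, .c3, .c0⟩ ⟨.c1, .c3, .c1⟩ ⟨.c1, .c3, .c2⟩ ⟨.c1, .c3, .c3⟩ ⟨.c0, .c14, .c9⟩ ⟨.c0, .c14, .c10⟩ ⟨.c1, .c8, .c3⟩ ⟨.c1, .c8, .c4⟩ ⟨.c1, .c8, .c5⟩ ⟨.c1, .c3, .c9⟩ ⟨.c1, .c3, .c10⟩ ⟨.c1, .c8, .c11⟩ ⟨.c0, .c14, .c14⟩ ⟨.c1, .c8, .c15⟩ ⟨.c1, .c3, .c14⟩ ⟨.c1, .c9, .c0⟩ ⟨.c0, .c14, .c16⟩ ⟨.c0, .c14, .c17⟩) (@D3.rec (fun _ => Pt) ⟨.c1, .c9, .c4⟩ ⟨.c1, .c9, .c5⟩ ⟨.c1, .c0, .c1⟩ ⟨.c1, .c0, .c2⟩ ⟨.c1, .c0, .c5⟩ ⟨.c1, .c9, .c6⟩ ⟨.c1, .c9, .c8⟩ ⟨.c1, .c9, .c9⟩ ⟨.c1, .c4, .c8⟩ ⟨.c1, .c4, .c9⟩ ⟨.c1, .c4, .c10⟩ ⟨.c1, .c10, .c2⟩ ⟨.c1, .c0, .c9⟩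 ⟨.c1, .c0, .c10⟩ ⟨.c1, .c0, .c14⟩ ⟨.c1, .c4, .c15⟩ ⟨.c1, .c0, .c15⟩ ⟨.c1, .c0, .c16⟩) (@D3.rec (fun _ => Pt) ⟨.c1, .c10, .c5⟩ ⟨.c1, .c10, .c6⟩ ⟨.c1, .c10, .c9⟩ ⟨.c1, .c10, .c10⟩ ⟨.c1, .c10, .c11⟩ ⟨.c1, .c5, .c5⟩ ⟨.c1, .c5, .c6⟩ ⟨.c1, .c5, .c7⟩ ⟨.c1, .c5, .c8⟩ ⟨.c1, .c5, .c9⟩ ⟨.c1, .c11, .c6⟩ ⟨.c1, .c1, .c4⟩ ⟨.c1, .c5, .c12⟩ ⟨.c1, .c5, .c13⟩ ⟨.c1, .c1, .c8⟩ ⟨.c1, .c1, .c9⟩ ⟨.c1, .c11, .c12⟩ ⟨.c1, .c11, .c13⟩) (@D3.rec (fun _ => Pt) ⟨.c1, .c11, .c14⟩ ⟨.c1, .c12, .c3⟩ ⟨.c1, .c6, .c2⟩ ⟨.c1, .c6, .c3⟩ ⟨.c1, .c6, .c4⟩ ⟨.c1, .c6, .c5⟩ ⟨.c1, .c1, .c15⟩ ⟨.c1,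 .c1, .c16⟩ ⟨.c1, .c1, .c17⟩ ⟨.c1, .c12, .c8⟩ ⟨.c1, .c12, .c9⟩ ⟨.c1, .c12, .c11⟩ ⟨.c1, .c12, .c12⟩ ⟨.c1, .c11, .c5⟩ ⟨.c1, .c2, .c2⟩ ⟨.c1, .c6, .c15⟩ ⟨.c1, .c6, .c16⟩ ⟨.c1, .c6, .c17⟩) (@D3.rec (fun _ => Pt) ⟨.c1, .c7, .c0⟩ ⟨.c1, .c7, .c1⟩ ⟨.c1, .c7, .c2⟩ ⟨.c1, .c13, .c4⟩ ⟨.c1, .c2, .c9⟩ ⟨.c1, .c2, .c10⟩ ⟨.c1, .c2, .c14⟩ ⟨.c1, .c7, .c7⟩ ⟨.c1, .c2, .c15⟩ ⟨.c1, .c2, .c16⟩ ⟨.c1, .c13, .c7⟩ ⟨.c1, .c13, .c8⟩ ⟨.c1, .c13, .c11⟩ ⟨.c1, .c13, .c12⟩ ⟨.c1, .c13, .c13⟩ ⟨.c1, .c7, .c15⟩ ⟨.c1, .c7, .c16⟩ ⟨.c1, .c7, .c17⟩) (@D3.rec (fun _ => Pt) ⟨.c1, .c8, .c0⟩ ⟨.c1,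 .c8, .c1⟩ ⟨.c1, .c8, .c2⟩ ⟨.c1, .c3, .c6⟩ ⟨.c1, .c3, .c7⟩ ⟨.c1, .c3, .c8⟩ ⟨.c1, .c14, .c9⟩ ⟨.c1, .c14, .c10⟩ ⟨.c1, .c14, .c12⟩ ⟨.c1, .c14, .c13⟩ ⟨.c1, .c8, .c10⟩ ⟨.c1, .c3, .c11⟩ ⟨.c2, .c0, .c1⟩ ⟨.c1, .c8, .c13⟩ ⟨.c2, .c0, .c3⟩ ⟨.c1, .c3, .c13⟩ ⟨.c1, .c8, .c16⟩ ⟨.c2, .c0, .c6⟩) (@D3.rec (fun _ => Pt) ⟨.c1, .c3, .c15⟩ ⟨.c1, .c9, .c1⟩ ⟨.c1, .c9, .c2⟩ ⟨.c2, .c0, .c11⟩ ⟨.c1, .c4, .c0⟩ ⟨.c1, .c4, .c1⟩ ⟨.c1, .c4, .c5⟩ ⟨.c1, .c9, .c7⟩ ⟨.c1, .c4, .c6⟩ ⟨.c1, .c4, .c7⟩ ⟨.c2, .c0, .c14⟩ ⟨.c2, .c0, .c15⟩ ⟨.c2, .c1, .c0⟩ ⟨.c2, .c1, .c1⟩ ⟨.c2, .c1, .c2⟩ ⟨.c2, .c1,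 .c12⟩ ⟨.c1, .c9, .c16⟩ ⟨.c1, .c9, .c17⟩) (@D3.rec (fun _ => Pt) ⟨.c1, .c10, .c0⟩ ⟨.c2, .c1, .c15⟩ ⟨.c1, .c4, .c11⟩ ⟨.c1, .c10, .c3⟩ ⟨.c1, .c10, .c4⟩ ⟨.c1, .c5, .c0⟩ ⟨.c1, .c5, .c1⟩ ⟨.c1, .c10, .c7⟩ ⟨.c1, .c10, .c8⟩ ⟨.c1, .c5, .c2⟩ ⟨.c1, .c5, .c3⟩ ⟨.c1, .c5, .c4⟩ ⟨.c2, .c2, .c3⟩ ⟨.c2, .c2, .c4⟩ ⟨.c2, .c2, .c5⟩ ⟨.c2, .c2, .c9⟩ ⟨.c2, .c2, .c10⟩ ⟨.c2, .c2, .c12⟩) (@D3.rec (fun _ => Pt) ⟨.c2, .c2, .c13⟩ ⟨.c1, .c11, .c1⟩ ⟨.c1, .c11, .c2⟩ ⟨.c2, .c3, .c6⟩ ⟨.c1, .c11, .c4⟩ ⟨.c1, .c6, .c13⟩ ⟨.c1, .c5, .c10⟩ ⟨.c2, .c3, .c7⟩ ⟨.c1, .c11, .c8⟩ ⟨.c1, .c11, .c9⟩ ⟨.c1,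 .c11, .c10⟩ ⟨.c1, .c11, .c11⟩ ⟨.c1, .c5, .c16⟩ ⟨.c1, .c5, .c17⟩ ⟨.c1, .c6, .c0⟩ ⟨.c2, .c3, .c16⟩ ⟨.c2, .c3, .c17⟩ ⟨.c2, .c4, .c7⟩) (@D3.rec (fun _ => Pt) ⟨.c2, .c4, .c1⟩ ⟨.c2, .c4, .c2⟩ ⟨.c2, .c3, .c9⟩ ⟨.c1, .c6, .c1⟩ ⟨.c1, .c12, .c4⟩ ⟨.c1, .c12, .c5⟩ ⟨.c1, .c12, .c6⟩ ⟨.c1, .c12, .c7⟩ ⟨.c1, .c6, .c9⟩ ⟨.c1, .c6, .c10⟩ ⟨.c1, .c12, .c10⟩ ⟨.c1, .c6, .c11⟩ ⟨.c1, .c6, .c12⟩ ⟨.c2, .c4, .c15⟩ ⟨.c2, .c4, .c17⟩ ⟨.c2, .c5, .c1⟩ ⟨.c2, .c0, .c5⟩ ⟨.c1, .c12, .c17⟩) (@D3.rec (fun _ => Pt) ⟨.c1, .c13, .c0⟩ ⟨.c1, .c13, .c1⟩ ⟨.c1, .c13, .c2⟩ ⟨.c2, .c5, .c9⟩ ⟨.c1, .c7,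 .c3⟩ ⟨.c1, .c13, .c5⟩ ⟨.c1, .c13, .c6⟩ ⟨.c1, .c7, .c10⟩ ⟨.c1, .c7, .c11⟩ ⟨.c1, .c13, .c9⟩ ⟨.c1, .c13, .c10⟩ ⟨.c1, .c7, .c12⟩ ⟨.c1, .c7, .c13⟩ ⟨.c1, .c7, .c14⟩ ⟨.c2, .c5, .c15⟩ ⟨.c2, .c5, .c16⟩ ⟨.c2, .c5, .c17⟩ ⟨.c2, .c6, .c3⟩) (@D3.rec (fun _ => Pt) ⟨.c2, .c6, .c4⟩ ⟨.c2, .c6, .c6⟩ ⟨.c2, .c6, .c7⟩ ⟨.c1, .c14, .c3⟩ ⟨.c1, .c14, .c4⟩ ⟨.c2, .c7, .c0⟩ ⟨.c1, .c14, .c6⟩ ⟨.c1, .c14, .c7⟩ ⟨.c1, .c14, .c8⟩ ⟨.c1, .c8, .c6⟩ ⟨.c1, .c8, .c7⟩ ⟨.c1, .c14, .c11⟩ ⟨.c1, .c8, .c8⟩ ⟨.c1, .c8, .c9⟩ ⟨.c2, .c7, .c6⟩ ⟨.c2, .c7, .c3⟩ ⟨.c2, .c7, .c7⟩ ⟨.c2, .c7, .c10⟩)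
def f_h_2 : D2 → D3 → Pt := @D2.rec (fun _ => D3 → Pt) (@D3.rec (fun _ => Pt) ⟨.c2, .c7, .c11⟩ ⟨.c1, .c8, .c12⟩ ⟨.c2, .c7, .c13⟩ ⟨.c1, .c8, .c14⟩ ⟨.c2, .c0, .c4⟩ ⟨.c1, .c12, .c16⟩ ⟨.c1, .c8, .c17⟩ ⟨.c2, .c7, .c17⟩ ⟨.c2, .c0, .c8⟩ ⟨.c2, .c0, .c9⟩ ⟨.c2, .c8, .c5⟩ ⟨.c1, .c9, .c3⟩ ⟨.c2, .c0, .c12⟩ ⟨.c2, .c0, .c13⟩ ⟨.c1, .c9, .c10⟩ ⟨.c1, .c9, .c11⟩ ⟨.c2, .c0, .c16⟩ ⟨.c2, .c0, .c17⟩) (@D3.rec (fun _ => Pt) ⟨.c1, .c9, .c12⟩ ⟨.c1, .c9, .c13⟩ ⟨.c1, .c9, .c14⟩ ⟨.c2, .c8, .c11⟩ ⟨.c2, .c8, .c12⟩ ⟨.c2, .c8, .c13⟩ ⟨.c2, .c8, .c17⟩ ⟨.c2, .c9, .c0⟩ ⟨.c2, .c9, .c13⟩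 ⟨.c2, .c9, .c2⟩ ⟨.c2, .c9, .c3⟩ ⟨.c2, .c9, .c17⟩ ⟨.c1, .c9, .c15⟩ ⟨.c2, .c1, .c13⟩ ⟨.c2, .c10, .c1⟩ ⟨.c1, .c10, .c1⟩ ⟨.c2, .c10, .c2⟩ ⟨.c2, .c1, .c17⟩) (@D3.rec (fun _ => Pt) ⟨.c2, .c2, .c0⟩ ⟨.c2, .c2, .c1⟩ ⟨.c2, .c2, .c2⟩ ⟨.c1, .c10, .c12⟩ ⟨.c1, .c10, .c13⟩ ⟨.c1, .c10, .c14⟩ ⟨.c2, .c2, .c6⟩ ⟨.c2, .c2, .c7⟩ ⟨.c2, .c2, .c8⟩ ⟨.c1, .c10, .c15⟩ ⟨.c1, .c10, .c16⟩ ⟨.c2, .c2, .c11⟩ ⟨.c1, .c10, .c17⟩ ⟨.c1, .c11, .c0⟩ ⟨.c2, .c10, .c11⟩ ⟨.c2, .c10, .c12⟩ ⟨.c2, .c11, .c12⟩ ⟨.c2, .c10, .c14⟩) (@D3.rec (fun _ => Pt) ⟨.c2, .c10, .c15⟩ ⟨.c2, .c11, .c3⟩ ⟨.c2, .c11,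 .c5⟩ ⟨.c2, .c11, .c7⟩ ⟨.c2, .c3, .c4⟩ ⟨.c2, .c12, .c0⟩ ⟨.c1, .c11, .c3⟩ ⟨.c1, .c11, .c7⟩ ⟨.c2, .c12, .c2⟩ ⟨.c1, .c12, .c2⟩ ⟨.c2, .c3, .c10⟩ ⟨.c2, .c3, .c11⟩ ⟨.c2, .c3, .c12⟩ ⟨.c2, .c3, .c13⟩ ⟨.c2, .c3, .c14⟩ ⟨.c2, .c3, .c15⟩ ⟨.c1, .c11, .c15⟩ ⟨.c1, .c11, .c16⟩) (@D3.rec (fun _ => Pt) ⟨.c2, .c13, .c0⟩ ⟨.c1, .c12, .c0⟩ ⟨.c1, .c12, .c1⟩ ⟨.c2, .c12, .c14⟩ ⟨.c2, .c13, .c5⟩ ⟨.c2, .c12, .c16⟩ ⟨.c2, .c12, .c4⟩ ⟨.c1, .c11, .c17⟩ ⟨.c2, .c13, .c1⟩ ⟨.c2, .c8, .c1⟩ ⟨.c2, .c4, .c10⟩ ⟨.c2, .c4, .c11⟩ ⟨.c2, .c7, .c8⟩ ⟨.c2, .c4, .c13⟩ ⟨.c2, .c4, .c14⟩ ⟨.c1, .c12, .c13⟩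 ⟨.c2, .c4, .c16⟩ ⟨.c1, .c12, .c14⟩) (@D3.rec (fun _ => Pt) ⟨.c2, .c5, .c0⟩ ⟨.c1, .c12, .c15⟩ ⟨.c2, .c13, .c9⟩ ⟨.c2, .c13, .c13⟩ ⟨.c2, .c5, .c4⟩ ⟨.c2, .c5, .c5⟩ ⟨.c2, .c14, .c0⟩ ⟨.c2, .c5, .c7⟩ ⟨.c2, .c13, .c17⟩ ⟨.c1, .c13, .c3⟩ ⟨.c2, .c14, .c1⟩ ⟨.c2, .c5, .c11⟩ ⟨.c2, .c5, .c12⟩ ⟨.c2, .c5, .c13⟩ ⟨.c2, .c5, .c14⟩ ⟨.c1, .c13, .c14⟩ ⟨.c1, .c13, .c15⟩ ⟨.c1, .c13, .c16⟩) (@D3.rec (fun _ => Pt) ⟨.c2, .c6, .c0⟩ ⟨.c2, .c6, .c1⟩ ⟨.c2, .c6, .c2⟩ ⟨.c1, .c13, .c17⟩ ⟨.c1, .c14, .c0⟩ ⟨.c2, .c6, .c5⟩ ⟨.c1, .c14, .c1⟩ ⟨.c1, .c14, .c2⟩ ⟨.c2, .c14, .c10⟩ ⟨.c2, .c14, .c11⟩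 ⟨.c3, .c0, .c11⟩ ⟨.c2, .c14, .c13⟩ ⟨.c2, .c14, .c14⟩ ⟨.c3, .c0, .c2⟩ ⟨.c3, .c0, .c4⟩ ⟨.c3, .c0, .c6⟩ ⟨.c2, .c6, .c16⟩ ⟨.c2, .c14, .c2⟩) (@D3.rec (fun _ => Pt) ⟨.c1, .c14, .c5⟩ ⟨.c2, .c7, .c1⟩ ⟨.c2, .c7, .c2⟩ ⟨.c1, .c14, .c15⟩ ⟨.c2, .c7, .c4⟩ ⟨.c2, .c7, .c5⟩ ⟨.c1, .c14, .c14⟩ ⟨.c1, .c14, .c16⟩ ⟨.c2, .c4, .c12⟩ ⟨.c2, .c14, .c17⟩ ⟨.c1, .c14, .c17⟩ ⟨.c2, .c0, .c0⟩ ⟨.c3, .c0, .c17⟩ ⟨.c2, .c0, .c2⟩ ⟨.c3, .c1, .c3⟩ ⟨.c2, .c7, .c15⟩ ⟨.c2, .c7, .c16⟩ ⟨.c2, .c0, .c7⟩) (@D3.rec (fun _ => Pt) ⟨.c3, .c1, .c9⟩ ⟨.c2, .c4, .c9⟩ ⟨.c2, .c8, .c2⟩ ⟨.c2, .c8, .c3⟩ ⟨.c2,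 .c8, .c4⟩ ⟨.c2, .c0, .c10⟩ ⟨.c3, .c2, .c0⟩ ⟨.c2, .c8, .c7⟩ ⟨.c2, .c8, .c8⟩ ⟨.c2, .c8, .c9⟩ ⟨.c2, .c8, .c10⟩ ⟨.c2, .c1, .c3⟩ ⟨.c2, .c1, .c4⟩ ⟨.c2, .c1, .c5⟩ ⟨.c2, .c8, .c14⟩ ⟨.c2, .c8, .c15⟩ ⟨.c2, .c8, .c16⟩ ⟨.c2, .c1, .c6⟩) (@D3.rec (fun _ => Pt) ⟨.c2, .c1, .c7⟩ ⟨.c3, .c3, .c5⟩ ⟨.c2, .c1, .c9⟩ ⟨.c2, .c1, .c10⟩ ⟨.c3, .c2, .c9⟩ ⟨.c3, .c2, .c10⟩ ⟨.c3, .c3, .c11⟩ ⟨.c3, .c2, .c12⟩ ⟨.c3, .c2, .c13⟩ ⟨.c3, .c3, .c1⟩ ⟨.c3, .c3, .c16⟩ ⟨.c3, .c3, .c3⟩ ⟨.c3, .c4, .c2⟩ ⟨.c2, .c1, .c8⟩ ⟨.c3, .c3, .c6⟩ ⟨.c3, .c4, .c5⟩ ⟨.c3, .c1, .c12⟩ ⟨.c2, .c1, .c11⟩) (@D3.rec (fun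 _ => Pt) ⟨.c2, .c10, .c0⟩ ⟨.c2, .c1, .c14⟩ ⟨.c2, .c1, .c16⟩ ⟨.c3, .c0, .c15⟩ ⟨.c3, .c4, .c6⟩ ⟨.c2, .c10, .c5⟩ ⟨.c2, .c10, .c6⟩ ⟨.c2, .c10, .c7⟩ ⟨.c2, .c10, .c8⟩ ⟨.c2, .c10, .c9⟩ ⟨.c2, .c10, .c10⟩ ⟨.c2, .c2, .c14⟩ ⟨.c2, .c2, .c15⟩ ⟨.c3, .c5, .c6⟩ ⟨.c2, .c2, .c17⟩ ⟨.c2, .c3, .c0⟩ ⟨.c2, .c10, .c16⟩ ⟨.c2, .c10, .c17⟩) (@D3.rec (fun _ => Pt) ⟨.c3, .c0, .c16⟩ ⟨.c2, .c11, .c1⟩ ⟨.c2, .c11, .c2⟩ ⟨.c2, .c3, .c1⟩ ⟨.c2, .c11, .c4⟩ ⟨.c2, .c3, .c2⟩ ⟨.c2, .c11, .c6⟩ ⟨.c2, .c3, .c3⟩ ⟨.c3, .c5, .c2⟩ ⟨.c3, .c6, .c6⟩ ⟨.c3, .c5, .c4⟩ ⟨.c3, .c6, .c9⟩ ⟨.c2, .c2, .c16⟩ ⟨.c3,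 .c5, .c7⟩ ⟨.c3, .c5, .c14⟩ ⟨.c3, .c5, .c17⟩ ⟨.c3, .c4, .c7⟩ ⟨.c3, .c6, .c13⟩) (@D3.rec (fun _ => Pt) ⟨.c2, .c3, .c5⟩ ⟨.c2, .c12, .c1⟩ ⟨.c2, .c3, .c8⟩ ⟨.c3, .c6, .c14⟩ ⟨.c2, .c4, .c6⟩ ⟨.c2, .c12, .c5⟩ ⟨.c2, .c12, .c6⟩ ⟨.c3, .c7, .c4⟩ ⟨.c2, .c12, .c8⟩ ⟨.c2, .c12, .c9⟩ ⟨.c2, .c12, .c10⟩ ⟨.c3, .c7, .c9⟩ ⟨.c2, .c12, .c12⟩ ⟨.c2, .c12, .c13⟩ ⟨.c2, .c4, .c3⟩ ⟨.c3, .c7, .c15⟩ ⟨.c2, .c4, .c5⟩ ⟨.c3, .c6, .c17⟩) (@D3.rec (fun _ => Pt) ⟨.c2, .c4, .c0⟩ ⟨.c2, .c4, .c8⟩ ⟨.c3, .c8, .c1⟩ ⟨.c3, .c7, .c12⟩ ⟨.c3, .c6, .c16⟩ ⟨.c2, .c4, .c4⟩ ⟨.c3, .c7, .c16⟩ ⟨.c3, .c1, .c11⟩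 ⟨.c2, .c13, .c8⟩ ⟨.c2, .c5, .c2⟩ ⟨.c2, .c13, .c10⟩ ⟨.c2, .c13, .c11⟩ ⟨.c2, .c13, .c12⟩ ⟨.c2, .c5, .c3⟩ ⟨.c2, .c13, .c14⟩ ⟨.c3, .c5, .c9⟩ ⟨.c2, .c13, .c16⟩ ⟨.c2, .c5, .c8⟩) (@D3.rec (fun _ => Pt) ⟨.c2, .c5, .c6⟩ ⟨.c2, .c5, .c10⟩ ⟨.c2, .c6, .c17⟩ ⟨.c3, .c8, .c4⟩ ⟨.c2, .c14, .c4⟩ ⟨.c2, .c14, .c5⟩ ⟨.c2, .c14, .c6⟩ ⟨.c2, .c14, .c7⟩ ⟨.c2, .c14, .c8⟩ ⟨.c2, .c14, .c9⟩ ⟨.c2, .c6, .c8⟩ ⟨.c2, .c6, .c9⟩ ⟨.c3, .c9, .c2⟩ ⟨.c2, .c6, .c11⟩ ⟨.c2, .c6, .c12⟩ ⟨.c2, .c14, .c15⟩ ⟨.c2, .c14, .c16⟩ ⟨.c2, .c7, .c9⟩)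
def f_h_3 : D2 → D3 → Pt := @D2.rec (fun _ => D3 → Pt) (@D3.rec (fun _ => Pt) ⟨.c3, .c0, .c0⟩ ⟨.c3, .c0, .c1⟩ ⟨.c2, .c6, .c13⟩ ⟨.c3, .c0, .c3⟩ ⟨.c2, .c6, .c14⟩ ⟨.c3, .c0, .c5⟩ ⟨.c2, .c6, .c15⟩ ⟨.c3, .c8, .c16⟩ ⟨.c3, .c8, .c5⟩ ⟨.c3, .c9, .c0⟩ ⟨.c3, .c9, .c14⟩ ⟨.c2, .c6, .c10⟩ ⟨.c3, .c9, .c3⟩ ⟨.c3, .c9, .c7⟩ ⟨.c3, .c9, .c5⟩ ⟨.c2, .c10, .c3⟩ ⟨.c2, .c11, .c0⟩ ⟨.c2, .c7, .c12⟩) (@D3.rec (fun _ => Pt) ⟨.c3, .c1, .c0⟩ ⟨.c3, .c9, .c16⟩ ⟨.c3, .c9, .c17⟩ ⟨.c2, .c7, .c14⟩ ⟨.c3, .c10, .c5⟩ ⟨.c3, .c10, .c6⟩ ⟨.c3, .c1, .c6⟩ ⟨.c3, .c1, .c7⟩ ⟨.c3, .c1, .c8⟩ ⟨.c2, .c8,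 .c0⟩ ⟨.c3, .c10, .c15⟩ ⟨.c2, .c13, .c7⟩ ⟨.c2, .c9, .c16⟩ ⟨.c3, .c1, .c13⟩ ⟨.c3, .c1, .c14⟩ ⟨.c3, .c11, .c6⟩ ⟨.c3, .c1, .c16⟩ ⟨.c3, .c1, .c17⟩) (@D3.rec (fun _ => Pt) ⟨.c2, .c8, .c6⟩ ⟨.c3, .c11, .c8⟩ ⟨.c3, .c11, .c9⟩ ⟨.c3, .c2, .c3⟩ ⟨.c3, .c2, .c4⟩ ⟨.c3, .c2, .c5⟩ ⟨.c3, .c2, .c6⟩ ⟨.c3, .c2, .c7⟩ ⟨.c3, .c2, .c8⟩ ⟨.c2, .c9, .c4⟩ ⟨.c2, .c9, .c5⟩ ⟨.c3, .c12, .c9⟩ ⟨.c2, .c9, .c7⟩ ⟨.c2, .c9, .c8⟩ ⟨.c3, .c2, .c14⟩ ⟨.c3, .c2, .c15⟩ ⟨.c3, .c12, .c15⟩ ⟨.c3, .c2, .c17⟩) (@D3.rec (fun _ => Pt) ⟨.c3, .c3, .c0⟩ ⟨.c2, .c9, .c9⟩ ⟨.c3, .c13, .c3⟩ ⟨.c2, .c9, .c11⟩ ⟨.c3,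 .c13, .c7⟩ ⟨.c2, .c9, .c1⟩ ⟨.c2, .c9, .c14⟩ ⟨.c3, .c12, .c5⟩ ⟨.c3, .c13, .c13⟩ ⟨.c3, .c12, .c7⟩ ⟨.c3, .c13, .c17⟩ ⟨.c2, .c9, .c6⟩ ⟨.c3, .c12, .c10⟩ ⟨.c3, .c14, .c2⟩ ⟨.c3, .c13, .c0⟩ ⟨.c3, .c14, .c6⟩ ⟨.c2, .c9, .c10⟩ ⟨.c3, .c13, .c4⟩) (@D3.rec (fun _ => Pt) ⟨.c3, .c14, .c9⟩ ⟨.c3, .c11, .c1⟩ ⟨.c2, .c9, .c12⟩ ⟨.c3, .c4, .c3⟩ ⟨.c3, .c10, .c9⟩ ⟨.c2, .c9, .c15⟩ ⟨.c2, .c10, .c4⟩ ⟨.c2, .c11, .c16⟩ ⟨.c3, .c9, .c9⟩ ⟨.c3, .c14, .c11⟩ ⟨.c3, .c4, .c10⟩ ⟨.c3, .c4, .c11⟩ ⟨.c4, .c0, .c2⟩ ⟨.c3, .c4, .c13⟩ ⟨.c3, .c4, .c14⟩ ⟨.c3, .c4, .c15⟩ ⟨.c3, .c4, .c16⟩ ⟨.c4, .c0,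 .c8⟩) (@D3.rec (fun _ => Pt) ⟨.c3, .c5, .c0⟩ ⟨.c3, .c5, .c1⟩ ⟨.c2, .c11, .c8⟩ ⟨.c4, .c0, .c14⟩ ⟨.c2, .c11, .c10⟩ ⟨.c4, .c1, .c0⟩ ⟨.c2, .c10, .c13⟩ ⟨.c2, .c11, .c13⟩ ⟨.c3, .c5, .c8⟩ ⟨.c2, .c13, .c15⟩ ⟨.c3, .c5, .c10⟩ ⟨.c3, .c9, .c15⟩ ⟨.c3, .c5, .c12⟩ ⟨.c3, .c5, .c13⟩ ⟨.c2, .c11, .c14⟩ ⟨.c3, .c5, .c15⟩ ⟨.c3, .c5, .c16⟩ ⟨.c2, .c11, .c15⟩) (@D3.rec (fun _ => Pt) ⟨.c3, .c6, .c0⟩ ⟨.c3, .c6, .c1⟩ ⟨.c3, .c14, .c12⟩ ⟨.c4, .c0, .c11⟩ ⟨.c4, .c1, .c15⟩ ⟨.c4, .c1, .c17⟩ ⟨.c2, .c11, .c9⟩ ⟨.c4, .c0, .c15⟩ ⟨.c4, .c2, .c0⟩ ⟨.c2, .c11, .c11⟩ ⟨.c3, .c6, .c10⟩ ⟨.c4, .c1,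 .c4⟩ ⟨.c3, .c11, .c10⟩ ⟨.c2, .c11, .c17⟩ ⟨.c2, .c12, .c3⟩ ⟨.c4, .c2, .c3⟩ ⟨.c2, .c13, .c4⟩ ⟨.c2, .c12, .c17⟩) (@D3.rec (fun _ => Pt) ⟨.c3, .c7, .c0⟩ ⟨.c4, .c2, .c10⟩ ⟨.c3, .c7, .c2⟩ ⟨.c4, .c2, .c12⟩ ⟨.c2, .c12, .c7⟩ ⟨.c3, .c7, .c5⟩ ⟨.c4, .c2, .c16⟩ ⟨.c3, .c7, .c7⟩ ⟨.c4, .c2, .c11⟩ ⟨.c2, .c12, .c11⟩ ⟨.c3, .c7, .c10⟩ ⟨.c4, .c3, .c0⟩ ⟨.c2, .c13, .c3⟩ ⟨.c4, .c3, .c1⟩ ⟨.c4, .c2, .c5⟩ ⟨.c2, .c12, .c15⟩ ⟨.c2, .c13, .c6⟩ ⟨.c3, .c11, .c0⟩) (@D3.rec (fun _ => Pt) ⟨.c4, .c2, .c4⟩ ⟨.c2, .c13, .c2⟩ ⟨.c4, .c1, .c3⟩ ⟨.c3, .c10, .c17⟩ ⟨.c2, .c14, .c3⟩ ⟨.c3, .c0, .c8⟩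 ⟨.c4, .c3, .c4⟩ ⟨.c3, .c8, .c7⟩ ⟨.c4, .c3, .c11⟩ ⟨.c3, .c8, .c9⟩ ⟨.c3, .c8, .c10⟩ ⟨.c3, .c8, .c11⟩ ⟨.c3, .c8, .c12⟩ ⟨.c4, .c3, .c17⟩ ⟨.c3, .c8, .c14⟩ ⟨.c3, .c8, .c15⟩ ⟨.c3, .c0, .c7⟩ ⟨.c4, .c3, .c5⟩) (@D3.rec (fun _ => Pt) ⟨.c3, .c0, .c9⟩ ⟨.c4, .c4, .c7⟩ ⟨.c2, .c14, .c12⟩ ⟨.c3, .c0, .c12⟩ ⟨.c3, .c9, .c4⟩ ⟨.c3, .c0, .c14⟩ ⟨.c3, .c9, .c6⟩ ⟨.c3, .c0, .c13⟩ ⟨.c3, .c9, .c8⟩ ⟨.c3, .c4, .c8⟩ ⟨.c4, .c4, .c2⟩ ⟨.c4, .c3, .c6⟩ ⟨.c4, .c4, .c4⟩ ⟨.c4, .c4, .c11⟩ ⟨.c3, .c0, .c10⟩ ⟨.c3, .c5, .c11⟩ ⟨.c3, .c1, .c1⟩ ⟨.c3, .c1, .c2⟩) (@D3.rec (fun _ => Pt) ⟨.c3, .c10, .c0⟩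 ⟨.c3, .c10, .c1⟩ ⟨.c4, .c4, .c12⟩ ⟨.c4, .c4, .c13⟩ ⟨.c4, .c4, .c14⟩ ⟨.c3, .c1, .c4⟩ ⟨.c3, .c1, .c5⟩ ⟨.c4, .c5, .c5⟩ ⟨.c4, .c5, .c6⟩ ⟨.c3, .c4, .c4⟩ ⟨.c3, .c10, .c10⟩ ⟨.c3, .c10, .c11⟩ ⟨.c4, .c5, .c15⟩ ⟨.c3, .c10, .c13⟩ ⟨.c3, .c10, .c14⟩ ⟨.c3, .c1, .c10⟩ ⟨.c4, .c5, .c17⟩ ⟨.c3, .c8, .c3⟩) (@D3.rec (fun _ => Pt) ⟨.c3, .c7, .c17⟩ ⟨.c3, .c4, .c1⟩ ⟨.c3, .c11, .c2⟩ ⟨.c4, .c6, .c8⟩ ⟨.c3, .c11, .c4⟩ ⟨.c4, .c6, .c12⟩ ⟨.c3, .c1, .c15⟩ ⟨.c3, .c11, .c7⟩ ⟨.c3, .c2, .c1⟩ ⟨.c3, .c2, .c2⟩ ⟨.c3, .c6, .c12⟩ ⟨.c4, .c6, .c14⟩ ⟨.c4, .c6, .c15⟩ ⟨.c3, .c11, .c13⟩ ⟨.c3, .c11,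 .c14⟩ ⟨.c4, .c7, .c6⟩ ⟨.c3, .c11, .c16⟩ ⟨.c3, .c11, .c17⟩) (@D3.rec (fun _ => Pt) ⟨.c3, .c12, .c0⟩ ⟨.c3, .c12, .c1⟩ ⟨.c4, .c7, .c12⟩ ⟨.c3, .c12, .c3⟩ ⟨.c3, .c12, .c4⟩ ⟨.c3, .c3, .c7⟩ ⟨.c4, .c8, .c0⟩ ⟨.c3, .c3, .c9⟩ ⟨.c4, .c8, .c4⟩ ⟨.c3, .c2, .c11⟩ ⟨.c3, .c3, .c12⟩ ⟨.c3, .c12, .c11⟩ ⟨.c4, .c8, .c10⟩ ⟨.c3, .c12, .c13⟩ ⟨.c4, .c8, .c14⟩ ⟨.c3, .c2, .c16⟩ ⟨.c3, .c12, .c16⟩ ⟨.c4, .c9, .c0⟩) (@D3.rec (fun _ => Pt) ⟨.c3, .c3, .c14⟩ ⟨.c4, .c9, .c3⟩ ⟨.c4, .c9, .c6⟩ ⟨.c3, .c3, .c2⟩ ⟨.c3, .c3, .c17⟩ ⟨.c4, .c9, .c9⟩ ⟨.c4, .c6, .c3⟩ ⟨.c3, .c3, .c4⟩ ⟨.c4, .c8, .c15⟩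 ⟨.c4, .c9, .c12⟩ ⟨.c4, .c7, .c15⟩ ⟨.c4, .c9, .c15⟩ ⟨.c4, .c10, .c0⟩ ⟨.c3, .c3, .c8⟩ ⟨.c4, .c8, .c1⟩ ⟨.c4, .c10, .c3⟩ ⟨.c4, .c10, .c4⟩ ⟨.c3, .c3, .c10⟩) (@D3.rec (fun _ => Pt) ⟨.c3, .c14, .c0⟩ ⟨.c4, .c10, .c8⟩ ⟨.c3, .c3, .c13⟩ ⟨.c4, .c9, .c1⟩ ⟨.c4, .c10, .c11⟩ ⟨.c4, .c6, .c2⟩ ⟨.c3, .c3, .c15⟩ ⟨.c3, .c14, .c7⟩ ⟨.c4, .c5, .c10⟩ ⟨.c3, .c4, .c0⟩ ⟨.c3, .c14, .c10⟩ ⟨.c3, .c4, .c9⟩ ⟨.c3, .c6, .c2⟩ ⟨.c4, .c4, .c1⟩ ⟨.c4, .c4, .c8⟩ ⟨.c4, .c10, .c14⟩ ⟨.c3, .c14, .c16⟩ ⟨.c4, .c11, .c5⟩)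
def f_h_4 : D2 → D3 → Pt := @D2.rec (fun _ => D3 → Pt) (@D3.rec (fun _ => Pt) ⟨.c4, .c0, .c0⟩ ⟨.c4, .c11, .c9⟩ ⟨.c3, .c4, .c12⟩ ⟨.c4, .c0, .c3⟩ ⟨.c4, .c0, .c4⟩ ⟨.c4, .c11, .c15⟩ ⟨.c4, .c0, .c6⟩ ⟨.c4, .c12, .c1⟩ ⟨.c3, .c4, .c17⟩ ⟨.c4, .c0, .c9⟩ ⟨.c4, .c10, .c15⟩ ⟨.c3, .c6, .c3⟩ ⟨.c4, .c12, .c7⟩ ⟨.c4, .c12, .c10⟩ ⟨.c3, .c5, .c3⟩ ⟨.c3, .c6, .c7⟩ ⟨.c4, .c12, .c12⟩ ⟨.c4, .c12, .c13⟩) (@D3.rec (fun _ => Pt) ⟨.c3, .c5, .c5⟩ ⟨.c4, .c12, .c2⟩ ⟨.c4, .c1, .c2⟩ ⟨.c3, .c8, .c2⟩ ⟨.c3, .c6, .c11⟩ ⟨.c4, .c1, .c5⟩ ⟨.c4, .c4, .c9⟩ ⟨.c4, .c1, .c7⟩ ⟨.c4, .c1, .c8⟩ ⟨.c4,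 .c1, .c9⟩ ⟨.c4, .c1, .c10⟩ ⟨.c4, .c6, .c16⟩ ⟨.c4, .c10, .c16⟩ ⟨.c4, .c12, .c5⟩ ⟨.c4, .c13, .c1⟩ ⟨.c3, .c6, .c4⟩ ⟨.c4, .c13, .c3⟩ ⟨.c3, .c6, .c5⟩) (@D3.rec (fun _ => Pt) ⟨.c3, .c6, .c8⟩ ⟨.c4, .c2, .c1⟩ ⟨.c4, .c2, .c2⟩ ⟨.c3, .c6, .c15⟩ ⟨.c3, .c8, .c0⟩ ⟨.c3, .c7, .c14⟩ ⟨.c4, .c13, .c10⟩ ⟨.c4, .c2, .c7⟩ ⟨.c4, .c13, .c9⟩ ⟨.c4, .c13, .c8⟩ ⟨.c3, .c7, .c1⟩ ⟨.c3, .c7, .c8⟩ ⟨.c3, .c7, .c3⟩ ⟨.c4, .c13, .c7⟩ ⟨.c4, .c13, .c6⟩ ⟨.c4, .c13, .c11⟩ ⟨.c3, .c7, .c6⟩ ⟨.c4, .c6, .c13⟩) (@D3.rec (fun _ => Pt) ⟨.c3, .c7, .c11⟩ ⟨.c3, .c7, .c13⟩ ⟨.c4, .c6, .c1⟩ ⟨.c4, .c6, .c0⟩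 ⟨.c3, .c8, .c6⟩ ⟨.c3, .c8, .c17⟩ ⟨.c3, .c9, .c11⟩ ⟨.c4, .c13, .c12⟩ ⟨.c4, .c13, .c17⟩ ⟨.c4, .c3, .c9⟩ ⟨.c4, .c14, .c3⟩ ⟨.c3, .c8, .c8⟩ ⟨.c4, .c3, .c12⟩ ⟨.c4, .c3, .c13⟩ ⟨.c4, .c13, .c15⟩ ⟨.c4, .c3, .c15⟩ ⟨.c4, .c14, .c8⟩ ⟨.c3, .c8, .c13⟩) (@D3.rec (fun _ => Pt) ⟨.c4, .c4, .c0⟩ ⟨.c3, .c14, .c13⟩ ⟨.c3, .c9, .c10⟩ ⟨.c4, .c13, .c13⟩ ⟨.c3, .c9, .c12⟩ ⟨.c4, .c14, .c10⟩ ⟨.c4, .c14, .c11⟩ ⟨.c3, .c9, .c1⟩ ⟨.c3, .c14, .c14⟩ ⟨.c4, .c1, .c6⟩ ⟨.c4, .c13, .c14⟩ ⟨.c3, .c9, .c13⟩ ⟨.c3, .c10, .c2⟩ ⟨.c3, .c10, .c3⟩ ⟨.c3, .c10, .c4⟩ ⟨.c4, .c4, .c15⟩ ⟨.c4, .c4, .c16⟩ ⟨.c4,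 .c4, .c17⟩) (@D3.rec (fun _ => Pt) ⟨.c4, .c14, .c13⟩ ⟨.c4, .c14, .c14⟩ ⟨.c5, .c0, .c7⟩ ⟨.c4, .c14, .c16⟩ ⟨.c4, .c14, .c17⟩ ⟨.c3, .c10, .c7⟩ ⟨.c3, .c10, .c8⟩ ⟨.c5, .c0, .c9⟩ ⟨.c5, .c0, .c10⟩ ⟨.c5, .c0, .c16⟩ ⟨.c3, .c14, .c8⟩ ⟨.c4, .c5, .c11⟩ ⟨.c5, .c1, .c3⟩ ⟨.c4, .c5, .c13⟩ ⟨.c5, .c1, .c7⟩ ⟨.c3, .c10, .c12⟩ ⟨.c4, .c5, .c16⟩ ⟨.c3, .c10, .c16⟩) (@D3.rec (fun _ => Pt) ⟨.c4, .c3, .c3⟩ ⟨.c4, .c3, .c2⟩ ⟨.c3, .c14, .c5⟩ ⟨.c3, .c13, .c6⟩ ⟨.c5, .c1, .c16⟩ ⟨.c4, .c6, .c5⟩ ⟨.c5, .c2, .c1⟩ ⟨.c5, .c2, .c4⟩ ⟨.c3, .c11, .c3⟩ ⟨.c4, .c6, .c9⟩ ⟨.c5, .c2, .c7⟩ ⟨.c5, .c2,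 .c8⟩ ⟨.c3, .c11, .c5⟩ ⟨.c4, .c2, .c17⟩ ⟨.c3, .c11, .c11⟩ ⟨.c3, .c11, .c12⟩ ⟨.c4, .c1, .c11⟩ ⟨.c5, .c2, .c16⟩) (@D3.rec (fun _ => Pt) ⟨.c5, .c2, .c11⟩ ⟨.c5, .c2, .c12⟩ ⟨.c4, .c7, .c2⟩ ⟨.c5, .c3, .c4⟩ ⟨.c4, .c7, .c4⟩ ⟨.c5, .c3, .c8⟩ ⟨.c3, .c11, .c15⟩ ⟨.c4, .c7, .c7⟩ ⟨.c4, .c7, .c8⟩ ⟨.c5, .c3, .c14⟩ ⟨.c4, .c7, .c10⟩ ⟨.c5, .c4, .c0⟩ ⟨.c3, .c12, .c2⟩ ⟨.c4, .c7, .c13⟩ ⟨.c5, .c4, .c4⟩ ⟨.c3, .c13, .c10⟩ ⟨.c5, .c4, .c7⟩ ⟨.c5, .c4, .c10⟩) (@D3.rec (fun _ => Pt) ⟨.c3, .c12, .c6⟩ ⟨.c3, .c13, .c14⟩ ⟨.c5, .c4, .c13⟩ ⟨.c5, .c4, .c14⟩ ⟨.c3, .c12, .c8⟩ ⟨.c5, .c4, .c1⟩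 ⟨.c5, .c1, .c11⟩ ⟨.c4, .c8, .c7⟩ ⟨.c5, .c1, .c9⟩ ⟨.c5, .c5, .c2⟩ ⟨.c3, .c12, .c12⟩ ⟨.c4, .c8, .c11⟩ ⟨.c5, .c5, .c4⟩ ⟨.c5, .c2, .c9⟩ ⟨.c3, .c12, .c14⟩ ⟨.c3, .c13, .c8⟩ ⟨.c5, .c2, .c5⟩ ⟨.c5, .c5, .c6⟩) (@D3.rec (fun _ => Pt) ⟨.c3, .c12, .c17⟩ ⟨.c3, .c14, .c3⟩ ⟨.c5, .c5, .c8⟩ ⟨.c3, .c13, .c1⟩ ⟨.c5, .c5, .c10⟩ ⟨.c5, .c1, .c12⟩ ⟨.c3, .c13, .c2⟩ ⟨.c5, .c1, .c14⟩ ⟨.c5, .c1, .c13⟩ ⟨.c3, .c13, .c5⟩ ⟨.c5, .c5, .c13⟩ ⟨.c5, .c5, .c16⟩ ⟨.c3, .c13, .c9⟩ ⟨.c5, .c4, .c5⟩ ⟨.c5, .c6, .c2⟩ ⟨.c3, .c13, .c11⟩ ⟨.c5, .c6, .c6⟩ ⟨.c5, .c6, .c7⟩) (@D3.rec (fun _ => Pt) ⟨.c3,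 .c13, .c12⟩ ⟨.c4, .c10, .c1⟩ ⟨.c5, .c6, .c9⟩ ⟨.c3, .c13, .c15⟩ ⟨.c3, .c13, .c16⟩ ⟨.c4, .c10, .c5⟩ ⟨.c5, .c6, .c14⟩ ⟨.c5, .c1, .c10⟩ ⟨.c3, .c14, .c1⟩ ⟨.c4, .c10, .c9⟩ ⟨.c5, .c0, .c14⟩ ⟨.c3, .c14, .c4⟩ ⟨.c5, .c6, .c10⟩ ⟨.c4, .c10, .c13⟩ ⟨.c3, .c14, .c15⟩ ⟨.c4, .c0, .c10⟩ ⟨.c4, .c1, .c12⟩ ⟨.c4, .c14, .c9⟩) (@D3.rec (fun _ => Pt) ⟨.c4, .c14, .c12⟩ ⟨.c5, .c7, .c7⟩ ⟨.c4, .c11, .c2⟩ ⟨.c5, .c7, .c10⟩ ⟨.c5, .c7, .c13⟩ ⟨.c3, .c14, .c17⟩ ⟨.c4, .c11, .c6⟩ ⟨.c5, .c7, .c16⟩ ⟨.c5, .c7, .c17⟩ ⟨.c4, .c0, .c1⟩ ⟨.c4, .c14, .c4⟩ ⟨.c5, .c7, .c14⟩ ⟨.c4, .c11, .c12⟩ ⟨.c5,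 .c8, .c4⟩ ⟨.c5, .c8, .c7⟩ ⟨.c4, .c0, .c5⟩ ⟨.c4, .c11, .c16⟩ ⟨.c5, .c7, .c4⟩) (@D3.rec (fun _ => Pt) ⟨.c5, .c7, .c3⟩ ⟨.c4, .c0, .c7⟩ ⟨.c4, .c1, .c1⟩ ⟨.c5, .c7, .c0⟩ ⟨.c5, .c7, .c1⟩ ⟨.c4, .c1, .c13⟩ ⟨.c5, .c8, .c11⟩ ⟨.c4, .c0, .c12⟩ ⟨.c5, .c8, .c13⟩ ⟨.c5, .c8, .c14⟩ ⟨.c4, .c0, .c13⟩ ⟨.c5, .c8, .c0⟩ ⟨.c4, .c0, .c16⟩ ⟨.c4, .c0, .c17⟩ ⟨.c5, .c7, .c15⟩ ⟨.c4, .c12, .c15⟩ ⟨.c5, .c2, .c14⟩ ⟨.c5, .c7, .c2⟩) (@D3.rec (fun _ => Pt) ⟨.c5, .c8, .c17⟩ ⟨.c4, .c1, .c14⟩ ⟨.c5, .c6, .c3⟩ ⟨.c4, .c1, .c16⟩ ⟨.c4, .c13, .c4⟩ ⟨.c4, .c13, .c5⟩ ⟨.c4, .c2, .c14⟩ ⟨.c4, .c2, .c13⟩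 ⟨.c4, .c2, .c9⟩ ⟨.c4, .c2, .c8⟩ ⟨.c4, .c2, .c6⟩ ⟨.c4, .c2, .c15⟩ ⟨.c4, .c3, .c7⟩ ⟨.c4, .c4, .c3⟩ ⟨.c4, .c4, .c10⟩ ⟨.c4, .c3, .c14⟩ ⟨.c5, .c9, .c8⟩ ⟨.c4, .c3, .c8⟩) (@D3.rec (fun _ => Pt) ⟨.c4, .c14, .c0⟩ ⟨.c5, .c9, .c7⟩ ⟨.c5, .c9, .c6⟩ ⟨.c4, .c3, .c10⟩ ⟨.c4, .c11, .c10⟩ ⟨.c5, .c9, .c5⟩ ⟨.c5, .c9, .c4⟩ ⟨.c5, .c9, .c3⟩ ⟨.c4, .c3, .c16⟩ ⟨.c4, .c10, .c17⟩ ⟨.c4, .c4, .c5⟩ ⟨.c4, .c4, .c6⟩ ⟨.c4, .c11, .c0⟩ ⟨.c4, .c5, .c0⟩ ⟨.c4, .c5, .c1⟩ ⟨.c5, .c9, .c13⟩ ⟨.c4, .c5, .c3⟩ ⟨.c4, .c5, .c4⟩)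
def f_h_5 : D2 → D3 → Pt := @D2.rec (fun _ => D3 → Pt) (@D3.rec (fun _ => Pt) ⟨.c5, .c0, .c0⟩ ⟨.c5, .c10, .c0⟩ ⟨.c5, .c0, .c2⟩ ⟨.c5, .c9, .c9⟩ ⟨.c5, .c10, .c5⟩ ⟨.c5, .c9, .c11⟩ ⟨.c5, .c10, .c9⟩ ⟨.c4, .c5, .c2⟩ ⟨.c5, .c9, .c14⟩ ⟨.c4, .c5, .c7⟩ ⟨.c4, .c5, .c8⟩ ⟨.c5, .c10, .c13⟩ ⟨.c5, .c10, .c11⟩ ⟨.c5, .c11, .c0⟩ ⟨.c4, .c10, .c10⟩ ⟨.c5, .c11, .c2⟩ ⟨.c4, .c5, .c9⟩ ⟨.c5, .c11, .c6⟩) (@D3.rec (fun _ => Pt) ⟨.c5, .c1, .c0⟩ ⟨.c5, .c11, .c9⟩ ⟨.c5, .c11, .c12⟩ ⟨.c4, .c5, .c12⟩ ⟨.c5, .c1, .c4⟩ ⟨.c5, .c11, .c15⟩ ⟨.c5, .c11, .c16⟩ ⟨.c4, .c5, .c14⟩ ⟨.c5, .c11, .c3⟩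 ⟨.c4, .c8, .c8⟩ ⟨.c4, .c10, .c7⟩ ⟨.c4, .c8, .c6⟩ ⟨.c4, .c9, .c5⟩ ⟨.c4, .c9, .c8⟩ ⟨.c4, .c9, .c7⟩ ⟨.c5, .c12, .c6⟩ ⟨.c4, .c6, .c4⟩ ⟨.c5, .c1, .c17⟩) (@D3.rec (fun _ => Pt) ⟨.c5, .c12, .c5⟩ ⟨.c4, .c6, .c6⟩ ⟨.c5, .c12, .c9⟩ ⟨.c5, .c12, .c3⟩ ⟨.c4, .c6, .c7⟩ ⟨.c4, .c8, .c16⟩ ⟨.c5, .c12, .c12⟩ ⟨.c4, .c6, .c10⟩ ⟨.c4, .c6, .c11⟩ ⟨.c4, .c8, .c13⟩ ⟨.c5, .c12, .c15⟩ ⟨.c4, .c7, .c0⟩ ⟨.c4, .c7, .c1⟩ ⟨.c5, .c13, .c1⟩ ⟨.c4, .c12, .c16⟩ ⟨.c5, .c13, .c5⟩ ⟨.c4, .c6, .c17⟩ ⟨.c5, .c12, .c16⟩) (@D3.rec (fun _ => Pt) ⟨.c5, .c13, .c9⟩ ⟨.c5, .c3, .c1⟩ ⟨.c5, .c13, .c12⟩ ⟨.c5,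 .c13, .c15⟩ ⟨.c4, .c7, .c3⟩ ⟨.c5, .c3, .c5⟩ ⟨.c5, .c14, .c0⟩ ⟨.c5, .c14, .c1⟩ ⟨.c4, .c7, .c5⟩ ⟨.c5, .c13, .c6⟩ ⟨.c5, .c14, .c5⟩ ⟨.c5, .c3, .c11⟩ ⟨.c5, .c14, .c7⟩ ⟨.c5, .c14, .c10⟩ ⟨.c4, .c7, .c9⟩ ⟨.c5, .c3, .c15⟩ ⟨.c5, .c14, .c13⟩ ⟨.c5, .c14, .c14⟩) (@D3.rec (fun _ => Pt) ⟨.c4, .c7, .c11⟩ ⟨.c4, .c8, .c5⟩ ⟨.c6, .c0, .c0⟩ ⟨.c6, .c0, .c3⟩ ⟨.c4, .c7, .c14⟩ ⟨.c4, .c9, .c13⟩ ⟨.c6, .c0, .c7⟩ ⟨.c4, .c7, .c16⟩ ⟨.c6, .c0, .c11⟩ ⟨.c6, .c0, .c12⟩ ⟨.c4, .c7, .c17⟩ ⟨.c5, .c14, .c11⟩ ⟨.c6, .c0, .c15⟩ ⟨.c4, .c8, .c2⟩ ⟨.c4, .c8, .c3⟩ ⟨.c5, .c14, .c15⟩ ⟨.c5, .c12, .c1⟩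 ⟨.c5, .c12, .c0⟩) (@D3.rec (fun _ => Pt) ⟨.c6, .c1, .c4⟩ ⟨.c5, .c12, .c10⟩ ⟨.c4, .c8, .c9⟩ ⟨.c5, .c12, .c11⟩ ⟨.c4, .c8, .c12⟩ ⟨.c6, .c1, .c5⟩ ⟨.c4, .c8, .c17⟩ ⟨.c6, .c1, .c7⟩ ⟨.c4, .c9, .c2⟩ ⟨.c5, .c12, .c2⟩ ⟨.c4, .c9, .c4⟩ ⟨.c6, .c0, .c16⟩ ⟨.c6, .c1, .c12⟩ ⟨.c4, .c9, .c10⟩ ⟨.c6, .c1, .c15⟩ ⟨.c6, .c1, .c16⟩ ⟨.c4, .c9, .c11⟩ ⟨.c5, .c5, .c17⟩) (@D3.rec (fun _ => Pt) ⟨.c6, .c2, .c1⟩ ⟨.c6, .c2, .c2⟩ ⟨.c4, .c9, .c14⟩ ⟨.c4, .c13, .c2⟩ ⟨.c5, .c6, .c4⟩ ⟨.c6, .c2, .c7⟩ ⟨.c4, .c9, .c16⟩ ⟨.c4, .c9, .c17⟩ ⟨.c5, .c6, .c8⟩ ⟨.c4, .c10, .c2⟩ ⟨.c4, .c10, .c12⟩ ⟨.c5,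 .c6, .c11⟩ ⟨.c5, .c6, .c12⟩ ⟨.c5, .c10, .c15⟩ ⟨.c4, .c10, .c6⟩ ⟨.c6, .c2, .c8⟩ ⟨.c6, .c2, .c12⟩ ⟨.c5, .c6, .c17⟩) (@D3.rec (fun _ => Pt) ⟨.c4, .c12, .c3⟩ ⟨.c4, .c12, .c4⟩ ⟨.c4, .c12, .c17⟩ ⟨.c4, .c12, .c0⟩ ⟨.c4, .c11, .c17⟩ ⟨.c6, .c3, .c5⟩ ⟨.c6, .c3, .c8⟩ ⟨.c4, .c11, .c1⟩ ⟨.c5, .c7, .c8⟩ ⟨.c6, .c3, .c11⟩ ⟨.c4, .c11, .c3⟩ ⟨.c6, .c3, .c7⟩ ⟨.c6, .c3, .c6⟩ ⟨.c4, .c11, .c4⟩ ⟨.c4, .c11, .c11⟩ ⟨.c4, .c12, .c14⟩ ⟨.c4, .c11, .c7⟩ ⟨.c4, .c11, .c8⟩) (@D3.rec (fun _ => Pt) ⟨.c4, .c12, .c11⟩ ⟨.c6, .c3, .c3⟩ ⟨.c6, .c3, .c13⟩ ⟨.c6, .c3, .c17⟩ ⟨.c4, .c11, .c13⟩ ⟨.c6,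 .c3, .c2⟩ ⟨.c6, .c3, .c1⟩ ⟨.c4, .c11, .c14⟩ ⟨.c6, .c3, .c0⟩ ⟨.c6, .c4, .c1⟩ ⟨.c6, .c4, .c2⟩ ⟨.c4, .c12, .c6⟩ ⟨.c6, .c0, .c8⟩ ⟨.c4, .c12, .c8⟩ ⟨.c4, .c12, .c9⟩ ⟨.c6, .c4, .c5⟩ ⟨.c5, .c13, .c2⟩ ⟨.c4, .c13, .c0⟩) (@D3.rec (fun _ => Pt) ⟨.c6, .c2, .c3⟩ ⟨.c6, .c2, .c5⟩ ⟨.c5, .c9, .c2⟩ ⟨.c4, .c14, .c7⟩ ⟨.c4, .c14, .c6⟩ ⟨.c4, .c14, .c5⟩ ⟨.c4, .c14, .c2⟩ ⟨.c4, .c14, .c1⟩ ⟨.c4, .c13, .c16⟩ ⟨.c5, .c0, .c3⟩ ⟨.c6, .c4, .c13⟩ ⟨.c5, .c0, .c5⟩ ⟨.c6, .c4, .c17⟩ ⟨.c4, .c14, .c15⟩ ⟨.c5, .c0, .c8⟩ ⟨.c6, .c5, .c3⟩ ⟨.c5, .c9, .c16⟩ ⟨.c6, .c5, .c5⟩) (@D3.rec (fun _ => Pt)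 ⟨.c5, .c0, .c1⟩ ⟨.c6, .c5, .c9⟩ ⟨.c6, .c4, .c10⟩ ⟨.c6, .c5, .c12⟩ ⟨.c6, .c5, .c15⟩ ⟨.c5, .c0, .c4⟩ ⟨.c6, .c4, .c14⟩ ⟨.c6, .c6, .c0⟩ ⟨.c6, .c6, .c1⟩ ⟨.c5, .c0, .c6⟩ ⟨.c6, .c5, .c6⟩ ⟨.c5, .c0, .c12⟩ ⟨.c6, .c6, .c5⟩ ⟨.c5, .c0, .c11⟩ ⟨.c6, .c6, .c9⟩ ⟨.c5, .c6, .c13⟩ ⟨.c6, .c6, .c11⟩ ⟨.c6, .c6, .c13⟩) (@D3.rec (fun _ => Pt) ⟨.c5, .c0, .c13⟩ ⟨.c6, .c6, .c15⟩ ⟨.c5, .c0, .c15⟩ ⟨.c5, .c1, .c8⟩ ⟨.c6, .c7, .c1⟩ ⟨.c6, .c7, .c4⟩ ⟨.c5, .c0, .c17⟩ ⟨.c5, .c11, .c7⟩ ⟨.c6, .c7, .c8⟩ ⟨.c5, .c1, .c1⟩ ⟨.c6, .c7, .c12⟩ ⟨.c6, .c7, .c13⟩ ⟨.c5, .c1, .c2⟩ ⟨.c6, .c6, .c14⟩ ⟨.c6,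 .c7, .c16⟩ ⟨.c5, .c1, .c5⟩ ⟨.c5, .c1, .c6⟩ ⟨.c6, .c6, .c16⟩) (@D3.rec (fun _ => Pt) ⟨.c5, .c4, .c17⟩ ⟨.c5, .c4, .c16⟩ ⟨.c5, .c5, .c9⟩ ⟨.c5, .c2, .c3⟩ ⟨.c6, .c8, .c6⟩ ⟨.c5, .c2, .c0⟩ ⟨.c5, .c1, .c15⟩ ⟨.c6, .c8, .c5⟩ ⟨.c6, .c8, .c4⟩ ⟨.c5, .c2, .c2⟩ ⟨.c5, .c5, .c1⟩ ⟨.c5, .c5, .c3⟩ ⟨.c5, .c2, .c6⟩ ⟨.c6, .c7, .c17⟩ ⟨.c6, .c8, .c14⟩ ⟨.c5, .c2, .c10⟩ ⟨.c5, .c2, .c17⟩ ⟨.c6, .c8, .c17⟩) (@D3.rec (fun _ => Pt) ⟨.c6, .c9, .c2⟩ ⟨.c5, .c2, .c13⟩ ⟨.c5, .c8, .c16⟩ ⟨.c6, .c9, .c5⟩ ⟨.c6, .c9, .c6⟩ ⟨.c5, .c2, .c15⟩ ⟨.c5, .c3, .c9⟩ ⟨.c6, .c9, .c10⟩ ⟨.c6, .c9, .c13⟩ ⟨.c5,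 .c3, .c0⟩ ⟨.c5, .c13, .c10⟩ ⟨.c6, .c9, .c17⟩ ⟨.c5, .c3, .c2⟩ ⟨.c6, .c10, .c3⟩ ⟨.c6, .c10, .c4⟩ ⟨.c5, .c3, .c3⟩ ⟨.c6, .c9, .c3⟩ ⟨.c6, .c10, .c7⟩) (@D3.rec (fun _ => Pt) ⟨.c5, .c3, .c6⟩ ⟨.c5, .c3, .c7⟩ ⟨.c6, .c9, .c7⟩ ⟨.c6, .c10, .c13⟩ ⟨.c6, .c10, .c15⟩ ⟨.c5, .c3, .c10⟩ ⟨.c6, .c11, .c1⟩ ⟨.c5, .c3, .c12⟩ ⟨.c6, .c11, .c5⟩ ⟨.c6, .c11, .c6⟩ ⟨.c5, .c3, .c13⟩ ⟨.c5, .c4, .c11⟩ ⟨.c6, .c11, .c8⟩ ⟨.c5, .c3, .c16⟩ ⟨.c5, .c3, .c17⟩ ⟨.c5, .c4, .c15⟩ ⟨.c6, .c11, .c2⟩ ⟨.c6, .c11, .c15⟩)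
def f_h_6 : D2 → D3 → Pt := @D2.rec (fun _ => D3 → Pt) (@D3.rec (fun _ => Pt) ⟨.c5, .c4, .c2⟩ ⟨.c6, .c12, .c0⟩ ⟨.c6, .c12, .c1⟩ ⟨.c5, .c4, .c3⟩ ⟨.c6, .c10, .c16⟩ ⟨.c6, .c12, .c5⟩ ⟨.c6, .c12, .c6⟩ ⟨.c5, .c4, .c6⟩ ⟨.c5, .c8, .c12⟩ ⟨.c6, .c11, .c3⟩ ⟨.c6, .c12, .c12⟩ ⟨.c5, .c4, .c8⟩ ⟨.c5, .c4, .c9⟩ ⟨.c6, .c11, .c7⟩ ⟨.c6, .c11, .c9⟩ ⟨.c5, .c4, .c12⟩ ⟨.c5, .c5, .c11⟩ ⟨.c6, .c11, .c10⟩) (@D3.rec (fun _ => Pt) ⟨.c6, .c11, .c11⟩ ⟨.c6, .c8, .c3⟩ ⟨.c6, .c8, .c2⟩ ⟨.c6, .c8, .c8⟩ ⟨.c5, .c5, .c0⟩ ⟨.c5, .c5, .c5⟩ ⟨.c6, .c13, .c2⟩ ⟨.c5, .c5, .c7⟩ ⟨.c6, .c12, .c13⟩ ⟨.c6,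 .c12, .c17⟩ ⟨.c6, .c13, .c7⟩ ⟨.c6, .c13, .c8⟩ ⟨.c5, .c5, .c12⟩ ⟨.c6, .c1, .c13⟩ ⟨.c6, .c13, .c10⟩ ⟨.c5, .c5, .c14⟩ ⟨.c5, .c5, .c15⟩ ⟨.c6, .c1, .c17⟩) (@D3.rec (fun _ => Pt) ⟨.c6, .c13, .c14⟩ ⟨.c5, .c6, .c0⟩ ⟨.c5, .c6, .c1⟩ ⟨.c5, .c9, .c0⟩ ⟨.c6, .c2, .c4⟩ ⟨.c5, .c9, .c1⟩ ⟨.c6, .c9, .c14⟩ ⟨.c5, .c6, .c5⟩ ⟨.c5, .c6, .c15⟩ ⟨.c6, .c2, .c9⟩ ⟨.c6, .c2, .c10⟩ ⟨.c6, .c2, .c11⟩ ⟨.c5, .c6, .c16⟩ ⟨.c6, .c8, .c1⟩ ⟨.c6, .c13, .c11⟩ ⟨.c6, .c14, .c6⟩ ⟨.c6, .c14, .c8⟩ ⟨.c6, .c2, .c17⟩) (@D3.rec (fun _ => Pt) ⟨.c5, .c8, .c8⟩ ⟨.c5, .c8, .c6⟩ ⟨.c5, .c8, .c5⟩ ⟨.c5, .c8,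 .c1⟩ ⟨.c7, .c0, .c0⟩ ⟨.c5, .c7, .c5⟩ ⟨.c5, .c7, .c12⟩ ⟨.c5, .c7, .c11⟩ ⟨.c5, .c7, .c6⟩ ⟨.c6, .c14, .c17⟩ ⟨.c6, .c14, .c16⟩ ⟨.c5, .c7, .c9⟩ ⟨.c6, .c10, .c0⟩ ⟨.c5, .c8, .c2⟩ ⟨.c6, .c14, .c15⟩ ⟨.c6, .c14, .c14⟩ ⟨.c6, .c14, .c13⟩ ⟨.c5, .c8, .c3⟩) (@D3.rec (fun _ => Pt) ⟨.c7, .c0, .c4⟩ ⟨.c5, .c8, .c9⟩ ⟨.c5, .c8, .c10⟩ ⟨.c6, .c12, .c7⟩ ⟨.c6, .c12, .c9⟩ ⟨.c5, .c8, .c15⟩ ⟨.c6, .c13, .c17⟩ ⟨.c6, .c14, .c1⟩ ⟨.c6, .c14, .c3⟩ ⟨.c7, .c0, .c14⟩ ⟨.c5, .c10, .c2⟩ ⟨.c7, .c0, .c17⟩ ⟨.c7, .c1, .c2⟩ ⟨.c5, .c9, .c10⟩ ⟨.c5, .c10, .c6⟩ ⟨.c7, .c1, .c5⟩ ⟨.c7, .c1, .c6⟩ ⟨.c5,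 .c9, .c12⟩) (@D3.rec (fun _ => Pt) ⟨.c6, .c5, .c0⟩ ⟨.c7, .c1, .c9⟩ ⟨.c7, .c1, .c11⟩ ⟨.c5, .c9, .c15⟩ ⟨.c7, .c1, .c13⟩ ⟨.c5, .c9, .c17⟩ ⟨.c5, .c10, .c10⟩ ⟨.c7, .c1, .c17⟩ ⟨.c7, .c2, .c2⟩ ⟨.c5, .c10, .c1⟩ ⟨.c7, .c0, .c15⟩ ⟨.c7, .c2, .c6⟩ ⟨.c5, .c10, .c3⟩ ⟨.c7, .c2, .c10⟩ ⟨.c7, .c2, .c11⟩ ⟨.c5, .c10, .c4⟩ ⟨.c7, .c1, .c12⟩ ⟨.c7, .c2, .c14⟩) (@D3.rec (fun _ => Pt) ⟨.c5, .c10, .c7⟩ ⟨.c5, .c10, .c8⟩ ⟨.c7, .c1, .c14⟩ ⟨.c7, .c3, .c1⟩ ⟨.c7, .c3, .c2⟩ ⟨.c5, .c10, .c12⟩ ⟨.c6, .c6, .c6⟩ ⟨.c7, .c3, .c6⟩ ⟨.c7, .c3, .c8⟩ ⟨.c5, .c10, .c14⟩ ⟨.c7, .c3, .c11⟩ ⟨.c5, .c10,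 .c16⟩ ⟨.c7, .c3, .c14⟩ ⟨.c5, .c10, .c17⟩ ⟨.c5, .c11, .c13⟩ ⟨.c5, .c11, .c1⟩ ⟨.c5, .c11, .c17⟩ ⟨.c7, .c4, .c0⟩) (@D3.rec (fun _ => Pt) ⟨.c7, .c4, .c3⟩ ⟨.c5, .c11, .c4⟩ ⟨.c7, .c4, .c7⟩ ⟨.c7, .c4, .c8⟩ ⟨.c5, .c11, .c5⟩ ⟨.c7, .c3, .c9⟩ ⟨.c7, .c4, .c12⟩ ⟨.c7, .c4, .c13⟩ ⟨.c5, .c11, .c8⟩ ⟨.c6, .c7, .c9⟩ ⟨.c7, .c3, .c13⟩ ⟨.c7, .c5, .c1⟩ ⟨.c5, .c11, .c10⟩ ⟨.c5, .c11, .c11⟩ ⟨.c7, .c3, .c15⟩ ⟨.c7, .c5, .c5⟩ ⟨.c5, .c11, .c14⟩ ⟨.c5, .c12, .c13⟩) (@D3.rec (fun _ => Pt) ⟨.c7, .c3, .c16⟩ ⟨.c6, .c2, .c13⟩ ⟨.c6, .c1, .c2⟩ ⟨.c6, .c1, .c1⟩ ⟨.c5, .c12, .c8⟩ ⟨.c5, .c12,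 .c7⟩ ⟨.c5, .c12, .c4⟩ ⟨.c7, .c5, .c13⟩ ⟨.c6, .c1, .c3⟩ ⟨.c7, .c5, .c2⟩ ⟨.c7, .c5, .c6⟩ ⟨.c7, .c5, .c8⟩ ⟨.c7, .c6, .c0⟩ ⟨.c7, .c6, .c1⟩ ⟨.c5, .c12, .c14⟩ ⟨.c6, .c8, .c15⟩ ⟨.c7, .c6, .c5⟩ ⟨.c5, .c12, .c17⟩) (@D3.rec (fun _ => Pt) ⟨.c7, .c6, .c8⟩ ⟨.c7, .c6, .c9⟩ ⟨.c5, .c13, .c0⟩ ⟨.c5, .c13, .c16⟩ ⟨.c7, .c6, .c11⟩ ⟨.c5, .c13, .c3⟩ ⟨.c5, .c13, .c4⟩ ⟨.c5, .c14, .c2⟩ ⟨.c7, .c6, .c16⟩ ⟨.c7, .c7, .c1⟩ ⟨.c5, .c13, .c7⟩ ⟨.c7, .c7, .c5⟩ ⟨.c7, .c7, .c6⟩ ⟨.c5, .c13, .c8⟩ ⟨.c6, .c2, .c6⟩ ⟨.c7, .c7, .c10⟩ ⟨.c7, .c7, .c11⟩ ⟨.c5, .c13, .c11⟩) (@D3.rec (fun _ => Pt) ⟨.c6,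 .c3, .c12⟩ ⟨.c7, .c6, .c6⟩ ⟨.c7, .c7, .c17⟩ ⟨.c5, .c13, .c13⟩ ⟨.c5, .c13, .c14⟩ ⟨.c7, .c6, .c10⟩ ⟨.c7, .c8, .c3⟩ ⟨.c5, .c13, .c17⟩ ⟨.c6, .c10, .c8⟩ ⟨.c7, .c6, .c13⟩ ⟨.c7, .c6, .c14⟩ ⟨.c7, .c7, .c2⟩ ⟨.c7, .c8, .c10⟩ ⟨.c5, .c14, .c3⟩ ⟨.c7, .c8, .c12⟩ ⟨.c5, .c14, .c4⟩ ⟨.c6, .c0, .c4⟩ ⟨.c7, .c8, .c16⟩) (@D3.rec (fun _ => Pt) ⟨.c7, .c8, .c17⟩ ⟨.c5, .c14, .c6⟩ ⟨.c5, .c14, .c16⟩ ⟨.c6, .c0, .c9⟩ ⟨.c7, .c9, .c3⟩ ⟨.c5, .c14, .c8⟩ ⟨.c5, .c14, .c9⟩ ⟨.c6, .c0, .c13⟩ ⟨.c5, .c14, .c12⟩ ⟨.c6, .c0, .c14⟩ ⟨.c6, .c0, .c17⟩ ⟨.c6, .c1, .c0⟩ ⟨.c7, .c9, .c0⟩ ⟨.c7, .c9, .c11⟩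 ⟨.c7, .c9, .c12⟩ ⟨.c5, .c14, .c17⟩ ⟨.c7, .c8, .c11⟩ ⟨.c7, .c9, .c14⟩) (@D3.rec (fun _ => Pt) ⟨.c6, .c0, .c1⟩ ⟨.c6, .c0, .c2⟩ ⟨.c7, .c8, .c13⟩ ⟨.c7, .c10, .c0⟩ ⟨.c7, .c10, .c2⟩ ⟨.c6, .c0, .c5⟩ ⟨.c6, .c0, .c6⟩ ⟨.c6, .c4, .c3⟩ ⟨.c7, .c9, .c1⟩ ⟨.c6, .c4, .c4⟩ ⟨.c7, .c7, .c3⟩ ⟨.c7, .c9, .c4⟩ ⟨.c6, .c0, .c10⟩ ⟨.c6, .c1, .c8⟩ ⟨.c7, .c9, .c5⟩ ⟨.c7, .c9, .c6⟩ ⟨.c7, .c9, .c7⟩ ⟨.c6, .c1, .c9⟩) (@D3.rec (fun _ => Pt) ⟨.c7, .c5, .c7⟩ ⟨.c7, .c9, .c15⟩ ⟨.c6, .c1, .c6⟩ ⟨.c7, .c10, .c17⟩ ⟨.c7, .c10, .c12⟩ ⟨.c7, .c10, .c14⟩ ⟨.c7, .c11, .c4⟩ ⟨.c6, .c1, .c10⟩ ⟨.c6, .c1,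 .c11⟩ ⟨.c6, .c13, .c9⟩ ⟨.c6, .c1, .c14⟩ ⟨.c6, .c2, .c14⟩ ⟨.c6, .c13, .c12⟩ ⟨.c6, .c13, .c13⟩ ⟨.c6, .c2, .c0⟩ ⟨.c6, .c13, .c15⟩ ⟨.c6, .c13, .c16⟩ ⟨.c6, .c4, .c6⟩) (@D3.rec (fun _ => Pt) ⟨.c6, .c14, .c0⟩ ⟨.c6, .c4, .c7⟩ ⟨.c7, .c7, .c7⟩ ⟨.c6, .c4, .c8⟩ ⟨.c7, .c2, .c3⟩ ⟨.c6, .c14, .c5⟩ ⟨.c6, .c2, .c15⟩ ⟨.c7, .c5, .c4⟩ ⟨.c6, .c2, .c16⟩ ⟨.c7, .c2, .c17⟩ ⟨.c7, .c11, .c9⟩ ⟨.c7, .c12, .c4⟩ ⟨.c7, .c12, .c2⟩ ⟨.c6, .c3, .c16⟩ ⟨.c6, .c3, .c15⟩ ⟨.c6, .c3, .c14⟩ ⟨.c6, .c3, .c10⟩ ⟨.c6, .c3, .c9⟩)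
def f_h_7 : D2 → D3 → Pt := @D2.rec (fun _ => D3 → Pt) (@D3.rec (fun _ => Pt) ⟨.c6, .c3, .c4⟩ ⟨.c7, .c12, .c10⟩ ⟨.c7, .c7, .c12⟩ ⟨.c7, .c7, .c14⟩ ⟨.c6, .c4, .c0⟩ ⟨.c7, .c12, .c13⟩ ⟨.c7, .c10, .c5⟩ ⟨.c7, .c10, .c7⟩ ⟨.c7, .c10, .c9⟩ ⟨.c7, .c9, .c17⟩ ⟨.c7, .c11, .c16⟩ ⟨.c7, .c12, .c0⟩ ⟨.c7, .c13, .c3⟩ ⟨.c7, .c13, .c6⟩ ⟨.c6, .c4, .c9⟩ ⟨.c6, .c5, .c10⟩ ⟨.c7, .c13, .c8⟩ ⟨.c6, .c4, .c11⟩) (@D3.rec (fun _ => Pt) ⟨.c7, .c13, .c11⟩ ⟨.c7, .c13, .c12⟩ ⟨.c6, .c4, .c12⟩ ⟨.c7, .c1, .c3⟩ ⟨.c7, .c13, .c14⟩ ⟨.c6, .c4, .c15⟩ ⟨.c6, .c4, .c16⟩ ⟨.c7, .c1, .c7⟩ ⟨.c7, .c14,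 .c1⟩ ⟨.c6, .c5, .c1⟩ ⟨.c7, .c14, .c4⟩ ⟨.c6, .c5, .c2⟩ ⟨.c6, .c5, .c16⟩ ⟨.c6, .c5, .c4⟩ ⟨.c6, .c6, .c2⟩ ⟨.c7, .c14, .c9⟩ ⟨.c7, .c14, .c12⟩ ⟨.c6, .c5, .c7⟩) (@D3.rec (fun _ => Pt) ⟨.c7, .c14, .c16⟩ ⟨.c7, .c14, .c17⟩ ⟨.c6, .c5, .c8⟩ ⟨.c6, .c14, .c4⟩ ⟨.c8, .c0, .c3⟩ ⟨.c8, .c0, .c4⟩ ⟨.c6, .c5, .c11⟩ ⟨.c7, .c2, .c7⟩ ⟨.c7, .c14, .c3⟩ ⟨.c8, .c0, .c10⟩ ⟨.c6, .c5, .c13⟩ ⟨.c6, .c5, .c14⟩ ⟨.c7, .c14, .c5⟩ ⟨.c8, .c0, .c14⟩ ⟨.c6, .c5, .c17⟩ ⟨.c7, .c2, .c15⟩ ⟨.c7, .c14, .c7⟩ ⟨.c6, .c14, .c9⟩) (@D3.rec (fun _ => Pt) ⟨.c8, .c1, .c2⟩ ⟨.c6, .c6, .c3⟩ ⟨.c6, .c6, .c4⟩ ⟨.c7,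 .c3, .c3⟩ ⟨.c8, .c1, .c7⟩ ⟨.c8, .c1, .c9⟩ ⟨.c6, .c6, .c7⟩ ⟨.c8, .c1, .c12⟩ ⟨.c6, .c6, .c8⟩ ⟨.c6, .c7, .c5⟩ ⟨.c8, .c1, .c15⟩ ⟨.c6, .c6, .c10⟩ ⟨.c7, .c3, .c12⟩ ⟨.c6, .c7, .c10⟩ ⟨.c6, .c6, .c12⟩ ⟨.c6, .c7, .c14⟩ ⟨.c6, .c8, .c0⟩ ⟨.c8, .c2, .c5⟩) (@D3.rec (fun _ => Pt) ⟨.c6, .c6, .c17⟩ ⟨.c8, .c2, .c9⟩ ⟨.c8, .c2, .c10⟩ ⟨.c6, .c7, .c0⟩ ⟨.c7, .c4, .c4⟩ ⟨.c8, .c1, .c11⟩ ⟨.c8, .c2, .c14⟩ ⟨.c6, .c7, .c2⟩ ⟨.c6, .c7, .c3⟩ ⟨.c8, .c1, .c13⟩ ⟨.c8, .c3, .c1⟩ ⟨.c8, .c3, .c3⟩ ⟨.c6, .c7, .c6⟩ ⟨.c6, .c7, .c7⟩ ⟨.c7, .c4, .c14⟩ ⟨.c8, .c1, .c17⟩ ⟨.c7, .c4, .c16⟩ ⟨.c8, .c3,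 .c12⟩) (@D3.rec (fun _ => Pt) ⟨.c8, .c3, .c13⟩ ⟨.c6, .c7, .c11⟩ ⟨.c6, .c8, .c9⟩ ⟨.c8, .c2, .c2⟩ ⟨.c6, .c14, .c7⟩ ⟨.c6, .c7, .c15⟩ ⟨.c6, .c8, .c10⟩ ⟨.c6, .c13, .c0⟩ ⟨.c6, .c8, .c11⟩ ⟨.c8, .c4, .c0⟩ ⟨.c8, .c4, .c5⟩ ⟨.c8, .c3, .c14⟩ ⟨.c8, .c2, .c15⟩ ⟨.c6, .c8, .c7⟩ ⟨.c8, .c3, .c16⟩ ⟨.c8, .c4, .c1⟩ ⟨.c8, .c4, .c3⟩ ⟨.c8, .c4, .c10⟩) (@D3.rec (fun _ => Pt) ⟨.c6, .c8, .c12⟩ ⟨.c6, .c8, .c13⟩ ⟨.c7, .c6, .c2⟩ ⟨.c8, .c4, .c16⟩ ⟨.c8, .c4, .c17⟩ ⟨.c6, .c8, .c16⟩ ⟨.c6, .c10, .c1⟩ ⟨.c8, .c5, .c1⟩ ⟨.c6, .c9, .c0⟩ ⟨.c6, .c9, .c1⟩ ⟨.c6, .c10, .c5⟩ ⟨.c6, .c9, .c4⟩ ⟨.c7,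 .c6, .c12⟩ ⟨.c6, .c10, .c9⟩ ⟨.c6, .c10, .c10⟩ ⟨.c8, .c5, .c10⟩ ⟨.c6, .c9, .c8⟩ ⟨.c8, .c5, .c14⟩) (@D3.rec (fun _ => Pt) ⟨.c8, .c5, .c15⟩ ⟨.c6, .c9, .c9⟩ ⟨.c6, .c10, .c11⟩ ⟨.c6, .c12, .c10⟩ ⟨.c8, .c6, .c2⟩ ⟨.c6, .c9, .c11⟩ ⟨.c6, .c9, .c12⟩ ⟨.c6, .c14, .c2⟩ ⟨.c8, .c6, .c7⟩ ⟨.c8, .c6, .c9⟩ ⟨.c6, .c9, .c15⟩ ⟨.c6, .c9, .c16⟩ ⟨.c7, .c0, .c2⟩ ⟨.c8, .c5, .c0⟩ ⟨.c7, .c0, .c3⟩ ⟨.c8, .c5, .c11⟩ ⟨.c8, .c7, .c0⟩ ⟨.c6, .c10, .c2⟩) (@D3.rec (fun _ => Pt) ⟨.c7, .c8, .c0⟩ ⟨.c8, .c5, .c3⟩ ⟨.c8, .c5, .c4⟩ ⟨.c6, .c10, .c6⟩ ⟨.c7, .c8, .c4⟩ ⟨.c8, .c5, .c6⟩ ⟨.c7, .c8, .c6⟩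 ⟨.c8, .c7, .c9⟩ ⟨.c8, .c5, .c16⟩ ⟨.c8, .c7, .c10⟩ ⟨.c6, .c10, .c12⟩ ⟨.c6, .c11, .c16⟩ ⟨.c6, .c10, .c14⟩ ⟨.c6, .c12, .c2⟩ ⟨.c8, .c7, .c13⟩ ⟨.c8, .c7, .c14⟩ ⟨.c6, .c10, .c17⟩ ⟨.c6, .c11, .c0⟩) (@D3.rec (fun _ => Pt) ⟨.c6, .c11, .c12⟩ ⟨.c6, .c12, .c8⟩ ⟨.c8, .c6, .c0⟩ ⟨.c6, .c11, .c4⟩ ⟨.c6, .c12, .c11⟩ ⟨.c6, .c12, .c14⟩ ⟨.c6, .c12, .c15⟩ ⟨.c6, .c12, .c16⟩ ⟨.c8, .c4, .c2⟩ ⟨.c8, .c8, .c1⟩ ⟨.c8, .c7, .c17⟩ ⟨.c6, .c11, .c13⟩ ⟨.c6, .c11, .c14⟩ ⟨.c8, .c7, .c11⟩ ⟨.c6, .c11, .c17⟩ ⟨.c6, .c13, .c1⟩ ⟨.c8, .c7, .c12⟩ ⟨.c7, .c0, .c9⟩) (@D3.rec (fun _ => Pt) ⟨.c6, .c12,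 .c3⟩ ⟨.c8, .c8, .c4⟩ ⟨.c6, .c12, .c4⟩ ⟨.c8, .c8, .c12⟩ ⟨.c8, .c7, .c16⟩ ⟨.c7, .c0, .c6⟩ ⟨.c8, .c8, .c0⟩ ⟨.c7, .c0, .c7⟩ ⟨.c8, .c5, .c17⟩ ⟨.c7, .c0, .c8⟩ ⟨.c7, .c14, .c14⟩ ⟨.c8, .c8, .c3⟩ ⟨.c6, .c13, .c4⟩ ⟨.c8, .c3, .c15⟩ ⟨.c6, .c13, .c5⟩ ⟨.c8, .c0, .c16⟩ ⟨.c8, .c8, .c10⟩ ⟨.c6, .c13, .c3⟩) (@D3.rec (fun _ => Pt) ⟨.c8, .c8, .c9⟩ ⟨.c8, .c9, .c12⟩ ⟨.c8, .c9, .c7⟩ ⟨.c8, .c9, .c9⟩ ⟨.c6, .c13, .c6⟩ ⟨.c7, .c11, .c5⟩ ⟨.c7, .c11, .c6⟩ ⟨.c7, .c11, .c7⟩ ⟨.c7, .c11, .c8⟩ ⟨.c6, .c14, .c10⟩ ⟨.c8, .c2, .c17⟩ ⟨.c7, .c11, .c11⟩ ⟨.c7, .c11, .c12⟩ ⟨.c7, .c11, .c13⟩ ⟨.c7,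 .c11, .c14⟩ ⟨.c8, .c10, .c11⟩ ⟨.c7, .c0, .c10⟩ ⟨.c8, .c6, .c5⟩) (@D3.rec (fun _ => Pt) ⟨.c7, .c0, .c11⟩ ⟨.c8, .c6, .c4⟩ ⟨.c6, .c14, .c12⟩ ⟨.c8, .c0, .c0⟩ ⟨.c6, .c14, .c11⟩ ⟨.c8, .c3, .c7⟩ ⟨.c8, .c0, .c13⟩ ⟨.c8, .c10, .c2⟩ ⟨.c8, .c9, .c5⟩ ⟨.c8, .c6, .c12⟩ ⟨.c7, .c0, .c1⟩ ⟨.c8, .c6, .c14⟩ ⟨.c8, .c6, .c16⟩ ⟨.c7, .c0, .c5⟩ ⟨.c8, .c8, .c8⟩ ⟨.c8, .c11, .c2⟩ ⟨.c8, .c9, .c1⟩ ⟨.c8, .c9, .c3⟩) (@D3.rec (fun _ => Pt) ⟨.c8, .c10, .c12⟩ ⟨.c8, .c11, .c6⟩ ⟨.c8, .c11, .c7⟩ ⟨.c7, .c0, .c12⟩ ⟨.c8, .c11, .c10⟩ ⟨.c8, .c11, .c11⟩ ⟨.c7, .c0, .c13⟩ ⟨.c7, .c13, .c7⟩ ⟨.c7, .c0,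 .c16⟩ ⟨.c7, .c13, .c9⟩ ⟨.c7, .c13, .c10⟩ ⟨.c7, .c1, .c0⟩ ⟨.c7, .c1, .c1⟩ ⟨.c7, .c13, .c13⟩ ⟨.c7, .c1, .c4⟩ ⟨.c7, .c13, .c15⟩ ⟨.c7, .c13, .c16⟩ ⟨.c7, .c13, .c17⟩) (@D3.rec (fun _ => Pt) ⟨.c8, .c12, .c7⟩ ⟨.c7, .c1, .c8⟩ ⟨.c7, .c14, .c2⟩ ⟨.c7, .c2, .c8⟩ ⟨.c7, .c1, .c10⟩ ⟨.c7, .c2, .c12⟩ ⟨.c7, .c14, .c6⟩ ⟨.c7, .c2, .c16⟩ ⟨.c8, .c12, .c16⟩ ⟨.c7, .c1, .c15⟩ ⟨.c8, .c13, .c3⟩ ⟨.c8, .c13, .c4⟩ ⟨.c7, .c1, .c16⟩ ⟨.c7, .c14, .c13⟩ ⟨.c7, .c10, .c10⟩ ⟨.c8, .c13, .c10⟩ ⟨.c7, .c2, .c0⟩ ⟨.c7, .c2, .c1⟩)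
def f_h_8 : D2 → D3 → Pt := @D2.rec (fun _ => D3 → Pt) (@D3.rec (fun _ => Pt) ⟨.c7, .c12, .c3⟩ ⟨.c8, .c13, .c15⟩ ⟨.c8, .c13, .c17⟩ ⟨.c7, .c2, .c4⟩ ⟨.c7, .c2, .c5⟩ ⟨.c8, .c0, .c5⟩ ⟨.c8, .c12, .c9⟩ ⟨.c8, .c0, .c7⟩ ⟨.c8, .c14, .c8⟩ ⟨.c8, .c14, .c9⟩ ⟨.c7, .c2, .c9⟩ ⟨.c8, .c0, .c11⟩ ⟨.c8, .c12, .c12⟩ ⟨.c7, .c12, .c6⟩ ⟨.c7, .c2, .c13⟩ ⟨.c8, .c0, .c15⟩ ⟨.c7, .c10, .c15⟩ ⟨.c8, .c0, .c17⟩) (@D3.rec (fun _ => Pt) ⟨.c9, .c0, .c2⟩ ⟨.c9, .c0, .c3⟩ ⟨.c7, .c3, .c0⟩ ⟨.c8, .c1, .c3⟩ ⟨.c8, .c1, .c4⟩ ⟨.c8, .c1, .c5⟩ ⟨.c9, .c0, .c9⟩ ⟨.c7, .c3, .c4⟩ ⟨.c9, .c0, .c11⟩ ⟨.c7,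 .c3, .c5⟩ ⟨.c8, .c1, .c10⟩ ⟨.c7, .c4, .c5⟩ ⟨.c7, .c3, .c7⟩ ⟨.c7, .c4, .c9⟩ ⟨.c9, .c0, .c16⟩ ⟨.c7, .c3, .c10⟩ ⟨.c8, .c1, .c16⟩ ⟨.c7, .c4, .c15⟩) (@D3.rec (fun _ => Pt) ⟨.c8, .c2, .c0⟩ ⟨.c9, .c1, .c5⟩ ⟨.c7, .c5, .c3⟩ ⟨.c9, .c1, .c8⟩ ⟨.c9, .c1, .c9⟩ ⟨.c7, .c3, .c17⟩ ⟨.c9, .c0, .c10⟩ ⟨.c9, .c1, .c11⟩ ⟨.c9, .c1, .c12⟩ ⟨.c7, .c4, .c1⟩ ⟨.c7, .c4, .c2⟩ ⟨.c8, .c2, .c11⟩ ⟨.c9, .c0, .c13⟩ ⟨.c9, .c2, .c1⟩ ⟨.c7, .c4, .c6⟩ ⟨.c7, .c5, .c12⟩ ⟨.c9, .c0, .c15⟩ ⟨.c7, .c11, .c10⟩) (@D3.rec (fun _ => Pt) ⟨.c9, .c2, .c3⟩ ⟨.c7, .c4, .c10⟩ ⟨.c9, .c2, .c7⟩ ⟨.c7, .c4, .c11⟩ ⟨.c9,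 .c2, .c5⟩ ⟨.c9, .c1, .c0⟩ ⟨.c8, .c3, .c6⟩ ⟨.c7, .c12, .c5⟩ ⟨.c8, .c3, .c8⟩ ⟨.c9, .c2, .c17⟩ ⟨.c8, .c3, .c10⟩ ⟨.c9, .c3, .c2⟩ ⟨.c7, .c4, .c17⟩ ⟨.c7, .c5, .c0⟩ ⟨.c7, .c5, .c11⟩ ⟨.c7, .c10, .c13⟩ ⟨.c7, .c5, .c14⟩ ⟨.c9, .c3, .c3⟩) (@D3.rec (fun _ => Pt) ⟨.c7, .c5, .c9⟩ ⟨.c7, .c5, .c15⟩ ⟨.c7, .c9, .c8⟩ ⟨.c7, .c5, .c16⟩ ⟨.c8, .c14, .c15⟩ ⟨.c7, .c5, .c10⟩ ⟨.c9, .c3, .c11⟩ ⟨.c9, .c3, .c5⟩ ⟨.c9, .c3, .c7⟩ ⟨.c9, .c3, .c9⟩ ⟨.c7, .c5, .c17⟩ ⟨.c8, .c4, .c11⟩ ⟨.c8, .c4, .c12⟩ ⟨.c8, .c4, .c13⟩ ⟨.c9, .c3, .c17⟩ ⟨.c9, .c4, .c0⟩ ⟨.c7, .c6, .c3⟩ ⟨.c7, .c6, .c4⟩) (@D3.rec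 (fun _ => Pt) ⟨.c7, .c7, .c13⟩ ⟨.c7, .c6, .c7⟩ ⟨.c8, .c5, .c2⟩ ⟨.c7, .c8, .c1⟩ ⟨.c7, .c8, .c2⟩ ⟨.c8, .c5, .c5⟩ ⟨.c7, .c8, .c5⟩ ⟨.c8, .c5, .c7⟩ ⟨.c9, .c4, .c11⟩ ⟨.c9, .c4, .c12⟩ ⟨.c7, .c6, .c15⟩ ⟨.c7, .c7, .c15⟩ ⟨.c9, .c4, .c14⟩ ⟨.c9, .c4, .c16⟩ ⟨.c7, .c6, .c17⟩ ⟨.c7, .c7, .c0⟩ ⟨.c7, .c8, .c8⟩ ⟨.c7, .c10, .c8⟩) (@D3.rec (fun _ => Pt) ⟨.c7, .c9, .c2⟩ ⟨.c9, .c5, .c4⟩ ⟨.c7, .c7, .c4⟩ ⟨.c8, .c6, .c3⟩ ⟨.c7, .c12, .c1⟩ ⟨.c7, .c11, .c17⟩ ⟨.c9, .c5, .c2⟩ ⟨.c7, .c7, .c8⟩ ⟨.c9, .c5, .c11⟩ ⟨.c7, .c7, .c9⟩ ⟨.c9, .c5, .c9⟩ ⟨.c9, .c4, .c2⟩ ⟨.c7, .c12, .c9⟩ ⟨.c9, .c4,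 .c3⟩ ⟨.c7, .c12, .c11⟩ ⟨.c9, .c4, .c13⟩ ⟨.c7, .c12, .c12⟩ ⟨.c8, .c13, .c0⟩) (@D3.rec (fun _ => Pt) ⟨.c7, .c7, .c16⟩ ⟨.c8, .c7, .c1⟩ ⟨.c9, .c4, .c5⟩ ⟨.c8, .c7, .c3⟩ ⟨.c9, .c6, .c9⟩ ⟨.c9, .c3, .c8⟩ ⟨.c9, .c6, .c10⟩ ⟨.c8, .c7, .c7⟩ ⟨.c9, .c6, .c13⟩ ⟨.c7, .c8, .c7⟩ ⟨.c7, .c8, .c9⟩ ⟨.c7, .c9, .c13⟩ ⟨.c7, .c9, .c16⟩ ⟨.c7, .c8, .c14⟩ ⟨.c7, .c8, .c15⟩ ⟨.c9, .c6, .c16⟩ ⟨.c7, .c10, .c4⟩ ⟨.c7, .c9, .c10⟩) (@D3.rec (fun _ => Pt) ⟨.c7, .c10, .c6⟩ ⟨.c7, .c9, .c9⟩ ⟨.c9, .c5, .c3⟩ ⟨.c7, .c10, .c11⟩ ⟨.c7, .c10, .c1⟩ ⟨.c9, .c3, .c4⟩ ⟨.c9, .c7, .c0⟩ ⟨.c9, .c6, .c15⟩ ⟨.c7,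 .c12, .c14⟩ ⟨.c7, .c11, .c0⟩ ⟨.c7, .c10, .c16⟩ ⟨.c9, .c2, .c2⟩ ⟨.c7, .c10, .c3⟩ ⟨.c9, .c6, .c17⟩ ⟨.c9, .c6, .c14⟩ ⟨.c9, .c7, .c1⟩ ⟨.c9, .c7, .c12⟩ ⟨.c9, .c7, .c13⟩) (@D3.rec (fun _ => Pt) ⟨.c9, .c8, .c4⟩ ⟨.c7, .c12, .c16⟩ ⟨.c9, .c5, .c1⟩ ⟨.c7, .c12, .c17⟩ ⟨.c9, .c5, .c0⟩ ⟨.c7, .c12, .c8⟩ ⟨.c8, .c13, .c6⟩ ⟨.c7, .c11, .c2⟩ ⟨.c9, .c2, .c9⟩ ⟨.c7, .c11, .c3⟩ ⟨.c8, .c14, .c11⟩ ⟨.c9, .c7, .c10⟩ ⟨.c7, .c11, .c1⟩ ⟨.c9, .c2, .c4⟩ ⟨.c9, .c8, .c13⟩ ⟨.c9, .c8, .c7⟩ ⟨.c8, .c9, .c16⟩ ⟨.c8, .c9, .c17⟩) (@D3.rec (fun _ => Pt) ⟨.c8, .c10, .c0⟩ ⟨.c9, .c9, .c1⟩ ⟨.c7, .c12,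 .c7⟩ ⟨.c9, .c1, .c16⟩ ⟨.c8, .c10, .c4⟩ ⟨.c9, .c9, .c5⟩ ⟨.c8, .c10, .c6⟩ ⟨.c8, .c10, .c7⟩ ⟨.c9, .c9, .c10⟩ ⟨.c8, .c10, .c9⟩ ⟨.c9, .c9, .c12⟩ ⟨.c7, .c11, .c15⟩ ⟨.c7, .c13, .c0⟩ ⟨.c9, .c5, .c6⟩ ⟨.c8, .c13, .c12⟩ ⟨.c8, .c13, .c13⟩ ⟨.c8, .c14, .c3⟩ ⟨.c9, .c6, .c2⟩) (@D3.rec (fun _ => Pt) ⟨.c9, .c7, .c5⟩ ⟨.c9, .c6, .c0⟩ ⟨.c7, .c12, .c15⟩ ⟨.c9, .c5, .c17⟩ ⟨.c9, .c9, .c14⟩ ⟨.c9, .c8, .c5⟩ ⟨.c7, .c13, .c1⟩ ⟨.c7, .c13, .c2⟩ ⟨.c8, .c11, .c8⟩ ⟨.c8, .c11, .c9⟩ ⟨.c7, .c13, .c4⟩ ⟨.c7, .c13, .c5⟩ ⟨.c8, .c11, .c12⟩ ⟨.c8, .c11, .c13⟩ ⟨.c8, .c11, .c14⟩ ⟨.c8, .c11, .c15⟩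 ⟨.c9, .c10, .c11⟩ ⟨.c8, .c11, .c17⟩) (@D3.rec (fun _ => Pt) ⟨.c8, .c12, .c0⟩ ⟨.c8, .c12, .c1⟩ ⟨.c8, .c12, .c2⟩ ⟨.c8, .c12, .c3⟩ ⟨.c8, .c12, .c4⟩ ⟨.c9, .c11, .c0⟩ ⟨.c9, .c11, .c1⟩ ⟨.c7, .c14, .c0⟩ ⟨.c8, .c12, .c8⟩ ⟨.c8, .c0, .c6⟩ ⟨.c9, .c11, .c6⟩ ⟨.c8, .c12, .c11⟩ ⟨.c8, .c0, .c12⟩ ⟨.c9, .c11, .c9⟩ ⟨.c9, .c11, .c11⟩ ⟨.c9, .c11, .c12⟩ ⟨.c7, .c14, .c8⟩ ⟨.c8, .c12, .c17⟩) (@D3.rec (fun _ => Pt) ⟨.c8, .c6, .c17⟩ ⟨.c9, .c12, .c0⟩ ⟨.c9, .c12, .c2⟩ ⟨.c7, .c14, .c10⟩ ⟨.c7, .c14, .c11⟩ ⟨.c8, .c13, .c5⟩ ⟨.c8, .c9, .c6⟩ ⟨.c8, .c13, .c7⟩ ⟨.c9, .c12, .c10⟩ ⟨.c9, .c12,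 .c11⟩ ⟨.c7, .c14, .c15⟩ ⟨.c8, .c13, .c11⟩ ⟨.c8, .c10, .c14⟩ ⟨.c8, .c10, .c15⟩ ⟨.c9, .c12, .c15⟩ ⟨.c8, .c0, .c1⟩ ⟨.c9, .c13, .c0⟩ ⟨.c8, .c0, .c2⟩) (@D3.rec (fun _ => Pt) ⟨.c9, .c12, .c16⟩ ⟨.c9, .c11, .c3⟩ ⟨.c8, .c14, .c2⟩ ⟨.c8, .c10, .c16⟩ ⟨.c8, .c14, .c4⟩ ⟨.c9, .c13, .c9⟩ ⟨.c8, .c14, .c6⟩ ⟨.c9, .c13, .c12⟩ ⟨.c8, .c0, .c8⟩ ⟨.c8, .c0, .c9⟩ ⟨.c8, .c14, .c10⟩ ⟨.c8, .c9, .c10⟩ ⟨.c8, .c14, .c12⟩ ⟨.c9, .c14, .c0⟩ ⟨.c8, .c14, .c14⟩ ⟨.c8, .c4, .c4⟩ ⟨.c8, .c14, .c16⟩ ⟨.c9, .c14, .c5⟩)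
def f_h_9 : D2 → D3 → Pt := @D2.rec (fun _ => D3 → Pt) (@D3.rec (fun _ => Pt) ⟨.c9, .c0, .c0⟩ ⟨.c9, .c14, .c8⟩ ⟨.c8, .c1, .c0⟩ ⟨.c8, .c1, .c1⟩ ⟨.c9, .c0, .c4⟩ ⟨.c9, .c0, .c5⟩ ⟨.c9, .c0, .c6⟩ ⟨.c9, .c14, .c14⟩ ⟨.c9, .c14, .c15⟩ ⟨.c8, .c1, .c6⟩ ⟨.c8, .c2, .c6⟩ ⟨.c8, .c1, .c8⟩ ⟨.c9, .c0, .c12⟩ ⟨.c8, .c2, .c12⟩ ⟨.c10, .c0, .c3⟩ ⟨.c8, .c2, .c16⟩ ⟨.c8, .c1, .c14⟩ ⟨.c10, .c0, .c4⟩) (@D3.rec (fun _ => Pt) ⟨.c8, .c3, .c5⟩ ⟨.c9, .c1, .c1⟩ ⟨.c10, .c0, .c10⟩ ⟨.c9, .c1, .c3⟩ ⟨.c10, .c0, .c13⟩ ⟨.c8, .c2, .c1⟩ ⟨.c10, .c0, .c14⟩ ⟨.c10, .c0, .c15⟩ ⟨.c8, .c2, .c3⟩ ⟨.c8,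 .c2, .c4⟩ ⟨.c9, .c14, .c16⟩ ⟨.c8, .c2, .c7⟩ ⟨.c8, .c2, .c8⟩ ⟨.c10, .c1, .c1⟩ ⟨.c10, .c0, .c0⟩ ⟨.c9, .c1, .c15⟩ ⟨.c8, .c10, .c3⟩ ⟨.c9, .c1, .c17⟩) (@D3.rec (fun _ => Pt) ⟨.c10, .c1, .c11⟩ ⟨.c8, .c2, .c13⟩ ⟨.c8, .c8, .c11⟩ ⟨.c8, .c3, .c0⟩ ⟨.c8, .c9, .c13⟩ ⟨.c8, .c3, .c4⟩ ⟨.c10, .c0, .c5⟩ ⟨.c8, .c3, .c2⟩ ⟨.c10, .c1, .c5⟩ ⟨.c8, .c9, .c8⟩ ⟨.c10, .c1, .c3⟩ ⟨.c10, .c1, .c13⟩ ⟨.c10, .c2, .c6⟩ ⟨.c9, .c2, .c13⟩ ⟨.c10, .c2, .c9⟩ ⟨.c9, .c2, .c15⟩ ⟨.c10, .c2, .c12⟩ ⟨.c8, .c3, .c9⟩) (@D3.rec (fun _ => Pt) ⟨.c9, .c3, .c0⟩ ⟨.c10, .c2, .c14⟩ ⟨.c8, .c3, .c11⟩ ⟨.c8, .c3,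 .c17⟩ ⟨.c8, .c8, .c5⟩ ⟨.c8, .c4, .c7⟩ ⟨.c10, .c1, .c16⟩ ⟨.c8, .c4, .c8⟩ ⟨.c8, .c7, .c5⟩ ⟨.c8, .c4, .c9⟩ ⟨.c9, .c13, .c14⟩ ⟨.c8, .c4, .c6⟩ ⟨.c10, .c2, .c15⟩ ⟨.c9, .c3, .c13⟩ ⟨.c9, .c3, .c14⟩ ⟨.c9, .c3, .c15⟩ ⟨.c10, .c3, .c4⟩ ⟨.c8, .c4, .c14⟩) (@D3.rec (fun _ => Pt) ⟨.c8, .c4, .c15⟩ ⟨.c10, .c3, .c5⟩ ⟨.c8, .c6, .c11⟩ ⟨.c8, .c6, .c13⟩ ⟨.c9, .c4, .c4⟩ ⟨.c8, .c7, .c2⟩ ⟨.c9, .c4, .c6⟩ ⟨.c10, .c3, .c14⟩ ⟨.c10, .c3, .c15⟩ ⟨.c9, .c4, .c9⟩ ⟨.c10, .c4, .c0⟩ ⟨.c8, .c5, .c8⟩ ⟨.c8, .c5, .c9⟩ ⟨.c8, .c6, .c15⟩ ⟨.c8, .c5, .c12⟩ ⟨.c10, .c4, .c5⟩ ⟨.c8, .c5, .c13⟩ ⟨.c10,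 .c4, .c3⟩) (@D3.rec (fun _ => Pt) ⟨.c8, .c9, .c4⟩ ⟨.c8, .c9, .c2⟩ ⟨.c8, .c6, .c6⟩ ⟨.c8, .c8, .c2⟩ ⟨.c8, .c6, .c1⟩ ⟨.c9, .c5, .c5⟩ ⟨.c8, .c10, .c13⟩ ⟨.c9, .c5, .c7⟩ ⟨.c10, .c4, .c16⟩ ⟨.c8, .c6, .c10⟩ ⟨.c10, .c3, .c6⟩ ⟨.c8, .c6, .c8⟩ ⟨.c10, .c4, .c9⟩ ⟨.c10, .c3, .c8⟩ ⟨.c10, .c4, .c17⟩ ⟨.c10, .c4, .c6⟩ ⟨.c10, .c5, .c10⟩ ⟨.c8, .c11, .c3⟩) (@D3.rec (fun _ => Pt) ⟨.c8, .c11, .c1⟩ ⟨.c10, .c4, .c2⟩ ⟨.c8, .c10, .c17⟩ ⟨.c9, .c11, .c14⟩ ⟨.c10, .c2, .c17⟩ ⟨.c9, .c6, .c5⟩ ⟨.c10, .c5, .c15⟩ ⟨.c9, .c6, .c7⟩ ⟨.c10, .c6, .c0⟩ ⟨.c8, .c7, .c4⟩ ⟨.c8, .c7, .c6⟩ ⟨.c9, .c6,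 .c11⟩ ⟨.c10, .c6, .c2⟩ ⟨.c8, .c7, .c8⟩ ⟨.c8, .c8, .c14⟩ ⟨.c8, .c8, .c7⟩ ⟨.c8, .c7, .c15⟩ ⟨.c8, .c8, .c13⟩) (@D3.rec (fun _ => Pt) ⟨.c8, .c8, .c6⟩ ⟨.c8, .c8, .c15⟩ ⟨.c9, .c14, .c17⟩ ⟨.c10, .c3, .c7⟩ ⟨.c10, .c6, .c9⟩ ⟨.c8, .c11, .c0⟩ ⟨.c10, .c4, .c11⟩ ⟨.c10, .c1, .c2⟩ ⟨.c10, .c1, .c15⟩ ⟨.c10, .c6, .c12⟩ ⟨.c8, .c9, .c11⟩ ⟨.c10, .c1, .c4⟩ ⟨.c8, .c8, .c16⟩ ⟨.c8, .c8, .c17⟩ ⟨.c10, .c7, .c1⟩ ⟨.c10, .c4, .c1⟩ ⟨.c10, .c7, .c4⟩ ⟨.c10, .c6, .c14⟩) (@D3.rec (fun _ => Pt) ⟨.c10, .c6, .c15⟩ ⟨.c10, .c7, .c10⟩ ⟨.c10, .c6, .c17⟩ ⟨.c10, .c7, .c12⟩ ⟨.c8, .c9, .c0⟩ ⟨.c8,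 .c11, .c5⟩ ⟨.c10, .c4, .c7⟩ ⟨.c8, .c9, .c15⟩ ⟨.c9, .c12, .c4⟩ ⟨.c9, .c12, .c5⟩ ⟨.c9, .c13, .c2⟩ ⟨.c9, .c12, .c12⟩ ⟨.c10, .c5, .c11⟩ ⟨.c8, .c9, .c14⟩ ⟨.c10, .c1, .c12⟩ ⟨.c10, .c7, .c15⟩ ⟨.c10, .c7, .c17⟩ ⟨.c9, .c8, .c17⟩) (@D3.rec (fun _ => Pt) ⟨.c10, .c8, .c1⟩ ⟨.c8, .c10, .c1⟩ ⟨.c10, .c1, .c0⟩ ⟨.c9, .c9, .c3⟩ ⟨.c10, .c8, .c3⟩ ⟨.c8, .c10, .c5⟩ ⟨.c9, .c9, .c6⟩ ⟨.c10, .c8, .c6⟩ ⟨.c9, .c9, .c8⟩ ⟨.c10, .c8, .c8⟩ ⟨.c8, .c10, .c8⟩ ⟨.c10, .c8, .c9⟩ ⟨.c8, .c10, .c10⟩ ⟨.c10, .c4, .c12⟩ ⟨.c8, .c11, .c4⟩ ⟨.c10, .c4, .c4⟩ ⟨.c9, .c9, .c16⟩ ⟨.c9, .c9, .c17⟩) (@D3.rec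 (fun _ => Pt) ⟨.c9, .c10, .c0⟩ ⟨.c9, .c10, .c1⟩ ⟨.c9, .c10, .c2⟩ ⟨.c10, .c8, .c17⟩ ⟨.c9, .c10, .c4⟩ ⟨.c9, .c10, .c5⟩ ⟨.c9, .c10, .c6⟩ ⟨.c9, .c10, .c7⟩ ⟨.c10, .c9, .c3⟩ ⟨.c9, .c10, .c9⟩ ⟨.c10, .c9, .c6⟩ ⟨.c8, .c11, .c16⟩ ⟨.c9, .c10, .c12⟩ ⟨.c10, .c9, .c9⟩ ⟨.c9, .c10, .c14⟩ ⟨.c10, .c9, .c12⟩ ⟨.c9, .c10, .c16⟩ ⟨.c10, .c9, .c15⟩) (@D3.rec (fun _ => Pt) ⟨.c8, .c12, .c5⟩ ⟨.c8, .c12, .c6⟩ ⟨.c10, .c9, .c16⟩ ⟨.c8, .c14, .c1⟩ ⟨.c9, .c11, .c4⟩ ⟨.c10, .c10, .c4⟩ ⟨.c8, .c12, .c10⟩ ⟨.c9, .c11, .c7⟩ ⟨.c10, .c10, .c6⟩ ⟨.c8, .c12, .c13⟩ ⟨.c10, .c10, .c7⟩ ⟨.c8, .c12,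 .c14⟩ ⟨.c8, .c12, .c15⟩ ⟨.c9, .c11, .c13⟩ ⟨.c9, .c6, .c3⟩ ⟨.c9, .c11, .c15⟩ ⟨.c10, .c10, .c14⟩ ⟨.c10, .c10, .c15⟩) (@D3.rec (fun _ => Pt) ⟨.c8, .c13, .c1⟩ ⟨.c10, .c11, .c0⟩ ⟨.c8, .c13, .c2⟩ ⟨.c10, .c10, .c16⟩ ⟨.c9, .c8, .c8⟩ ⟨.c9, .c8, .c9⟩ ⟨.c9, .c12, .c6⟩ ⟨.c10, .c11, .c8⟩ ⟨.c9, .c12, .c8⟩ ⟨.c10, .c11, .c10⟩ ⟨.c8, .c13, .c8⟩ ⟨.c8, .c13, .c9⟩ ⟨.c9, .c8, .c11⟩ ⟨.c9, .c12, .c13⟩ ⟨.c10, .c11, .c13⟩ ⟨.c8, .c13, .c14⟩ ⟨.c8, .c14, .c0⟩ ⟨.c10, .c9, .c17⟩) (@D3.rec (fun _ => Pt) ⟨.c8, .c13, .c16⟩ ⟨.c10, .c11, .c14⟩ ⟨.c9, .c8, .c10⟩ ⟨.c10, .c11, .c16⟩ ⟨.c10,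 .c11, .c17⟩ ⟨.c10, .c12, .c8⟩ ⟨.c10, .c12, .c9⟩ ⟨.c9, .c13, .c7⟩ ⟨.c10, .c12, .c12⟩ ⟨.c8, .c14, .c5⟩ ⟨.c9, .c13, .c10⟩ ⟨.c10, .c12, .c14⟩ ⟨.c8, .c14, .c7⟩ ⟨.c9, .c13, .c13⟩ ⟨.c9, .c3, .c10⟩ ⟨.c10, .c12, .c16⟩ ⟨.c9, .c13, .c16⟩ ⟨.c10, .c13, .c1⟩) (@D3.rec (fun _ => Pt) ⟨.c8, .c14, .c13⟩ ⟨.c9, .c14, .c1⟩ ⟨.c10, .c13, .c3⟩ ⟨.c9, .c14, .c3⟩ ⟨.c10, .c13, .c5⟩ ⟨.c8, .c14, .c17⟩ ⟨.c9, .c14, .c6⟩ ⟨.c10, .c13, .c7⟩ ⟨.c9, .c0, .c1⟩ ⟨.c9, .c14, .c9⟩ ⟨.c9, .c14, .c10⟩ ⟨.c10, .c13, .c9⟩ ⟨.c9, .c14, .c12⟩ ⟨.c10, .c13, .c11⟩ ⟨.c9, .c0, .c7⟩ ⟨.c9, .c0, .c8⟩ ⟨.c9, .c1,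 .c10⟩ ⟨.c9, .c7, .c2⟩)
def f_h_10 : D2 → D3 → Pt := @D2.rec (fun _ => D3 → Pt) (@D3.rec (fun _ => Pt) ⟨.c9, .c1, .c14⟩ ⟨.c10, .c0, .c1⟩ ⟨.c10, .c13, .c17⟩ ⟨.c9, .c0, .c14⟩ ⟨.c9, .c0, .c17⟩ ⟨.c9, .c2, .c6⟩ ⟨.c10, .c14, .c0⟩ ⟨.c10, .c14, .c4⟩ ⟨.c10, .c0, .c8⟩ ⟨.c10, .c14, .c6⟩ ⟨.c9, .c1, .c2⟩ ⟨.c10, .c0, .c11⟩ ⟨.c10, .c14, .c8⟩ ⟨.c9, .c1, .c4⟩ ⟨.c9, .c1, .c6⟩ ⟨.c9, .c1, .c7⟩ ⟨.c10, .c14, .c9⟩ ⟨.c10, .c13, .c13⟩) (@D3.rec (fun _ => Pt) ⟨.c9, .c9, .c2⟩ ⟨.c9, .c1, .c13⟩ ⟨.c9, .c7, .c7⟩ ⟨.c9, .c2, .c10⟩ ⟨.c9, .c7, .c11⟩ ⟨.c9, .c2, .c8⟩ ⟨.c10, .c14, .c15⟩ ⟨.c11,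 .c0, .c4⟩ ⟨.c10, .c1, .c8⟩ ⟨.c11, .c0, .c7⟩ ⟨.c11, .c0, .c8⟩ ⟨.c9, .c2, .c0⟩ ⟨.c9, .c8, .c14⟩ ⟨.c9, .c2, .c11⟩ ⟨.c11, .c0, .c11⟩ ⟨.c9, .c7, .c8⟩ ⟨.c9, .c3, .c6⟩ ⟨.c11, .c0, .c1⟩) (@D3.rec (fun _ => Pt) ⟨.c11, .c0, .c16⟩ ⟨.c10, .c14, .c11⟩ ⟨.c10, .c14, .c17⟩ ⟨.c11, .c1, .c4⟩ ⟨.c11, .c0, .c9⟩ ⟨.c11, .c1, .c7⟩ ⟨.c9, .c2, .c12⟩ ⟨.c10, .c2, .c7⟩ ⟨.c11, .c1, .c10⟩ ⟨.c9, .c2, .c14⟩ ⟨.c10, .c2, .c10⟩ ⟨.c11, .c1, .c12⟩ ⟨.c9, .c2, .c16⟩ ⟨.c11, .c1, .c14⟩ ⟨.c9, .c3, .c1⟩ ⟨.c9, .c3, .c12⟩ ⟨.c10, .c12, .c2⟩ ⟨.c9, .c6, .c4⟩) (@D3.rec (fun _ => Pt) ⟨.c10, .c11, .c11⟩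 ⟨.c11, .c1, .c16⟩ ⟨.c10, .c3, .c2⟩ ⟨.c11, .c2, .c0⟩ ⟨.c9, .c3, .c16⟩ ⟨.c9, .c4, .c1⟩ ⟨.c9, .c5, .c10⟩ ⟨.c9, .c7, .c3⟩ ⟨.c9, .c5, .c13⟩ ⟨.c11, .c0, .c12⟩ ⟨.c11, .c2, .c5⟩ ⟨.c11, .c2, .c6⟩ ⟨.c10, .c3, .c12⟩ ⟨.c11, .c2, .c8⟩ ⟨.c9, .c4, .c7⟩ ⟨.c9, .c4, .c8⟩ ⟨.c10, .c3, .c16⟩ ⟨.c11, .c2, .c10⟩) (@D3.rec (fun _ => Pt) ⟨.c9, .c4, .c10⟩ ⟨.c9, .c7, .c15⟩ ⟨.c9, .c6, .c1⟩ ⟨.c9, .c4, .c17⟩ ⟨.c9, .c9, .c15⟩ ⟨.c9, .c4, .c15⟩ ⟨.c9, .c5, .c15⟩ ⟨.c9, .c8, .c6⟩ ⟨.c11, .c2, .c12⟩ ⟨.c9, .c5, .c12⟩ ⟨.c11, .c3, .c3⟩ ⟨.c9, .c7, .c6⟩ ⟨.c9, .c9, .c13⟩ ⟨.c10, .c4, .c13⟩ ⟨.c11,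 .c3, .c5⟩ ⟨.c11, .c3, .c6⟩ ⟨.c9, .c5, .c8⟩ ⟨.c9, .c5, .c14⟩) (@D3.rec (fun _ => Pt) ⟨.c11, .c3, .c9⟩ ⟨.c10, .c13, .c12⟩ ⟨.c10, .c14, .c10⟩ ⟨.c11, .c3, .c0⟩ ⟨.c11, .c3, .c13⟩ ⟨.c11, .c3, .c7⟩ ⟨.c11, .c2, .c16⟩ ⟨.c11, .c4, .c1⟩ ⟨.c11, .c2, .c14⟩ ⟨.c11, .c4, .c4⟩ ⟨.c9, .c5, .c16⟩ ⟨.c9, .c8, .c12⟩ ⟨.c10, .c10, .c9⟩ ⟨.c10, .c10, .c10⟩ ⟨.c11, .c4, .c6⟩ ⟨.c9, .c6, .c6⟩ ⟨.c10, .c5, .c16⟩ ⟨.c11, .c4, .c8⟩) (@D3.rec (fun _ => Pt) ⟨.c9, .c6, .c8⟩ ⟨.c11, .c4, .c10⟩ ⟨.c9, .c6, .c12⟩ ⟨.c11, .c4, .c11⟩ ⟨.c11, .c4, .c12⟩ ⟨.c11, .c4, .c13⟩ ⟨.c10, .c13, .c14⟩ ⟨.c11, .c4,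 .c15⟩ ⟨.c11, .c4, .c16⟩ ⟨.c9, .c7, .c4⟩ ⟨.c10, .c12, .c1⟩ ⟨.c11, .c5, .c0⟩ ⟨.c9, .c7, .c9⟩ ⟨.c10, .c14, .c12⟩ ⟨.c9, .c7, .c17⟩ ⟨.c9, .c8, .c0⟩ ⟨.c11, .c5, .c6⟩ ⟨.c9, .c8, .c2⟩) (@D3.rec (fun _ => Pt) ⟨.c11, .c5, .c8⟩ ⟨.c9, .c7, .c14⟩ ⟨.c10, .c10, .c8⟩ ⟨.c11, .c5, .c10⟩ ⟨.c9, .c7, .c16⟩ ⟨.c11, .c5, .c1⟩ ⟨.c11, .c5, .c2⟩ ⟨.c11, .c5, .c14⟩ ⟨.c11, .c5, .c4⟩ ⟨.c11, .c5, .c16⟩ ⟨.c9, .c8, .c1⟩ ⟨.c11, .c5, .c17⟩ ⟨.c9, .c8, .c3⟩ ⟨.c11, .c2, .c15⟩ ⟨.c10, .c11, .c2⟩ ⟨.c9, .c8, .c15⟩ ⟨.c10, .c11, .c15⟩ ⟨.c9, .c8, .c16⟩) (@D3.rec (fun _ => Pt) ⟨.c11, .c6, .c1⟩ ⟨.c9,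 .c9, .c0⟩ ⟨.c11, .c6, .c2⟩ ⟨.c9, .c9, .c4⟩ ⟨.c10, .c8, .c4⟩ ⟨.c11, .c6, .c4⟩ ⟨.c9, .c9, .c7⟩ ⟨.c11, .c6, .c5⟩ ⟨.c9, .c9, .c9⟩ ⟨.c9, .c9, .c11⟩ ⟨.c10, .c10, .c17⟩ ⟨.c10, .c8, .c11⟩ ⟨.c10, .c8, .c12⟩ ⟨.c11, .c6, .c9⟩ ⟨.c11, .c6, .c10⟩ ⟨.c10, .c8, .c15⟩ ⟨.c11, .c6, .c12⟩ ⟨.c9, .c10, .c3⟩) (@D3.rec (fun _ => Pt) ⟨.c11, .c6, .c13⟩ ⟨.c10, .c9, .c1⟩ ⟨.c11, .c6, .c15⟩ ⟨.c9, .c10, .c8⟩ ⟨.c10, .c9, .c4⟩ ⟨.c11, .c6, .c17⟩ ⟨.c9, .c10, .c10⟩ ⟨.c10, .c9, .c7⟩ ⟨.c11, .c7, .c2⟩ ⟨.c9, .c10, .c13⟩ ⟨.c10, .c9, .c10⟩ ⟨.c11, .c7, .c4⟩ ⟨.c9, .c10, .c15⟩ ⟨.c10, .c9, .c13⟩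 ⟨.c11, .c7, .c6⟩ ⟨.c9, .c10, .c17⟩ ⟨.c9, .c11, .c2⟩ ⟨.c9, .c12, .c17⟩) (@D3.rec (fun _ => Pt) ⟨.c11, .c7, .c8⟩ ⟨.c11, .c7, .c9⟩ ⟨.c11, .c7, .c14⟩ ⟨.c11, .c7, .c15⟩ ⟨.c9, .c11, .c5⟩ ⟨.c11, .c7, .c16⟩ ⟨.c9, .c11, .c8⟩ ⟨.c9, .c11, .c10⟩ ⟨.c10, .c7, .c2⟩ ⟨.c10, .c5, .c12⟩ ⟨.c10, .c5, .c13⟩ ⟨.c10, .c10, .c11⟩ ⟨.c11, .c8, .c5⟩ ⟨.c11, .c8, .c6⟩ ⟨.c9, .c11, .c16⟩ ⟨.c9, .c11, .c17⟩ ⟨.c9, .c12, .c3⟩ ⟨.c10, .c8, .c10⟩) (@D3.rec (fun _ => Pt) ⟨.c9, .c12, .c1⟩ ⟨.c11, .c8, .c7⟩ ⟨.c10, .c7, .c14⟩ ⟨.c11, .c8, .c9⟩ ⟨.c11, .c8, .c10⟩ ⟨.c11, .c9, .c0⟩ ⟨.c10, .c11, .c6⟩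 ⟨.c11, .c9, .c2⟩ ⟨.c9, .c12, .c7⟩ ⟨.c11, .c9, .c3⟩ ⟨.c9, .c12, .c9⟩ ⟨.c10, .c3, .c0⟩ ⟨.c11, .c9, .c4⟩ ⟨.c9, .c12, .c14⟩ ⟨.c9, .c13, .c1⟩ ⟨.c10, .c7, .c16⟩ ⟨.c9, .c13, .c3⟩ ⟨.c9, .c13, .c4⟩) (@D3.rec (fun _ => Pt) ⟨.c11, .c9, .c10⟩ ⟨.c10, .c6, .c10⟩ ⟨.c10, .c2, .c16⟩ ⟨.c11, .c9, .c13⟩ ⟨.c11, .c9, .c6⟩ ⟨.c11, .c9, .c16⟩ ⟨.c11, .c9, .c8⟩ ⟨.c11, .c10, .c1⟩ ⟨.c9, .c13, .c5⟩ ⟨.c9, .c13, .c6⟩ ⟨.c10, .c12, .c10⟩ ⟨.c11, .c10, .c3⟩ ⟨.c9, .c13, .c8⟩ ⟨.c11, .c10, .c5⟩ ⟨.c9, .c13, .c11⟩ ⟨.c11, .c10, .c6⟩ ⟨.c9, .c13, .c15⟩ ⟨.c10, .c12, .c17⟩) (@D3.rec (fun _ => Pt)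 ⟨.c11, .c10, .c8⟩ ⟨.c9, .c13, .c17⟩ ⟨.c11, .c10, .c10⟩ ⟨.c9, .c14, .c2⟩ ⟨.c11, .c10, .c11⟩ ⟨.c9, .c14, .c4⟩ ⟨.c11, .c10, .c12⟩ ⟨.c9, .c14, .c7⟩ ⟨.c11, .c10, .c13⟩ ⟨.c9, .c14, .c11⟩ ⟨.c11, .c10, .c14⟩ ⟨.c9, .c14, .c13⟩ ⟨.c10, .c5, .c1⟩ ⟨.c10, .c0, .c17⟩ ⟨.c10, .c6, .c6⟩ ⟨.c11, .c11, .c0⟩ ⟨.c11, .c11, .c1⟩ ⟨.c10, .c0, .c2⟩) (@D3.rec (fun _ => Pt) ⟨.c10, .c0, .c6⟩ ⟨.c11, .c11, .c3⟩ ⟨.c11, .c8, .c1⟩ ⟨.c11, .c11, .c5⟩ ⟨.c10, .c0, .c7⟩ ⟨.c11, .c11, .c6⟩ ⟨.c10, .c0, .c9⟩ ⟨.c11, .c11, .c8⟩ ⟨.c10, .c0, .c12⟩ ⟨.c10, .c0, .c16⟩ ⟨.c10, .c5, .c2⟩ ⟨.c10, .c2, .c1⟩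 ⟨.c10, .c6, .c13⟩ ⟨.c11, .c8, .c2⟩ ⟨.c11, .c11, .c12⟩ ⟨.c10, .c1, .c6⟩ ⟨.c11, .c11, .c14⟩ ⟨.c10, .c2, .c2⟩)
def f_h_11 : D2 → D3 → Pt := @D2.rec (fun _ => D3 → Pt) (@D3.rec (fun _ => Pt) ⟨.c11, .c11, .c17⟩ ⟨.c10, .c1, .c17⟩ ⟨.c11, .c12, .c1⟩ ⟨.c11, .c12, .c2⟩ ⟨.c10, .c1, .c7⟩ ⟨.c11, .c0, .c5⟩ ⟨.c11, .c12, .c4⟩ ⟨.c10, .c1, .c9⟩ ⟨.c10, .c1, .c10⟩ ⟨.c10, .c2, .c4⟩ ⟨.c11, .c12, .c8⟩ ⟨.c10, .c1, .c14⟩ ⟨.c10, .c3, .c9⟩ ⟨.c11, .c12, .c10⟩ ⟨.c11, .c7, .c11⟩ ⟨.c11, .c12, .c13⟩ ⟨.c10, .c2, .c0⟩ ⟨.c11, .c7, .c17⟩) (@D3.rec (fun _ => Pt) ⟨.c11, .c9, .c14⟩ ⟨.c11,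 .c12, .c17⟩ ⟨.c11, .c11, .c15⟩ ⟨.c11, .c13, .c2⟩ ⟨.c10, .c2, .c3⟩ ⟨.c11, .c12, .c6⟩ ⟨.c11, .c13, .c4⟩ ⟨.c10, .c2, .c5⟩ ⟨.c11, .c1, .c8⟩ ⟨.c11, .c13, .c7⟩ ⟨.c10, .c2, .c8⟩ ⟨.c11, .c13, .c9⟩ ⟨.c10, .c2, .c11⟩ ⟨.c11, .c13, .c5⟩ ⟨.c10, .c2, .c13⟩ ⟨.c11, .c8, .c13⟩ ⟨.c10, .c3, .c1⟩ ⟨.c11, .c13, .c12⟩) (@D3.rec (fun _ => Pt) ⟨.c10, .c3, .c3⟩ ⟨.c11, .c13, .c14⟩ ⟨.c11, .c13, .c15⟩ ⟨.c11, .c9, .c11⟩ ⟨.c11, .c13, .c17⟩ ⟨.c10, .c3, .c10⟩ ⟨.c10, .c3, .c11⟩ ⟨.c11, .c14, .c0⟩ ⟨.c10, .c3, .c13⟩ ⟨.c11, .c14, .c2⟩ ⟨.c10, .c3, .c17⟩ ⟨.c11, .c14, .c3⟩ ⟨.c10, .c4, .c8⟩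 ⟨.c11, .c14, .c5⟩ ⟨.c10, .c5, .c8⟩ ⟨.c10, .c7, .c13⟩ ⟨.c10, .c5, .c6⟩ ⟨.c11, .c14, .c8⟩) (@D3.rec (fun _ => Pt) ⟨.c10, .c5, .c3⟩ ⟨.c11, .c14, .c10⟩ ⟨.c11, .c14, .c11⟩ ⟨.c10, .c4, .c10⟩ ⟨.c11, .c14, .c12⟩ ⟨.c10, .c4, .c14⟩ ⟨.c10, .c4, .c15⟩ ⟨.c10, .c5, .c5⟩ ⟨.c11, .c14, .c15⟩ ⟨.c10, .c5, .c0⟩ ⟨.c11, .c8, .c16⟩ ⟨.c11, .c14, .c17⟩ ⟨.c12, .c0, .c0⟩ ⟨.c10, .c5, .c4⟩ ⟨.c11, .c12, .c15⟩ ⟨.c11, .c12, .c11⟩ ⟨.c12, .c0, .c3⟩ ⟨.c11, .c9, .c17⟩) (@D3.rec (fun _ => Pt) ⟨.c12, .c0, .c5⟩ ⟨.c10, .c5, .c7⟩ ⟨.c11, .c8, .c12⟩ ⟨.c12, .c0, .c8⟩ ⟨.c10, .c5, .c9⟩ ⟨.c11, .c8,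 .c0⟩ ⟨.c10, .c5, .c14⟩ ⟨.c12, .c0, .c10⟩ ⟨.c10, .c5, .c17⟩ ⟨.c12, .c0, .c6⟩ ⟨.c10, .c6, .c1⟩ ⟨.c10, .c6, .c3⟩ ⟨.c10, .c6, .c4⟩ ⟨.c10, .c6, .c5⟩ ⟨.c12, .c0, .c13⟩ ⟨.c10, .c6, .c7⟩ ⟨.c10, .c6, .c8⟩ ⟨.c12, .c0, .c14⟩) (@D3.rec (fun _ => Pt) ⟨.c10, .c6, .c11⟩ ⟨.c10, .c7, .c5⟩ ⟨.c10, .c7, .c6⟩ ⟨.c12, .c0, .c17⟩ ⟨.c10, .c7, .c8⟩ ⟨.c12, .c1, .c1⟩ ⟨.c10, .c6, .c16⟩ ⟨.c12, .c1, .c2⟩ ⟨.c10, .c7, .c0⟩ ⟨.c12, .c1, .c3⟩ ⟨.c10, .c7, .c3⟩ ⟨.c12, .c1, .c4⟩ ⟨.c11, .c13, .c0⟩ ⟨.c12, .c1, .c6⟩ ⟨.c10, .c7, .c7⟩ ⟨.c12, .c1, .c7⟩ ⟨.c10, .c7, .c9⟩ ⟨.c10, .c7, .c11⟩) (@D3.rec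 (fun _ => Pt) ⟨.c11, .c8, .c8⟩ ⟨.c10, .c8, .c0⟩ ⟨.c10, .c8, .c2⟩ ⟨.c12, .c1, .c9⟩ ⟨.c10, .c8, .c5⟩ ⟨.c10, .c8, .c7⟩ ⟨.c12, .c1, .c8⟩ ⟨.c12, .c1, .c12⟩ ⟨.c12, .c1, .c13⟩ ⟨.c10, .c8, .c13⟩ ⟨.c10, .c8, .c14⟩ ⟨.c12, .c1, .c14⟩ ⟨.c10, .c8, .c16⟩ ⟨.c10, .c9, .c0⟩ ⟨.c12, .c1, .c16⟩ ⟨.c10, .c9, .c2⟩ ⟨.c12, .c1, .c17⟩ ⟨.c10, .c9, .c5⟩) (@D3.rec (fun _ => Pt) ⟨.c11, .c7, .c0⟩ ⟨.c12, .c2, .c2⟩ ⟨.c10, .c9, .c8⟩ ⟨.c12, .c2, .c3⟩ ⟨.c10, .c9, .c11⟩ ⟨.c12, .c2, .c5⟩ ⟨.c10, .c9, .c14⟩ ⟨.c11, .c7, .c7⟩ ⟨.c10, .c10, .c0⟩ ⟨.c10, .c10, .c1⟩ ⟨.c12, .c2, .c10⟩ ⟨.c11, .c0,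 .c14⟩ ⟨.c12, .c2, .c12⟩ ⟨.c12, .c2, .c13⟩ ⟨.c10, .c10, .c2⟩ ⟨.c10, .c10, .c3⟩ ⟨.c10, .c10, .c5⟩ ⟨.c11, .c0, .c17⟩) (@D3.rec (fun _ => Pt) ⟨.c11, .c4, .c5⟩ ⟨.c10, .c14, .c2⟩ ⟨.c10, .c14, .c13⟩ ⟨.c12, .c3, .c1⟩ ⟨.c12, .c3, .c2⟩ ⟨.c10, .c10, .c12⟩ ⟨.c10, .c10, .c13⟩ ⟨.c10, .c11, .c1⟩ ⟨.c11, .c6, .c0⟩ ⟨.c10, .c11, .c3⟩ ⟨.c10, .c11, .c4⟩ ⟨.c12, .c3, .c6⟩ ⟨.c11, .c4, .c2⟩ ⟨.c11, .c1, .c15⟩ ⟨.c12, .c3, .c8⟩ ⟨.c12, .c3, .c9⟩ ⟨.c11, .c3, .c10⟩ ⟨.c12, .c3, .c11⟩) (@D3.rec (fun _ => Pt) ⟨.c10, .c11, .c5⟩ ⟨.c12, .c3, .c12⟩ ⟨.c10, .c11, .c7⟩ ⟨.c10, .c11, .c9⟩ ⟨.c10,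 .c11, .c12⟩ ⟨.c12, .c3, .c15⟩ ⟨.c10, .c12, .c4⟩ ⟨.c12, .c3, .c17⟩ ⟨.c10, .c12, .c6⟩ ⟨.c12, .c4, .c1⟩ ⟨.c10, .c12, .c0⟩ ⟨.c11, .c2, .c3⟩ ⟨.c12, .c4, .c3⟩ ⟨.c10, .c12, .c3⟩ ⟨.c11, .c1, .c0⟩ ⟨.c12, .c4, .c5⟩ ⟨.c10, .c12, .c5⟩ ⟨.c11, .c3, .c17⟩) (@D3.rec (fun _ => Pt) ⟨.c12, .c4, .c8⟩ ⟨.c10, .c12, .c7⟩ ⟨.c12, .c4, .c10⟩ ⟨.c10, .c12, .c11⟩ ⟨.c12, .c4, .c9⟩ ⟨.c10, .c12, .c13⟩ ⟨.c10, .c12, .c15⟩ ⟨.c12, .c4, .c13⟩ ⟨.c10, .c13, .c0⟩ ⟨.c12, .c4, .c6⟩ ⟨.c10, .c13, .c2⟩ ⟨.c10, .c13, .c4⟩ ⟨.c10, .c13, .c6⟩ ⟨.c10, .c13, .c8⟩ ⟨.c10, .c13, .c10⟩ ⟨.c11, .c10, .c15⟩ ⟨.c12,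 .c4, .c17⟩ ⟨.c12, .c5, .c0⟩) (@D3.rec (fun _ => Pt) ⟨.c10, .c13, .c15⟩ ⟨.c10, .c13, .c16⟩ ⟨.c12, .c5, .c2⟩ ⟨.c10, .c14, .c1⟩ ⟨.c12, .c5, .c3⟩ ⟨.c10, .c14, .c3⟩ ⟨.c10, .c14, .c5⟩ ⟨.c12, .c5, .c4⟩ ⟨.c10, .c14, .c7⟩ ⟨.c12, .c5, .c7⟩ ⟨.c12, .c5, .c8⟩ ⟨.c12, .c5, .c9⟩ ⟨.c10, .c14, .c14⟩ ⟨.c12, .c5, .c10⟩ ⟨.c10, .c14, .c16⟩ ⟨.c11, .c1, .c2⟩ ⟨.c12, .c5, .c12⟩ ⟨.c11, .c0, .c0⟩) (@D3.rec (fun _ => Pt) ⟨.c12, .c5, .c13⟩ ⟨.c11, .c0, .c2⟩ ⟨.c11, .c0, .c3⟩ ⟨.c12, .c5, .c15⟩ ⟨.c11, .c0, .c6⟩ ⟨.c12, .c5, .c14⟩ ⟨.c11, .c1, .c5⟩ ⟨.c12, .c6, .c1⟩ ⟨.c11, .c0, .c10⟩ ⟨.c12,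 .c6, .c3⟩ ⟨.c11, .c0, .c13⟩ ⟨.c11, .c3, .c15⟩ ⟨.c12, .c6, .c5⟩ ⟨.c11, .c0, .c15⟩ ⟨.c12, .c6, .c7⟩ ⟨.c11, .c3, .c14⟩ ⟨.c12, .c6, .c9⟩ ⟨.c11, .c1, .c1⟩) (@D3.rec (fun _ => Pt) ⟨.c11, .c5, .c12⟩ ⟨.c12, .c6, .c11⟩ ⟨.c11, .c1, .c3⟩ ⟨.c12, .c6, .c13⟩ ⟨.c11, .c1, .c6⟩ ⟨.c11, .c1, .c13⟩ ⟨.c12, .c6, .c16⟩ ⟨.c11, .c1, .c9⟩ ⟨.c12, .c6, .c6⟩ ⟨.c11, .c1, .c11⟩ ⟨.c12, .c6, .c14⟩ ⟨.c12, .c6, .c15⟩ ⟨.c11, .c1, .c17⟩ ⟨.c11, .c13, .c13⟩ ⟨.c11, .c2, .c1⟩ ⟨.c11, .c2, .c2⟩ ⟨.c12, .c7, .c4⟩ ⟨.c11, .c2, .c4⟩) (@D3.rec (fun _ => Pt) ⟨.c11, .c2, .c7⟩ ⟨.c12, .c7, .c5⟩ ⟨.c11,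 .c2, .c9⟩ ⟨.c11, .c2, .c11⟩ ⟨.c12, .c7, .c7⟩ ⟨.c11, .c2, .c13⟩ ⟨.c12, .c7, .c8⟩ ⟨.c12, .c7, .c9⟩ ⟨.c11, .c2, .c17⟩ ⟨.c12, .c7, .c10⟩ ⟨.c11, .c3, .c1⟩ ⟨.c11, .c3, .c2⟩ ⟨.c11, .c3, .c4⟩ ⟨.c12, .c7, .c11⟩ ⟨.c12, .c7, .c12⟩ ⟨.c11, .c3, .c8⟩ ⟨.c12, .c7, .c14⟩ ⟨.c11, .c3, .c11⟩)
def f_h_12 : D2 → D3 → Pt := @D2.rec (fun _ => D3 → Pt) (@D3.rec (fun _ => Pt) ⟨.c11, .c3, .c12⟩ ⟨.c12, .c7, .c16⟩ ⟨.c12, .c7, .c17⟩ ⟨.c11, .c3, .c16⟩ ⟨.c12, .c8, .c1⟩ ⟨.c11, .c4, .c0⟩ ⟨.c11, .c4, .c9⟩ ⟨.c12, .c8, .c4⟩ ⟨.c11, .c4, .c3⟩ ⟨.c12, .c7, .c15⟩ ⟨.c11, .c4, .c7⟩ ⟨.c12, .c8,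 .c0⟩ ⟨.c12, .c8, .c3⟩ ⟨.c11, .c4, .c14⟩ ⟨.c11, .c4, .c17⟩ ⟨.c12, .c8, .c6⟩ ⟨.c12, .c8, .c7⟩ ⟨.c11, .c5, .c3⟩) (@D3.rec (fun _ => Pt) ⟨.c12, .c8, .c8⟩ ⟨.c11, .c5, .c5⟩ ⟨.c11, .c5, .c7⟩ ⟨.c11, .c5, .c9⟩ ⟨.c11, .c5, .c11⟩ ⟨.c12, .c8, .c10⟩ ⟨.c11, .c5, .c13⟩ ⟨.c11, .c5, .c15⟩ ⟨.c11, .c6, .c6⟩ ⟨.c11, .c6, .c3⟩ ⟨.c12, .c8, .c11⟩ ⟨.c12, .c8, .c12⟩ ⟨.c11, .c6, .c7⟩ ⟨.c11, .c6, .c8⟩ ⟨.c11, .c6, .c11⟩ ⟨.c12, .c1, .c15⟩ ⟨.c11, .c6, .c14⟩ ⟨.c11, .c6, .c16⟩) (@D3.rec (fun _ => Pt) ⟨.c12, .c2, .c0⟩ ⟨.c12, .c2, .c1⟩ ⟨.c11, .c7, .c1⟩ ⟨.c11, .c7, .c3⟩ ⟨.c12, .c2, .c4⟩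 ⟨.c11, .c7, .c5⟩ ⟨.c12, .c2, .c6⟩ ⟨.c12, .c2, .c7⟩ ⟨.c12, .c9, .c3⟩ ⟨.c12, .c9, .c4⟩ ⟨.c11, .c7, .c10⟩ ⟨.c12, .c9, .c5⟩ ⟨.c11, .c7, .c12⟩ ⟨.c11, .c7, .c13⟩ ⟨.c12, .c9, .c7⟩ ⟨.c12, .c9, .c6⟩ ⟨.c12, .c9, .c10⟩ ⟨.c12, .c9, .c11⟩) (@D3.rec (fun _ => Pt) ⟨.c12, .c9, .c12⟩ ⟨.c11, .c8, .c3⟩ ⟨.c11, .c8, .c4⟩ ⟨.c12, .c9, .c14⟩ ⟨.c12, .c9, .c15⟩ ⟨.c12, .c9, .c16⟩ ⟨.c11, .c8, .c11⟩ ⟨.c12, .c9, .c17⟩ ⟨.c11, .c8, .c14⟩ ⟨.c11, .c8, .c15⟩ ⟨.c12, .c10, .c1⟩ ⟨.c11, .c8, .c17⟩ ⟨.c11, .c9, .c1⟩ ⟨.c12, .c10, .c2⟩ ⟨.c12, .c10, .c0⟩ ⟨.c11, .c9, .c5⟩ ⟨.c12, .c10, .c4⟩ ⟨.c11,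 .c9, .c7⟩) (@D3.rec (fun _ => Pt) ⟨.c12, .c10, .c6⟩ ⟨.c11, .c9, .c9⟩ ⟨.c12, .c10, .c8⟩ ⟨.c11, .c9, .c12⟩ ⟨.c12, .c10, .c9⟩ ⟨.c11, .c9, .c15⟩ ⟨.c11, .c10, .c9⟩ ⟨.c12, .c10, .c12⟩ ⟨.c11, .c10, .c0⟩ ⟨.c11, .c10, .c4⟩ ⟨.c11, .c10, .c2⟩ ⟨.c12, .c10, .c13⟩ ⟨.c12, .c10, .c14⟩ ⟨.c11, .c10, .c7⟩ ⟨.c12, .c10, .c10⟩ ⟨.c12, .c10, .c11⟩ ⟨.c12, .c4, .c16⟩ ⟨.c11, .c10, .c16⟩) (@D3.rec (fun _ => Pt) ⟨.c11, .c10, .c17⟩ ⟨.c12, .c11, .c1⟩ ⟨.c11, .c11, .c2⟩ ⟨.c11, .c11, .c4⟩ ⟨.c11, .c11, .c7⟩ ⟨.c12, .c11, .c3⟩ ⟨.c12, .c11, .c4⟩ ⟨.c11, .c11, .c9⟩ ⟨.c11, .c11, .c10⟩ ⟨.c11,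 .c11, .c11⟩ ⟨.c11, .c11, .c13⟩ ⟨.c12, .c11, .c7⟩ ⟨.c11, .c11, .c16⟩ ⟨.c11, .c12, .c0⟩ ⟨.c11, .c12, .c5⟩ ⟨.c11, .c12, .c3⟩ ⟨.c12, .c11, .c8⟩ ⟨.c12, .c11, .c10⟩) (@D3.rec (fun _ => Pt) ⟨.c12, .c11, .c11⟩ ⟨.c11, .c12, .c7⟩ ⟨.c12, .c6, .c2⟩ ⟨.c11, .c12, .c9⟩ ⟨.c12, .c11, .c15⟩ ⟨.c11, .c12, .c12⟩ ⟨.c11, .c13, .c8⟩ ⟨.c11, .c12, .c14⟩ ⟨.c12, .c12, .c0⟩ ⟨.c11, .c12, .c16⟩ ⟨.c12, .c12, .c2⟩ ⟨.c11, .c13, .c1⟩ ⟨.c12, .c6, .c12⟩ ⟨.c11, .c13, .c3⟩ ⟨.c11, .c13, .c10⟩ ⟨.c11, .c13, .c11⟩ ⟨.c11, .c13, .c6⟩ ⟨.c12, .c11, .c16⟩) (@D3.rec (fun _ => Pt) ⟨.c12, .c11, .c17⟩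 ⟨.c12, .c12, .c5⟩ ⟨.c12, .c12, .c6⟩ ⟨.c12, .c7, .c3⟩ ⟨.c11, .c13, .c16⟩ ⟨.c11, .c14, .c1⟩ ⟨.c12, .c12, .c9⟩ ⟨.c11, .c14, .c4⟩ ⟨.c11, .c14, .c6⟩ ⟨.c11, .c14, .c7⟩ ⟨.c11, .c14, .c9⟩ ⟨.c11, .c14, .c13⟩ ⟨.c11, .c14, .c14⟩ ⟨.c12, .c7, .c13⟩ ⟨.c11, .c14, .c16⟩ ⟨.c12, .c0, .c9⟩ ⟨.c12, .c0, .c1⟩ ⟨.c12, .c0, .c2⟩) (@D3.rec (fun _ => Pt) ⟨.c12, .c0, .c11⟩ ⟨.c12, .c0, .c4⟩ ⟨.c12, .c8, .c2⟩ ⟨.c12, .c0, .c12⟩ ⟨.c12, .c0, .c7⟩ ⟨.c12, .c8, .c5⟩ ⟨.c12, .c0, .c15⟩ ⟨.c12, .c0, .c16⟩ ⟨.c12, .c1, .c0⟩ ⟨.c12, .c8, .c9⟩ ⟨.c12, .c1, .c5⟩ ⟨.c12, .c1, .c10⟩ ⟨.c12, .c1, .c11⟩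 ⟨.c12, .c13, .c0⟩ ⟨.c12, .c13, .c1⟩ ⟨.c12, .c8, .c15⟩ ⟨.c12, .c8, .c16⟩ ⟨.c12, .c8, .c17⟩) (@D3.rec (fun _ => Pt) ⟨.c12, .c9, .c0⟩ ⟨.c12, .c9, .c1⟩ ⟨.c12, .c9, .c2⟩ ⟨.c12, .c2, .c8⟩ ⟨.c12, .c2, .c9⟩ ⟨.c12, .c2, .c11⟩ ⟨.c12, .c2, .c15⟩ ⟨.c12, .c2, .c14⟩ ⟨.c12, .c13, .c6⟩ ⟨.c12, .c13, .c5⟩ ⟨.c12, .c2, .c16⟩ ⟨.c12, .c2, .c17⟩ ⟨.c12, .c3, .c0⟩ ⟨.c12, .c13, .c9⟩ ⟨.c12, .c3, .c3⟩ ⟨.c12, .c3, .c4⟩ ⟨.c12, .c3, .c5⟩ ⟨.c12, .c3, .c7⟩) (@D3.rec (fun _ => Pt) ⟨.c12, .c3, .c14⟩ ⟨.c12, .c3, .c10⟩ ⟨.c12, .c3, .c13⟩ ⟨.c12, .c13, .c12⟩ ⟨.c12, .c3, .c16⟩ ⟨.c12, .c10,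 .c5⟩ ⟨.c12, .c4, .c0⟩ ⟨.c12, .c10, .c7⟩ ⟨.c12, .c4, .c2⟩ ⟨.c12, .c4, .c4⟩ ⟨.c12, .c4, .c14⟩ ⟨.c12, .c4, .c15⟩ ⟨.c12, .c4, .c7⟩ ⟨.c12, .c4, .c11⟩ ⟨.c12, .c4, .c12⟩ ⟨.c12, .c14, .c1⟩ ⟨.c12, .c14, .c0⟩ ⟨.c12, .c14, .c3⟩) (@D3.rec (fun _ => Pt) ⟨.c12, .c14, .c2⟩ ⟨.c12, .c5, .c1⟩ ⟨.c12, .c11, .c2⟩ ⟨.c12, .c5, .c5⟩ ⟨.c12, .c5, .c6⟩ ⟨.c12, .c11, .c5⟩ ⟨.c12, .c11, .c6⟩ ⟨.c12, .c5, .c11⟩ ⟨.c12, .c5, .c16⟩ ⟨.c12, .c11, .c9⟩ ⟨.c12, .c5, .c17⟩ ⟨.c12, .c6, .c0⟩ ⟨.c12, .c11, .c12⟩ ⟨.c12, .c11, .c13⟩ ⟨.c12, .c11, .c14⟩ ⟨.c12, .c6, .c4⟩ ⟨.c12, .c6, .c17⟩ ⟨.c12, .c7,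 .c0⟩) (@D3.rec (fun _ => Pt) ⟨.c12, .c6, .c8⟩ ⟨.c12, .c12, .c1⟩ ⟨.c12, .c6, .c10⟩ ⟨.c12, .c12, .c3⟩ ⟨.c12, .c12, .c4⟩ ⟨.c12, .c7, .c1⟩ ⟨.c12, .c7, .c2⟩ ⟨.c12, .c14, .c8⟩ ⟨.c12, .c14, .c9⟩ ⟨.c12, .c7, .c6⟩ ⟨.c12, .c12, .c10⟩ ⟨.c12, .c12, .c11⟩ ⟨.c12, .c12, .c12⟩ ⟨.c12, .c12, .c13⟩ ⟨.c12, .c12, .c14⟩ ⟨.c12, .c12, .c15⟩ ⟨.c12, .c12, .c16⟩ ⟨.c12, .c12, .c17⟩) (@D3.rec (fun _ => Pt) ⟨.c12, .c8, .c13⟩ ⟨.c12, .c8, .c14⟩ ⟨.c12, .c13, .c2⟩ ⟨.c12, .c13, .c3⟩ ⟨.c12, .c13, .c4⟩ ⟨.c12, .c9, .c9⟩ ⟨.c12, .c9, .c8⟩ ⟨.c12, .c14, .c17⟩ ⟨.c12, .c13, .c8⟩ ⟨.c12, .c9, .c13⟩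 ⟨.c12, .c13, .c10⟩ ⟨.c12, .c13, .c11⟩ ⟨.c12, .c10, .c3⟩ ⟨.c12, .c13, .c13⟩ ⟨.c12, .c13, .c14⟩ ⟨.c12, .c13, .c15⟩ ⟨.c12, .c13, .c16⟩ ⟨.c12, .c13, .c17⟩) (@D3.rec (fun _ => Pt) ⟨.c12, .c10, .c16⟩ ⟨.c12, .c10, .c15⟩ ⟨.c12, .c11, .c0⟩ ⟨.c12, .c10, .c17⟩ ⟨.c12, .c14, .c4⟩ ⟨.c12, .c14, .c5⟩ ⟨.c12, .c14, .c6⟩ ⟨.c12, .c14, .c7⟩ ⟨.c12, .c12, .c7⟩ ⟨.c12, .c12, .c8⟩ ⟨.c12, .c14, .c10⟩ ⟨.c12, .c14, .c11⟩ ⟨.c12, .c14, .c12⟩ ⟨.c12, .c14, .c13⟩ ⟨.c12, .c14, .c14⟩ ⟨.c12, .c14, .c15⟩ ⟨.c12, .c14, .c16⟩ ⟨.c12, .c13, .c7⟩)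
def f_h : Pt → Pt := @Pt.rec (fun _ => Pt) (@D1.rec (fun _ => D2 → D3 → Pt) f_h_0 f_h_1 f_h_2 f_h_3 f_h_4 f_h_5 f_h_6 f_h_7 f_h_8 f_h_9 f_h_10 f_h_11 f_h_12)
def fi_h : Pt → Pt := f_h
def f_i_0 : D2 → D3 → Pt := @D2.rec (fun _ => D3 → Pt) (@D3.rec (fun _ => Pt) ⟨.c0, .c0, .c0⟩ ⟨.c0, .c0, .c1⟩ ⟨.c0, .c0, .c2⟩ ⟨.c0, .c0, .c3⟩ ⟨.c0, .c0, .c4⟩ ⟨.c0, .c0, .c5⟩ ⟨.c0, .c0, .c6⟩ ⟨.c0, .c0, .c7⟩ ⟨.c0, .c0, .c8⟩ ⟨.c0, .c0, .c15⟩ ⟨.c0, .c0, .c10⟩ ⟨.c0, .c0, .c11⟩ ⟨.c0, .c1, .c3⟩ ⟨.c0, .c0, .c13⟩ ⟨.c0, .c1, .c7⟩ ⟨.c0, .c0, .c9⟩ ⟨.c0, .c0, .c16⟩ ⟨.c0, .c0, .c17⟩)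 (@D3.rec (fun _ => Pt) ⟨.c0, .c1, .c12⟩ ⟨.c0, .c1, .c1⟩ ⟨.c0, .c1, .c16⟩ ⟨.c0, .c0, .c12⟩ ⟨.c0, .c1, .c4⟩ ⟨.c0, .c2, .c1⟩ ⟨.c0, .c2, .c3⟩ ⟨.c0, .c0, .c14⟩ ⟨.c0, .c1, .c8⟩ ⟨.c0, .c2, .c8⟩ ⟨.c0, .c1, .c10⟩ ⟨.c0, .c2, .c12⟩ ⟨.c0, .c1, .c0⟩ ⟨.c0, .c1, .c13⟩ ⟨.c0, .c2, .c15⟩ ⟨.c0, .c2, .c17⟩ ⟨.c0, .c1, .c2⟩ ⟨.c0, .c3, .c1⟩) (@D3.rec (fun _ => Pt) ⟨.c0, .c3, .c4⟩ ⟨.c0, .c1, .c5⟩ ⟨.c0, .c3, .c6⟩ ⟨.c0, .c1, .c6⟩ ⟨.c0, .c2, .c4⟩ ⟨.c0, .c2, .c5⟩ ⟨.c0, .c3, .c11⟩ ⟨.c0, .c3, .c12⟩ ⟨.c0, .c1, .c9⟩ ⟨.c0, .c2, .c9⟩ ⟨.c0, .c3, .c15⟩ ⟨.c0, .c3, .c16⟩ ⟨.c0, .c1, .c11⟩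 ⟨.c0, .c4, .c0⟩ ⟨.c0, .c4, .c3⟩ ⟨.c0, .c1, .c14⟩ ⟨.c0, .c4, .c4⟩ ⟨.c0, .c1, .c15⟩) (@D3.rec (fun _ => Pt) ⟨.c0, .c4, .c8⟩ ⟨.c0, .c1, .c17⟩ ⟨.c0, .c4, .c11⟩ ⟨.c0, .c4, .c12⟩ ⟨.c0, .c2, .c0⟩ ⟨.c0, .c4, .c14⟩ ⟨.c0, .c2, .c2⟩ ⟨.c0, .c3, .c7⟩ ⟨.c0, .c3, .c8⟩ ⟨.c0, .c3, .c9⟩ ⟨.c0, .c5, .c1⟩ ⟨.c0, .c2, .c6⟩ ⟨.c0, .c2, .c7⟩ ⟨.c0, .c5, .c4⟩ ⟨.c0, .c5, .c6⟩ ⟨.c0, .c2, .c10⟩ ⟨.c0, .c2, .c11⟩ ⟨.c0, .c5, .c10⟩) (@D3.rec (fun _ => Pt) ⟨.c0, .c2, .c13⟩ ⟨.c0, .c5, .c12⟩ ⟨.c0, .c5, .c13⟩ ⟨.c0, .c2, .c14⟩ ⟨.c0, .c2, .c16⟩ ⟨.c0, .c4, .c5⟩ ⟨.c0, .c6, .c0⟩ ⟨.c0, .c6, .c2⟩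 ⟨.c0, .c3, .c0⟩ ⟨.c0, .c6, .c5⟩ ⟨.c0, .c6, .c7⟩ ⟨.c0, .c3, .c2⟩ ⟨.c0, .c3, .c3⟩ ⟨.c0, .c4, .c13⟩ ⟨.c0, .c3, .c5⟩ ⟨.c0, .c4, .c15⟩ ⟨.c0, .c4, .c16⟩ ⟨.c0, .c4, .c17⟩) (@D3.rec (fun _ => Pt) ⟨.c0, .c6, .c13⟩ ⟨.c0, .c3, .c10⟩ ⟨.c0, .c5, .c2⟩ ⟨.c0, .c6, .c15⟩ ⟨.c0, .c3, .c13⟩ ⟨.c0, .c6, .c16⟩ ⟨.c0, .c3, .c14⟩ ⟨.c0, .c5, .c7⟩ ⟨.c0, .c7, .c1⟩ ⟨.c0, .c7, .c3⟩ ⟨.c0, .c3, .c17⟩ ⟨.c0, .c7, .c6⟩ ⟨.c0, .c4, .c1⟩ ⟨.c0, .c4, .c2⟩ ⟨.c0, .c5, .c14⟩ ⟨.c0, .c5, .c15⟩ ⟨.c0, .c7, .c11⟩ ⟨.c0, .c7, .c14⟩) (@D3.rec (fun _ => Pt) ⟨.c0, .c4, .c6⟩ ⟨.c0, .c7, .c16⟩ ⟨.c0, .c4, .c7⟩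 ⟨.c0, .c6, .c3⟩ ⟨.c0, .c8, .c1⟩ ⟨.c0, .c4, .c9⟩ ⟨.c0, .c8, .c4⟩ ⟨.c0, .c4, .c10⟩ ⟨.c0, .c6, .c8⟩ ⟨.c0, .c6, .c9⟩ ⟨.c0, .c6, .c10⟩ ⟨.c0, .c6, .c11⟩ ⟨.c0, .c6, .c12⟩ ⟨.c0, .c5, .c0⟩ ⟨.c0, .c8, .c12⟩ ⟨.c0, .c5, .c3⟩ ⟨.c0, .c5, .c5⟩ ⟨.c0, .c6, .c17⟩) (@D3.rec (fun _ => Pt) ⟨.c0, .c8, .c17⟩ ⟨.c0, .c5, .c8⟩ ⟨.c0, .c9, .c1⟩ ⟨.c0, .c5, .c9⟩ ⟨.c0, .c7, .c4⟩ ⟨.c0, .c9, .c4⟩ ⟨.c0, .c5, .c11⟩ ⟨.c0, .c7, .c7⟩ ⟨.c0, .c7, .c8⟩ ⟨.c0, .c7, .c9⟩ ⟨.c0, .c9, .c11⟩ ⟨.c0, .c5, .c16⟩ ⟨.c0, .c9, .c15⟩ ⟨.c0, .c9, .c16⟩ ⟨.c0, .c5, .c17⟩ ⟨.c0, .c7, .c15⟩ ⟨.c0, .c6, .c1⟩ ⟨.c0,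 .c7, .c17⟩) (@D3.rec (fun _ => Pt) ⟨.c0, .c10, .c5⟩ ⟨.c0, .c6, .c4⟩ ⟨.c0, .c8, .c2⟩ ⟨.c0, .c10, .c8⟩ ⟨.c0, .c6, .c6⟩ ⟨.c0, .c8, .c5⟩ ⟨.c0, .c8, .c6⟩ ⟨.c0, .c8, .c7⟩ ⟨.c0, .c8, .c8⟩ ⟨.c0, .c8, .c9⟩ ⟨.c0, .c8, .c10⟩ ⟨.c0, .c10, .c16⟩ ⟨.c0, .c6, .c14⟩ ⟨.c0, .c8, .c13⟩ ⟨.c0, .c8, .c14⟩ ⟨.c0, .c11, .c3⟩ ⟨.c0, .c11, .c4⟩ ⟨.c0, .c7, .c0⟩) (@D3.rec (fun _ => Pt) ⟨.c0, .c9, .c0⟩ ⟨.c0, .c7, .c2⟩ ⟨.c0, .c9, .c2⟩ ⟨.c0, .c11, .c9⟩ ⟨.c0, .c7, .c5⟩ ⟨.c0, .c9, .c5⟩ ⟨.c0, .c9, .c6⟩ ⟨.c0, .c9, .c7⟩ ⟨.c0, .c9, .c8⟩ ⟨.c0, .c12, .c0⟩ ⟨.c0, .c12, .c1⟩ ⟨.c0, .c7, .c10⟩ ⟨.c0,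 .c9, .c12⟩ ⟨.c0, .c12, .c6⟩ ⟨.c0, .c12, .c7⟩ ⟨.c0, .c7, .c12⟩ ⟨.c0, .c7, .c13⟩ ⟨.c0, .c9, .c17⟩) (@D3.rec (fun _ => Pt) ⟨.c0, .c10, .c0⟩ ⟨.c0, .c10, .c1⟩ ⟨.c0, .c10, .c2⟩ ⟨.c0, .c12, .c15⟩ ⟨.c0, .c12, .c16⟩ ⟨.c0, .c8, .c0⟩ ⟨.c0, .c10, .c6⟩ ⟨.c0, .c10, .c7⟩ ⟨.c0, .c8, .c3⟩ ⟨.c0, .c13, .c3⟩ ⟨.c0, .c10, .c10⟩ ⟨.c0, .c10, .c11⟩ ⟨.c0, .c10, .c12⟩ ⟨.c0, .c10, .c13⟩ ⟨.c0, .c10, .c14⟩ ⟨.c0, .c10, .c15⟩ ⟨.c0, .c8, .c11⟩ ⟨.c0, .c10, .c17⟩) (@D3.rec (fun _ => Pt) ⟨.c0, .c11, .c0⟩ ⟨.c0, .c13, .c17⟩ ⟨.c0, .c14, .c0⟩ ⟨.c0, .c8, .c15⟩ ⟨.c0, .c8, .c16⟩ ⟨.c0, .c11, .c5⟩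 ⟨.c0, .c11, .c6⟩ ⟨.c0, .c11, .c7⟩ ⟨.c0, .c11, .c8⟩ ⟨.c0, .c9, .c3⟩ ⟨.c0, .c14, .c7⟩ ⟨.c0, .c11, .c11⟩ ⟨.c0, .c11, .c12⟩ ⟨.c0, .c11, .c13⟩ ⟨.c0, .c11, .c14⟩ ⟨.c0, .c14, .c16⟩ ⟨.c1, .c0, .c1⟩ ⟨.c1, .c0, .c2⟩) (@D3.rec (fun _ => Pt) ⟨.c0, .c9, .c9⟩ ⟨.c0, .c9, .c10⟩ ⟨.c0, .c12, .c2⟩ ⟨.c0, .c12, .c3⟩ ⟨.c1, .c0, .c9⟩ ⟨.c1, .c0, .c10⟩ ⟨.c0, .c9, .c13⟩ ⟨.c0, .c9, .c14⟩ ⟨.c1, .c0, .c12⟩ ⟨.c0, .c12, .c9⟩ ⟨.c0, .c12, .c10⟩ ⟨.c0, .c12, .c11⟩ ⟨.c0, .c12, .c12⟩ ⟨.c0, .c12, .c13⟩ ⟨.c1, .c1, .c4⟩ ⟨.c0, .c10, .c3⟩ ⟨.c0, .c10, .c4⟩ ⟨.c1, .c1, .c6⟩) (@D3.rec (fun _ =>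 Pt) ⟨.c0, .c13, .c0⟩ ⟨.c0, .c13, .c1⟩ ⟨.c0, .c13, .c2⟩ ⟨.c0, .c10, .c9⟩ ⟨.c1, .c1, .c12⟩ ⟨.c0, .c13, .c5⟩ ⟨.c0, .c13, .c6⟩ ⟨.c0, .c13, .c7⟩ ⟨.c0, .c13, .c8⟩ ⟨.c0, .c13, .c9⟩ ⟨.c0, .c13, .c10⟩ ⟨.c0, .c13, .c11⟩ ⟨.c0, .c13, .c12⟩ ⟨.c0, .c13, .c13⟩ ⟨.c0, .c13, .c14⟩ ⟨.c1, .c2, .c9⟩ ⟨.c1, .c2, .c10⟩ ⟨.c0, .c11, .c1⟩) (@D3.rec (fun _ => Pt) ⟨.c0, .c11, .c2⟩ ⟨.c1, .c2, .c12⟩ ⟨.c0, .c14, .c2⟩ ⟨.c0, .c14, .c3⟩ ⟨.c0, .c14, .c4⟩ ⟨.c0, .c14, .c5⟩ ⟨.c0, .c14, .c6⟩ ⟨.c0, .c11, .c10⟩ ⟨.c1, .c3, .c3⟩ ⟨.c0, .c14, .c9⟩ ⟨.c0, .c14, .c10⟩ ⟨.c0, .c14, .c11⟩ ⟨.c0, .c14,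 .c12⟩ ⟨.c0, .c14, .c13⟩ ⟨.c1, .c3, .c13⟩ ⟨.c1, .c3, .c15⟩ ⟨.c0, .c11, .c15⟩ ⟨.c1, .c4, .c0⟩)
def f_i_1 : D2 → D3 → Pt := @D2.rec (fun _ => D3 → Pt) (@D3.rec (fun _ => Pt) ⟨.c1, .c4, .c1⟩ ⟨.c0, .c11, .c16⟩ ⟨.c0, .c11, .c17⟩ ⟨.c1, .c4, .c3⟩ ⟨.c1, .c0, .c4⟩ ⟨.c1, .c0, .c5⟩ ⟨.c1, .c0, .c6⟩ ⟨.c1, .c0, .c7⟩ ⟨.c1, .c4, .c11⟩ ⟨.c0, .c12, .c4⟩ ⟨.c0, .c12, .c5⟩ ⟨.c1, .c4, .c13⟩ ⟨.c0, .c12, .c8⟩ ⟨.c1, .c4, .c15⟩ ⟨.c1, .c0, .c14⟩ ⟨.c1, .c0, .c15⟩ ⟨.c1, .c0, .c16⟩ ⟨.c1, .c0, .c17⟩) (@D3.rec (fun _ => Pt) ⟨.c1, .c1, .c0⟩ ⟨.c1, .c1, .c1⟩ ⟨.c1, .c1, .c2⟩ ⟨.c1, .c5,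 .c10⟩ ⟨.c0, .c12, .c14⟩ ⟨.c1, .c5, .c11⟩ ⟨.c0, .c12, .c17⟩ ⟨.c1, .c5, .c13⟩ ⟨.c1, .c1, .c8⟩ ⟨.c1, .c1, .c9⟩ ⟨.c1, .c1, .c10⟩ ⟨.c1, .c1, .c11⟩ ⟨.c0, .c13, .c4⟩ ⟨.c1, .c6, .c4⟩ ⟨.c1, .c6, .c5⟩ ⟨.c1, .c1, .c15⟩ ⟨.c1, .c1, .c16⟩ ⟨.c1, .c1, .c17⟩) (@D3.rec (fun _ => Pt) ⟨.c1, .c2, .c0⟩ ⟨.c1, .c2, .c1⟩ ⟨.c1, .c2, .c2⟩ ⟨.c1, .c2, .c3⟩ ⟨.c1, .c2, .c4⟩ ⟨.c1, .c2, .c5⟩ ⟨.c1, .c2, .c6⟩ ⟨.c1, .c2, .c7⟩ ⟨.c1, .c7, .c3⟩ ⟨.c0, .c13, .c15⟩ ⟨.c0, .c13, .c16⟩ ⟨.c1, .c7, .c5⟩ ⟨.c0, .c14, .c1⟩ ⟨.c1, .c7, .c7⟩ ⟨.c1, .c2, .c14⟩ ⟨.c1, .c2, .c15⟩ ⟨.c1, .c2, .c16⟩ ⟨.c1, .c2,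 .c17⟩) (@D3.rec (fun _ => Pt) ⟨.c1, .c3, .c0⟩ ⟨.c1, .c3, .c1⟩ ⟨.c1, .c3, .c2⟩ ⟨.c0, .c14, .c8⟩ ⟨.c1, .c8, .c1⟩ ⟨.c1, .c8, .c2⟩ ⟨.c1, .c3, .c6⟩ ⟨.c1, .c3, .c7⟩ ⟨.c1, .c3, .c8⟩ ⟨.c1, .c3, .c9⟩ ⟨.c1, .c3, .c10⟩ ⟨.c1, .c8, .c12⟩ ⟨.c1, .c8, .c14⟩ ⟨.c0, .c14, .c14⟩ ⟨.c1, .c8, .c17⟩ ⟨.c0, .c14, .c15⟩ ⟨.c1, .c9, .c0⟩ ⟨.c1, .c9, .c3⟩) (@D3.rec (fun _ => Pt) ⟨.c0, .c14, .c17⟩ ⟨.c1, .c0, .c0⟩ ⟨.c1, .c9, .c5⟩ ⟨.c1, .c0, .c3⟩ ⟨.c1, .c9, .c7⟩ ⟨.c1, .c4, .c5⟩ ⟨.c1, .c4, .c6⟩ ⟨.c1, .c4, .c7⟩ ⟨.c1, .c4, .c8⟩ ⟨.c1, .c4, .c9⟩ ⟨.c1, .c10, .c1⟩ ⟨.c1, .c0, .c8⟩ ⟨.c1, .c10,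 .c2⟩ ⟨.c1, .c0, .c11⟩ ⟨.c1, .c10, .c4⟩ ⟨.c1, .c0, .c13⟩ ⟨.c1, .c10, .c7⟩ ⟨.c1, .c10, .c8⟩) (@D3.rec (fun _ => Pt) ⟨.c1, .c5, .c0⟩ ⟨.c1, .c5, .c1⟩ ⟨.c1, .c5, .c2⟩ ⟨.c1, .c5, .c3⟩ ⟨.c1, .c5, .c4⟩ ⟨.c1, .c5, .c5⟩ ⟨.c1, .c5, .c6⟩ ⟨.c1, .c5, .c7⟩ ⟨.c1, .c5, .c8⟩ ⟨.c1, .c11, .c5⟩ ⟨.c1, .c1, .c3⟩ ⟨.c1, .c1, .c5⟩ ⟨.c1, .c11, .c7⟩ ⟨.c1, .c1, .c7⟩ ⟨.c1, .c11, .c10⟩ ⟨.c1, .c11, .c11⟩ ⟨.c1, .c5, .c16⟩ ⟨.c1, .c5, .c17⟩) (@D3.rec (fun _ => Pt) ⟨.c1, .c6, .c0⟩ ⟨.c1, .c6, .c1⟩ ⟨.c1, .c6, .c2⟩ ⟨.c1, .c6, .c3⟩ ⟨.c1, .c1, .c13⟩ ⟨.c1, .c1, .c14⟩ ⟨.c1, .c12, .c5⟩ ⟨.c1, .c12,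 .c6⟩ ⟨.c1, .c12, .c7⟩ ⟨.c1, .c6, .c9⟩ ⟨.c1, .c6, .c10⟩ ⟨.c1, .c6, .c11⟩ ⟨.c1, .c6, .c12⟩ ⟨.c1, .c6, .c13⟩ ⟨.c1, .c11, .c4⟩ ⟨.c1, .c6, .c15⟩ ⟨.c1, .c6, .c16⟩ ⟨.c1, .c6, .c17⟩) (@D3.rec (fun _ => Pt) ⟨.c1, .c7, .c0⟩ ⟨.c1, .c7, .c1⟩ ⟨.c1, .c13, .c3⟩ ⟨.c1, .c2, .c8⟩ ⟨.c1, .c13, .c4⟩ ⟨.c1, .c2, .c11⟩ ⟨.c1, .c13, .c6⟩ ⟨.c1, .c2, .c13⟩ ⟨.c1, .c13, .c9⟩ ⟨.c1, .c13, .c10⟩ ⟨.c1, .c7, .c10⟩ ⟨.c1, .c7, .c11⟩ ⟨.c1, .c7, .c12⟩ ⟨.c1, .c7, .c13⟩ ⟨.c1, .c7, .c14⟩ ⟨.c1, .c7, .c15⟩ ⟨.c1, .c7, .c16⟩ ⟨.c1, .c7, .c17⟩) (@D3.rec (fun _ => Pt) ⟨.c1, .c8, .c0⟩ ⟨.c1, .c3, .c4⟩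 ⟨.c1, .c3, .c5⟩ ⟨.c1, .c14, .c6⟩ ⟨.c1, .c14, .c7⟩ ⟨.c1, .c14, .c8⟩ ⟨.c1, .c8, .c6⟩ ⟨.c1, .c8, .c7⟩ ⟨.c1, .c8, .c8⟩ ⟨.c1, .c8, .c9⟩ ⟨.c1, .c14, .c17⟩ ⟨.c2, .c0, .c0⟩ ⟨.c1, .c3, .c11⟩ ⟨.c2, .c0, .c2⟩ ⟨.c1, .c3, .c12⟩ ⟨.c2, .c0, .c3⟩ ⟨.c2, .c0, .c5⟩ ⟨.c1, .c3, .c14⟩) (@D3.rec (fun _ => Pt) ⟨.c1, .c3, .c16⟩ ⟨.c2, .c0, .c7⟩ ⟨.c2, .c0, .c10⟩ ⟨.c1, .c3, .c17⟩ ⟨.c2, .c0, .c11⟩ ⟨.c1, .c4, .c2⟩ ⟨.c2, .c0, .c13⟩ ⟨.c1, .c4, .c4⟩ ⟨.c2, .c0, .c16⟩ ⟨.c2, .c0, .c17⟩ ⟨.c1, .c9, .c10⟩ ⟨.c1, .c9, .c11⟩ ⟨.c1, .c9, .c12⟩ ⟨.c1, .c9, .c13⟩ ⟨.c1, .c9, .c14⟩ ⟨.c1, .c9, .c15⟩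 ⟨.c1, .c9, .c16⟩ ⟨.c1, .c9, .c17⟩) (@D3.rec (fun _ => Pt) ⟨.c2, .c1, .c14⟩ ⟨.c1, .c4, .c10⟩ ⟨.c1, .c4, .c12⟩ ⟨.c2, .c1, .c16⟩ ⟨.c1, .c4, .c14⟩ ⟨.c2, .c2, .c1⟩ ⟨.c2, .c2, .c2⟩ ⟨.c1, .c4, .c16⟩ ⟨.c1, .c4, .c17⟩ ⟨.c2, .c2, .c6⟩ ⟨.c2, .c2, .c7⟩ ⟨.c2, .c2, .c8⟩ ⟨.c1, .c10, .c12⟩ ⟨.c1, .c10, .c13⟩ ⟨.c1, .c10, .c14⟩ ⟨.c1, .c10, .c15⟩ ⟨.c1, .c10, .c16⟩ ⟨.c1, .c10, .c17⟩) (@D3.rec (fun _ => Pt) ⟨.c1, .c11, .c0⟩ ⟨.c1, .c11, .c1⟩ ⟨.c1, .c11, .c2⟩ ⟨.c1, .c11, .c3⟩ ⟨.c1, .c6, .c14⟩ ⟨.c1, .c5, .c9⟩ ⟨.c1, .c11, .c6⟩ ⟨.c1, .c5, .c12⟩ ⟨.c2, .c3, .c8⟩ ⟨.c2, .c3, .c9⟩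 ⟨.c1, .c5, .c14⟩ ⟨.c1, .c5, .c15⟩ ⟨.c2, .c3, .c13⟩ ⟨.c2, .c3, .c14⟩ ⟨.c2, .c3, .c15⟩ ⟨.c1, .c11, .c15⟩ ⟨.c1, .c11, .c16⟩ ⟨.c1, .c11, .c17⟩) (@D3.rec (fun _ => Pt) ⟨.c1, .c12, .c0⟩ ⟨.c1, .c12, .c1⟩ ⟨.c1, .c12, .c2⟩ ⟨.c2, .c3, .c12⟩ ⟨.c1, .c12, .c4⟩ ⟨.c1, .c6, .c6⟩ ⟨.c1, .c6, .c7⟩ ⟨.c1, .c6, .c8⟩ ⟨.c2, .c4, .c10⟩ ⟨.c2, .c4, .c11⟩ ⟨.c2, .c4, .c12⟩ ⟨.c2, .c4, .c13⟩ ⟨.c2, .c4, .c14⟩ ⟨.c1, .c12, .c13⟩ ⟨.c1, .c12, .c14⟩ ⟨.c1, .c12, .c15⟩ ⟨.c1, .c12, .c16⟩ ⟨.c1, .c12, .c17⟩) (@D3.rec (fun _ => Pt) ⟨.c1, .c13, .c0⟩ ⟨.c1, .c13, .c1⟩ ⟨.c2, .c5, .c8⟩ ⟨.c1, .c7,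 .c2⟩ ⟨.c1, .c7, .c4⟩ ⟨.c2, .c5, .c10⟩ ⟨.c1, .c7, .c6⟩ ⟨.c2, .c5, .c13⟩ ⟨.c2, .c5, .c14⟩ ⟨.c1, .c7, .c8⟩ ⟨.c1, .c7, .c9⟩ ⟨.c2, .c6, .c0⟩ ⟨.c2, .c6, .c1⟩ ⟨.c2, .c6, .c2⟩ ⟨.c1, .c13, .c14⟩ ⟨.c1, .c13, .c15⟩ ⟨.c1, .c13, .c16⟩ ⟨.c1, .c13, .c17⟩) (@D3.rec (fun _ => Pt) ⟨.c1, .c14, .c0⟩ ⟨.c1, .c14, .c1⟩ ⟨.c1, .c14, .c2⟩ ⟨.c1, .c14, .c3⟩ ⟨.c1, .c14, .c4⟩ ⟨.c1, .c14, .c5⟩ ⟨.c1, .c8, .c3⟩ ⟨.c1, .c8, .c4⟩ ⟨.c1, .c8, .c5⟩ ⟨.c2, .c7, .c1⟩ ⟨.c2, .c7, .c2⟩ ⟨.c2, .c7, .c3⟩ ⟨.c2, .c7, .c4⟩ ⟨.c2, .c7, .c5⟩ ⟨.c1, .c14, .c14⟩ ⟨.c1, .c14, .c15⟩ ⟨.c1, .c14, .c16⟩ ⟨.c1, .c8,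 .c10⟩)
def f_i_2 : D2 → D3 → Pt := @D2.rec (fun _ => D3 → Pt) (@D3.rec (fun _ => Pt) ⟨.c1, .c8, .c11⟩ ⟨.c2, .c7, .c11⟩ ⟨.c1, .c8, .c13⟩ ⟨.c1, .c8, .c15⟩ ⟨.c2, .c7, .c14⟩ ⟨.c1, .c8, .c16⟩ ⟨.c2, .c0, .c6⟩ ⟨.c1, .c9, .c1⟩ ⟨.c2, .c8, .c0⟩ ⟨.c2, .c8, .c1⟩ ⟨.c1, .c9, .c2⟩ ⟨.c1, .c9, .c4⟩ ⟨.c2, .c8, .c6⟩ ⟨.c1, .c9, .c6⟩ ⟨.c2, .c8, .c9⟩ ⟨.c2, .c8, .c10⟩ ⟨.c1, .c9, .c8⟩ ⟨.c1, .c9, .c9⟩) (@D3.rec (fun _ => Pt) ⟨.c2, .c8, .c14⟩ ⟨.c2, .c8, .c15⟩ ⟨.c2, .c8, .c16⟩ ⟨.c2, .c1, .c3⟩ ⟨.c2, .c1, .c4⟩ ⟨.c2, .c1, .c5⟩ ⟨.c2, .c1, .c6⟩ ⟨.c2, .c1, .c7⟩ ⟨.c2, .c1, .c8⟩ ⟨.c2,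 .c1, .c9⟩ ⟨.c2, .c1, .c10⟩ ⟨.c2, .c1, .c11⟩ ⟨.c2, .c10, .c0⟩ ⟨.c2, .c1, .c13⟩ ⟨.c1, .c10, .c0⟩ ⟨.c2, .c1, .c15⟩ ⟨.c1, .c10, .c3⟩ ⟨.c2, .c10, .c3⟩) (@D3.rec (fun _ => Pt) ⟨.c2, .c10, .c4⟩ ⟨.c1, .c10, .c5⟩ ⟨.c1, .c10, .c6⟩ ⟨.c2, .c10, .c8⟩ ⟨.c2, .c10, .c9⟩ ⟨.c2, .c10, .c10⟩ ⟨.c1, .c10, .c9⟩ ⟨.c1, .c10, .c10⟩ ⟨.c1, .c10, .c11⟩ ⟨.c2, .c10, .c16⟩ ⟨.c2, .c10, .c17⟩ ⟨.c2, .c11, .c0⟩ ⟨.c2, .c11, .c1⟩ ⟨.c2, .c11, .c2⟩ ⟨.c2, .c2, .c14⟩ ⟨.c2, .c2, .c15⟩ ⟨.c2, .c2, .c16⟩ ⟨.c2, .c2, .c17⟩) (@D3.rec (fun _ => Pt) ⟨.c2, .c3, .c0⟩ ⟨.c2, .c3, .c1⟩ ⟨.c2, .c3, .c2⟩ ⟨.c2,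 .c3, .c3⟩ ⟨.c2, .c3, .c4⟩ ⟨.c2, .c3, .c5⟩ ⟨.c2, .c12, .c1⟩ ⟨.c2, .c3, .c7⟩ ⟨.c1, .c11, .c8⟩ ⟨.c1, .c11, .c9⟩ ⟨.c2, .c12, .c3⟩ ⟨.c2, .c12, .c4⟩ ⟨.c1, .c12, .c3⟩ ⟨.c1, .c11, .c12⟩ ⟨.c1, .c11, .c13⟩ ⟨.c1, .c11, .c14⟩ ⟨.c2, .c12, .c9⟩ ⟨.c2, .c12, .c10⟩) (@D3.rec (fun _ => Pt) ⟨.c2, .c12, .c11⟩ ⟨.c2, .c12, .c12⟩ ⟨.c2, .c12, .c13⟩ ⟨.c2, .c4, .c3⟩ ⟨.c2, .c4, .c4⟩ ⟨.c2, .c4, .c5⟩ ⟨.c2, .c4, .c6⟩ ⟨.c2, .c12, .c8⟩ ⟨.c2, .c4, .c8⟩ ⟨.c2, .c4, .c9⟩ ⟨.c1, .c12, .c8⟩ ⟨.c1, .c12, .c9⟩ ⟨.c1, .c12, .c10⟩ ⟨.c1, .c12, .c11⟩ ⟨.c1, .c12, .c12⟩ ⟨.c2, .c13, .c8⟩ ⟨.c2, .c13,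 .c9⟩ ⟨.c2, .c13, .c10⟩) (@D3.rec (fun _ => Pt) ⟨.c2, .c7, .c6⟩ ⟨.c2, .c13, .c11⟩ ⟨.c2, .c5, .c2⟩ ⟨.c2, .c5, .c3⟩ ⟨.c2, .c5, .c4⟩ ⟨.c2, .c5, .c5⟩ ⟨.c2, .c5, .c6⟩ ⟨.c2, .c14, .c0⟩ ⟨.c1, .c13, .c2⟩ ⟨.c2, .c5, .c9⟩ ⟨.c1, .c13, .c5⟩ ⟨.c2, .c14, .c2⟩ ⟨.c2, .c14, .c3⟩ ⟨.c1, .c13, .c7⟩ ⟨.c1, .c13, .c8⟩ ⟨.c2, .c14, .c7⟩ ⟨.c2, .c14, .c8⟩ ⟨.c2, .c14, .c9⟩) (@D3.rec (fun _ => Pt) ⟨.c1, .c13, .c11⟩ ⟨.c1, .c13, .c12⟩ ⟨.c1, .c13, .c13⟩ ⟨.c2, .c14, .c15⟩ ⟨.c2, .c14, .c16⟩ ⟨.c2, .c14, .c17⟩ ⟨.c3, .c0, .c0⟩ ⟨.c3, .c0, .c1⟩ ⟨.c2, .c6, .c8⟩ ⟨.c2, .c6, .c9⟩ ⟨.c2, .c6, .c10⟩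 ⟨.c2, .c6, .c11⟩ ⟨.c2, .c6, .c12⟩ ⟨.c2, .c6, .c13⟩ ⟨.c2, .c6, .c14⟩ ⟨.c2, .c6, .c15⟩ ⟨.c2, .c6, .c16⟩ ⟨.c2, .c6, .c17⟩) (@D3.rec (fun _ => Pt) ⟨.c2, .c14, .c4⟩ ⟨.c1, .c14, .c9⟩ ⟨.c1, .c14, .c10⟩ ⟨.c1, .c14, .c11⟩ ⟨.c1, .c14, .c12⟩ ⟨.c1, .c14, .c13⟩ ⟨.c2, .c5, .c0⟩ ⟨.c3, .c0, .c3⟩ ⟨.c2, .c7, .c8⟩ ⟨.c2, .c7, .c9⟩ ⟨.c2, .c7, .c10⟩ ⟨.c2, .c0, .c1⟩ ⟨.c3, .c1, .c0⟩ ⟨.c2, .c7, .c13⟩ ⟨.c2, .c0, .c4⟩ ⟨.c3, .c1, .c4⟩ ⟨.c3, .c1, .c5⟩ ⟨.c2, .c7, .c17⟩) (@D3.rec (fun _ => Pt) ⟨.c2, .c0, .c8⟩ ⟨.c2, .c0, .c9⟩ ⟨.c3, .c1, .c10⟩ ⟨.c3, .c1, .c11⟩ ⟨.c3, .c1, .c12⟩ ⟨.c2,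 .c8, .c5⟩ ⟨.c2, .c0, .c12⟩ ⟨.c3, .c2, .c1⟩ ⟨.c3, .c2, .c2⟩ ⟨.c2, .c0, .c14⟩ ⟨.c2, .c0, .c15⟩ ⟨.c3, .c2, .c6⟩ ⟨.c3, .c2, .c7⟩ ⟨.c3, .c2, .c8⟩ ⟨.c2, .c1, .c0⟩ ⟨.c2, .c1, .c1⟩ ⟨.c2, .c1, .c2⟩ ⟨.c3, .c2, .c14⟩) (@D3.rec (fun _ => Pt) ⟨.c3, .c2, .c15⟩ ⟨.c3, .c2, .c16⟩ ⟨.c3, .c2, .c17⟩ ⟨.c3, .c3, .c0⟩ ⟨.c2, .c9, .c4⟩ ⟨.c2, .c9, .c5⟩ ⟨.c2, .c9, .c6⟩ ⟨.c2, .c9, .c7⟩ ⟨.c2, .c9, .c8⟩ ⟨.c2, .c9, .c9⟩ ⟨.c2, .c9, .c10⟩ ⟨.c2, .c9, .c11⟩ ⟨.c2, .c9, .c12⟩ ⟨.c3, .c4, .c3⟩ ⟨.c2, .c9, .c14⟩ ⟨.c2, .c9, .c15⟩ ⟨.c2, .c9, .c16⟩ ⟨.c3, .c1, .c17⟩) (@D3.rec (fun _ => Pt) ⟨.c2,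 .c1, .c12⟩ ⟨.c2, .c10, .c1⟩ ⟨.c2, .c10, .c2⟩ ⟨.c2, .c1, .c17⟩ ⟨.c2, .c2, .c0⟩ ⟨.c3, .c4, .c7⟩ ⟨.c3, .c4, .c8⟩ ⟨.c3, .c4, .c9⟩ ⟨.c2, .c2, .c3⟩ ⟨.c2, .c2, .c4⟩ ⟨.c2, .c2, .c5⟩ ⟨.c3, .c4, .c15⟩ ⟨.c3, .c4, .c16⟩ ⟨.c3, .c4, .c17⟩ ⟨.c3, .c5, .c0⟩ ⟨.c3, .c5, .c1⟩ ⟨.c2, .c2, .c9⟩ ⟨.c2, .c2, .c10⟩) (@D3.rec (fun _ => Pt) ⟨.c2, .c2, .c11⟩ ⟨.c2, .c2, .c12⟩ ⟨.c2, .c2, .c13⟩ ⟨.c3, .c5, .c8⟩ ⟨.c3, .c5, .c9⟩ ⟨.c3, .c5, .c10⟩ ⟨.c3, .c5, .c11⟩ ⟨.c3, .c5, .c12⟩ ⟨.c2, .c11, .c8⟩ ⟨.c2, .c11, .c9⟩ ⟨.c2, .c11, .c10⟩ ⟨.c2, .c11, .c11⟩ ⟨.c3, .c6, .c10⟩ ⟨.c2, .c11, .c13⟩ ⟨.c2,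 .c11, .c14⟩ ⟨.c2, .c11, .c15⟩ ⟨.c2, .c11, .c16⟩ ⟨.c2, .c11, .c17⟩) (@D3.rec (fun _ => Pt) ⟨.c3, .c4, .c10⟩ ⟨.c2, .c3, .c6⟩ ⟨.c2, .c12, .c2⟩ ⟨.c2, .c3, .c10⟩ ⟨.c2, .c3, .c11⟩ ⟨.c3, .c6, .c15⟩ ⟨.c3, .c6, .c16⟩ ⟨.c3, .c6, .c17⟩ ⟨.c2, .c4, .c7⟩ ⟨.c2, .c3, .c16⟩ ⟨.c2, .c3, .c17⟩ ⟨.c2, .c4, .c0⟩ ⟨.c2, .c4, .c1⟩ ⟨.c2, .c4, .c2⟩ ⟨.c3, .c7, .c5⟩ ⟨.c3, .c7, .c6⟩ ⟨.c3, .c7, .c7⟩ ⟨.c3, .c7, .c8⟩) (@D3.rec (fun _ => Pt) ⟨.c3, .c7, .c3⟩ ⟨.c3, .c7, .c10⟩ ⟨.c2, .c13, .c2⟩ ⟨.c2, .c13, .c3⟩ ⟨.c2, .c13, .c4⟩ ⟨.c3, .c7, .c2⟩ ⟨.c2, .c13, .c6⟩ ⟨.c2, .c13, .c7⟩ ⟨.c2, .c4,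 .c15⟩ ⟨.c2, .c4, .c16⟩ ⟨.c2, .c4, .c17⟩ ⟨.c2, .c5, .c1⟩ ⟨.c3, .c7, .c12⟩ ⟨.c3, .c5, .c13⟩ ⟨.c3, .c0, .c2⟩ ⟨.c2, .c13, .c15⟩ ⟨.c2, .c13, .c16⟩ ⟨.c2, .c13, .c17⟩) (@D3.rec (fun _ => Pt) ⟨.c2, .c5, .c7⟩ ⟨.c2, .c14, .c1⟩ ⟨.c2, .c5, .c11⟩ ⟨.c2, .c5, .c12⟩ ⟨.c2, .c7, .c0⟩ ⟨.c3, .c8, .c5⟩ ⟨.c3, .c8, .c6⟩ ⟨.c2, .c5, .c15⟩ ⟨.c2, .c5, .c16⟩ ⟨.c2, .c5, .c17⟩ ⟨.c3, .c8, .c11⟩ ⟨.c3, .c8, .c12⟩ ⟨.c3, .c8, .c13⟩ ⟨.c3, .c8, .c14⟩ ⟨.c3, .c8, .c15⟩ ⟨.c2, .c6, .c3⟩ ⟨.c2, .c6, .c4⟩ ⟨.c2, .c6, .c5⟩)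
def f_i_3 : D2 → D3 → Pt := @D2.rec (fun _ => D3 → Pt) (@D3.rec (fun _ => Pt) ⟨.c2, .c6, .c6⟩ ⟨.c2, .c6, .c7⟩ ⟨.c2, .c13, .c14⟩ ⟨.c2, .c7, .c7⟩ ⟨.c3, .c9, .c4⟩ ⟨.c3, .c9, .c5⟩ ⟨.c3, .c9, .c6⟩ ⟨.c3, .c0, .c7⟩ ⟨.c3, .c0, .c8⟩ ⟨.c3, .c0, .c9⟩ ⟨.c3, .c0, .c10⟩ ⟨.c3, .c8, .c7⟩ ⟨.c3, .c0, .c12⟩ ⟨.c3, .c0, .c13⟩ ⟨.c3, .c0, .c14⟩ ⟨.c3, .c0, .c15⟩ ⟨.c3, .c0, .c16⟩ ⟨.c3, .c0, .c17⟩) (@D3.rec (fun _ => Pt) ⟨.c2, .c7, .c12⟩ ⟨.c3, .c10, .c0⟩ ⟨.c3, .c10, .c1⟩ ⟨.c3, .c1, .c3⟩ ⟨.c2, .c7, .c15⟩ ⟨.c2, .c7, .c16⟩ ⟨.c3, .c10, .c7⟩ ⟨.c3, .c10, .c8⟩ ⟨.c3, .c10, .c9⟩ ⟨.c3,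 .c1, .c9⟩ ⟨.c2, .c8, .c2⟩ ⟨.c2, .c8, .c3⟩ ⟨.c2, .c8, .c4⟩ ⟨.c3, .c10, .c16⟩ ⟨.c3, .c10, .c17⟩ ⟨.c3, .c11, .c0⟩ ⟨.c3, .c11, .c1⟩ ⟨.c2, .c9, .c17⟩) (@D3.rec (fun _ => Pt) ⟨.c3, .c2, .c0⟩ ⟨.c2, .c8, .c7⟩ ⟨.c2, .c8, .c8⟩ ⟨.c3, .c11, .c10⟩ ⟨.c3, .c11, .c11⟩ ⟨.c3, .c11, .c12⟩ ⟨.c2, .c8, .c11⟩ ⟨.c2, .c8, .c12⟩ ⟨.c2, .c8, .c13⟩ ⟨.c3, .c12, .c0⟩ ⟨.c3, .c12, .c1⟩ ⟨.c3, .c12, .c2⟩ ⟨.c3, .c12, .c3⟩ ⟨.c3, .c12, .c4⟩ ⟨.c2, .c8, .c17⟩ ⟨.c2, .c9, .c0⟩ ⟨.c2, .c9, .c1⟩ ⟨.c2, .c9, .c2⟩) (@D3.rec (fun _ => Pt) ⟨.c2, .c9, .c3⟩ ⟨.c3, .c12, .c11⟩ ⟨.c3, .c12, .c12⟩ ⟨.c3, .c12,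 .c13⟩ ⟨.c3, .c12, .c14⟩ ⟨.c3, .c13, .c8⟩ ⟨.c3, .c12, .c16⟩ ⟨.c3, .c3, .c7⟩ ⟨.c3, .c3, .c8⟩ ⟨.c3, .c3, .c9⟩ ⟨.c3, .c3, .c10⟩ ⟨.c3, .c14, .c0⟩ ⟨.c3, .c3, .c12⟩ ⟨.c3, .c3, .c13⟩ ⟨.c3, .c3, .c14⟩ ⟨.c3, .c3, .c15⟩ ⟨.c3, .c14, .c7⟩ ⟨.c3, .c3, .c17⟩) (@D3.rec (fun _ => Pt) ⟨.c3, .c4, .c0⟩ ⟨.c3, .c4, .c1⟩ ⟨.c3, .c11, .c7⟩ ⟨.c2, .c9, .c13⟩ ⟨.c3, .c4, .c4⟩ ⟨.c3, .c10, .c14⟩ ⟨.c3, .c4, .c6⟩ ⟨.c2, .c10, .c5⟩ ⟨.c2, .c10, .c6⟩ ⟨.c2, .c10, .c7⟩ ⟨.c2, .c12, .c0⟩ ⟨.c3, .c14, .c12⟩ ⟨.c3, .c14, .c13⟩ ⟨.c3, .c14, .c14⟩ ⟨.c3, .c14, .c15⟩ ⟨.c2, .c10, .c11⟩ ⟨.c2, .c10, .c12⟩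 ⟨.c2, .c10, .c13⟩) (@D3.rec (fun _ => Pt) ⟨.c2, .c10, .c14⟩ ⟨.c2, .c10, .c15⟩ ⟨.c4, .c0, .c4⟩ ⟨.c4, .c0, .c5⟩ ⟨.c4, .c0, .c6⟩ ⟨.c4, .c0, .c7⟩ ⟨.c4, .c1, .c1⟩ ⟨.c4, .c0, .c9⟩ ⟨.c2, .c11, .c3⟩ ⟨.c2, .c11, .c4⟩ ⟨.c2, .c11, .c5⟩ ⟨.c2, .c11, .c6⟩ ⟨.c2, .c11, .c7⟩ ⟨.c2, .c13, .c13⟩ ⟨.c4, .c1, .c2⟩ ⟨.c4, .c1, .c3⟩ ⟨.c4, .c1, .c4⟩ ⟨.c4, .c1, .c5⟩) (@D3.rec (fun _ => Pt) ⟨.c4, .c1, .c6⟩ ⟨.c3, .c9, .c7⟩ ⟨.c3, .c6, .c2⟩ ⟨.c3, .c6, .c3⟩ ⟨.c3, .c6, .c4⟩ ⟨.c3, .c6, .c5⟩ ⟨.c3, .c14, .c16⟩ ⟨.c3, .c6, .c7⟩ ⟨.c3, .c6, .c8⟩ ⟨.c4, .c2, .c1⟩ ⟨.c2, .c11, .c12⟩ ⟨.c3, .c6,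 .c11⟩ ⟨.c3, .c6, .c12⟩ ⟨.c3, .c11, .c13⟩ ⟨.c3, .c6, .c14⟩ ⟨.c2, .c12, .c5⟩ ⟨.c2, .c12, .c6⟩ ⟨.c2, .c12, .c7⟩) (@D3.rec (fun _ => Pt) ⟨.c4, .c2, .c4⟩ ⟨.c4, .c2, .c5⟩ ⟨.c2, .c13, .c5⟩ ⟨.c2, .c13, .c0⟩ ⟨.c4, .c2, .c11⟩ ⟨.c2, .c12, .c14⟩ ⟨.c2, .c12, .c15⟩ ⟨.c2, .c12, .c16⟩ ⟨.c2, .c12, .c17⟩ ⟨.c4, .c2, .c12⟩ ⟨.c2, .c13, .c1⟩ ⟨.c4, .c2, .c13⟩ ⟨.c2, .c13, .c12⟩ ⟨.c4, .c2, .c14⟩ ⟨.c4, .c2, .c15⟩ ⟨.c4, .c2, .c9⟩ ⟨.c4, .c1, .c7⟩ ⟨.c4, .c2, .c17⟩) (@D3.rec (fun _ => Pt) ⟨.c3, .c8, .c0⟩ ⟨.c4, .c2, .c7⟩ ⟨.c3, .c8, .c2⟩ ⟨.c3, .c8, .c3⟩ ⟨.c3, .c8, .c4⟩ ⟨.c2, .c14,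 .c5⟩ ⟨.c2, .c14, .c6⟩ ⟨.c3, .c0, .c11⟩ ⟨.c4, .c3, .c5⟩ ⟨.c4, .c3, .c6⟩ ⟨.c4, .c3, .c7⟩ ⟨.c2, .c14, .c10⟩ ⟨.c2, .c14, .c11⟩ ⟨.c2, .c14, .c12⟩ ⟨.c2, .c14, .c13⟩ ⟨.c2, .c14, .c14⟩ ⟨.c4, .c3, .c13⟩ ⟨.c4, .c3, .c14⟩) (@D3.rec (fun _ => Pt) ⟨.c4, .c3, .c15⟩ ⟨.c4, .c3, .c16⟩ ⟨.c4, .c3, .c8⟩ ⟨.c4, .c4, .c0⟩ ⟨.c3, .c0, .c4⟩ ⟨.c3, .c0, .c5⟩ ⟨.c3, .c0, .c6⟩ ⟨.c3, .c6, .c1⟩ ⟨.c4, .c4, .c4⟩ ⟨.c3, .c9, .c9⟩ ⟨.c3, .c9, .c10⟩ ⟨.c3, .c9, .c11⟩ ⟨.c3, .c9, .c12⟩ ⟨.c3, .c9, .c13⟩ ⟨.c4, .c3, .c9⟩ ⟨.c3, .c9, .c15⟩ ⟨.c3, .c9, .c16⟩ ⟨.c3, .c9, .c17⟩) (@D3.rec (fun _ => Pt)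 ⟨.c3, .c1, .c1⟩ ⟨.c3, .c1, .c2⟩ ⟨.c4, .c4, .c15⟩ ⟨.c4, .c4, .c16⟩ ⟨.c4, .c4, .c17⟩ ⟨.c3, .c10, .c5⟩ ⟨.c3, .c10, .c6⟩ ⟨.c3, .c1, .c6⟩ ⟨.c3, .c1, .c7⟩ ⟨.c3, .c1, .c8⟩ ⟨.c4, .c5, .c7⟩ ⟨.c4, .c5, .c8⟩ ⟨.c4, .c5, .c9⟩ ⟨.c4, .c5, .c10⟩ ⟨.c3, .c4, .c5⟩ ⟨.c3, .c10, .c15⟩ ⟨.c3, .c1, .c13⟩ ⟨.c3, .c1, .c14⟩) (@D3.rec (fun _ => Pt) ⟨.c3, .c1, .c15⟩ ⟨.c3, .c1, .c16⟩ ⟨.c4, .c6, .c0⟩ ⟨.c4, .c6, .c1⟩ ⟨.c4, .c6, .c2⟩ ⟨.c4, .c6, .c3⟩ ⟨.c4, .c6, .c13⟩ ⟨.c3, .c4, .c2⟩ ⟨.c3, .c11, .c8⟩ ⟨.c3, .c11, .c9⟩ ⟨.c3, .c2, .c3⟩ ⟨.c3, .c2, .c4⟩ ⟨.c3, .c2, .c5⟩ ⟨.c3, .c6, .c13⟩ ⟨.c4,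 .c6, .c16⟩ ⟨.c4, .c6, .c17⟩ ⟨.c4, .c7, .c0⟩ ⟨.c4, .c7, .c1⟩) (@D3.rec (fun _ => Pt) ⟨.c3, .c2, .c9⟩ ⟨.c3, .c2, .c10⟩ ⟨.c3, .c2, .c11⟩ ⟨.c3, .c2, .c12⟩ ⟨.c3, .c2, .c13⟩ ⟨.c4, .c7, .c8⟩ ⟨.c4, .c7, .c9⟩ ⟨.c4, .c7, .c10⟩ ⟨.c4, .c7, .c11⟩ ⟨.c4, .c8, .c5⟩ ⟨.c4, .c7, .c13⟩ ⟨.c3, .c3, .c1⟩ ⟨.c3, .c3, .c2⟩ ⟨.c3, .c3, .c3⟩ ⟨.c3, .c3, .c4⟩ ⟨.c4, .c8, .c15⟩ ⟨.c3, .c3, .c6⟩ ⟨.c4, .c8, .c6⟩) (@D3.rec (fun _ => Pt) ⟨.c4, .c8, .c7⟩ ⟨.c4, .c8, .c8⟩ ⟨.c4, .c8, .c9⟩ ⟨.c4, .c9, .c7⟩ ⟨.c4, .c8, .c11⟩ ⟨.c4, .c8, .c12⟩ ⟨.c4, .c8, .c13⟩ ⟨.c4, .c6, .c11⟩ ⟨.c3, .c3, .c5⟩ ⟨.c3,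 .c13, .c9⟩ ⟨.c3, .c13, .c10⟩ ⟨.c3, .c13, .c11⟩ ⟨.c3, .c13, .c12⟩ ⟨.c4, .c10, .c1⟩ ⟨.c3, .c13, .c14⟩ ⟨.c3, .c13, .c15⟩ ⟨.c3, .c13, .c16⟩ ⟨.c4, .c10, .c5⟩) (@D3.rec (fun _ => Pt) ⟨.c3, .c3, .c11⟩ ⟨.c3, .c14, .c1⟩ ⟨.c4, .c10, .c9⟩ ⟨.c3, .c14, .c3⟩ ⟨.c3, .c14, .c4⟩ ⟨.c3, .c14, .c5⟩ ⟨.c4, .c6, .c9⟩ ⟨.c3, .c3, .c16⟩ ⟨.c3, .c14, .c8⟩ ⟨.c4, .c5, .c16⟩ ⟨.c4, .c5, .c4⟩ ⟨.c3, .c14, .c11⟩ ⟨.c3, .c4, .c11⟩ ⟨.c3, .c4, .c12⟩ ⟨.c3, .c4, .c13⟩ ⟨.c3, .c4, .c14⟩ ⟨.c3, .c6, .c6⟩ ⟨.c4, .c10, .c15⟩)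
def f_i_4 : D2 → D3 → Pt := @D2.rec (fun _ => D3 → Pt) (@D3.rec (fun _ => Pt) ⟨.c4, .c10, .c16⟩ ⟨.c4, .c10, .c17⟩ ⟨.c4, .c11, .c10⟩ ⟨.c4, .c11, .c0⟩ ⟨.c3, .c5, .c2⟩ ⟨.c3, .c5, .c3⟩ ⟨.c3, .c5, .c4⟩ ⟨.c3, .c5, .c5⟩ ⟨.c4, .c12, .c2⟩ ⟨.c3, .c5, .c7⟩ ⟨.c4, .c11, .c11⟩ ⟨.c4, .c11, .c12⟩ ⟨.c4, .c11, .c13⟩ ⟨.c4, .c11, .c14⟩ ⟨.c4, .c11, .c1⟩ ⟨.c4, .c11, .c16⟩ ⟨.c4, .c11, .c17⟩ ⟨.c4, .c12, .c0⟩) (@D3.rec (fun _ => Pt) ⟨.c4, .c12, .c14⟩ ⟨.c3, .c5, .c6⟩ ⟨.c3, .c5, .c14⟩ ⟨.c3, .c5, .c15⟩ ⟨.c3, .c5, .c16⟩ ⟨.c3, .c5, .c17⟩ ⟨.c3, .c6, .c0⟩ ⟨.c3, .c7, .c16⟩ ⟨.c4, .c9,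 .c1⟩ ⟨.c4, .c12, .c5⟩ ⟨.c4, .c4, .c2⟩ ⟨.c4, .c1, .c11⟩ ⟨.c4, .c1, .c12⟩ ⟨.c4, .c1, .c13⟩ ⟨.c4, .c1, .c14⟩ ⟨.c4, .c7, .c2⟩ ⟨.c4, .c1, .c16⟩ ⟨.c4, .c11, .c2⟩) (@D3.rec (fun _ => Pt) ⟨.c4, .c13, .c4⟩ ⟨.c3, .c6, .c9⟩ ⟨.c4, .c5, .c0⟩ ⟨.c4, .c2, .c3⟩ ⟨.c3, .c7, .c0⟩ ⟨.c3, .c7, .c1⟩ ⟨.c4, .c13, .c6⟩ ⟨.c3, .c8, .c1⟩ ⟨.c4, .c13, .c7⟩ ⟨.c3, .c7, .c15⟩ ⟨.c4, .c13, .c11⟩ ⟨.c3, .c7, .c4⟩ ⟨.c3, .c7, .c9⟩ ⟨.c3, .c7, .c11⟩ ⟨.c3, .c7, .c13⟩ ⟨.c3, .c7, .c14⟩ ⟨.c4, .c13, .c8⟩ ⟨.c3, .c7, .c17⟩) (@D3.rec (fun _ => Pt) ⟨.c4, .c13, .c9⟩ ⟨.c4, .c13, .c10⟩ ⟨.c4, .c8, .c16⟩ ⟨.c4,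 .c3, .c3⟩ ⟨.c4, .c3, .c4⟩ ⟨.c3, .c8, .c8⟩ ⟨.c3, .c8, .c9⟩ ⟨.c3, .c8, .c10⟩ ⟨.c3, .c9, .c2⟩ ⟨.c3, .c9, .c14⟩ ⟨.c4, .c13, .c13⟩ ⟨.c4, .c13, .c15⟩ ⟨.c4, .c13, .c14⟩ ⟨.c3, .c8, .c16⟩ ⟨.c3, .c8, .c17⟩ ⟨.c3, .c9, .c0⟩ ⟨.c3, .c9, .c1⟩ ⟨.c4, .c13, .c17⟩) (@D3.rec (fun _ => Pt) ⟨.c3, .c9, .c3⟩ ⟨.c4, .c14, .c4⟩ ⟨.c4, .c1, .c10⟩ ⟨.c4, .c14, .c5⟩ ⟨.c3, .c9, .c8⟩ ⟨.c4, .c14, .c6⟩ ⟨.c4, .c14, .c7⟩ ⟨.c4, .c13, .c16⟩ ⟨.c4, .c4, .c8⟩ ⟨.c4, .c4, .c9⟩ ⟨.c4, .c4, .c10⟩ ⟨.c4, .c14, .c0⟩ ⟨.c4, .c4, .c12⟩ ⟨.c4, .c4, .c13⟩ ⟨.c4, .c4, .c14⟩ ⟨.c3, .c10, .c2⟩ ⟨.c3, .c10, .c3⟩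 ⟨.c3, .c10, .c4⟩) (@D3.rec (fun _ => Pt) ⟨.c4, .c2, .c2⟩ ⟨.c5, .c0, .c0⟩ ⟨.c5, .c0, .c1⟩ ⟨.c5, .c0, .c2⟩ ⟨.c3, .c14, .c10⟩ ⟨.c4, .c5, .c5⟩ ⟨.c4, .c5, .c6⟩ ⟨.c3, .c10, .c10⟩ ⟨.c3, .c10, .c11⟩ ⟨.c3, .c10, .c12⟩ ⟨.c3, .c10, .c13⟩ ⟨.c5, .c0, .c12⟩ ⟨.c5, .c0, .c13⟩ ⟨.c5, .c0, .c14⟩ ⟨.c5, .c0, .c15⟩ ⟨.c5, .c1, .c8⟩ ⟨.c3, .c14, .c9⟩ ⟨.c4, .c5, .c17⟩) (@D3.rec (fun _ => Pt) ⟨.c3, .c11, .c2⟩ ⟨.c3, .c11, .c3⟩ ⟨.c3, .c11, .c4⟩ ⟨.c3, .c11, .c5⟩ ⟨.c5, .c1, .c9⟩ ⟨.c5, .c1, .c10⟩ ⟨.c5, .c1, .c11⟩ ⟨.c5, .c1, .c12⟩ ⟨.c5, .c2, .c5⟩ ⟨.c3, .c14, .c6⟩ ⟨.c5, .c1, .c13⟩ ⟨.c3,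 .c13, .c7⟩ ⟨.c5, .c2, .c9⟩ ⟨.c3, .c11, .c6⟩ ⟨.c4, .c6, .c14⟩ ⟨.c4, .c6, .c15⟩ ⟨.c3, .c11, .c14⟩ ⟨.c3, .c11, .c15⟩) (@D3.rec (fun _ => Pt) ⟨.c3, .c11, .c16⟩ ⟨.c3, .c11, .c17⟩ ⟨.c4, .c1, .c15⟩ ⟨.c5, .c2, .c13⟩ ⟨.c5, .c2, .c14⟩ ⟨.c5, .c2, .c15⟩ ⟨.c5, .c3, .c9⟩ ⟨.c5, .c2, .c17⟩ ⟨.c3, .c12, .c5⟩ ⟨.c3, .c12, .c6⟩ ⟨.c3, .c12, .c7⟩ ⟨.c3, .c12, .c8⟩ ⟨.c5, .c4, .c1⟩ ⟨.c3, .c12, .c10⟩ ⟨.c5, .c3, .c10⟩ ⟨.c5, .c3, .c11⟩ ⟨.c5, .c3, .c12⟩ ⟨.c5, .c3, .c13⟩) (@D3.rec (fun _ => Pt) ⟨.c5, .c4, .c11⟩ ⟨.c5, .c3, .c15⟩ ⟨.c5, .c3, .c16⟩ ⟨.c5, .c3, .c17⟩ ⟨.c5, .c4, .c15⟩ ⟨.c3,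 .c12, .c9⟩ ⟨.c3, .c12, .c17⟩ ⟨.c3, .c13, .c0⟩ ⟨.c3, .c13, .c1⟩ ⟨.c3, .c13, .c2⟩ ⟨.c5, .c1, .c14⟩ ⟨.c3, .c13, .c4⟩ ⟨.c3, .c13, .c5⟩ ⟨.c3, .c13, .c6⟩ ⟨.c5, .c2, .c8⟩ ⟨.c3, .c12, .c15⟩ ⟨.c4, .c3, .c2⟩ ⟨.c5, .c4, .c16⟩) (@D3.rec (fun _ => Pt) ⟨.c5, .c2, .c1⟩ ⟨.c4, .c1, .c8⟩ ⟨.c5, .c4, .c17⟩ ⟨.c5, .c1, .c16⟩ ⟨.c5, .c5, .c0⟩ ⟨.c5, .c5, .c1⟩ ⟨.c5, .c2, .c3⟩ ⟨.c3, .c13, .c3⟩ ⟨.c5, .c5, .c3⟩ ⟨.c5, .c2, .c6⟩ ⟨.c4, .c9, .c10⟩ ⟨.c4, .c9, .c11⟩ ⟨.c5, .c5, .c17⟩ ⟨.c4, .c9, .c13⟩ ⟨.c4, .c9, .c14⟩ ⟨.c5, .c6, .c4⟩ ⟨.c4, .c9, .c16⟩ ⟨.c4, .c9, .c17⟩) (@D3.rec (fun _ =>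 Pt) ⟨.c5, .c6, .c8⟩ ⟨.c3, .c13, .c13⟩ ⟨.c4, .c10, .c2⟩ ⟨.c5, .c6, .c11⟩ ⟨.c5, .c6, .c12⟩ ⟨.c3, .c13, .c17⟩ ⟨.c4, .c10, .c6⟩ ⟨.c4, .c10, .c7⟩ ⟨.c5, .c1, .c17⟩ ⟨.c3, .c14, .c2⟩ ⟨.c4, .c10, .c10⟩ ⟨.c5, .c1, .c4⟩ ⟨.c5, .c1, .c6⟩ ⟨.c5, .c0, .c8⟩ ⟨.c4, .c10, .c14⟩ ⟨.c3, .c14, .c17⟩ ⟨.c4, .c0, .c0⟩ ⟨.c4, .c0, .c1⟩) (@D3.rec (fun _ => Pt) ⟨.c4, .c0, .c3⟩ ⟨.c4, .c0, .c14⟩ ⟨.c4, .c1, .c17⟩ ⟨.c5, .c7, .c0⟩ ⟨.c5, .c7, .c1⟩ ⟨.c5, .c7, .c14⟩ ⟨.c5, .c7, .c2⟩ ⟨.c5, .c7, .c3⟩ ⟨.c5, .c7, .c4⟩ ⟨.c5, .c8, .c0⟩ ⟨.c4, .c0, .c2⟩ ⟨.c4, .c0, .c10⟩ ⟨.c4, .c0, .c11⟩ ⟨.c4, .c0,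 .c12⟩ ⟨.c4, .c0, .c13⟩ ⟨.c5, .c7, .c7⟩ ⟨.c4, .c0, .c15⟩ ⟨.c4, .c0, .c16⟩) (@D3.rec (fun _ => Pt) ⟨.c4, .c0, .c17⟩ ⟨.c5, .c7, .c15⟩ ⟨.c4, .c0, .c8⟩ ⟨.c5, .c8, .c1⟩ ⟨.c5, .c8, .c2⟩ ⟨.c4, .c1, .c9⟩ ⟨.c5, .c8, .c3⟩ ⟨.c5, .c7, .c5⟩ ⟨.c5, .c8, .c5⟩ ⟨.c5, .c8, .c6⟩ ⟨.c5, .c7, .c6⟩ ⟨.c4, .c14, .c9⟩ ⟨.c5, .c7, .c17⟩ ⟨.c5, .c7, .c16⟩ ⟨.c4, .c1, .c0⟩ ⟨.c5, .c4, .c5⟩ ⟨.c4, .c12, .c16⟩ ⟨.c4, .c12, .c17⟩) (@D3.rec (fun _ => Pt) ⟨.c4, .c13, .c0⟩ ⟨.c5, .c3, .c1⟩ ⟨.c5, .c3, .c0⟩ ⟨.c5, .c7, .c8⟩ ⟨.c4, .c2, .c0⟩ ⟨.c5, .c0, .c3⟩ ⟨.c4, .c2, .c6⟩ ⟨.c4, .c2, .c8⟩ ⟨.c4, .c2,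 .c16⟩ ⟨.c4, .c3, .c0⟩ ⟨.c4, .c3, .c1⟩ ⟨.c4, .c2, .c10⟩ ⟨.c4, .c13, .c12⟩ ⟨.c4, .c3, .c10⟩ ⟨.c4, .c3, .c12⟩ ⟨.c4, .c3, .c11⟩ ⟨.c4, .c4, .c7⟩ ⟨.c4, .c3, .c17⟩) (@D3.rec (fun _ => Pt) ⟨.c4, .c4, .c11⟩ ⟨.c5, .c9, .c3⟩ ⟨.c5, .c9, .c4⟩ ⟨.c5, .c9, .c5⟩ ⟨.c4, .c4, .c1⟩ ⟨.c4, .c4, .c3⟩ ⟨.c4, .c4, .c5⟩ ⟨.c4, .c4, .c6⟩ ⟨.c5, .c9, .c8⟩ ⟨.c4, .c12, .c11⟩ ⟨.c5, .c9, .c6⟩ ⟨.c5, .c9, .c7⟩ ⟨.c4, .c14, .c12⟩ ⟨.c4, .c14, .c13⟩ ⟨.c4, .c14, .c14⟩ ⟨.c4, .c14, .c15⟩ ⟨.c4, .c14, .c16⟩ ⟨.c4, .c14, .c17⟩)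
def f_i_5 : D2 → D3 → Pt := @D2.rec (fun _ => D3 → Pt) (@D3.rec (fun _ => Pt) ⟨.c4, .c5, .c1⟩ ⟨.c4, .c5, .c2⟩ ⟨.c4, .c5, .c3⟩ ⟨.c4, .c13, .c5⟩ ⟨.c5, .c9, .c15⟩ ⟨.c5, .c9, .c16⟩ ⟨.c5, .c9, .c17⟩ ⟨.c5, .c10, .c10⟩ ⟨.c4, .c10, .c13⟩ ⟨.c5, .c0, .c9⟩ ⟨.c5, .c0, .c10⟩ ⟨.c5, .c0, .c11⟩ ⟨.c4, .c5, .c11⟩ ⟨.c4, .c5, .c12⟩ ⟨.c4, .c5, .c13⟩ ⟨.c4, .c5, .c14⟩ ⟨.c5, .c11, .c3⟩ ⟨.c5, .c10, .c14⟩) (@D3.rec (fun _ => Pt) ⟨.c5, .c10, .c15⟩ ⟨.c5, .c10, .c16⟩ ⟨.c5, .c10, .c17⟩ ⟨.c5, .c11, .c13⟩ ⟨.c4, .c10, .c11⟩ ⟨.c5, .c11, .c1⟩ ⟨.c4, .c10, .c12⟩ ⟨.c5, .c11, .c17⟩ ⟨.c4,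 .c5, .c15⟩ ⟨.c4, .c6, .c4⟩ ⟨.c4, .c6, .c5⟩ ⟨.c4, .c6, .c6⟩ ⟨.c4, .c6, .c7⟩ ⟨.c4, .c6, .c10⟩ ⟨.c4, .c8, .c10⟩ ⟨.c5, .c12, .c0⟩ ⟨.c4, .c9, .c3⟩ ⟨.c4, .c10, .c8⟩) (@D3.rec (fun _ => Pt) ⟨.c5, .c12, .c1⟩ ⟨.c4, .c9, .c0⟩ ⟨.c5, .c12, .c2⟩ ⟨.c4, .c9, .c6⟩ ⟨.c5, .c12, .c10⟩ ⟨.c4, .c6, .c8⟩ ⟨.c4, .c9, .c9⟩ ⟨.c5, .c12, .c11⟩ ⟨.c4, .c8, .c14⟩ ⟨.c4, .c6, .c12⟩ ⟨.c5, .c2, .c10⟩ ⟨.c5, .c2, .c11⟩ ⟨.c5, .c2, .c12⟩ ⟨.c4, .c7, .c3⟩ ⟨.c4, .c7, .c4⟩ ⟨.c4, .c7, .c5⟩ ⟨.c5, .c13, .c6⟩ ⟨.c4, .c7, .c7⟩) (@D3.rec (fun _ => Pt) ⟨.c4, .c13, .c2⟩ ⟨.c4, .c13, .c1⟩ ⟨.c5, .c12, .c17⟩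 ⟨.c5, .c13, .c0⟩ ⟨.c5, .c13, .c16⟩ ⟨.c5, .c13, .c2⟩ ⟨.c5, .c13, .c3⟩ ⟨.c5, .c13, .c4⟩ ⟨.c5, .c14, .c2⟩ ⟨.c4, .c7, .c6⟩ ⟨.c4, .c7, .c14⟩ ⟨.c4, .c7, .c15⟩ ⟨.c4, .c7, .c16⟩ ⟨.c4, .c7, .c17⟩ ⟨.c5, .c14, .c11⟩ ⟨.c4, .c8, .c1⟩ ⟨.c4, .c8, .c2⟩ ⟨.c4, .c8, .c3⟩) (@D3.rec (fun _ => Pt) ⟨.c5, .c14, .c15⟩ ⟨.c4, .c7, .c12⟩ ⟨.c5, .c14, .c3⟩ ⟨.c5, .c14, .c4⟩ ⟨.c6, .c0, .c4⟩ ⟨.c4, .c12, .c15⟩ ⟨.c5, .c14, .c6⟩ ⟨.c6, .c0, .c9⟩ ⟨.c5, .c14, .c8⟩ ⟨.c5, .c14, .c9⟩ ⟨.c6, .c0, .c13⟩ ⟨.c4, .c8, .c0⟩ ⟨.c5, .c14, .c12⟩ ⟨.c6, .c0, .c17⟩ ⟨.c6, .c1, .c0⟩ ⟨.c4, .c8, .c4⟩ ⟨.c4, .c8,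 .c17⟩ ⟨.c4, .c9, .c2⟩) (@D3.rec (fun _ => Pt) ⟨.c4, .c9, .c4⟩ ⟨.c4, .c9, .c5⟩ ⟨.c5, .c12, .c3⟩ ⟨.c4, .c9, .c8⟩ ⟨.c5, .c12, .c12⟩ ⟨.c6, .c1, .c1⟩ ⟨.c5, .c12, .c5⟩ ⟨.c6, .c1, .c2⟩ ⟨.c5, .c12, .c6⟩ ⟨.c6, .c1, .c3⟩ ⟨.c5, .c12, .c8⟩ ⟨.c5, .c11, .c14⟩ ⟨.c5, .c5, .c12⟩ ⟨.c6, .c1, .c13⟩ ⟨.c5, .c5, .c14⟩ ⟨.c5, .c5, .c15⟩ ⟨.c6, .c1, .c17⟩ ⟨.c4, .c9, .c12⟩) (@D3.rec (fun _ => Pt) ⟨.c5, .c6, .c0⟩ ⟨.c5, .c6, .c1⟩ ⟨.c6, .c2, .c4⟩ ⟨.c6, .c2, .c6⟩ ⟨.c4, .c9, .c15⟩ ⟨.c5, .c6, .c5⟩ ⟨.c6, .c2, .c9⟩ ⟨.c6, .c2, .c10⟩ ⟨.c4, .c10, .c0⟩ ⟨.c6, .c2, .c11⟩ ⟨.c6, .c2, .c13⟩ ⟨.c4,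 .c10, .c3⟩ ⟨.c4, .c10, .c4⟩ ⟨.c5, .c6, .c13⟩ ⟨.c5, .c11, .c7⟩ ⟨.c5, .c11, .c11⟩ ⟨.c5, .c10, .c8⟩ ⟨.c5, .c10, .c6⟩) (@D3.rec (fun _ => Pt) ⟨.c4, .c11, .c3⟩ ⟨.c4, .c11, .c4⟩ ⟨.c4, .c11, .c6⟩ ⟨.c4, .c11, .c7⟩ ⟨.c4, .c11, .c8⟩ ⟨.c4, .c12, .c7⟩ ⟨.c4, .c12, .c10⟩ ⟨.c4, .c11, .c15⟩ ⟨.c4, .c13, .c3⟩ ⟨.c6, .c3, .c0⟩ ⟨.c6, .c3, .c3⟩ ⟨.c6, .c3, .c1⟩ ⟨.c6, .c3, .c2⟩ ⟨.c6, .c3, .c13⟩ ⟨.c4, .c11, .c5⟩ ⟨.c4, .c12, .c1⟩ ⟨.c4, .c12, .c13⟩ ⟨.c4, .c12, .c12⟩) (@D3.rec (fun _ => Pt) ⟨.c4, .c11, .c9⟩ ⟨.c4, .c12, .c3⟩ ⟨.c4, .c12, .c4⟩ ⟨.c4, .c12, .c6⟩ ⟨.c6, .c3, .c5⟩ ⟨.c4,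 .c12, .c8⟩ ⟨.c4, .c12, .c9⟩ ⟨.c6, .c3, .c8⟩ ⟨.c6, .c3, .c14⟩ ⟨.c6, .c3, .c15⟩ ⟨.c6, .c3, .c16⟩ ⟨.c6, .c3, .c4⟩ ⟨.c5, .c13, .c7⟩ ⟨.c6, .c3, .c6⟩ ⟨.c6, .c3, .c7⟩ ⟨.c6, .c0, .c2⟩ ⟨.c5, .c8, .c16⟩ ⟨.c5, .c13, .c10⟩) (@D3.rec (fun _ => Pt) ⟨.c5, .c13, .c8⟩ ⟨.c5, .c10, .c1⟩ ⟨.c5, .c10, .c2⟩ ⟨.c4, .c14, .c1⟩ ⟨.c4, .c14, .c2⟩ ⟨.c4, .c14, .c3⟩ ⟨.c4, .c14, .c10⟩ ⟨.c4, .c14, .c11⟩ ⟨.c4, .c14, .c8⟩ ⟨.c5, .c9, .c9⟩ ⟨.c5, .c9, .c10⟩ ⟨.c5, .c9, .c11⟩ ⟨.c5, .c9, .c12⟩ ⟨.c6, .c5, .c0⟩ ⟨.c5, .c9, .c14⟩ ⟨.c5, .c0, .c4⟩ ⟨.c5, .c0, .c5⟩ ⟨.c5, .c0, .c6⟩) (@D3.rec (fun _ =>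 Pt) ⟨.c6, .c5, .c6⟩ ⟨.c5, .c9, .c1⟩ ⟨.c5, .c9, .c2⟩ ⟨.c6, .c5, .c1⟩ ⟨.c6, .c5, .c2⟩ ⟨.c6, .c5, .c16⟩ ⟨.c5, .c6, .c17⟩ ⟨.c6, .c5, .c4⟩ ⟨.c5, .c6, .c16⟩ ⟨.c6, .c6, .c2⟩ ⟨.c5, .c0, .c7⟩ ⟨.c5, .c10, .c11⟩ ⟨.c5, .c10, .c12⟩ ⟨.c6, .c6, .c6⟩ ⟨.c5, .c0, .c17⟩ ⟨.c5, .c1, .c0⟩ ⟨.c5, .c1, .c1⟩ ⟨.c5, .c1, .c2⟩) (@D3.rec (fun _ => Pt) ⟨.c6, .c6, .c14⟩ ⟨.c5, .c1, .c5⟩ ⟨.c6, .c6, .c16⟩ ⟨.c5, .c0, .c16⟩ ⟨.c6, .c6, .c7⟩ ⟨.c6, .c6, .c8⟩ ⟨.c6, .c7, .c5⟩ ⟨.c5, .c6, .c14⟩ ⟨.c6, .c6, .c10⟩ ⟨.c6, .c7, .c10⟩ ⟨.c6, .c6, .c12⟩ ⟨.c5, .c6, .c15⟩ ⟨.c6, .c7, .c14⟩ ⟨.c5, .c1, .c3⟩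 ⟨.c5, .c5, .c11⟩ ⟨.c6, .c8, .c0⟩ ⟨.c6, .c8, .c1⟩ ⟨.c5, .c1, .c7⟩) (@D3.rec (fun _ => Pt) ⟨.c5, .c1, .c15⟩ ⟨.c5, .c2, .c0⟩ ⟨.c5, .c2, .c2⟩ ⟨.c5, .c5, .c2⟩ ⟨.c6, .c8, .c2⟩ ⟨.c5, .c5, .c6⟩ ⟨.c5, .c5, .c8⟩ ⟨.c6, .c8, .c3⟩ ⟨.c5, .c5, .c10⟩ ⟨.c6, .c8, .c8⟩ ⟨.c5, .c2, .c4⟩ ⟨.c5, .c2, .c7⟩ ⟨.c5, .c5, .c4⟩ ⟨.c6, .c7, .c15⟩ ⟨.c5, .c12, .c14⟩ ⟨.c6, .c8, .c15⟩ ⟨.c5, .c12, .c16⟩ ⟨.c5, .c3, .c2⟩) (@D3.rec (fun _ => Pt) ⟨.c5, .c3, .c3⟩ ⟨.c6, .c9, .c3⟩ ⟨.c5, .c3, .c5⟩ ⟨.c5, .c3, .c6⟩ ⟨.c5, .c3, .c7⟩ ⟨.c6, .c9, .c7⟩ ⟨.c5, .c2, .c16⟩ ⟨.c5, .c8, .c12⟩ ⟨.c5, .c9, .c0⟩ ⟨.c6,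 .c9, .c14⟩ ⟨.c5, .c8, .c17⟩ ⟨.c6, .c8, .c16⟩ ⟨.c6, .c10, .c1⟩ ⟨.c6, .c9, .c0⟩ ⟨.c6, .c9, .c1⟩ ⟨.c6, .c10, .c5⟩ ⟨.c5, .c3, .c4⟩ ⟨.c6, .c9, .c4⟩) (@D3.rec (fun _ => Pt) ⟨.c6, .c10, .c9⟩ ⟨.c6, .c10, .c10⟩ ⟨.c5, .c3, .c8⟩ ⟨.c5, .c4, .c2⟩ ⟨.c5, .c4, .c3⟩ ⟨.c6, .c10, .c16⟩ ⟨.c5, .c4, .c6⟩ ⟨.c6, .c11, .c3⟩ ⟨.c5, .c4, .c8⟩ ⟨.c5, .c4, .c9⟩ ⟨.c6, .c11, .c7⟩ ⟨.c5, .c3, .c14⟩ ⟨.c5, .c4, .c12⟩ ⟨.c6, .c11, .c10⟩ ⟨.c6, .c11, .c11⟩ ⟨.c5, .c4, .c0⟩ ⟨.c6, .c10, .c11⟩ ⟨.c6, .c10, .c12⟩)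
def f_i_6 : D2 → D3 → Pt := @D2.rec (fun _ => D3 → Pt) (@D3.rec (fun _ => Pt) ⟨.c6, .c11, .c16⟩ ⟨.c6, .c10, .c14⟩ ⟨.c5, .c8, .c15⟩ ⟨.c6, .c12, .c2⟩ ⟨.c5, .c4, .c4⟩ ⟨.c6, .c10, .c17⟩ ⟨.c6, .c11, .c0⟩ ⟨.c6, .c12, .c8⟩ ⟨.c6, .c12, .c10⟩ ⟨.c5, .c4, .c7⟩ ⟨.c6, .c11, .c4⟩ ⟨.c6, .c12, .c14⟩ ⟨.c6, .c12, .c15⟩ ⟨.c5, .c4, .c10⟩ ⟨.c6, .c8, .c10⟩ ⟨.c6, .c12, .c16⟩ ⟨.c6, .c13, .c0⟩ ⟨.c5, .c4, .c13⟩) (@D3.rec (fun _ => Pt) ⟨.c5, .c4, .c14⟩ ⟨.c5, .c5, .c5⟩ ⟨.c5, .c5, .c7⟩ ⟨.c5, .c5, .c9⟩ ⟨.c6, .c8, .c4⟩ ⟨.c6, .c8, .c5⟩ ⟨.c6, .c11, .c17⟩ ⟨.c6, .c8, .c6⟩ ⟨.c6, .c7, .c11⟩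 ⟨.c6, .c5, .c17⟩ ⟨.c6, .c1, .c10⟩ ⟨.c6, .c1, .c11⟩ ⟨.c6, .c13, .c9⟩ ⟨.c5, .c5, .c13⟩ ⟨.c6, .c1, .c14⟩ ⟨.c6, .c13, .c12⟩ ⟨.c6, .c13, .c13⟩ ⟨.c5, .c5, .c16⟩) (@D3.rec (fun _ => Pt) ⟨.c6, .c2, .c0⟩ ⟨.c6, .c13, .c16⟩ ⟨.c6, .c14, .c0⟩ ⟨.c6, .c14, .c2⟩ ⟨.c5, .c6, .c2⟩ ⟨.c6, .c14, .c4⟩ ⟨.c5, .c6, .c3⟩ ⟨.c6, .c14, .c5⟩ ⟨.c6, .c14, .c7⟩ ⟨.c5, .c6, .c6⟩ ⟨.c5, .c6, .c7⟩ ⟨.c5, .c6, .c9⟩ ⟨.c6, .c14, .c9⟩ ⟨.c5, .c6, .c10⟩ ⟨.c6, .c7, .c3⟩ ⟨.c6, .c7, .c7⟩ ⟨.c6, .c5, .c14⟩ ⟨.c6, .c5, .c10⟩) (@D3.rec (fun _ => Pt) ⟨.c5, .c7, .c9⟩ ⟨.c5, .c7, .c11⟩ ⟨.c5, .c7, .c12⟩ ⟨.c5,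 .c7, .c10⟩ ⟨.c5, .c8, .c11⟩ ⟨.c5, .c8, .c4⟩ ⟨.c5, .c8, .c13⟩ ⟨.c5, .c8, .c14⟩ ⟨.c5, .c8, .c7⟩ ⟨.c6, .c14, .c13⟩ ⟨.c6, .c14, .c14⟩ ⟨.c6, .c14, .c15⟩ ⟨.c6, .c9, .c8⟩ ⟨.c5, .c7, .c13⟩ ⟨.c5, .c8, .c8⟩ ⟨.c5, .c8, .c9⟩ ⟨.c5, .c8, .c10⟩ ⟨.c7, .c0, .c0⟩) (@D3.rec (fun _ => Pt) ⟨.c6, .c11, .c14⟩ ⟨.c6, .c14, .c16⟩ ⟨.c6, .c14, .c17⟩ ⟨.c6, .c9, .c9⟩ ⟨.c6, .c5, .c7⟩ ⟨.c7, .c0, .c9⟩ ⟨.c6, .c9, .c12⟩ ⟨.c6, .c9, .c11⟩ ⟨.c6, .c5, .c8⟩ ⟨.c6, .c4, .c9⟩ ⟨.c6, .c4, .c10⟩ ⟨.c6, .c4, .c11⟩ ⟨.c6, .c4, .c12⟩ ⟨.c7, .c1, .c3⟩ ⟨.c6, .c4, .c14⟩ ⟨.c6, .c4, .c15⟩ ⟨.c6, .c4, .c16⟩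 ⟨.c7, .c1, .c7⟩) (@D3.rec (fun _ => Pt) ⟨.c5, .c9, .c13⟩ ⟨.c5, .c10, .c3⟩ ⟨.c5, .c10, .c4⟩ ⟨.c7, .c1, .c12⟩ ⟨.c5, .c10, .c7⟩ ⟨.c7, .c1, .c14⟩ ⟨.c5, .c10, .c0⟩ ⟨.c6, .c4, .c4⟩ ⟨.c6, .c4, .c8⟩ ⟨.c7, .c2, .c3⟩ ⟨.c6, .c2, .c17⟩ ⟨.c7, .c1, .c8⟩ ⟨.c7, .c2, .c8⟩ ⟨.c7, .c1, .c10⟩ ⟨.c6, .c2, .c16⟩ ⟨.c7, .c2, .c12⟩ ⟨.c5, .c10, .c5⟩ ⟨.c6, .c1, .c9⟩) (@D3.rec (fun _ => Pt) ⟨.c7, .c2, .c16⟩ ⟨.c7, .c2, .c17⟩ ⟨.c5, .c10, .c9⟩ ⟨.c6, .c6, .c3⟩ ⟨.c6, .c6, .c4⟩ ⟨.c7, .c3, .c3⟩ ⟨.c5, .c10, .c13⟩ ⟨.c5, .c11, .c4⟩ ⟨.c5, .c11, .c5⟩ ⟨.c7, .c3, .c9⟩ ⟨.c5, .c11, .c8⟩ ⟨.c7, .c3,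 .c13⟩ ⟨.c5, .c11, .c10⟩ ⟨.c7, .c3, .c15⟩ ⟨.c5, .c11, .c0⟩ ⟨.c7, .c3, .c16⟩ ⟨.c5, .c11, .c2⟩ ⟨.c7, .c3, .c4⟩) (@D3.rec (fun _ => Pt) ⟨.c7, .c3, .c5⟩ ⟨.c7, .c4, .c5⟩ ⟨.c7, .c3, .c7⟩ ⟨.c6, .c2, .c14⟩ ⟨.c7, .c4, .c9⟩ ⟨.c5, .c11, .c6⟩ ⟨.c7, .c3, .c10⟩ ⟨.c6, .c2, .c15⟩ ⟨.c7, .c4, .c15⟩ ⟨.c7, .c4, .c17⟩ ⟨.c5, .c11, .c9⟩ ⟨.c6, .c1, .c8⟩ ⟨.c7, .c5, .c3⟩ ⟨.c7, .c5, .c4⟩ ⟨.c5, .c11, .c12⟩ ⟨.c5, .c12, .c13⟩ ⟨.c7, .c5, .c7⟩ ⟨.c7, .c5, .c9⟩) (@D3.rec (fun _ => Pt) ⟨.c5, .c11, .c15⟩ ⟨.c5, .c11, .c16⟩ ⟨.c5, .c12, .c4⟩ ⟨.c5, .c12, .c7⟩ ⟨.c6, .c1, .c4⟩ ⟨.c6, .c1, .c5⟩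 ⟨.c6, .c1, .c7⟩ ⟨.c7, .c5, .c10⟩ ⟨.c5, .c12, .c9⟩ ⟨.c7, .c5, .c0⟩ ⟨.c6, .c0, .c14⟩ ⟨.c7, .c2, .c13⟩ ⟨.c6, .c8, .c12⟩ ⟨.c6, .c8, .c13⟩ ⟨.c7, .c6, .c2⟩ ⟨.c5, .c12, .c15⟩ ⟨.c5, .c13, .c11⟩ ⟨.c7, .c6, .c6⟩) (@D3.rec (fun _ => Pt) ⟨.c5, .c13, .c13⟩ ⟨.c5, .c13, .c14⟩ ⟨.c7, .c6, .c10⟩ ⟨.c5, .c13, .c1⟩ ⟨.c5, .c13, .c17⟩ ⟨.c7, .c6, .c13⟩ ⟨.c7, .c6, .c14⟩ ⟨.c5, .c13, .c5⟩ ⟨.c6, .c3, .c12⟩ ⟨.c6, .c4, .c3⟩ ⟨.c7, .c7, .c3⟩ ⟨.c6, .c4, .c7⟩ ⟨.c6, .c4, .c6⟩ ⟨.c7, .c7, .c7⟩ ⟨.c5, .c13, .c9⟩ ⟨.c7, .c6, .c3⟩ ⟨.c7, .c6, .c4⟩ ⟨.c7, .c7, .c13⟩) (@D3.rec (fun _ => Pt) ⟨.c7,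 .c7, .c15⟩ ⟨.c5, .c13, .c12⟩ ⟨.c7, .c6, .c7⟩ ⟨.c7, .c8, .c1⟩ ⟨.c7, .c8, .c2⟩ ⟨.c5, .c13, .c15⟩ ⟨.c7, .c5, .c15⟩ ⟨.c7, .c8, .c5⟩ ⟨.c7, .c8, .c7⟩ ⟨.c5, .c14, .c0⟩ ⟨.c5, .c14, .c1⟩ ⟨.c5, .c14, .c16⟩ ⟨.c5, .c14, .c17⟩ ⟨.c7, .c8, .c11⟩ ⟨.c6, .c0, .c1⟩ ⟨.c7, .c8, .c13⟩ ⟨.c5, .c14, .c5⟩ ⟨.c6, .c0, .c5⟩) (@D3.rec (fun _ => Pt) ⟨.c6, .c0, .c6⟩ ⟨.c7, .c9, .c1⟩ ⟨.c7, .c9, .c2⟩ ⟨.c5, .c14, .c7⟩ ⟨.c6, .c0, .c10⟩ ⟨.c7, .c9, .c5⟩ ⟨.c7, .c9, .c6⟩ ⟨.c5, .c14, .c10⟩ ⟨.c7, .c9, .c7⟩ ⟨.c7, .c9, .c8⟩ ⟨.c5, .c14, .c13⟩ ⟨.c5, .c14, .c14⟩ ⟨.c7, .c8, .c8⟩ ⟨.c7, .c8, .c9⟩ ⟨.c6,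 .c4, .c0⟩ ⟨.c7, .c9, .c13⟩ ⟨.c6, .c0, .c0⟩ ⟨.c6, .c1, .c6⟩) (@D3.rec (fun _ => Pt) ⟨.c7, .c9, .c16⟩ ⟨.c7, .c9, .c17⟩ ⟨.c6, .c0, .c3⟩ ⟨.c7, .c8, .c14⟩ ⟨.c7, .c8, .c15⟩ ⟨.c7, .c10, .c4⟩ ⟨.c7, .c10, .c6⟩ ⟨.c7, .c10, .c8⟩ ⟨.c6, .c0, .c7⟩ ⟨.c7, .c10, .c10⟩ ⟨.c6, .c0, .c8⟩ ⟨.c7, .c5, .c11⟩ ⟨.c7, .c10, .c11⟩ ⟨.c7, .c10, .c13⟩ ⟨.c6, .c0, .c11⟩ ⟨.c6, .c0, .c12⟩ ⟨.c6, .c0, .c15⟩ ⟨.c7, .c10, .c15⟩) (@D3.rec (fun _ => Pt) ⟨.c6, .c0, .c16⟩ ⟨.c7, .c4, .c6⟩ ⟨.c7, .c11, .c0⟩ ⟨.c7, .c5, .c12⟩ ⟨.c7, .c4, .c11⟩ ⟨.c7, .c2, .c9⟩ ⟨.c6, .c13, .c6⟩ ⟨.c7, .c11, .c6⟩ ⟨.c7, .c11,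 .c7⟩ ⟨.c6, .c1, .c12⟩ ⟨.c7, .c11, .c8⟩ ⟨.c7, .c11, .c10⟩ ⟨.c6, .c1, .c15⟩ ⟨.c6, .c1, .c16⟩ ⟨.c7, .c11, .c12⟩ ⟨.c7, .c11, .c15⟩ ⟨.c6, .c2, .c1⟩ ⟨.c7, .c11, .c17⟩) (@D3.rec (fun _ => Pt) ⟨.c6, .c2, .c2⟩ ⟨.c7, .c12, .c1⟩ ⟨.c6, .c2, .c3⟩ ⟨.c7, .c12, .c3⟩ ⟨.c6, .c2, .c5⟩ ⟨.c6, .c2, .c7⟩ ⟨.c7, .c12, .c5⟩ ⟨.c6, .c2, .c8⟩ ⟨.c7, .c12, .c6⟩ ⟨.c6, .c2, .c12⟩ ⟨.c7, .c4, .c2⟩ ⟨.c7, .c2, .c5⟩ ⟨.c7, .c2, .c1⟩ ⟨.c6, .c3, .c9⟩ ⟨.c6, .c3, .c10⟩ ⟨.c6, .c3, .c11⟩ ⟨.c6, .c4, .c1⟩ ⟨.c6, .c4, .c2⟩)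
def f_i_7 : D2 → D3 → Pt := @D2.rec (fun _ => D3 → Pt) (@D3.rec (fun _ => Pt) ⟨.c6, .c3, .c17⟩ ⟨.c7, .c9, .c10⟩ ⟨.c7, .c6, .c15⟩ ⟨.c7, .c1, .c15⟩ ⟨.c7, .c12, .c14⟩ ⟨.c7, .c12, .c9⟩ ⟨.c7, .c7, .c0⟩ ⟨.c7, .c6, .c17⟩ ⟨.c7, .c1, .c16⟩ ⟨.c6, .c4, .c5⟩ ⟨.c7, .c7, .c4⟩ ⟨.c7, .c2, .c0⟩ ⟨.c7, .c0, .c12⟩ ⟨.c7, .c0, .c13⟩ ⟨.c7, .c13, .c7⟩ ⟨.c7, .c0, .c15⟩ ⟨.c7, .c0, .c16⟩ ⟨.c7, .c13, .c10⟩) (@D3.rec (fun _ => Pt) ⟨.c7, .c1, .c0⟩ ⟨.c7, .c1, .c1⟩ ⟨.c7, .c13, .c13⟩ ⟨.c6, .c4, .c13⟩ ⟨.c7, .c1, .c4⟩ ⟨.c7, .c13, .c16⟩ ⟨.c7, .c13, .c17⟩ ⟨.c6, .c4, .c17⟩ ⟨.c6, .c5, .c11⟩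 ⟨.c7, .c14, .c3⟩ ⟨.c6, .c5, .c13⟩ ⟨.c7, .c14, .c5⟩ ⟨.c6, .c5, .c3⟩ ⟨.c7, .c14, .c7⟩ ⟨.c6, .c5, .c5⟩ ⟨.c7, .c0, .c3⟩ ⟨.c7, .c0, .c8⟩ ⟨.c7, .c14, .c14⟩) (@D3.rec (fun _ => Pt) ⟨.c7, .c0, .c11⟩ ⟨.c6, .c14, .c12⟩ ⟨.c8, .c0, .c0⟩ ⟨.c6, .c5, .c9⟩ ⟨.c7, .c14, .c0⟩ ⟨.c6, .c14, .c11⟩ ⟨.c8, .c0, .c6⟩ ⟨.c8, .c0, .c8⟩ ⟨.c6, .c5, .c12⟩ ⟨.c6, .c13, .c5⟩ ⟨.c8, .c0, .c12⟩ ⟨.c8, .c0, .c13⟩ ⟨.c6, .c5, .c15⟩ ⟨.c6, .c8, .c11⟩ ⟨.c8, .c0, .c16⟩ ⟨.c8, .c1, .c0⟩ ⟨.c6, .c6, .c0⟩ ⟨.c6, .c6, .c1⟩) (@D3.rec (fun _ => Pt) ⟨.c7, .c3, .c0⟩ ⟨.c8, .c1, .c3⟩ ⟨.c8, .c1, .c5⟩ ⟨.c6, .c6,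 .c5⟩ ⟨.c6, .c6, .c17⟩ ⟨.c6, .c7, .c0⟩ ⟨.c8, .c1, .c11⟩ ⟨.c6, .c7, .c2⟩ ⟨.c8, .c1, .c13⟩ ⟨.c6, .c6, .c9⟩ ⟨.c6, .c7, .c6⟩ ⟨.c8, .c1, .c17⟩ ⟨.c8, .c2, .c1⟩ ⟨.c6, .c6, .c11⟩ ⟨.c8, .c2, .c2⟩ ⟨.c6, .c6, .c13⟩ ⟨.c6, .c6, .c15⟩ ⟨.c8, .c1, .c6⟩) (@D3.rec (fun _ => Pt) ⟨.c8, .c2, .c6⟩ ⟨.c8, .c1, .c8⟩ ⟨.c6, .c14, .c10⟩ ⟨.c8, .c2, .c12⟩ ⟨.c8, .c2, .c13⟩ ⟨.c6, .c7, .c1⟩ ⟨.c6, .c13, .c1⟩ ⟨.c8, .c2, .c16⟩ ⟨.c8, .c2, .c17⟩ ⟨.c6, .c7, .c4⟩ ⟨.c8, .c1, .c14⟩ ⟨.c6, .c13, .c4⟩ ⟨.c8, .c3, .c5⟩ ⟨.c8, .c3, .c7⟩ ⟨.c8, .c3, .c9⟩ ⟨.c6, .c7, .c8⟩ ⟨.c8, .c3, .c11⟩ ⟨.c6, .c7, .c9⟩)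 (@D3.rec (fun _ => Pt) ⟨.c6, .c8, .c9⟩ ⟨.c8, .c3, .c15⟩ ⟨.c8, .c3, .c17⟩ ⟨.c6, .c7, .c12⟩ ⟨.c6, .c7, .c13⟩ ⟨.c8, .c4, .c0⟩ ⟨.c8, .c4, .c2⟩ ⟨.c6, .c7, .c16⟩ ⟨.c8, .c4, .c4⟩ ⟨.c6, .c7, .c17⟩ ⟨.c6, .c8, .c7⟩ ⟨.c6, .c12, .c11⟩ ⟨.c6, .c13, .c3⟩ ⟨.c8, .c4, .c6⟩ ⟨.c8, .c3, .c2⟩ ⟨.c6, .c10, .c6⟩ ⟨.c8, .c0, .c9⟩ ⟨.c7, .c5, .c17⟩) (@D3.rec (fun _ => Pt) ⟨.c8, .c4, .c12⟩ ⟨.c8, .c4, .c13⟩ ⟨.c6, .c8, .c14⟩ ⟨.c6, .c9, .c15⟩ ⟨.c6, .c9, .c16⟩ ⟨.c8, .c5, .c0⟩ ⟨.c6, .c8, .c17⟩ ⟨.c6, .c10, .c2⟩ ⟨.c8, .c5, .c3⟩ ⟨.c8, .c5, .c4⟩ ⟨.c6, .c9, .c2⟩ ⟨.c8, .c5, .c6⟩ ⟨.c8, .c5,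 .c8⟩ ⟨.c6, .c9, .c5⟩ ⟨.c6, .c9, .c6⟩ ⟨.c7, .c0, .c2⟩ ⟨.c8, .c5, .c11⟩ ⟨.c7, .c0, .c7⟩) (@D3.rec (fun _ => Pt) ⟨.c7, .c0, .c6⟩ ⟨.c8, .c5, .c17⟩ ⟨.c8, .c6, .c0⟩ ⟨.c6, .c9, .c10⟩ ⟨.c7, .c0, .c10⟩ ⟨.c8, .c6, .c4⟩ ⟨.c8, .c6, .c5⟩ ⟨.c6, .c9, .c13⟩ ⟨.c8, .c4, .c14⟩ ⟨.c8, .c4, .c15⟩ ⟨.c8, .c6, .c11⟩ ⟨.c8, .c6, .c13⟩ ⟨.c8, .c6, .c15⟩ ⟨.c6, .c9, .c17⟩ ⟨.c8, .c6, .c17⟩ ⟨.c6, .c10, .c0⟩ ⟨.c8, .c4, .c8⟩ ⟨.c8, .c7, .c2⟩) (@D3.rec (fun _ => Pt) ⟨.c8, .c7, .c4⟩ ⟨.c6, .c10, .c3⟩ ⟨.c6, .c10, .c4⟩ ⟨.c8, .c7, .c5⟩ ⟨.c8, .c7, .c6⟩ ⟨.c6, .c10, .c7⟩ ⟨.c8, .c7, .c8⟩ ⟨.c6, .c10,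 .c8⟩ ⟨.c6, .c11, .c12⟩ ⟨.c6, .c11, .c13⟩ ⟨.c8, .c7, .c11⟩ ⟨.c6, .c10, .c13⟩ ⟨.c8, .c7, .c12⟩ ⟨.c6, .c10, .c15⟩ ⟨.c6, .c12, .c3⟩ ⟨.c6, .c12, .c4⟩ ⟨.c8, .c7, .c16⟩ ⟨.c8, .c8, .c0⟩) (@D3.rec (fun _ => Pt) ⟨.c8, .c8, .c2⟩ ⟨.c6, .c11, .c1⟩ ⟨.c6, .c11, .c2⟩ ⟨.c8, .c8, .c3⟩ ⟨.c8, .c8, .c5⟩ ⟨.c6, .c11, .c5⟩ ⟨.c6, .c11, .c6⟩ ⟨.c6, .c11, .c8⟩ ⟨.c6, .c11, .c9⟩ ⟨.c8, .c6, .c6⟩ ⟨.c7, .c0, .c1⟩ ⟨.c8, .c8, .c7⟩ ⟨.c8, .c8, .c8⟩ ⟨.c6, .c11, .c15⟩ ⟨.c8, .c8, .c9⟩ ⟨.c8, .c8, .c11⟩ ⟨.c6, .c12, .c0⟩ ⟨.c6, .c12, .c1⟩) (@D3.rec (fun _ => Pt) ⟨.c8, .c8, .c13⟩ ⟨.c8, .c2, .c7⟩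 ⟨.c8, .c8, .c15⟩ ⟨.c8, .c9, .c0⟩ ⟨.c6, .c12, .c5⟩ ⟨.c8, .c9, .c2⟩ ⟨.c6, .c12, .c6⟩ ⟨.c8, .c9, .c4⟩ ⟨.c6, .c12, .c7⟩ ⟨.c8, .c9, .c6⟩ ⟨.c6, .c12, .c9⟩ ⟨.c6, .c12, .c12⟩ ⟨.c8, .c9, .c8⟩ ⟨.c6, .c12, .c13⟩ ⟨.c8, .c9, .c10⟩ ⟨.c6, .c12, .c17⟩ ⟨.c8, .c2, .c8⟩ ⟨.c8, .c9, .c13⟩) (@D3.rec (fun _ => Pt) ⟨.c6, .c13, .c2⟩ ⟨.c8, .c3, .c0⟩ ⟨.c8, .c0, .c2⟩ ⟨.c7, .c14, .c15⟩ ⟨.c8, .c9, .c17⟩ ⟨.c8, .c10, .c1⟩ ⟨.c6, .c13, .c7⟩ ⟨.c6, .c13, .c8⟩ ⟨.c6, .c13, .c10⟩ ⟨.c8, .c10, .c3⟩ ⟨.c6, .c13, .c11⟩ ⟨.c8, .c10, .c5⟩ ⟨.c6, .c13, .c14⟩ ⟨.c8, .c10, .c8⟩ ⟨.c8, .c10, .c10⟩ ⟨.c6,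 .c13, .c15⟩ ⟨.c8, .c10, .c13⟩ ⟨.c6, .c13, .c17⟩) (@D3.rec (fun _ => Pt) ⟨.c8, .c10, .c14⟩ ⟨.c6, .c14, .c1⟩ ⟨.c8, .c10, .c15⟩ ⟨.c6, .c14, .c3⟩ ⟨.c8, .c10, .c16⟩ ⟨.c6, .c14, .c6⟩ ⟨.c6, .c14, .c8⟩ ⟨.c8, .c2, .c4⟩ ⟨.c7, .c14, .c11⟩ ⟨.c7, .c0, .c5⟩ ⟨.c8, .c11, .c0⟩ ⟨.c8, .c5, .c9⟩ ⟨.c7, .c14, .c8⟩ ⟨.c8, .c11, .c3⟩ ⟨.c7, .c0, .c4⟩ ⟨.c8, .c5, .c12⟩ ⟨.c8, .c5, .c13⟩ ⟨.c7, .c14, .c10⟩) (@D3.rec (fun _ => Pt) ⟨.c8, .c6, .c1⟩ ⟨.c7, .c13, .c1⟩ ⟨.c7, .c13, .c2⟩ ⟨.c8, .c11, .c9⟩ ⟨.c7, .c13, .c4⟩ ⟨.c7, .c13, .c5⟩ ⟨.c8, .c11, .c12⟩ ⟨.c7, .c0, .c14⟩ ⟨.c8, .c11, .c14⟩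 ⟨.c8, .c11, .c16⟩ ⟨.c7, .c0, .c17⟩ ⟨.c8, .c12, .c0⟩ ⟨.c8, .c12, .c1⟩ ⟨.c7, .c1, .c2⟩ ⟨.c8, .c12, .c3⟩ ⟨.c8, .c12, .c5⟩ ⟨.c7, .c1, .c5⟩ ⟨.c7, .c1, .c6⟩) (@D3.rec (fun _ => Pt) ⟨.c7, .c2, .c4⟩ ⟨.c8, .c12, .c9⟩ ⟨.c8, .c12, .c10⟩ ⟨.c7, .c1, .c9⟩ ⟨.c8, .c12, .c12⟩ ⟨.c7, .c1, .c11⟩ ⟨.c8, .c12, .c13⟩ ⟨.c7, .c1, .c13⟩ ⟨.c7, .c12, .c12⟩ ⟨.c8, .c13, .c0⟩ ⟨.c7, .c12, .c17⟩ ⟨.c7, .c12, .c8⟩ ⟨.c8, .c13, .c6⟩ ⟨.c8, .c13, .c8⟩ ⟨.c7, .c1, .c17⟩ ⟨.c7, .c11, .c3⟩ ⟨.c8, .c13, .c12⟩ ⟨.c8, .c13, .c13⟩)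
def f_i_8 : D2 → D3 → Pt := @D2.rec (fun _ => D3 → Pt) (@D3.rec (fun _ => Pt) ⟨.c7, .c2, .c2⟩ ⟨.c8, .c12, .c6⟩ ⟨.c7, .c11, .c2⟩ ⟨.c8, .c14, .c1⟩ ⟨.c8, .c14, .c3⟩ ⟨.c8, .c14, .c5⟩ ⟨.c7, .c2, .c6⟩ ⟨.c8, .c14, .c7⟩ ⟨.c7, .c2, .c7⟩ ⟨.c7, .c5, .c16⟩ ⟨.c8, .c14, .c11⟩ ⟨.c8, .c14, .c13⟩ ⟨.c7, .c2, .c10⟩ ⟨.c7, .c2, .c11⟩ ⟨.c8, .c14, .c15⟩ ⟨.c8, .c14, .c17⟩ ⟨.c7, .c2, .c14⟩ ⟨.c9, .c0, .c1⟩) (@D3.rec (fun _ => Pt) ⟨.c7, .c2, .c15⟩ ⟨.c8, .c1, .c1⟩ ⟨.c9, .c0, .c5⟩ ⟨.c7, .c3, .c1⟩ ⟨.c9, .c0, .c7⟩ ⟨.c7, .c3, .c2⟩ ⟨.c7, .c3, .c17⟩ ⟨.c9, .c0, .c10⟩ ⟨.c7, .c4, .c1⟩ ⟨.c9,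 .c0, .c13⟩ ⟨.c9, .c0, .c14⟩ ⟨.c7, .c3, .c6⟩ ⟨.c9, .c0, .c15⟩ ⟨.c7, .c3, .c8⟩ ⟨.c7, .c4, .c10⟩ ⟨.c9, .c1, .c0⟩ ⟨.c9, .c1, .c2⟩ ⟨.c7, .c3, .c11⟩) (@D3.rec (fun _ => Pt) ⟨.c9, .c1, .c4⟩ ⟨.c7, .c3, .c12⟩ ⟨.c7, .c3, .c14⟩ ⟨.c9, .c0, .c8⟩ ⟨.c7, .c12, .c7⟩ ⟨.c9, .c1, .c10⟩ ⟨.c7, .c4, .c0⟩ ⟨.c7, .c10, .c1⟩ ⟨.c7, .c10, .c16⟩ ⟨.c9, .c1, .c14⟩ ⟨.c9, .c1, .c16⟩ ⟨.c9, .c2, .c0⟩ ⟨.c7, .c4, .c3⟩ ⟨.c7, .c4, .c4⟩ ⟨.c9, .c2, .c2⟩ ⟨.c9, .c2, .c4⟩ ⟨.c7, .c4, .c7⟩ ⟨.c7, .c4, .c8⟩) (@D3.rec (fun _ => Pt) ⟨.c7, .c11, .c1⟩ ⟨.c9, .c2, .c6⟩ ⟨.c7, .c5, .c14⟩ ⟨.c9, .c2, .c9⟩ ⟨.c9,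 .c2, .c12⟩ ⟨.c7, .c4, .c12⟩ ⟨.c9, .c2, .c14⟩ ⟨.c7, .c4, .c13⟩ ⟨.c9, .c2, .c16⟩ ⟨.c7, .c4, .c14⟩ ⟨.c9, .c3, .c1⟩ ⟨.c7, .c4, .c16⟩ ⟨.c8, .c3, .c12⟩ ⟨.c9, .c3, .c3⟩ ⟨.c9, .c3, .c4⟩ ⟨.c7, .c5, .c1⟩ ⟨.c9, .c3, .c6⟩ ⟨.c7, .c5, .c2⟩) (@D3.rec (fun _ => Pt) ⟨.c7, .c5, .c5⟩ ⟨.c9, .c3, .c8⟩ ⟨.c7, .c5, .c6⟩ ⟨.c9, .c3, .c10⟩ ⟨.c7, .c5, .c8⟩ ⟨.c9, .c3, .c11⟩ ⟨.c7, .c5, .c13⟩ ⟨.c8, .c13, .c16⟩ ⟨.c7, .c7, .c16⟩ ⟨.c8, .c13, .c9⟩ ⟨.c9, .c3, .c14⟩ ⟨.c9, .c3, .c16⟩ ⟨.c7, .c6, .c0⟩ ⟨.c7, .c6, .c1⟩ ⟨.c7, .c7, .c8⟩ ⟨.c7, .c7, .c9⟩ ⟨.c9, .c4, .c2⟩ ⟨.c9, .c4, .c3⟩) (@D3.rec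 (fun _ => Pt) ⟨.c7, .c6, .c5⟩ ⟨.c9, .c4, .c5⟩ ⟨.c9, .c4, .c7⟩ ⟨.c7, .c6, .c8⟩ ⟨.c7, .c6, .c9⟩ ⟨.c9, .c4, .c8⟩ ⟨.c7, .c6, .c11⟩ ⟨.c9, .c4, .c10⟩ ⟨.c7, .c6, .c12⟩ ⟨.c7, .c12, .c11⟩ ⟨.c9, .c4, .c13⟩ ⟨.c7, .c6, .c16⟩ ⟨.c7, .c12, .c15⟩ ⟨.c7, .c12, .c16⟩ ⟨.c9, .c5, .c0⟩ ⟨.c9, .c5, .c1⟩ ⟨.c9, .c5, .c3⟩ ⟨.c7, .c7, .c1⟩) (@D3.rec (fun _ => Pt) ⟨.c7, .c7, .c2⟩ ⟨.c7, .c13, .c0⟩ ⟨.c9, .c5, .c6⟩ ⟨.c9, .c5, .c8⟩ ⟨.c7, .c7, .c5⟩ ⟨.c7, .c7, .c6⟩ ⟨.c7, .c9, .c9⟩ ⟨.c9, .c5, .c10⟩ ⟨.c9, .c1, .c6⟩ ⟨.c9, .c5, .c13⟩ ⟨.c9, .c5, .c16⟩ ⟨.c7, .c7, .c10⟩ ⟨.c9, .c5, .c17⟩ ⟨.c7,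 .c7, .c11⟩ ⟨.c9, .c6, .c1⟩ ⟨.c7, .c7, .c12⟩ ⟨.c9, .c6, .c3⟩ ⟨.c7, .c7, .c14⟩) (@D3.rec (fun _ => Pt) ⟨.c9, .c6, .c4⟩ ⟨.c9, .c6, .c6⟩ ⟨.c7, .c7, .c17⟩ ⟨.c9, .c6, .c8⟩ ⟨.c7, .c8, .c0⟩ ⟨.c7, .c8, .c3⟩ ⟨.c7, .c8, .c4⟩ ⟨.c9, .c6, .c12⟩ ⟨.c7, .c8, .c6⟩ ⟨.c8, .c7, .c9⟩ ⟨.c9, .c6, .c15⟩ ⟨.c7, .c8, .c10⟩ ⟨.c7, .c8, .c12⟩ ⟨.c9, .c6, .c17⟩ ⟨.c9, .c7, .c1⟩ ⟨.c9, .c7, .c4⟩ ⟨.c7, .c8, .c16⟩ ⟨.c9, .c7, .c5⟩) (@D3.rec (fun _ => Pt) ⟨.c7, .c8, .c17⟩ ⟨.c9, .c7, .c6⟩ ⟨.c7, .c9, .c0⟩ ⟨.c7, .c9, .c3⟩ ⟨.c9, .c7, .c7⟩ ⟨.c7, .c9, .c4⟩ ⟨.c9, .c7, .c9⟩ ⟨.c7, .c9, .c11⟩ ⟨.c7,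 .c9, .c12⟩ ⟨.c7, .c9, .c14⟩ ⟨.c9, .c7, .c11⟩ ⟨.c7, .c9, .c15⟩ ⟨.c9, .c7, .c14⟩ ⟨.c7, .c10, .c0⟩ ⟨.c9, .c7, .c16⟩ ⟨.c7, .c10, .c2⟩ ⟨.c9, .c8, .c1⟩ ⟨.c9, .c8, .c3⟩) (@D3.rec (fun _ => Pt) ⟨.c7, .c10, .c3⟩ ⟨.c9, .c8, .c6⟩ ⟨.c7, .c10, .c5⟩ ⟨.c9, .c8, .c8⟩ ⟨.c7, .c10, .c7⟩ ⟨.c9, .c8, .c9⟩ ⟨.c7, .c10, .c9⟩ ⟨.c9, .c8, .c10⟩ ⟨.c7, .c10, .c12⟩ ⟨.c9, .c8, .c11⟩ ⟨.c7, .c10, .c14⟩ ⟨.c9, .c1, .c7⟩ ⟨.c9, .c8, .c14⟩ ⟨.c7, .c10, .c17⟩ ⟨.c8, .c13, .c14⟩ ⟨.c8, .c13, .c2⟩ ⟨.c9, .c8, .c16⟩ ⟨.c7, .c11, .c4⟩) (@D3.rec (fun _ => Pt) ⟨.c9, .c9, .c0⟩ ⟨.c7, .c11, .c5⟩ ⟨.c9, .c9,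 .c2⟩ ⟨.c7, .c11, .c9⟩ ⟨.c9, .c9, .c4⟩ ⟨.c7, .c11, .c11⟩ ⟨.c9, .c9, .c7⟩ ⟨.c9, .c9, .c9⟩ ⟨.c7, .c11, .c13⟩ ⟨.c9, .c9, .c11⟩ ⟨.c7, .c11, .c14⟩ ⟨.c8, .c10, .c11⟩ ⟨.c9, .c9, .c13⟩ ⟨.c7, .c11, .c16⟩ ⟨.c7, .c12, .c0⟩ ⟨.c7, .c12, .c2⟩ ⟨.c7, .c12, .c4⟩ ⟨.c8, .c12, .c15⟩) (@D3.rec (fun _ => Pt) ⟨.c7, .c12, .c10⟩ ⟨.c8, .c12, .c14⟩ ⟨.c9, .c9, .c15⟩ ⟨.c7, .c12, .c13⟩ ⟨.c8, .c13, .c1⟩ ⟨.c9, .c4, .c15⟩ ⟨.c9, .c9, .c17⟩ ⟨.c9, .c10, .c1⟩ ⟨.c9, .c10, .c3⟩ ⟨.c7, .c13, .c3⟩ ⟨.c9, .c10, .c5⟩ ⟨.c9, .c10, .c6⟩ ⟨.c7, .c13, .c6⟩ ⟨.c9, .c10, .c8⟩ ⟨.c7, .c13, .c8⟩ ⟨.c9, .c10,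 .c10⟩ ⟨.c7, .c13, .c9⟩ ⟨.c9, .c10, .c13⟩) (@D3.rec (fun _ => Pt) ⟨.c7, .c13, .c11⟩ ⟨.c7, .c13, .c12⟩ ⟨.c9, .c10, .c15⟩ ⟨.c7, .c13, .c14⟩ ⟨.c9, .c10, .c17⟩ ⟨.c7, .c13, .c15⟩ ⟨.c8, .c0, .c1⟩ ⟨.c9, .c11, .c3⟩ ⟨.c9, .c11, .c5⟩ ⟨.c7, .c14, .c1⟩ ⟨.c7, .c14, .c2⟩ ⟨.c9, .c11, .c8⟩ ⟨.c7, .c14, .c4⟩ ⟨.c7, .c14, .c6⟩ ⟨.c8, .c11, .c1⟩ ⟨.c8, .c10, .c17⟩ ⟨.c9, .c11, .c14⟩ ⟨.c9, .c11, .c16⟩) (@D3.rec (fun _ => Pt) ⟨.c7, .c14, .c9⟩ ⟨.c8, .c11, .c4⟩ ⟨.c8, .c9, .c15⟩ ⟨.c9, .c12, .c4⟩ ⟨.c9, .c12, .c5⟩ ⟨.c9, .c12, .c7⟩ ⟨.c7, .c14, .c12⟩ ⟨.c9, .c12, .c9⟩ ⟨.c7, .c14, .c13⟩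 ⟨.c8, .c4, .c9⟩ ⟨.c9, .c12, .c12⟩ ⟨.c9, .c12, .c14⟩ ⟨.c7, .c14, .c16⟩ ⟨.c7, .c14, .c17⟩ ⟨.c8, .c9, .c14⟩ ⟨.c9, .c12, .c17⟩ ⟨.c8, .c4, .c7⟩ ⟨.c9, .c13, .c2⟩) (@D3.rec (fun _ => Pt) ⟨.c9, .c13, .c5⟩ ⟨.c8, .c0, .c3⟩ ⟨.c9, .c13, .c6⟩ ⟨.c8, .c0, .c4⟩ ⟨.c9, .c13, .c8⟩ ⟨.c8, .c0, .c5⟩ ⟨.c9, .c13, .c11⟩ ⟨.c8, .c0, .c7⟩ ⟨.c8, .c14, .c8⟩ ⟨.c9, .c13, .c14⟩ ⟨.c9, .c13, .c15⟩ ⟨.c8, .c0, .c10⟩ ⟨.c9, .c13, .c17⟩ ⟨.c8, .c0, .c11⟩ ⟨.c9, .c14, .c2⟩ ⟨.c8, .c0, .c14⟩ ⟨.c9, .c14, .c4⟩ ⟨.c8, .c0, .c15⟩)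
def f_i_9 : D2 → D3 → Pt := @D2.rec (fun _ => D3 → Pt) (@D3.rec (fun _ => Pt) ⟨.c9, .c14, .c7⟩ ⟨.c8, .c0, .c17⟩ ⟨.c9, .c0, .c2⟩ ⟨.c9, .c14, .c10⟩ ⟨.c9, .c14, .c11⟩ ⟨.c8, .c1, .c2⟩ ⟨.c9, .c14, .c13⟩ ⟨.c8, .c1, .c4⟩ ⟨.c8, .c2, .c3⟩ ⟨.c9, .c14, .c16⟩ ⟨.c8, .c1, .c7⟩ ⟨.c10, .c0, .c0⟩ ⟨.c10, .c0, .c2⟩ ⟨.c8, .c1, .c9⟩ ⟨.c8, .c1, .c10⟩ ⟨.c8, .c1, .c12⟩ ⟨.c10, .c0, .c5⟩ ⟨.c10, .c0, .c7⟩) (@D3.rec (fun _ => Pt) ⟨.c8, .c1, .c15⟩ ⟨.c10, .c0, .c9⟩ ⟨.c8, .c1, .c16⟩ ⟨.c10, .c0, .c12⟩ ⟨.c8, .c2, .c0⟩ ⟨.c9, .c1, .c5⟩ ⟨.c8, .c6, .c8⟩ ⟨.c8, .c9, .c11⟩ ⟨.c10, .c0, .c17⟩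 ⟨.c10, .c1, .c0⟩ ⟨.c8, .c2, .c5⟩ ⟨.c10, .c1, .c2⟩ ⟨.c10, .c1, .c4⟩ ⟨.c10, .c1, .c7⟩ ⟨.c8, .c2, .c9⟩ ⟨.c10, .c1, .c9⟩ ⟨.c8, .c2, .c10⟩ ⟨.c10, .c1, .c10⟩) (@D3.rec (fun _ => Pt) ⟨.c8, .c2, .c11⟩ ⟨.c9, .c2, .c1⟩ ⟨.c8, .c2, .c14⟩ ⟨.c10, .c1, .c12⟩ ⟨.c8, .c2, .c15⟩ ⟨.c10, .c1, .c14⟩ ⟨.c8, .c3, .c1⟩ ⟨.c10, .c1, .c16⟩ ⟨.c10, .c2, .c0⟩ ⟨.c8, .c3, .c3⟩ ⟨.c10, .c2, .c3⟩ ⟨.c10, .c2, .c5⟩ ⟨.c8, .c3, .c4⟩ ⟨.c10, .c2, .c8⟩ ⟨.c8, .c3, .c6⟩ ⟨.c10, .c2, .c11⟩ ⟨.c8, .c3, .c8⟩ ⟨.c9, .c2, .c17⟩) (@D3.rec (fun _ => Pt) ⟨.c10, .c2, .c13⟩ ⟨.c8, .c3, .c10⟩ ⟨.c9, .c3, .c2⟩ ⟨.c8,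 .c3, .c13⟩ ⟨.c8, .c3, .c14⟩ ⟨.c10, .c2, .c16⟩ ⟨.c8, .c3, .c16⟩ ⟨.c10, .c2, .c17⟩ ⟨.c8, .c4, .c1⟩ ⟨.c10, .c3, .c0⟩ ⟨.c8, .c4, .c3⟩ ⟨.c8, .c4, .c5⟩ ⟨.c9, .c12, .c1⟩ ⟨.c10, .c3, .c1⟩ ⟨.c8, .c4, .c10⟩ ⟨.c10, .c3, .c3⟩ ⟨.c8, .c4, .c11⟩ ⟨.c10, .c3, .c6⟩) (@D3.rec (fun _ => Pt) ⟨.c10, .c3, .c8⟩ ⟨.c10, .c3, .c10⟩ ⟨.c8, .c4, .c16⟩ ⟨.c8, .c4, .c17⟩ ⟨.c10, .c3, .c11⟩ ⟨.c8, .c5, .c1⟩ ⟨.c10, .c3, .c13⟩ ⟨.c8, .c5, .c2⟩ ⟨.c8, .c5, .c5⟩ ⟨.c10, .c3, .c17⟩ ⟨.c8, .c5, .c7⟩ ⟨.c9, .c4, .c11⟩ ⟨.c10, .c4, .c2⟩ ⟨.c8, .c5, .c10⟩ ⟨.c10, .c4, .c4⟩ ⟨.c8, .c11, .c5⟩ ⟨.c10, .c4,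 .c7⟩ ⟨.c10, .c4, .c10⟩) (@D3.rec (fun _ => Pt) ⟨.c8, .c5, .c14⟩ ⟨.c8, .c5, .c15⟩ ⟨.c10, .c4, .c11⟩ ⟨.c8, .c5, .c16⟩ ⟨.c10, .c4, .c12⟩ ⟨.c10, .c4, .c14⟩ ⟨.c8, .c6, .c2⟩ ⟨.c10, .c4, .c15⟩ ⟨.c8, .c6, .c3⟩ ⟨.c10, .c5, .c0⟩ ⟨.c8, .c6, .c7⟩ ⟨.c10, .c5, .c2⟩ ⟨.c10, .c5, .c4⟩ ⟨.c8, .c6, .c9⟩ ⟨.c10, .c5, .c7⟩ ⟨.c10, .c5, .c9⟩ ⟨.c8, .c6, .c10⟩ ⟨.c8, .c6, .c12⟩) (@D3.rec (fun _ => Pt) ⟨.c10, .c5, .c12⟩ ⟨.c8, .c6, .c14⟩ ⟨.c10, .c5, .c13⟩ ⟨.c8, .c6, .c16⟩ ⟨.c8, .c7, .c0⟩ ⟨.c10, .c5, .c14⟩ ⟨.c8, .c7, .c1⟩ ⟨.c10, .c5, .c17⟩ ⟨.c8, .c7, .c3⟩ ⟨.c9, .c6, .c9⟩ ⟨.c9, .c6,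 .c10⟩ ⟨.c10, .c6, .c1⟩ ⟨.c8, .c7, .c7⟩ ⟨.c9, .c6, .c13⟩ ⟨.c10, .c6, .c3⟩ ⟨.c8, .c7, .c10⟩ ⟨.c10, .c6, .c4⟩ ⟨.c8, .c7, .c13⟩) (@D3.rec (fun _ => Pt) ⟨.c10, .c6, .c5⟩ ⟨.c8, .c7, .c14⟩ ⟨.c10, .c6, .c7⟩ ⟨.c10, .c6, .c8⟩ ⟨.c8, .c7, .c15⟩ ⟨.c8, .c7, .c17⟩ ⟨.c8, .c8, .c1⟩ ⟨.c8, .c8, .c4⟩ ⟨.c10, .c6, .c11⟩ ⟨.c8, .c8, .c6⟩ ⟨.c10, .c6, .c13⟩ ⟨.c8, .c8, .c10⟩ ⟨.c10, .c6, .c16⟩ ⟨.c10, .c7, .c0⟩ ⟨.c8, .c8, .c12⟩ ⟨.c10, .c7, .c3⟩ ⟨.c8, .c8, .c14⟩ ⟨.c10, .c7, .c7⟩) (@D3.rec (fun _ => Pt) ⟨.c10, .c7, .c9⟩ ⟨.c8, .c8, .c16⟩ ⟨.c10, .c7, .c11⟩ ⟨.c8, .c8, .c17⟩ ⟨.c10, .c7,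 .c1⟩ ⟨.c10, .c7, .c13⟩ ⟨.c8, .c9, .c1⟩ ⟨.c10, .c7, .c14⟩ ⟨.c8, .c9, .c3⟩ ⟨.c8, .c9, .c5⟩ ⟨.c8, .c9, .c7⟩ ⟨.c8, .c9, .c9⟩ ⟨.c9, .c11, .c10⟩ ⟨.c10, .c7, .c16⟩ ⟨.c8, .c9, .c12⟩ ⟨.c9, .c11, .c17⟩ ⟨.c8, .c9, .c16⟩ ⟨.c10, .c8, .c0⟩) (@D3.rec (fun _ => Pt) ⟨.c8, .c10, .c0⟩ ⟨.c9, .c9, .c1⟩ ⟨.c8, .c10, .c2⟩ ⟨.c10, .c8, .c2⟩ ⟨.c8, .c10, .c4⟩ ⟨.c9, .c9, .c5⟩ ⟨.c10, .c8, .c5⟩ ⟨.c8, .c10, .c6⟩ ⟨.c10, .c8, .c7⟩ ⟨.c8, .c10, .c7⟩ ⟨.c9, .c9, .c10⟩ ⟨.c8, .c10, .c9⟩ ⟨.c9, .c9, .c12⟩ ⟨.c8, .c10, .c12⟩ ⟨.c10, .c8, .c10⟩ ⟨.c8, .c11, .c2⟩ ⟨.c10, .c8, .c13⟩ ⟨.c8, .c11, .c6⟩)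 (@D3.rec (fun _ => Pt) ⟨.c10, .c8, .c14⟩ ⟨.c8, .c11, .c7⟩ ⟨.c10, .c8, .c16⟩ ⟨.c8, .c11, .c8⟩ ⟨.c10, .c9, .c0⟩ ⟨.c8, .c11, .c10⟩ ⟨.c8, .c11, .c11⟩ ⟨.c10, .c9, .c2⟩ ⟨.c8, .c11, .c13⟩ ⟨.c10, .c9, .c5⟩ ⟨.c8, .c11, .c15⟩ ⟨.c9, .c10, .c11⟩ ⟨.c10, .c9, .c8⟩ ⟨.c8, .c11, .c17⟩ ⟨.c10, .c9, .c11⟩ ⟨.c8, .c12, .c2⟩ ⟨.c10, .c9, .c14⟩ ⟨.c8, .c12, .c4⟩) (@D3.rec (fun _ => Pt) ⟨.c9, .c11, .c0⟩ ⟨.c10, .c9, .c17⟩ ⟨.c10, .c10, .c2⟩ ⟨.c8, .c12, .c7⟩ ⟨.c10, .c10, .c3⟩ ⟨.c8, .c12, .c8⟩ ⟨.c9, .c11, .c6⟩ ⟨.c10, .c10, .c5⟩ ⟨.c8, .c12, .c11⟩ ⟨.c9, .c11, .c9⟩ ⟨.c9, .c8, .c12⟩ ⟨.c10,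 .c10, .c9⟩ ⟨.c10, .c10, .c10⟩ ⟨.c10, .c10, .c12⟩ ⟨.c8, .c12, .c16⟩ ⟨.c10, .c10, .c13⟩ ⟨.c8, .c12, .c17⟩ ⟨.c9, .c8, .c15⟩) (@D3.rec (fun _ => Pt) ⟨.c10, .c10, .c17⟩ ⟨.c9, .c3, .c12⟩ ⟨.c10, .c11, .c2⟩ ⟨.c10, .c11, .c5⟩ ⟨.c8, .c13, .c3⟩ ⟨.c8, .c13, .c4⟩ ⟨.c10, .c11, .c7⟩ ⟨.c8, .c13, .c5⟩ ⟨.c10, .c11, .c9⟩ ⟨.c8, .c13, .c7⟩ ⟨.c9, .c12, .c10⟩ ⟨.c10, .c11, .c11⟩ ⟨.c8, .c13, .c10⟩ ⟨.c10, .c11, .c12⟩ ⟨.c8, .c13, .c11⟩ ⟨.c10, .c11, .c15⟩ ⟨.c10, .c12, .c0⟩ ⟨.c8, .c13, .c15⟩) (@D3.rec (fun _ => Pt) ⟨.c10, .c12, .c2⟩ ⟨.c10, .c12, .c3⟩ ⟨.c8, .c13, .c17⟩ ⟨.c10, .c12,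 .c5⟩ ⟨.c10, .c12, .c7⟩ ⟨.c8, .c14, .c0⟩ ⟨.c8, .c14, .c2⟩ ⟨.c10, .c12, .c11⟩ ⟨.c8, .c14, .c4⟩ ⟨.c9, .c13, .c9⟩ ⟨.c10, .c12, .c13⟩ ⟨.c8, .c14, .c6⟩ ⟨.c9, .c13, .c12⟩ ⟨.c10, .c12, .c15⟩ ⟨.c8, .c14, .c9⟩ ⟨.c8, .c14, .c10⟩ ⟨.c10, .c13, .c0⟩ ⟨.c8, .c14, .c12⟩) (@D3.rec (fun _ => Pt) ⟨.c9, .c14, .c0⟩ ⟨.c10, .c13, .c2⟩ ⟨.c8, .c14, .c14⟩ ⟨.c10, .c13, .c4⟩ ⟨.c8, .c14, .c16⟩ ⟨.c9, .c14, .c5⟩ ⟨.c10, .c13, .c6⟩ ⟨.c9, .c0, .c0⟩ ⟨.c9, .c14, .c8⟩ ⟨.c10, .c13, .c8⟩ ⟨.c9, .c0, .c3⟩ ⟨.c9, .c0, .c4⟩ ⟨.c10, .c13, .c10⟩ ⟨.c9, .c0, .c6⟩ ⟨.c9, .c14, .c14⟩ ⟨.c10, .c13, .c13⟩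 ⟨.c9, .c0, .c9⟩ ⟨.c10, .c13, .c15⟩)
def f_i_10 : D2 → D3 → Pt := @D2.rec (fun _ => D3 → Pt) (@D3.rec (fun _ => Pt) ⟨.c9, .c0, .c11⟩ ⟨.c10, .c13, .c16⟩ ⟨.c9, .c0, .c12⟩ ⟨.c10, .c0, .c3⟩ ⟨.c10, .c14, .c1⟩ ⟨.c9, .c0, .c16⟩ ⟨.c10, .c14, .c3⟩ ⟨.c9, .c0, .c17⟩ ⟨.c10, .c14, .c5⟩ ⟨.c9, .c1, .c1⟩ ⟨.c10, .c0, .c10⟩ ⟨.c10, .c14, .c7⟩ ⟨.c9, .c1, .c3⟩ ⟨.c10, .c0, .c13⟩ ⟨.c10, .c14, .c10⟩ ⟨.c10, .c14, .c12⟩ ⟨.c10, .c14, .c14⟩ ⟨.c9, .c1, .c8⟩) (@D3.rec (fun _ => Pt) ⟨.c9, .c1, .c9⟩ ⟨.c10, .c14, .c16⟩ ⟨.c9, .c1, .c11⟩ ⟨.c11, .c0, .c0⟩ ⟨.c9, .c1, .c12⟩ ⟨.c11, .c0, .c2⟩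 ⟨.c11, .c0, .c3⟩ ⟨.c9, .c1, .c13⟩ ⟨.c11, .c0, .c6⟩ ⟨.c9, .c1, .c15⟩ ⟨.c9, .c1, .c17⟩ ⟨.c10, .c1, .c11⟩ ⟨.c9, .c2, .c3⟩ ⟨.c11, .c0, .c10⟩ ⟨.c9, .c2, .c5⟩ ⟨.c11, .c0, .c13⟩ ⟨.c9, .c2, .c7⟩ ⟨.c11, .c0, .c15⟩) (@D3.rec (fun _ => Pt) ⟨.c9, .c2, .c8⟩ ⟨.c11, .c1, .c1⟩ ⟨.c11, .c1, .c3⟩ ⟨.c9, .c2, .c10⟩ ⟨.c11, .c1, .c6⟩ ⟨.c9, .c2, .c11⟩ ⟨.c11, .c0, .c11⟩ ⟨.c11, .c1, .c9⟩ ⟨.c9, .c2, .c13⟩ ⟨.c10, .c2, .c9⟩ ⟨.c11, .c1, .c11⟩ ⟨.c9, .c2, .c15⟩ ⟨.c10, .c2, .c12⟩ ⟨.c9, .c3, .c0⟩ ⟨.c10, .c2, .c14⟩ ⟨.c11, .c1, .c15⟩ ⟨.c9, .c3, .c5⟩ ⟨.c9, .c3, .c7⟩) (@D3.rec (fun _ =>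 Pt) ⟨.c9, .c3, .c9⟩ ⟨.c9, .c3, .c13⟩ ⟨.c11, .c1, .c17⟩ ⟨.c9, .c3, .c15⟩ ⟨.c10, .c3, .c4⟩ ⟨.c11, .c2, .c1⟩ ⟨.c9, .c3, .c17⟩ ⟨.c11, .c2, .c2⟩ ⟨.c9, .c4, .c0⟩ ⟨.c11, .c2, .c4⟩ ⟨.c9, .c4, .c1⟩ ⟨.c9, .c4, .c4⟩ ⟨.c11, .c2, .c7⟩ ⟨.c9, .c4, .c6⟩ ⟨.c10, .c3, .c14⟩ ⟨.c10, .c3, .c15⟩ ⟨.c11, .c2, .c9⟩ ⟨.c9, .c4, .c9⟩) (@D3.rec (fun _ => Pt) ⟨.c10, .c4, .c0⟩ ⟨.c11, .c2, .c11⟩ ⟨.c9, .c4, .c12⟩ ⟨.c11, .c2, .c13⟩ ⟨.c9, .c4, .c14⟩ ⟨.c11, .c2, .c15⟩ ⟨.c11, .c2, .c17⟩ ⟨.c9, .c4, .c16⟩ ⟨.c11, .c3, .c1⟩ ⟨.c11, .c3, .c2⟩ ⟨.c9, .c4, .c17⟩ ⟨.c9, .c5, .c2⟩ ⟨.c9, .c5, .c4⟩ ⟨.c11,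 .c3, .c4⟩ ⟨.c9, .c5, .c5⟩ ⟨.c9, .c5, .c7⟩ ⟨.c10, .c4, .c16⟩ ⟨.c11, .c3, .c8⟩) (@D3.rec (fun _ => Pt) ⟨.c9, .c5, .c9⟩ ⟨.c11, .c3, .c11⟩ ⟨.c9, .c5, .c11⟩ ⟨.c11, .c3, .c12⟩ ⟨.c9, .c5, .c12⟩ ⟨.c11, .c3, .c16⟩ ⟨.c11, .c4, .c0⟩ ⟨.c9, .c5, .c14⟩ ⟨.c11, .c4, .c3⟩ ⟨.c9, .c5, .c15⟩ ⟨.c11, .c3, .c9⟩ ⟨.c11, .c4, .c5⟩ ⟨.c9, .c6, .c0⟩ ⟨.c9, .c6, .c2⟩ ⟨.c9, .c6, .c5⟩ ⟨.c10, .c5, .c15⟩ ⟨.c11, .c4, .c7⟩ ⟨.c9, .c6, .c7⟩) (@D3.rec (fun _ => Pt) ⟨.c10, .c6, .c0⟩ ⟨.c9, .c6, .c11⟩ ⟨.c10, .c6, .c2⟩ ⟨.c9, .c6, .c14⟩ ⟨.c9, .c6, .c16⟩ ⟨.c9, .c7, .c0⟩ ⟨.c11, .c4, .c14⟩ ⟨.c9, .c7,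 .c2⟩ ⟨.c9, .c7, .c3⟩ ⟨.c11, .c4, .c12⟩ ⟨.c11, .c4, .c17⟩ ⟨.c9, .c7, .c8⟩ ⟨.c11, .c4, .c13⟩ ⟨.c9, .c7, .c10⟩ ⟨.c11, .c5, .c3⟩ ⟨.c11, .c5, .c5⟩ ⟨.c9, .c7, .c12⟩ ⟨.c11, .c5, .c7⟩) (@D3.rec (fun _ => Pt) ⟨.c9, .c7, .c13⟩ ⟨.c9, .c8, .c4⟩ ⟨.c11, .c5, .c9⟩ ⟨.c9, .c7, .c15⟩ ⟨.c11, .c4, .c11⟩ ⟨.c11, .c5, .c11⟩ ⟨.c11, .c5, .c13⟩ ⟨.c9, .c7, .c17⟩ ⟨.c11, .c5, .c15⟩ ⟨.c9, .c8, .c0⟩ ⟨.c11, .c5, .c6⟩ ⟨.c9, .c8, .c2⟩ ⟨.c11, .c5, .c8⟩ ⟨.c9, .c8, .c5⟩ ⟨.c9, .c8, .c7⟩ ⟨.c11, .c6, .c0⟩ ⟨.c9, .c8, .c13⟩ ⟨.c10, .c7, .c17⟩) (@D3.rec (fun _ => Pt) ⟨.c9, .c8, .c17⟩ ⟨.c10, .c8,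 .c1⟩ ⟨.c9, .c9, .c3⟩ ⟨.c10, .c8, .c3⟩ ⟨.c11, .c6, .c3⟩ ⟨.c9, .c9, .c6⟩ ⟨.c10, .c8, .c6⟩ ⟨.c9, .c9, .c8⟩ ⟨.c10, .c8, .c8⟩ ⟨.c10, .c8, .c9⟩ ⟨.c9, .c9, .c14⟩ ⟨.c11, .c6, .c7⟩ ⟨.c11, .c6, .c8⟩ ⟨.c9, .c9, .c16⟩ ⟨.c9, .c10, .c0⟩ ⟨.c11, .c6, .c11⟩ ⟨.c9, .c10, .c2⟩ ⟨.c10, .c8, .c17⟩) (@D3.rec (fun _ => Pt) ⟨.c9, .c10, .c4⟩ ⟨.c11, .c6, .c14⟩ ⟨.c9, .c10, .c7⟩ ⟨.c10, .c9, .c3⟩ ⟨.c11, .c6, .c16⟩ ⟨.c9, .c10, .c9⟩ ⟨.c10, .c9, .c6⟩ ⟨.c11, .c7, .c1⟩ ⟨.c9, .c10, .c12⟩ ⟨.c10, .c9, .c9⟩ ⟨.c11, .c7, .c3⟩ ⟨.c9, .c10, .c14⟩ ⟨.c10, .c9, .c12⟩ ⟨.c11, .c7, .c5⟩ ⟨.c9, .c10, .c16⟩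 ⟨.c10, .c9, .c15⟩ ⟨.c11, .c7, .c10⟩ ⟨.c9, .c11, .c1⟩) (@D3.rec (fun _ => Pt) ⟨.c11, .c7, .c12⟩ ⟨.c11, .c7, .c13⟩ ⟨.c9, .c11, .c2⟩ ⟨.c9, .c11, .c4⟩ ⟨.c10, .c10, .c4⟩ ⟨.c9, .c11, .c7⟩ ⟨.c10, .c10, .c6⟩ ⟨.c11, .c8, .c0⟩ ⟨.c11, .c8, .c3⟩ ⟨.c9, .c11, .c11⟩ ⟨.c9, .c11, .c12⟩ ⟨.c11, .c8, .c4⟩ ⟨.c9, .c11, .c13⟩ ⟨.c9, .c11, .c15⟩ ⟨.c10, .c10, .c14⟩ ⟨.c11, .c8, .c8⟩ ⟨.c11, .c8, .c11⟩ ⟨.c9, .c12, .c0⟩) (@D3.rec (fun _ => Pt) ⟨.c11, .c8, .c13⟩ ⟨.c11, .c8, .c14⟩ ⟨.c9, .c12, .c2⟩ ⟨.c11, .c8, .c15⟩ ⟨.c11, .c8, .c17⟩ ⟨.c9, .c12, .c3⟩ ⟨.c11, .c9, .c1⟩ ⟨.c9, .c12, .c6⟩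 ⟨.c10, .c11, .c8⟩ ⟨.c9, .c12, .c8⟩ ⟨.c10, .c11, .c10⟩ ⟨.c9, .c12, .c11⟩ ⟨.c9, .c12, .c13⟩ ⟨.c10, .c11, .c13⟩ ⟨.c11, .c9, .c5⟩ ⟨.c9, .c12, .c15⟩ ⟨.c11, .c9, .c7⟩ ⟨.c11, .c9, .c9⟩) (@D3.rec (fun _ => Pt) ⟨.c9, .c12, .c16⟩ ⟨.c11, .c9, .c12⟩ ⟨.c9, .c13, .c0⟩ ⟨.c9, .c13, .c1⟩ ⟨.c11, .c9, .c15⟩ ⟨.c9, .c13, .c3⟩ ⟨.c11, .c10, .c0⟩ ⟨.c9, .c13, .c4⟩ ⟨.c11, .c9, .c10⟩ ⟨.c10, .c12, .c9⟩ ⟨.c11, .c10, .c2⟩ ⟨.c9, .c13, .c7⟩ ⟨.c10, .c12, .c12⟩ ⟨.c9, .c13, .c10⟩ ⟨.c10, .c12, .c14⟩ ⟨.c9, .c13, .c13⟩ ⟨.c10, .c12, .c16⟩ ⟨.c11, .c10, .c7⟩) (@D3.rec (fun _ => Pt) ⟨.c9, .c13,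 .c16⟩ ⟨.c10, .c13, .c1⟩ ⟨.c9, .c14, .c1⟩ ⟨.c10, .c13, .c3⟩ ⟨.c9, .c14, .c3⟩ ⟨.c10, .c13, .c5⟩ ⟨.c9, .c14, .c6⟩ ⟨.c10, .c13, .c7⟩ ⟨.c9, .c14, .c9⟩ ⟨.c10, .c13, .c9⟩ ⟨.c9, .c14, .c12⟩ ⟨.c10, .c13, .c11⟩ ⟨.c11, .c10, .c16⟩ ⟨.c9, .c14, .c15⟩ ⟨.c11, .c10, .c17⟩ ⟨.c9, .c14, .c17⟩ ⟨.c10, .c0, .c1⟩ ⟨.c10, .c13, .c17⟩) (@D3.rec (fun _ => Pt) ⟨.c11, .c11, .c2⟩ ⟨.c10, .c0, .c4⟩ ⟨.c11, .c11, .c4⟩ ⟨.c10, .c0, .c6⟩ ⟨.c11, .c11, .c3⟩ ⟨.c10, .c0, .c8⟩ ⟨.c10, .c14, .c6⟩ ⟨.c10, .c0, .c11⟩ ⟨.c10, .c14, .c8⟩ ⟨.c11, .c11, .c9⟩ ⟨.c10, .c0, .c14⟩ ⟨.c11, .c11, .c10⟩ ⟨.c10,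 .c0, .c15⟩ ⟨.c11, .c11, .c11⟩ ⟨.c10, .c0, .c16⟩ ⟨.c11, .c11, .c13⟩ ⟨.c10, .c1, .c1⟩ ⟨.c11, .c11, .c16⟩)
def f_i_11 : D2 → D3 → Pt := @D2.rec (fun _ => D3 → Pt) (@D3.rec (fun _ => Pt) ⟨.c10, .c1, .c3⟩ ⟨.c11, .c12, .c0⟩ ⟨.c10, .c1, .c5⟩ ⟨.c10, .c1, .c6⟩ ⟨.c11, .c11, .c14⟩ ⟨.c11, .c12, .c3⟩ ⟨.c10, .c1, .c8⟩ ⟨.c11, .c0, .c7⟩ ⟨.c11, .c0, .c8⟩ ⟨.c11, .c12, .c7⟩ ⟨.c10, .c1, .c13⟩ ⟨.c10, .c2, .c6⟩ ⟨.c11, .c12, .c9⟩ ⟨.c10, .c1, .c15⟩ ⟨.c11, .c12, .c12⟩ ⟨.c10, .c1, .c17⟩ ⟨.c11, .c12, .c1⟩ ⟨.c11, .c12, .c14⟩) (@D3.rec (fun _ => Pt) ⟨.c11, .c12, .c16⟩ ⟨.c10, .c2,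 .c1⟩ ⟨.c11, .c13, .c1⟩ ⟨.c10, .c2, .c2⟩ ⟨.c11, .c11, .c17⟩ ⟨.c11, .c13, .c3⟩ ⟨.c10, .c2, .c4⟩ ⟨.c11, .c12, .c8⟩ ⟨.c11, .c13, .c6⟩ ⟨.c10, .c2, .c7⟩ ⟨.c11, .c1, .c10⟩ ⟨.c10, .c2, .c10⟩ ⟨.c11, .c1, .c12⟩ ⟨.c11, .c1, .c13⟩ ⟨.c11, .c1, .c14⟩ ⟨.c10, .c2, .c15⟩ ⟨.c11, .c1, .c16⟩ ⟨.c10, .c3, .c2⟩) (@D3.rec (fun _ => Pt) ⟨.c11, .c2, .c0⟩ ⟨.c10, .c3, .c5⟩ ⟨.c10, .c3, .c7⟩ ⟨.c11, .c13, .c16⟩ ⟨.c10, .c3, .c9⟩ ⟨.c11, .c13, .c14⟩ ⟨.c11, .c2, .c6⟩ ⟨.c10, .c3, .c12⟩ ⟨.c11, .c2, .c8⟩ ⟨.c10, .c3, .c16⟩ ⟨.c11, .c2, .c10⟩ ⟨.c10, .c4, .c1⟩ ⟨.c11, .c14, .c4⟩ ⟨.c10, .c4, .c3⟩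 ⟨.c11, .c14, .c6⟩ ⟨.c10, .c4, .c5⟩ ⟨.c11, .c14, .c7⟩ ⟨.c10, .c4, .c6⟩) (@D3.rec (fun _ => Pt) ⟨.c11, .c14, .c9⟩ ⟨.c10, .c4, .c8⟩ ⟨.c10, .c4, .c9⟩ ⟨.c11, .c14, .c5⟩ ⟨.c10, .c4, .c13⟩ ⟨.c11, .c3, .c5⟩ ⟨.c11, .c3, .c6⟩ ⟨.c11, .c14, .c14⟩ ⟨.c10, .c4, .c17⟩ ⟨.c10, .c5, .c10⟩ ⟨.c11, .c14, .c16⟩ ⟨.c10, .c5, .c1⟩ ⟨.c10, .c5, .c3⟩ ⟨.c11, .c14, .c11⟩ ⟨.c12, .c0, .c1⟩ ⟨.c12, .c0, .c2⟩ ⟨.c10, .c5, .c5⟩ ⟨.c12, .c0, .c4⟩) (@D3.rec (fun _ => Pt) ⟨.c10, .c5, .c6⟩ ⟨.c11, .c14, .c15⟩ ⟨.c12, .c0, .c7⟩ ⟨.c10, .c5, .c8⟩ ⟨.c11, .c14, .c8⟩ ⟨.c10, .c5, .c11⟩ ⟨.c11, .c4, .c6⟩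 ⟨.c10, .c5, .c16⟩ ⟨.c11, .c4, .c8⟩ ⟨.c11, .c4, .c9⟩ ⟨.c11, .c4, .c10⟩ ⟨.c10, .c7, .c4⟩ ⟨.c10, .c6, .c9⟩ ⟨.c10, .c6, .c12⟩ ⟨.c10, .c6, .c6⟩ ⟨.c11, .c11, .c0⟩ ⟨.c11, .c13, .c15⟩ ⟨.c10, .c6, .c10⟩) (@D3.rec (fun _ => Pt) ⟨.c11, .c12, .c10⟩ ⟨.c12, .c0, .c15⟩ ⟨.c12, .c0, .c16⟩ ⟨.c10, .c6, .c14⟩ ⟨.c12, .c1, .c0⟩ ⟨.c10, .c6, .c15⟩ ⟨.c10, .c7, .c10⟩ ⟨.c10, .c6, .c17⟩ ⟨.c10, .c7, .c12⟩ ⟨.c10, .c7, .c2⟩ ⟨.c11, .c14, .c3⟩ ⟨.c10, .c7, .c5⟩ ⟨.c12, .c1, .c5⟩ ⟨.c10, .c7, .c6⟩ ⟨.c12, .c0, .c17⟩ ⟨.c10, .c7, .c8⟩ ⟨.c12, .c1, .c1⟩ ⟨.c12, .c1, .c2⟩) (@D3.rec (fun _ => Pt)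 ⟨.c10, .c7, .c15⟩ ⟨.c11, .c6, .c1⟩ ⟨.c11, .c6, .c2⟩ ⟨.c10, .c8, .c4⟩ ⟨.c11, .c6, .c4⟩ ⟨.c11, .c6, .c5⟩ ⟨.c11, .c6, .c6⟩ ⟨.c10, .c8, .c11⟩ ⟨.c10, .c8, .c12⟩ ⟨.c11, .c6, .c9⟩ ⟨.c11, .c6, .c10⟩ ⟨.c10, .c8, .c15⟩ ⟨.c11, .c6, .c12⟩ ⟨.c11, .c6, .c13⟩ ⟨.c10, .c9, .c1⟩ ⟨.c11, .c6, .c15⟩ ⟨.c10, .c9, .c4⟩ ⟨.c11, .c6, .c17⟩) (@D3.rec (fun _ => Pt) ⟨.c11, .c7, .c0⟩ ⟨.c10, .c9, .c7⟩ ⟨.c11, .c7, .c2⟩ ⟨.c10, .c9, .c10⟩ ⟨.c11, .c7, .c4⟩ ⟨.c10, .c9, .c13⟩ ⟨.c11, .c7, .c6⟩ ⟨.c11, .c7, .c7⟩ ⟨.c12, .c2, .c8⟩ ⟨.c12, .c2, .c9⟩ ⟨.c10, .c9, .c16⟩ ⟨.c12, .c2, .c11⟩ ⟨.c10, .c10,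 .c0⟩ ⟨.c10, .c10, .c1⟩ ⟨.c12, .c2, .c10⟩ ⟨.c11, .c7, .c15⟩ ⟨.c11, .c7, .c16⟩ ⟨.c12, .c2, .c16⟩) (@D3.rec (fun _ => Pt) ⟨.c10, .c10, .c7⟩ ⟨.c12, .c2, .c17⟩ ⟨.c12, .c3, .c0⟩ ⟨.c10, .c10, .c8⟩ ⟨.c10, .c10, .c11⟩ ⟨.c11, .c8, .c5⟩ ⟨.c11, .c8, .c6⟩ ⟨.c12, .c3, .c3⟩ ⟨.c10, .c10, .c15⟩ ⟨.c12, .c3, .c4⟩ ⟨.c12, .c3, .c5⟩ ⟨.c10, .c10, .c16⟩ ⟨.c12, .c3, .c7⟩ ⟨.c10, .c11, .c0⟩ ⟨.c10, .c11, .c1⟩ ⟨.c10, .c11, .c3⟩ ⟨.c12, .c3, .c10⟩ ⟨.c10, .c11, .c4⟩) (@D3.rec (fun _ => Pt) ⟨.c12, .c3, .c6⟩ ⟨.c10, .c11, .c6⟩ ⟨.c11, .c9, .c2⟩ ⟨.c11, .c9, .c3⟩ ⟨.c11, .c9, .c4⟩ ⟨.c10,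 .c11, .c14⟩ ⟨.c12, .c3, .c16⟩ ⟨.c10, .c11, .c16⟩ ⟨.c12, .c4, .c0⟩ ⟨.c10, .c11, .c17⟩ ⟨.c10, .c12, .c8⟩ ⟨.c12, .c4, .c2⟩ ⟨.c10, .c12, .c1⟩ ⟨.c12, .c3, .c15⟩ ⟨.c12, .c4, .c4⟩ ⟨.c10, .c12, .c4⟩ ⟨.c12, .c3, .c17⟩ ⟨.c12, .c4, .c7⟩) (@D3.rec (fun _ => Pt) ⟨.c10, .c12, .c6⟩ ⟨.c12, .c4, .c1⟩ ⟨.c10, .c12, .c10⟩ ⟨.c11, .c10, .c3⟩ ⟨.c11, .c10, .c4⟩ ⟨.c11, .c10, .c5⟩ ⟨.c11, .c10, .c6⟩ ⟨.c10, .c12, .c17⟩ ⟨.c11, .c10, .c8⟩ ⟨.c11, .c10, .c9⟩ ⟨.c11, .c10, .c10⟩ ⟨.c11, .c10, .c11⟩ ⟨.c11, .c10, .c12⟩ ⟨.c11, .c10, .c13⟩ ⟨.c11, .c10, .c14⟩ ⟨.c11, .c10, .c15⟩ ⟨.c10, .c13,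 .c12⟩ ⟨.c10, .c13, .c14⟩) (@D3.rec (fun _ => Pt) ⟨.c11, .c4, .c15⟩ ⟨.c11, .c11, .c1⟩ ⟨.c10, .c14, .c0⟩ ⟨.c10, .c14, .c4⟩ ⟨.c10, .c14, .c2⟩ ⟨.c12, .c5, .c2⟩ ⟨.c11, .c11, .c6⟩ ⟨.c11, .c11, .c7⟩ ⟨.c11, .c11, .c8⟩ ⟨.c10, .c14, .c9⟩ ⟨.c10, .c14, .c11⟩ ⟨.c10, .c14, .c13⟩ ⟨.c12, .c5, .c7⟩ ⟨.c10, .c14, .c15⟩ ⟨.c11, .c0, .c4⟩ ⟨.c12, .c5, .c11⟩ ⟨.c10, .c14, .c17⟩ ⟨.c11, .c1, .c4⟩) (@D3.rec (fun _ => Pt) ⟨.c11, .c0, .c1⟩ ⟨.c11, .c0, .c16⟩ ⟨.c12, .c5, .c10⟩ ⟨.c11, .c0, .c5⟩ ⟨.c11, .c12, .c4⟩ ⟨.c11, .c12, .c5⟩ ⟨.c12, .c6, .c0⟩ ⟨.c11, .c0, .c9⟩ ⟨.c11, .c1, .c7⟩ ⟨.c11,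 .c0, .c12⟩ ⟨.c11, .c5, .c0⟩ ⟨.c12, .c6, .c4⟩ ⟨.c11, .c0, .c14⟩ ⟨.c12, .c5, .c13⟩ ⟨.c11, .c0, .c17⟩ ⟨.c12, .c6, .c8⟩ ⟨.c11, .c1, .c0⟩ ⟨.c12, .c5, .c8⟩) (@D3.rec (fun _ => Pt) ⟨.c12, .c6, .c10⟩ ⟨.c11, .c1, .c2⟩ ⟨.c12, .c5, .c12⟩ ⟨.c11, .c1, .c5⟩ ⟨.c12, .c6, .c1⟩ ⟨.c12, .c6, .c2⟩ ⟨.c11, .c1, .c8⟩ ⟨.c11, .c13, .c7⟩ ⟨.c11, .c13, .c8⟩ ⟨.c11, .c13, .c9⟩ ⟨.c11, .c13, .c10⟩ ⟨.c11, .c13, .c11⟩ ⟨.c11, .c13, .c12⟩ ⟨.c11, .c13, .c13⟩ ⟨.c11, .c2, .c5⟩ ⟨.c11, .c4, .c16⟩ ⟨.c11, .c2, .c3⟩ ⟨.c12, .c6, .c3⟩) (@D3.rec (fun _ => Pt) ⟨.c11, .c14, .c0⟩ ⟨.c11, .c14, .c1⟩ ⟨.c11,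 .c14, .c2⟩ ⟨.c11, .c5, .c10⟩ ⟨.c11, .c2, .c12⟩ ⟨.c11, .c3, .c3⟩ ⟨.c11, .c2, .c14⟩ ⟨.c11, .c2, .c16⟩ ⟨.c11, .c4, .c4⟩ ⟨.c11, .c3, .c0⟩ ⟨.c12, .c7, .c7⟩ ⟨.c11, .c3, .c13⟩ ⟨.c11, .c14, .c12⟩ ⟨.c11, .c14, .c13⟩ ⟨.c11, .c3, .c7⟩ ⟨.c11, .c4, .c1⟩ ⟨.c11, .c3, .c10⟩ ⟨.c12, .c4, .c17⟩)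
def f_i_12 : D2 → D3 → Pt := @D2.rec (fun _ => D3 → Pt) (@D3.rec (fun _ => Pt) ⟨.c12, .c7, .c10⟩ ⟨.c11, .c3, .c14⟩ ⟨.c11, .c3, .c15⟩ ⟨.c12, .c7, .c12⟩ ⟨.c11, .c3, .c17⟩ ⟨.c12, .c7, .c9⟩ ⟨.c12, .c7, .c13⟩ ⟨.c11, .c4, .c2⟩ ⟨.c12, .c7, .c8⟩ ⟨.c12, .c0, .c9⟩ ⟨.c12, .c0, .c10⟩ ⟨.c12, .c0, .c11⟩ ⟨.c12, .c0, .c12⟩ ⟨.c12, .c5, .c0⟩ ⟨.c12, .c4, .c3⟩ ⟨.c11, .c5, .c1⟩ ⟨.c11, .c5, .c2⟩ ⟨.c11, .c5, .c14⟩) (@D3.rec (fun _ => Pt) ⟨.c11, .c5, .c4⟩ ⟨.c11, .c5, .c16⟩ ⟨.c11, .c5, .c17⟩ ⟨.c12, .c3, .c1⟩ ⟨.c12, .c8, .c6⟩ ⟨.c11, .c5, .c12⟩ ⟨.c12, .c8, .c7⟩ ⟨.c12, .c8, .c8⟩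 ⟨.c12, .c8, .c9⟩ ⟨.c12, .c1, .c9⟩ ⟨.c12, .c1, .c10⟩ ⟨.c12, .c1, .c11⟩ ⟨.c12, .c1, .c12⟩ ⟨.c12, .c1, .c13⟩ ⟨.c12, .c1, .c14⟩ ⟨.c12, .c1, .c15⟩ ⟨.c12, .c1, .c16⟩ ⟨.c12, .c1, .c17⟩) (@D3.rec (fun _ => Pt) ⟨.c12, .c2, .c0⟩ ⟨.c12, .c2, .c1⟩ ⟨.c12, .c2, .c2⟩ ⟨.c12, .c2, .c3⟩ ⟨.c12, .c2, .c4⟩ ⟨.c12, .c2, .c5⟩ ⟨.c12, .c2, .c6⟩ ⟨.c12, .c2, .c7⟩ ⟨.c11, .c7, .c8⟩ ⟨.c11, .c7, .c9⟩ ⟨.c11, .c7, .c14⟩ ⟨.c11, .c7, .c11⟩ ⟨.c12, .c9, .c3⟩ ⟨.c12, .c9, .c4⟩ ⟨.c12, .c2, .c14⟩ ⟨.c12, .c2, .c15⟩ ⟨.c11, .c7, .c17⟩ ⟨.c11, .c8, .c1⟩) (@D3.rec (fun _ => Pt) ⟨.c11, .c8, .c2⟩ ⟨.c12,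 .c1, .c3⟩ ⟨.c12, .c3, .c2⟩ ⟨.c11, .c8, .c7⟩ ⟨.c11, .c8, .c9⟩ ⟨.c11, .c8, .c10⟩ ⟨.c11, .c9, .c0⟩ ⟨.c11, .c8, .c12⟩ ⟨.c12, .c9, .c14⟩ ⟨.c12, .c9, .c15⟩ ⟨.c11, .c8, .c16⟩ ⟨.c12, .c9, .c16⟩ ⟨.c12, .c3, .c12⟩ ⟨.c12, .c3, .c13⟩ ⟨.c12, .c3, .c14⟩ ⟨.c11, .c9, .c13⟩ ⟨.c11, .c9, .c6⟩ ⟨.c11, .c9, .c16⟩) (@D3.rec (fun _ => Pt) ⟨.c11, .c9, .c8⟩ ⟨.c11, .c10, .c1⟩ ⟨.c11, .c9, .c11⟩ ⟨.c12, .c0, .c14⟩ ⟨.c11, .c9, .c14⟩ ⟨.c12, .c10, .c4⟩ ⟨.c12, .c10, .c5⟩ ⟨.c11, .c9, .c17⟩ ⟨.c12, .c10, .c6⟩ ⟨.c12, .c10, .c7⟩ ⟨.c12, .c4, .c10⟩ ⟨.c12, .c4, .c11⟩ ⟨.c12, .c4, .c12⟩ ⟨.c12,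 .c4, .c13⟩ ⟨.c12, .c4, .c14⟩ ⟨.c12, .c4, .c15⟩ ⟨.c12, .c4, .c16⟩ ⟨.c11, .c14, .c17⟩) (@D3.rec (fun _ => Pt) ⟨.c12, .c0, .c13⟩ ⟨.c12, .c5, .c1⟩ ⟨.c11, .c11, .c5⟩ ⟨.c12, .c9, .c11⟩ ⟨.c12, .c11, .c2⟩ ⟨.c12, .c5, .c5⟩ ⟨.c12, .c5, .c6⟩ ⟨.c11, .c11, .c12⟩ ⟨.c11, .c12, .c17⟩ ⟨.c12, .c9, .c12⟩ ⟨.c11, .c12, .c2⟩ ⟨.c11, .c11, .c15⟩ ⟨.c11, .c13, .c2⟩ ⟨.c11, .c12, .c13⟩ ⟨.c12, .c11, .c6⟩ ⟨.c12, .c5, .c15⟩ ⟨.c12, .c5, .c16⟩ ⟨.c12, .c5, .c17⟩) (@D3.rec (fun _ => Pt) ⟨.c11, .c12, .c6⟩ ⟨.c11, .c13, .c4⟩ ⟨.c11, .c13, .c5⟩ ⟨.c11, .c13, .c17⟩ ⟨.c11, .c12, .c11⟩ ⟨.c12,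 .c9, .c5⟩ ⟨.c12, .c11, .c9⟩ ⟨.c12, .c9, .c10⟩ ⟨.c11, .c12, .c15⟩ ⟨.c12, .c10, .c9⟩ ⟨.c11, .c13, .c0⟩ ⟨.c12, .c11, .c7⟩ ⟨.c12, .c11, .c8⟩ ⟨.c12, .c11, .c11⟩ ⟨.c12, .c11, .c12⟩ ⟨.c12, .c11, .c13⟩ ⟨.c12, .c6, .c16⟩ ⟨.c12, .c6, .c17⟩) (@D3.rec (fun _ => Pt) ⟨.c12, .c7, .c0⟩ ⟨.c12, .c7, .c1⟩ ⟨.c12, .c7, .c2⟩ ⟨.c12, .c7, .c3⟩ ⟨.c12, .c10, .c8⟩ ⟨.c12, .c11, .c14⟩ ⟨.c12, .c7, .c6⟩ ⟨.c11, .c14, .c10⟩ ⟨.c12, .c0, .c8⟩ ⟨.c12, .c0, .c5⟩ ⟨.c12, .c0, .c0⟩ ⟨.c12, .c12, .c10⟩ ⟨.c12, .c0, .c3⟩ ⟨.c12, .c0, .c6⟩ ⟨.c12, .c10, .c1⟩ ⟨.c12, .c12, .c11⟩ ⟨.c12, .c12, .c0⟩ ⟨.c12,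 .c11, .c15⟩) (@D3.rec (fun _ => Pt) ⟨.c12, .c12, .c12⟩ ⟨.c12, .c10, .c12⟩ ⟨.c12, .c11, .c4⟩ ⟨.c12, .c12, .c4⟩ ⟨.c12, .c9, .c17⟩ ⟨.c12, .c11, .c1⟩ ⟨.c12, .c1, .c4⟩ ⟨.c12, .c1, .c6⟩ ⟨.c12, .c1, .c7⟩ ⟨.c12, .c1, .c8⟩ ⟨.c12, .c12, .c2⟩ ⟨.c12, .c12, .c16⟩ ⟨.c12, .c12, .c17⟩ ⟨.c12, .c8, .c13⟩ ⟨.c12, .c8, .c14⟩ ⟨.c12, .c8, .c15⟩ ⟨.c12, .c8, .c16⟩ ⟨.c12, .c8, .c17⟩) (@D3.rec (fun _ => Pt) ⟨.c12, .c9, .c0⟩ ⟨.c12, .c9, .c1⟩ ⟨.c12, .c9, .c2⟩ ⟨.c12, .c2, .c12⟩ ⟨.c12, .c2, .c13⟩ ⟨.c12, .c6, .c5⟩ ⟨.c12, .c13, .c2⟩ ⟨.c12, .c13, .c3⟩ ⟨.c12, .c9, .c8⟩ ⟨.c12, .c9, .c9⟩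 ⟨.c12, .c6, .c7⟩ ⟨.c12, .c5, .c3⟩ ⟨.c12, .c5, .c9⟩ ⟨.c12, .c9, .c13⟩ ⟨.c12, .c3, .c8⟩ ⟨.c12, .c3, .c9⟩ ⟨.c12, .c3, .c11⟩ ⟨.c12, .c8, .c4⟩) (@D3.rec (fun _ => Pt) ⟨.c12, .c13, .c10⟩ ⟨.c12, .c7, .c14⟩ ⟨.c12, .c13, .c11⟩ ⟨.c12, .c10, .c3⟩ ⟨.c12, .c4, .c5⟩ ⟨.c12, .c4, .c6⟩ ⟨.c12, .c4, .c8⟩ ⟨.c12, .c4, .c9⟩ ⟨.c12, .c7, .c4⟩ ⟨.c12, .c6, .c9⟩ ⟨.c12, .c13, .c13⟩ ⟨.c12, .c13, .c14⟩ ⟨.c12, .c8, .c1⟩ ⟨.c12, .c13, .c15⟩ ⟨.c12, .c13, .c16⟩ ⟨.c12, .c10, .c15⟩ ⟨.c12, .c10, .c16⟩ ⟨.c12, .c10, .c17⟩) (@D3.rec (fun _ => Pt) ⟨.c12, .c11, .c0⟩ ⟨.c12, .c8, .c5⟩ ⟨.c12, .c5,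 .c4⟩ ⟨.c12, .c13, .c8⟩ ⟨.c12, .c8, .c2⟩ ⟨.c12, .c13, .c9⟩ ⟨.c12, .c5, .c14⟩ ⟨.c12, .c6, .c11⟩ ⟨.c12, .c6, .c12⟩ ⟨.c12, .c6, .c6⟩ ⟨.c12, .c14, .c4⟩ ⟨.c12, .c6, .c13⟩ ⟨.c12, .c6, .c14⟩ ⟨.c12, .c6, .c15⟩ ⟨.c12, .c7, .c5⟩ ⟨.c12, .c7, .c17⟩ ⟨.c12, .c13, .c4⟩ ⟨.c12, .c14, .c5⟩) (@D3.rec (fun _ => Pt) ⟨.c12, .c7, .c16⟩ ⟨.c12, .c14, .c0⟩ ⟨.c12, .c8, .c10⟩ ⟨.c12, .c14, .c3⟩ ⟨.c12, .c8, .c3⟩ ⟨.c12, .c14, .c6⟩ ⟨.c12, .c14, .c7⟩ ⟨.c12, .c12, .c7⟩ ⟨.c12, .c12, .c8⟩ ⟨.c12, .c13, .c17⟩ ⟨.c12, .c7, .c11⟩ ⟨.c12, .c7, .c15⟩ ⟨.c12, .c8, .c0⟩ ⟨.c12, .c13, .c12⟩ ⟨.c12, .c14,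 .c2⟩ ⟨.c12, .c14, .c1⟩ ⟨.c12, .c8, .c11⟩ ⟨.c12, .c8, .c12⟩) (@D3.rec (fun _ => Pt) ⟨.c12, .c14, .c10⟩ ⟨.c12, .c14, .c12⟩ ⟨.c12, .c9, .c6⟩ ⟨.c12, .c9, .c7⟩ ⟨.c12, .c11, .c16⟩ ⟨.c12, .c14, .c13⟩ ⟨.c12, .c14, .c14⟩ ⟨.c12, .c13, .c7⟩ ⟨.c12, .c11, .c3⟩ ⟨.c12, .c11, .c5⟩ ⟨.c12, .c10, .c0⟩ ⟨.c12, .c10, .c2⟩ ⟨.c12, .c12, .c13⟩ ⟨.c12, .c10, .c10⟩ ⟨.c12, .c10, .c11⟩ ⟨.c12, .c10, .c13⟩ ⟨.c12, .c10, .c14⟩ ⟨.c12, .c12, .c9⟩) (@D3.rec (fun _ => Pt) ⟨.c12, .c12, .c1⟩ ⟨.c12, .c12, .c15⟩ ⟨.c12, .c12, .c14⟩ ⟨.c12, .c12, .c3⟩ ⟨.c12, .c11, .c10⟩ ⟨.c12, .c11, .c17⟩ ⟨.c12,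 .c12, .c5⟩ ⟨.c12, .c12, .c6⟩ ⟨.c12, .c14, .c15⟩ ⟨.c12, .c14, .c16⟩ ⟨.c12, .c13, .c0⟩ ⟨.c12, .c14, .c17⟩ ⟨.c12, .c13, .c1⟩ ⟨.c12, .c13, .c5⟩ ⟨.c12, .c13, .c6⟩ ⟨.c12, .c14, .c8⟩ ⟨.c12, .c14, .c9⟩ ⟨.c12, .c14, .c11⟩)
def f_i : Pt → Pt := @Pt.rec (fun _ => Pt) (@D1.rec (fun _ => D2 → D3 → Pt) f_i_0 f_i_1 f_i_2 f_i_3 f_i_4 f_i_5 f_i_6 f_i_7 f_i_8 f_i_9 f_i_10 f_i_11 f_i_12)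
def fi_i : Pt → Pt := f_i

end

end Cfsg.Agent.Helper28.S1687
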