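import Cfsg.Agent.Lib.Helper28.S1687.Tree

set_option autoImplicit false
set_option maxRecDepth 100000

namespace Cfsg.Agent.Helper28.S1687

open Cfsg.Agent.Helper28
open Cfsg.Spor.Fi22 (Gen)

noncomputable section

def lv_b_0 : D2 → D3 → Nat := @D2.rec (fun _ => D3 → Nat) (@D3.rec (fun _ => Nat) 0 1 2 2 0 3 1 2 4 4 2 3 3 5 5 5 5 3) (@D3.rec (fun _ => Nat) 3 4 4 4 6 6 6 6 6 6 4 4 4 5 5 5 5 7) (@D3.rec (fun _ => Nat) 7 7 0 7 7 7 7 7 7 5 5 5 5 6 6 6 8 6) (@D3.rec (fun _ => Nat) 8 8 0 8 8 1 2 8 8 8 8 8 8 6 6 6 6 7) (@D3.rec (fun _ => Nat) 7 9 7 7 9 7 0 9 9 1 2 2 9 9 2 3 9 9) (@D3.rec (fun _ => Nat) 9 9 9 7 7 7 7 7 10 8 8 10 10 8 8 10 1 2) (@D3.rec (fun _ => Nat) 2 10 10 10 2 2 3 3 3 10 3 4 10 10 8 8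 8 8) (@D3.rec (fun _ => Nat) 11 11 9 9 9 11 11 11 9 11 2 2 3 3 3 3 11 11) (@D3.rec (fun _ => Nat) 3 3 3 4 4 4 4 11 4 5 11 9 9 9 9 12 12 12) (@D3.rec (fun _ => Nat) 12 10 10 12 12 12 12 10 12 3 3 3 3 4 4 4 4 4) (@D3.rec (fun _ => Nat) 4 12 12 9 4 4 4 4 5 5 5 5 0 9 5 6 10 10) (@D3.rec (fun _ => Nat) 10 13 13 13 13 13 13 11 11 13 13 13 13 0 13 10 4 4) (@D3.rec (fun _ => Nat) 4 4 4 4 5 5 5 5 5 5 5 5 13 0 10 10 5 5) (@D3.rec (fun _ => Nat) 5 10 5 6 6 0 6 6 1 10 6 7 11 11 0 14 14 14) (@D3.rec (fun _ => Nat) 14 14 14 14 14 12 0 14 14 0 14 14 1 14 11 11 11 5)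
def lv_b_1 : D2 → D3 → Nat := @D2.rec (fun _ => D3 → Nat) (@D3.rec (fun _ => Nat) 5 5 5 5 5 5 11 5 6 6 6 6 6 6 6 0 6 6) (@D3.rec (fun _ => Nat) 0 14 1 11 11 11 6 6 0 6 11 6 7 0 7 1 2 7) (@D3.rec (fun _ => Nat) 7 13 11 11 7 12 0 1 15 15 15 15 15 15 15 0 15 15) (@D3.rec (fun _ => Nat) 0 13 1 15 0 15 1 2 15 15 13 12 12 12 12 12 12 6) (@D3.rec (fun _ => Nat) 6 6 6 6 6 6 0 6 12 6 7 7 7 7 7 7 0 7) (@D3.rec (fun _ => Nat) 0 7 1 2 7 7 1 2 14 12 12 12 12 7 0 7 1 2) (@D3.rec (fun _ => Nat) 7 12 12 7 0 8 1 2 8 14 2 3 8 12 12 12 0 13) (@D3.rec (fun _ => Nat) 1 14 17 16 16 16 16 16 0 16 0 16 1 2 16 16 1 2) (@D3.rec (fun _ => Nat) 14 0 16 1 2 16 14 2 3 16 13 13 13 13 13 13 13 13) (@D3.rec (fun _ => Nat) 13 13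 7 7 7 7 7 7 0 7 0 7 1 2 7 13 13 7) (@D3.rec (fun _ => Nat) 14 8 8 8 8 0 8 0 8 1 2 8 1 2 8 15 2 3) (@D3.rec (fun _ => Nat) 8 15 2 3 13 13 13 13 0 13 0 8 1 2 8 16 2 3) (@D3.rec (fun _ => Nat) 3 8 13 13 13 1 2 9 15 2 3 3 9 15 3 4 13 1) (@D3.rec (fun _ => Nat) 2 15 0 17 17 17 17 0 17 0 17 1 2 17 1 2 17 15) (@D3.rec (fun _ => Nat) 2 3 17 15 2 3 1 2 17 15 2 21 16 17 15 3 4 14)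
def lv_b_2 : D2 → D3 → Nat := @D2.rec (fun _ => D3 → Nat) (@D3.rec (fun _ => Nat) 14 14 14 14 14 14 14 14 0 14 8 8 8 8 0 8 0 8) (@D3.rec (fun _ => Nat) 1 2 8 1 2 8 17 2 3 3 8 14 14 14 15 9 9 0) (@D3.rec (fun _ => Nat) 9 0 9 1 2 9 1 2 9 16 2 3 3 9 16 2 3 3) (@D3.rec (fun _ => Nat) 9 16 3 4 16 3 4 14 0 14 1 2 14 1 2 9 17 2) (@D3.rec (fun _ => Nat) 3 3 9 17 3 3 4 4 4 14 16 2 3 3 10 16 3 3) (@D3.rec (fun _ => Nat) 20 4 16 4 16 2 3 1 24 18 18 0 18 0 18 1 2 18) (@D3.rec (fun _ => Nat) 1 2 18 16 2 3 3 18 16 2 3 3 18 16 3 4 16 3) (@D3.rec (fun _ => Nat) 28 16 2 15 20 18 16 16 16 4 15 15 15 15 15 0 15 15) (@D3.rec (fun _ => Nat) 0 15 1 2 15 9 9 0 9 0 9 1 2 9 1 2 9 18) (@D3.rec (fun _ => Nat) 2 3 3 9 18 2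 3 3 9 18 3 3 4 4 4 15 15 15) (@D3.rec (fun _ => Nat) 15 16 10 0 10 1 2 10 1 2 10 17 2 3 3 10 17 2) (@D3.rec (fun _ => Nat) 3 3 10 17 3 3 4 4 17 3 3 4 4 4 17 4 17 14) (@D3.rec (fun _ => Nat) 4 25 0 1 2 18 2 3 3 18 2 3 3 10 18 3 3 4) (@D3.rec (fun _ => Nat) 4 4 18 18 4 4 4 5 20 3 3 22 13 4 21 17 17 3) (@D3.rec (fun _ => Nat) 25 19 24 19 1 2 19 1 2 19 17 2 3 3 19 17 2 17)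
def lv_b_3 : D2 → D3 → Nat := @D2.rec (fun _ => D3 → Nat) (@D3.rec (fun _ => Nat) 3 19 17 3 3 23 20 17 3 3 4 20 4 17 4 17 17 16) (@D3.rec (fun _ => Nat) 16 0 16 16 0 16 1 2 16 0 1 2 16 19 2 3 3 16) (@D3.rec (fun _ => Nat) 10 0 10 1 2 10 1 2 10 19 2 3 3 10 19 2 3 3) (@D3.rec (fun _ => Nat) 10 19 3 3 4 4 4 19 3 3 4 4 4 19 19 4 4 4) (@D3.rec (fun _ => Nat) 5 5 5 5 16 16 11 1 2 11 26 2 3 3 11 18 2 3) (@D3.rec (fun _ => Nat) 3 11 18 3 3 4 4 4 21 3 3 4 4 21 18 14 4 4) (@D3.rec (fun _ => Nat) 5 22 18 18 15 4 4 4 5 5 25 18 23 19 1 19 2 3) (@D3.rec (fun _ => Nat) 19 3 3 4 4 19 3 3 4 4 22 19 19 14 4 4 4 5) (@D3.rec (fun _ => Nat) 19 19 19 5 20 21 20 2 3 3 20 18 2 3 3 20 18 3) (@D3.rec (fun _ => Nat) 3 4 22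 4 3 19 24 18 20 18 18 4 4 5 20 18 0 17) (@D3.rec (fun _ => Nat) 0 17 1 2 17 0 17 1 2 17 20 2 3 3 17 1 20 2) (@D3.rec (fun _ => Nat) 3 3 20 3 3 4 4 4 24 11 1 2 11 20 2 3 3 11) (@D3.rec (fun _ => Nat) 20 2 3 3 11 20 3 3 4 4 4 20 3 3 4 4 4 20) (@D3.rec (fun _ => Nat) 20 15 4 4 4 5 5 5 5 20 20 16 4 4 4 5 5 5) (@D3.rec (fun _ => Nat) 5 20 20 20 5 5 5 5 6 6 17 12 2 3 3 12 24 3)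
def lv_b_4 : D2 → D3 → Nat := @D2.rec (fun _ => D3 → Nat) (@D3.rec (fun _ => Nat) 3 4 4 4 19 3 3 4 4 4 19 19 6 4 4 4 5 5) (@D3.rec (fun _ => Nat) 5 25 22 15 4 4 23 23 15 5 31 25 19 19 16 18 5 5) (@D3.rec (fun _ => Nat) 6 23 20 20 20 3 20 20 15 4 4 5 23 20 15 4 4 24) (@D3.rec (fun _ => Nat) 20 15 5 20 21 21 19 21 3 3 4 4 4 19 3 3 4 25) (@D3.rec (fun _ => Nat) 23 19 19 4 4 27 25 20 19 19 5 20 1 2 18 1 2 18) (@D3.rec (fun _ => Nat) 21 2 3 3 18 1 2 21 2 3 3 21 3 3 4 4 4 21) (@D3.rec (fun _ => Nat) 21 3 3 4 21 21 16 4 4 4 5 5 5 5 26 12 2 3) (@D3.rec (fun _ => Nat) 3 12 26 3 3 4 4 4 21 3 3 4 4 4 21 21 6 4) (@D3.rec (fun _ => Nat) 4 4 5 5 5 5 21 21 16 4 4 4 5 5 5 28 23 21) (@D3.rec (fun _ => Nat) 21 21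 16 16 5 5 5 5 6 6 27 21 21 21 17 19 5 5) (@D3.rec (fun _ => Nat) 5 5 6 6 6 6 21 21 21 21 6 6 7 0 13 3 3 4) (@D3.rec (fun _ => Nat) 4 26 24 6 4 4 4 5 5 5 5 20 30 7 4 4 4 5) (@D3.rec (fun _ => Nat) 5 5 27 27 20 29 7 7 5 5 5 29 6 6 26 16 25 20) (@D3.rec (fun _ => Nat) 17 19 19 6 24 21 21 16 22 21 21 5 22 21 19 24 4 4) (@D3.rec (fun _ => Nat) 4 5 5 5 20 4 24 26 27 20 22 25 20 22 2 3 3 19)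
def lv_b_5 : D2 → D3 → Nat := @D2.rec (fun _ => D3 → Nat) (@D3.rec (fun _ => Nat) 2 3 3 22 3 3 4 4 4 22 2 3 22 3 3 4 4 22) (@D3.rec (fun _ => Nat) 22 6 4 4 4 5 5 5 5 22 22 17 4 5 27 22 22 22) (@D3.rec (fun _ => Nat) 17 17 5 5 5 5 6 6 27 6 26 24 13 3 3 4 4 4) (@D3.rec (fun _ => Nat) 27 25 6 4 4 4 5 5 5 5 22 22 7 4 4 4 5 5) (@D3.rec (fun _ => Nat) 5 5 0 22 22 22 7 7 5 5 5 5 6 6 6 6 22 17) (@D3.rec (fun _ => Nat) 5 5 5 6 6 22 22 17 17 6 6 7 27 27 22 22 22 22) (@D3.rec (fun _ => Nat) 18 18 20 20 20 6 6 6 6 7 7 7 7 22 22 7 0 1) (@D3.rec (fun _ => Nat) 7 4 4 5 5 0 24 26 28 7 7 5 5 5 5 24 25 24) (@D3.rec (fun _ => Nat) 6 33 30 8 28 5 5 5 24 8 8 8 8 6 6 17 25 20) (@D3.rec (fun _ => Nat) 20 20 22 21 24 28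 5 5 5 23 3 3 4 4 4 3 3 4) (@D3.rec (fun _ => Nat) 4 23 23 6 4 4 4 5 5 5 5 23 3 4 23 23 7 4) (@D3.rec (fun _ => Nat) 4 5 5 5 0 23 23 23 7 7 5 5 5 5 6 6 6 6) (@D3.rec (fun _ => Nat) 23 18 5 26 23 23 23 18 6 6 6 7 34 7 28 26 26 7) (@D3.rec (fun _ => Nat) 4 4 4 5 5 5 5 0 27 23 26 7 7 5 5 5 5 6) (@D3.rec (fun _ => Nat) 6 6 6 0 23 23 8 8 5 5 5 5 6 6 6 6 1 2)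
def lv_b_6 : D2 → D3 → Nat := @D2.rec (fun _ => D3 → Nat) (@D3.rec (fun _ => Nat) 27 23 23 23 23 8 8 8 8 8 6 6 6 6 7 7 7 7) (@D3.rec (fun _ => Nat) 7 23 18 6 6 23 18 18 7 0 29 27 29 27 23 23 23 23) (@D3.rec (fun _ => Nat) 19 21 21 21 21 21 21 7 7 7 7 8 0 8 23 0 1 23) (@D3.rec (fun _ => Nat) 8 5 5 1 2 32 23 26 23 8 8 8 8 6 28 9 9 26) (@D3.rec (fun _ => Nat) 9 27 24 9 9 18 21 21 21 24 24 18 4 4 4 5 5 5) (@D3.rec (fun _ => Nat) 5 7 4 4 5 5 5 0 24 24 24 7 7 5 5 5 5 6) (@D3.rec (fun _ => Nat) 6 6 6 24 17 4 5 0 24 24 8 8 5 5 5 6 6 1) (@D3.rec (fun _ => Nat) 2 2 24 24 24 24 8 8 8 8 8 6 6 6 6 7 7 7) (@D3.rec (fun _ => Nat) 7 7 24 19 36 24 24 19 7 7 35 0 28 26 28 28 8 8) (@D3.rec (fun _ => Nat) 5 5 5 5 6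 6 6 6 1 2 2 28 27 24 24 8 8 8) (@D3.rec (fun _ => Nat) 8 8 6 6 6 6 7 7 7 7 7 1 2 32 24 24 24 9) (@D3.rec (fun _ => Nat) 9 9 28 9 6 6 6 6 7 7 7 7 2 3 3 31 29 24) (@D3.rec (fun _ => Nat) 24 24 24 9 9 9 9 9 9 9 9 7 7 7 7 7 8 0) (@D3.rec (fun _ => Nat) 8 24 19 19 0 1 27 29 27 29 24 24 24 24 22 22 22 22) (@D3.rec (fun _ => Nat) 22 22 22 22 22 8 0 8 1 2 0 1 24 9 9 2 25 26)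
def lv_b_7 : D2 → D3 → Nat := @D2.rec (fun _ => D3 → Nat) (@D3.rec (fun _ => Nat) 29 9 9 9 10 27 26 10 10 19 22 22 0 25 25 25 19 19) (@D3.rec (fun _ => Nat) 5 5 5 5 31 6 6 6 8 8 5 5 5 6 6 1 2 2) (@D3.rec (fun _ => Nat) 25 25 25 25 8 8 8 8 8 6 6 6 6 7 7 7 7 7) (@D3.rec (fun _ => Nat) 0 25 18 5 1 2 2 25 25 25 9 9 9 9 6 6 7 2) (@D3.rec (fun _ => Nat) 2 3 3 4 31 3 25 25 25 25 9 9 9 9 9 9 9 9) (@D3.rec (fun _ => Nat) 7 7 7 7 7 8 8 8 0 8 20 33 25 20 0 0 1 28) (@D3.rec (fun _ => Nat) 30 28 30 9 9 9 9 6 6 6 6 7 7 7 7 2 2 3) (@D3.rec (fun _ => Nat) 28 4 31 3 27 25 25 25 9 9 9 9 9 9 9 9 7 7) (@D3.rec (fun _ => Nat) 7 7 7 8 8 8 0 8 2 32 30 32 25 25 10 10 10 10) (@D3.rec (fun _ => Nat) 26 10 28 7 7 7 7 8 8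 3 3 27 27 27 25 25 25 25) (@D3.rec (fun _ => Nat) 10 10 10 10 10 10 10 10 10 10 10 8 0 8 1 2 0 20) (@D3.rec (fun _ => Nat) 20 0 1 25 29 31 31 29 25 0 25 23 23 0 23 23 23 23) (@D3.rec (fun _ => Nat) 23 23 23 23 1 2 2 1 9 25 10 10 10 29 11 29 26 11) (@D3.rec (fun _ => Nat) 23 1 29 2 26 26 26 26 20 20 20 6 6 6 31 7 7 7) (@D3.rec (fun _ => Nat) 9 9 9 9 6 6 7 7 2 2 3 3 4 3 3 26 26 26)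
def lv_b_8 : D2 → D3 → Nat := @D2.rec (fun _ => D3 → Nat) (@D3.rec (fun _ => Nat) 26 9 9 9 9 9 9 9 9 7 7 7 7 7 8 8 8 0) (@D3.rec (fun _ => Nat) 8 1 2 26 19 19 2 2 3 4 29 3 26 26 10 10 10 10) (@D3.rec (fun _ => Nat) 30 10 7 3 3 4 3 4 4 5 5 31 5 31 26 26 26 26) (@D3.rec (fun _ => Nat) 10 10 10 10 10 10 10 10 10 10 10 10 10 8 8 8 0 8) (@D3.rec (fun _ => Nat) 9 0 9 1 2 21 21 1 1 26 28 30 30 28 10 10 10 10) (@D3.rec (fun _ => Nat) 10 7 7 7 7 8 8 0 8 3 4 3 27 28 5 28 31 5) (@D3.rec (fun _ => Nat) 33 26 26 26 26 26 33 10 10 10 10 10 10 10 10 10 10 10) (@D3.rec (fun _ => Nat) 8 8 8 0 8 9 9 1 2 9 32 32 26 11 11 11 11 30) (@D3.rec (fun _ => Nat) 11 32 32 8 32 8 33 33 31 26 0 26 11 11 11 11 0 11) (@D3.rec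 (fun _ => Nat) 11 28 11 11 11 11 11 1 2 26 2 1 0 21 1 9 29 29) (@D3.rec (fun _ => Nat) 0 31 1 2 24 24 1 2 2 24 24 24 24 24 24 24 2 9) (@D3.rec (fun _ => Nat) 11 11 29 29 29 28 2 30 3 3 27 27 27 21 21 21 21 7) (@D3.rec (fun _ => Nat) 7 7 31 31 0 8 10 10 10 10 10 7 7 8 3 3 4 3) (@D3.rec (fun _ => Nat) 3 27 4 5 5 5 5 30 4 27 27 27 27 27 10 10 10 10) (@D3.rec (fun _ => Nat) 10 10 10 10 10 10 10 10 10 8 8 8 0 8 9 9 0 9)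
def lv_b_9 : D2 → D3 → Nat := @D2.rec (fun _ => D3 → Nat) (@D3.rec (fun _ => Nat) 1 2 9 2 3 3 20 20 3 4 3 5 29 5 31 27 11 11) (@D3.rec (fun _ => Nat) 11 11 11 32 32 11 4 4 5 5 5 5 6 6 6 33 6 33) (@D3.rec (fun _ => Nat) 33 31 27 35 27 11 11 11 11 11 0 11 11 35 11 11 11 11) (@D3.rec (fun _ => Nat) 11 11 11 9 9 1 2 1 2 27 2 22 35 30 30 0 32 11) (@D3.rec (fun _ => Nat) 11 11 11 11 8 8 0 8 9 1 2 9 5 5 27 30 30 6) (@D3.rec (fun _ => Nat) 6 30 31 31 27 27 27 29 27 11 11 33 11 11 0 11 11 11) (@D3.rec (fun _ => Nat) 11 11 11 11 9 32 9 1 2 9 10 27 2 3 32 32 12 12) (@D3.rec (fun _ => Nat) 12 12 32 34 12 28 28 32 0 35 1 2 0 31 12 28 12 1) (@D3.rec (fun _ => Nat) 2 2 12 12 12 28 28 12 12 12 2 27 9 1 2 33 31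 1) (@D3.rec (fun _ => Nat) 2 33 2 25 25 25 2 2 3 3 3 25 25 25 31 31 3 3) (@D3.rec (fun _ => Nat) 32 32 4 4 28 28 28 22 22 22 22 22 0 8 0 33 1 2) (@D3.rec (fun _ => Nat) 9 11 11 11 11 11 11 31 8 9 4 5 5 5 5 10 4 34) (@D3.rec (fun _ => Nat) 29 36 6 6 6 6 6 6 34 30 5 28 28 34 28 41 11 11) (@D3.rec (fun _ => Nat) 11 11 11 0 11 11 11 11 11 11 11 11 11 9 9 9 1 2) (@D3.rec (fun _ => Nat) 9 31 10 1 2 10 28 2 3 3 3 4 21 21 21 5 5 6)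
def lv_b_10 : D2 → D3 → Nat := @D2.rec (fun _ => D3 → Nat) (@D3.rec (fun _ => Nat) 6 32 29 31 12 12 12 12 32 12 12 32 32 30 5 6 6 6) (@D3.rec (fun _ => Nat) 6 7 6 7 7 35 31 7 32 33 33 33 40 12 12 12 12 32) (@D3.rec (fun _ => Nat) 12 1 2 2 12 12 12 30 35 12 12 12 12 12 12 35 2 2) (@D3.rec (fun _ => Nat) 28 30 1 2 32 12 12 12 12 0 12 9 1 2 9 10 28 2) (@D3.rec (fun _ => Nat) 3 6 6 29 29 30 30 30 31 33 7 33 28 28 28 31 28 0) (@D3.rec (fun _ => Nat) 12 33 33 32 12 1 2 2 12 12 12 12 12 12 32 10 31 2) (@D3.rec (fun _ => Nat) 3 28 3 34 13 13 34 30 34 13 1 2 35 2 1 2 2 31) (@D3.rec (fun _ => Nat) 31 13 30 30 13 35 2 2 3 3 3 13 13 30 13 35 2 31) (@D3.rec (fun _ => Nat) 2 3 26 26 3 3 3 4 4 26 31 10 4 4 32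 32 5 5) (@D3.rec (fun _ => Nat) 29 23 23 23 23 23 23 1 2 9 1 2 33 29 2 3 12 12) (@D3.rec (fun _ => Nat) 30 12 12 12 12 33 9 6 6 6 6 6 6 11 5 36 29 29) (@D3.rec (fun _ => Nat) 40 7 7 31 7 7 31 7 7 30 32 29 36 29 38 38 0 12) (@D3.rec (fun _ => Nat) 12 12 12 12 1 2 12 12 12 12 12 12 12 12 12 10 10 31) (@D3.rec (fun _ => Nat) 2 3 33 11 2 3 29 3 4 5 22 22 6 6 30 7 32 31) (@D3.rec (fun _ => Nat) 13 13 32 13 13 34 13 34 34 7 6 7 7 28 7 29 8 32)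
def lv_b_11 : D2 → D3 → Nat := @D2.rec (fun _ => D3 → Nat) (@D3.rec (fun _ => Nat) 8 35 39 33 8 30 32 35 35 13 13 13 13 13 30 32 13 37) (@D3.rec (fun _ => Nat) 2 2 3 3 3 13 13 13 29 30 41 13 13 13 13 37 32 2) (@D3.rec (fun _ => Nat) 3 13 13 1 2 13 10 2 3 29 3 7 34 29 32 32 30 32) (@D3.rec (fun _ => Nat) 35 31 33 8 30 29 31 1 2 13 33 31 31 13 31 2 2 24) (@D3.rec (fun _ => Nat) 3 3 36 13 13 13 41 31 3 4 29 34 14 14 32 36 36 2) (@D3.rec (fun _ => Nat) 3 37 2 2 26 3 3 33 33 30 30 37 3 3 3 4 4 14) (@D3.rec (fun _ => Nat) 39 3 27 4 4 5 5 11 5 5 41 32 6 30 24 24 24 24) (@D3.rec (fun _ => Nat) 24 2 3 2 3 30 3 4 34 13 13 37 33 13 13 13 40 7) (@D3.rec (fun _ => Nat) 7 28 7 7 7 7 12 36 36 39 29 31 36 36 8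 33 31 8) (@D3.rec (fun _ => Nat) 8 33 8 30 42 38 1 2 13 13 13 13 13 13 33 2 3 13) (@D3.rec (fun _ => Nat) 13 13 13 13 13 13 11 33 3 4 36 3 30 5 23 23 7 32) (@D3.rec (fun _ => Nat) 8 34 14 14 32 14 34 14 34 8 8 30 8 29 9 32 34 9) (@D3.rec (fun _ => Nat) 37 41 33 32 43 35 26 14 14 14 14 29 32 38 37 3 3 3) (@D3.rec (fun _ => Nat) 27 4 4 14 14 14 29 32 39 14 14 0 3 4 14 14 2 3) (@D3.rec (fun _ => Nat) 3 4 30 8 36 31 32 30 32 35 41 35 39 43 2 3 31 35)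
def lv_b_12 : D2 → D3 → Nat := @D2.rec (fun _ => D3 → Nat) (@D3.rec (fun _ => Nat) 39 33 3 3 27 4 4 36 14 41 33 4 42 39 3 37 3 3) (@D3.rec (fun _ => Nat) 26 4 33 32 39 4 4 5 5 5 5 6 12 6 37 7 25 25) (@D3.rec (fun _ => Nat) 25 37 3 3 44 31 4 36 36 14 14 35 41 14 14 42 8 30) (@D3.rec (fun _ => Nat) 8 8 8 38 36 29 31 38 9 39 31 9 33 9 40 42 2 3) (@D3.rec (fun _ => Nat) 14 14 14 14 33 3 4 14 14 14 14 14 0 42 4 43 24 8) (@D3.rec (fun _ => Nat) 32 34 15 34 15 36 45 9 9 43 40 32 34 43 35 32 39 39) (@D3.rec (fun _ => Nat) 25 15 15 15 31 40 41 43 4 4 27 5 5 15 15 0 40 42) (@D3.rec (fun _ => Nat) 43 41 1 4 3 4 4 40 34 34 42 41 3 4 38 40 39 4) (@D3.rec (fun _ => Nat) 4 27 5 40 38 39 39 4 28 5 5 5 6 6 44 38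 7 37) (@D3.rec (fun _ => Nat) 26 41 26 44 15 41 40 15 0 38 9 39 9 9 42 39 42 43) (@D3.rec (fun _ => Nat) 40 33 10 35 3 4 15 15 15 39 4 5 15 15 0 46 40 1) (@D3.rec (fun _ => Nat) 43 34 16 34 45 39 38 40 41 40 40 25 16 0 16 33 42 45) (@D3.rec (fun _ => Nat) 5 5 27 40 39 43 1 47 40 4 41 40 4 40 5 37 5 28) (@D3.rec (fun _ => Nat) 6 41 41 16 40 39 40 1 39 10 41 40 33 4 35 16 41 16) (@D3.rec (fun _ => Nat) 40 5 43 1 40 40 40 1 45 41 29 42 41 41 41 42 39 41)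
def lv_b : Pt → Nat := @Pt.rec (fun _ => Nat) (@D1.rec (fun _ => D2 → D3 → Nat) lv_b_0 lv_b_1 lv_b_2 lv_b_3 lv_b_4 lv_b_5 lv_b_6 lv_b_7 lv_b_8 lv_b_9 lv_b_10 lv_b_11 lv_b_12)
abbrev lc_b_Cert_tree : Cert rels S Gen.b := Cert.tree
abbrev lc_b_rc_1_1 : Cert rels S Gen.b := rc_1_1
abbrev lc_b_rc_1_3 : Cert rels S Gen.b := rc_1_3
abbrev lc_b_rc_1_5 : Cert rels S Gen.b := rc_1_5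
abbrev lc_b_rc_9_0 : Cert rels S Gen.b := rc_9_0
abbrev lc_b_rc_9_1 : Cert rels S Gen.b := rc_9_1
abbrev lc_b_rc_10_0 : Cert rels S Gen.b := rc_10_0
abbrev lc_b_rc_10_2 : Cert rels S Gen.b := rc_10_2
abbrev lc_b_rc_10_4 : Cert rels S Gen.b := rc_10_4
abbrev lc_b_rc_11_0 : Cert rels S Gen.b := rc_11_0
abbrev lc_b_rc_11_2 : Cert rels S Gen.b := rc_11_2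
abbrev lc_b_rc_12_0 : Cert rels S Gen.b := rc_12_0
abbrev lc_b_rc_12_2 : Cert rels S Gen.b := rc_12_2
abbrev lc_b_rc_13_0 : Cert rels S Gen.b := rc_13_0
abbrev lc_b_rc_13_2 : Cert rels S Gen.b := rc_13_2
abbrev lc_b_rc_14_0 : Cert rels S Gen.b := rc_14_0
abbrev lc_b_rc_14_2 : Cert rels S Gen.b := rc_14_2
abbrev lc_b_rc_15_0 : Cert rels S Gen.b := rc_15_0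
abbrev lc_b_rc_15_2 : Cert rels S Gen.b := rc_15_2
abbrev lc_b_rc_16_0 : Cert rels S Gen.b := rc_16_0
abbrev lc_b_rc_16_2 : Cert rels S Gen.b := rc_16_2
abbrev lc_b_rc_45_20 : Cert rels S Gen.b := rc_45_20
abbrev lc_b_rc_45_29 : Cert rels S Gen.b := rc_45_29
abbrev lc_b_rc_45_38 : Cert rels S Gen.b := rc_45_38
abbrev lc_b_rc_45_47 : Cert rels S Gen.b := rc_45_47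
abbrev lc_b_rc_45_56 : Cert rels S Gen.b := rc_45_56
abbrev lc_b_rc_45_65 : Cert rels S Gen.b := rc_45_65
abbrev lc_b_rc_46_8 : Cert rels S Gen.b := rc_46_8
abbrev lc_b_rc_46_29 : Cert rels S Gen.b := rc_46_29
abbrev lc_b_rc_46_36 : Cert rels S Gen.b := rc_46_36
abbrev lc_b_rc_46_43 : Cert rels S Gen.b := rc_46_43
abbrev lc_b_rc_46_50 : Cert rels S Gen.b := rc_46_50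
abbrev lc_b_rc_47_7 : Cert rels S Gen.b := rc_47_7
abbrev lc_b_rc_47_14 : Cert rels S Gen.b := rc_47_14
abbrev lc_b_rc_47_21 : Cert rels S Gen.b := rc_47_21
abbrev lc_b_rc_47_28 : Cert rels S Gen.b := rc_47_28
abbrev lc_b_rc_47_35 : Cert rels S Gen.b := rc_47_35
abbrev lc_b_rc_47_42 : Cert rels S Gen.b := rc_47_42
abbrev lc_b_rc_47_49 : Cert rels S Gen.b := rc_47_49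
abbrev lc_b_rc_47_56 : Cert rels S Gen.b := rc_47_56
def ce_b_0 : D2 → D3 → (Cert rels S Gen.b) := @D2.rec (fun _ => D3 → (Cert rels S Gen.b)) (@D3.rec (fun _ => (Cert rels S Gen.b)) lc_b_Cert_tree lc_b_rc_9_0 lc_b_rc_1_3 lc_b_rc_10_2 lc_b_Cert_tree lc_b_rc_11_2 lc_b_rc_9_0 lc_b_rc_11_2 lc_b_rc_12_2 lc_b_rc_13_2 lc_b_rc_11_2 lc_b_rc_12_2 lc_b_rc_13_2 lc_b_rc_14_2 lc_b_rc_13_2 lc_b_rc_16_2 lc_b_rc_10_2 lc_b_rc_12_2) (@D3.rec (fun _ => (Cert rels S Gen.b)) lc_b_rc_13_2 lc_b_rc_14_2 lc_b_rc_13_2 lc_b_rc_16_2 lc_b_rc_15_2 lc_b_rc_14_2 lc_b_rc_11_2 lc_b_rc_16_2 lc_b_rc_10_2 lc_b_rc_10_2 lc_b_rc_14_2 lc_b_rc_13_2 lc_b_rc_16_2 lc_b_rc_15_2 lc_b_rc_14_2 lc_b_rc_11_2 lc_b_rc_16_2 lc_b_rc_15_2) (@D3.rec (fun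 _ => (Cert rels S Gen.b)) lc_b_rc_11_2 lc_b_rc_16_2 lc_b_Cert_tree lc_b_rc_11_2 lc_b_rc_11_2 lc_b_rc_10_2 lc_b_rc_10_2 lc_b_rc_11_2 lc_b_rc_10_2 lc_b_rc_15_2 lc_b_rc_14_2 lc_b_rc_11_2 lc_b_rc_16_2 lc_b_rc_15_2 lc_b_rc_11_2 lc_b_rc_16_2 lc_b_rc_10_4 lc_b_rc_11_2) (@D3.rec (fun _ => (Cert rels S Gen.b)) lc_b_rc_11_2 lc_b_rc_16_2 lc_b_Cert_tree lc_b_rc_12_2 lc_b_rc_11_2 lc_b_rc_9_0 lc_b_rc_16_2 lc_b_rc_13_2 lc_b_rc_11_2 lc_b_rc_10_2 lc_b_rc_10_2 lc_b_rc_10_2 lc_b_rc_11_2 lc_b_rc_15_2 lc_b_rc_11_2 lc_b_rc_16_2 lc_b_rc_11_2 lc_b_rc_11_2) (@D3.rec (fun _ => (Cert rels S Gen.b)) lc_b_rc_16_2 lc_b_rc_10_4 lc_b_rc_12_2 lc_b_rc_11_2 lc_b_rc_10_4 lc_b_rc_13_2 lc_b_Cert_tree lc_b_rc_12_2 lc_b_rc_11_2 lc_b_rc_9_0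 lc_b_rc_12_2 lc_b_rc_16_2 lc_b_rc_12_2 lc_b_rc_13_2 lc_b_rc_16_2 lc_b_rc_13_2 lc_b_rc_12_2 lc_b_rc_11_2) (@D3.rec (fun _ => (Cert rels S Gen.b)) lc_b_rc_10_2 lc_b_rc_10_2 lc_b_rc_13_2 lc_b_rc_11_2 lc_b_rc_16_2 lc_b_rc_12_2 lc_b_rc_11_2 lc_b_rc_13_2 lc_b_rc_10_4 lc_b_rc_12_2 lc_b_rc_11_2 lc_b_rc_12_2 lc_b_rc_10_4 lc_b_rc_12_2 lc_b_rc_13_2 lc_b_rc_13_2 lc_b_rc_9_0 lc_b_rc_12_2) (@D3.rec (fun _ => (Cert rels S Gen.b)) lc_b_rc_16_2 lc_b_rc_14_2 lc_b_rc_12_2 lc_b_rc_13_2 lc_b_rc_12_2 lc_b_rc_16_2 lc_b_rc_11_2 lc_b_rc_16_2 lc_b_rc_13_2 lc_b_rc_13_2 lc_b_rc_13_2 lc_b_rc_11_2 lc_b_rc_12_2 lc_b_rc_10_2 lc_b_rc_12_2 lc_b_rc_11_2 lc_b_rc_12_2 lc_b_rc_13_2) (@D3.rec (fun _ => (Cert rels S Gen.b)) lc_b_rc_12_2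 lc_b_rc_10_4 lc_b_rc_14_2 lc_b_rc_12_2 lc_b_rc_13_2 lc_b_rc_11_2 lc_b_rc_12_2 lc_b_rc_13_2 lc_b_rc_13_2 lc_b_rc_11_2 lc_b_rc_12_2 lc_b_rc_16_2 lc_b_rc_11_2 lc_b_rc_14_2 lc_b_rc_16_2 lc_b_rc_13_2 lc_b_rc_14_2 lc_b_rc_13_2) (@D3.rec (fun _ => (Cert rels S Gen.b)) lc_b_rc_11_2 lc_b_rc_16_2 lc_b_rc_13_2 lc_b_rc_13_2 lc_b_rc_11_2 lc_b_rc_13_2 lc_b_rc_11_2 lc_b_rc_11_2 lc_b_rc_11_2 lc_b_rc_12_2 lc_b_rc_14_2 lc_b_rc_14_2 lc_b_rc_12_2 lc_b_rc_13_2 lc_b_rc_13_2 lc_b_rc_11_2 lc_b_rc_14_2 lc_b_rc_12_2) (@D3.rec (fun _ => (Cert rels S Gen.b)) lc_b_rc_13_2 lc_b_rc_14_2 lc_b_rc_13_2 lc_b_rc_13_2 lc_b_rc_11_2 lc_b_rc_13_2 lc_b_rc_11_2 lc_b_rc_11_2 lc_b_rc_12_2 lc_b_rc_11_2 lc_b_rc_14_2 lc_b_rc_16_2 lc_b_rc_13_2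 lc_b_rc_11_2 lc_b_rc_13_2 lc_b_rc_11_2 lc_b_rc_16_2 lc_b_rc_13_2) (@D3.rec (fun _ => (Cert rels S Gen.b)) lc_b_rc_11_2 lc_b_rc_13_2 lc_b_rc_11_2 lc_b_rc_10_2 lc_b_rc_13_2 lc_b_rc_11_2 lc_b_rc_13_2 lc_b_rc_11_2 lc_b_rc_16_2 lc_b_rc_13_2 lc_b_rc_11_2 lc_b_rc_12_2 lc_b_Cert_tree lc_b_rc_10_2 lc_b_rc_12_2 lc_b_rc_14_2 lc_b_rc_14_2 lc_b_rc_13_2) (@D3.rec (fun _ => (Cert rels S Gen.b)) lc_b_rc_11_2 lc_b_rc_11_2 lc_b_rc_13_2 lc_b_rc_11_2 lc_b_rc_14_2 lc_b_rc_13_2 lc_b_rc_11_2 lc_b_rc_13_2 lc_b_rc_11_2 lc_b_rc_16_2 lc_b_rc_13_2 lc_b_rc_11_2 lc_b_rc_12_2 lc_b_Cert_tree lc_b_rc_14_2 lc_b_rc_10_2 lc_b_rc_11_2 lc_b_rc_13_2) (@D3.rec (fun _ => (Cert rels S Gen.b)) lc_b_rc_11_2 lc_b_rc_16_2 lc_b_rc_13_2 lc_b_rc_11_2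 lc_b_rc_12_2 lc_b_rc_13_2 lc_b_rc_11_2 lc_b_rc_16_2 lc_b_rc_13_2 lc_b_rc_13_2 lc_b_rc_11_2 lc_b_rc_12_2 lc_b_rc_11_2 lc_b_Cert_tree lc_b_rc_10_2 lc_b_rc_10_2 lc_b_rc_16_2 lc_b_rc_13_2) (@D3.rec (fun _ => (Cert rels S Gen.b)) lc_b_rc_11_2 lc_b_rc_10_2 lc_b_rc_12_2 lc_b_rc_16_2 lc_b_rc_11_2 lc_b_Cert_tree lc_b_rc_12_2 lc_b_rc_14_2 lc_b_rc_9_0 lc_b_rc_10_2 lc_b_rc_14_2 lc_b_rc_15_2 lc_b_rc_13_2 lc_b_rc_11_2 lc_b_Cert_tree lc_b_rc_12_2 lc_b_rc_13_2 lc_b_rc_11_2) (@D3.rec (fun _ => (Cert rels S Gen.b)) lc_b_rc_16_2 lc_b_rc_13_2 lc_b_rc_14_2 lc_b_rc_11_2 lc_b_rc_12_2 lc_b_rc_11_2 lc_b_Cert_tree lc_b_rc_16_2 lc_b_rc_13_2 lc_b_Cert_tree lc_b_rc_12_2 lc_b_rc_14_2 lc_b_rc_9_0 lc_b_rc_15_2 lc_b_rc_10_2 lc_b_rc_10_2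 lc_b_rc_10_2 lc_b_rc_12_2)
def ce_b_1 : D2 → D3 → (Cert rels S Gen.b) := @D2.rec (fun _ => D3 → (Cert rels S Gen.b)) (@D3.rec (fun _ => (Cert rels S Gen.b)) lc_b_rc_13_2 lc_b_rc_11_2 lc_b_rc_16_2 lc_b_rc_13_2 lc_b_rc_13_2 lc_b_rc_11_2 lc_b_rc_10_2 lc_b_rc_12_2 lc_b_rc_13_2 lc_b_rc_12_2 lc_b_rc_16_2 lc_b_rc_13_2 lc_b_rc_16_2 lc_b_rc_11_2 lc_b_rc_11_2 lc_b_Cert_tree lc_b_rc_12_2 lc_b_rc_14_2) (@D3.rec (fun _ => (Cert rels S Gen.b)) lc_b_Cert_tree lc_b_rc_12_2 lc_b_rc_9_0 lc_b_rc_11_2 lc_b_rc_10_2 lc_b_rc_10_2 lc_b_rc_16_2 lc_b_rc_11_2 lc_b_Cert_tree lc_b_rc_12_2 lc_b_rc_10_2 lc_b_rc_14_2 lc_b_rc_11_2 lc_b_Cert_tree lc_b_rc_12_2 lc_b_rc_9_0 lc_b_rc_12_2 lc_b_rc_14_2) (@D3.rec (fun _ => (Cert rels S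 Gen.b)) lc_b_rc_15_2 lc_b_rc_1_3 lc_b_rc_11_2 lc_b_rc_10_2 lc_b_rc_15_2 lc_b_rc_11_2 lc_b_Cert_tree lc_b_rc_9_0 lc_b_rc_13_2 lc_b_rc_12_2 lc_b_rc_16_2 lc_b_rc_13_2 lc_b_rc_16_2 lc_b_rc_13_2 lc_b_rc_11_2 lc_b_Cert_tree lc_b_rc_12_2 lc_b_rc_14_2) (@D3.rec (fun _ => (Cert rels S Gen.b)) lc_b_Cert_tree lc_b_rc_12_2 lc_b_rc_9_0 lc_b_rc_16_2 lc_b_Cert_tree lc_b_rc_13_2 lc_b_rc_9_0 lc_b_rc_12_2 lc_b_rc_14_2 lc_b_rc_15_2 lc_b_rc_1_3 lc_b_rc_10_2 lc_b_rc_10_2 lc_b_rc_10_2 lc_b_rc_11_2 lc_b_rc_10_2 lc_b_rc_10_2 lc_b_rc_13_2) (@D3.rec (fun _ => (Cert rels S Gen.b)) lc_b_rc_12_2 lc_b_rc_16_2 lc_b_rc_13_2 lc_b_rc_16_2 lc_b_rc_11_2 lc_b_rc_11_2 lc_b_Cert_tree lc_b_rc_12_2 lc_b_rc_10_2 lc_b_rc_14_2 lc_b_rc_11_2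 lc_b_rc_16_2 lc_b_rc_13_2 lc_b_rc_16_2 lc_b_rc_11_2 lc_b_rc_11_2 lc_b_Cert_tree lc_b_rc_12_2) (@D3.rec (fun _ => (Cert rels S Gen.b)) lc_b_Cert_tree lc_b_rc_12_2 lc_b_rc_9_0 lc_b_rc_12_2 lc_b_rc_14_2 lc_b_rc_15_2 lc_b_rc_9_0 lc_b_rc_12_2 lc_b_rc_1_3 lc_b_rc_12_2 lc_b_rc_11_2 lc_b_rc_10_2 lc_b_rc_11_2 lc_b_rc_11_2 lc_b_Cert_tree lc_b_rc_12_2 lc_b_rc_9_0 lc_b_rc_12_2) (@D3.rec (fun _ => (Cert rels S Gen.b)) lc_b_rc_14_2 lc_b_rc_11_2 lc_b_rc_10_2 lc_b_rc_15_2 lc_b_Cert_tree lc_b_rc_12_2 lc_b_rc_9_0 lc_b_rc_12_2 lc_b_rc_14_2 lc_b_rc_1_3 lc_b_rc_12_2 lc_b_rc_14_2 lc_b_rc_15_2 lc_b_rc_11_2 lc_b_rc_13_2 lc_b_rc_10_2 lc_b_Cert_tree lc_b_rc_12_2) (@D3.rec (fun _ => (Cert rels S Gen.b)) lc_b_rc_9_0 lc_b_rc_1_3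 lc_b_rc_46_29 lc_b_rc_16_2 lc_b_rc_13_2 lc_b_rc_16_2 lc_b_rc_13_2 lc_b_rc_16_2 lc_b_Cert_tree lc_b_rc_13_2 lc_b_Cert_tree lc_b_rc_12_2 lc_b_rc_9_0 lc_b_rc_12_2 lc_b_rc_14_2 lc_b_rc_15_2 lc_b_rc_9_0 lc_b_rc_12_2) (@D3.rec (fun _ => (Cert rels S Gen.b)) lc_b_rc_1_3 lc_b_Cert_tree lc_b_rc_16_2 lc_b_rc_9_0 lc_b_rc_12_2 lc_b_rc_14_2 lc_b_rc_1_3 lc_b_rc_12_2 lc_b_rc_14_2 lc_b_rc_15_2 lc_b_rc_11_2 lc_b_rc_10_2 lc_b_rc_10_2 lc_b_rc_11_2 lc_b_rc_10_2 lc_b_rc_10_2 lc_b_rc_12_2 lc_b_rc_11_2) (@D3.rec (fun _ => (Cert rels S Gen.b)) lc_b_rc_10_2 lc_b_rc_11_2 lc_b_rc_11_2 lc_b_rc_16_2 lc_b_rc_13_2 lc_b_rc_16_2 lc_b_rc_11_2 lc_b_rc_11_2 lc_b_Cert_tree lc_b_rc_12_2 lc_b_Cert_tree lc_b_rc_12_2 lc_b_rc_9_0 lc_b_rc_12_2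 lc_b_rc_14_2 lc_b_rc_11_2 lc_b_rc_10_2 lc_b_rc_15_2) (@D3.rec (fun _ => (Cert rels S Gen.b)) lc_b_rc_10_4 lc_b_rc_11_2 lc_b_rc_16_2 lc_b_rc_11_2 lc_b_rc_11_2 lc_b_Cert_tree lc_b_rc_12_2 lc_b_Cert_tree lc_b_rc_12_2 lc_b_rc_9_0 lc_b_rc_12_2 lc_b_rc_14_2 lc_b_rc_9_0 lc_b_rc_12_2 lc_b_rc_14_2 lc_b_rc_1_3 lc_b_rc_12_2 lc_b_rc_14_2) (@D3.rec (fun _ => (Cert rels S Gen.b)) lc_b_rc_15_2 lc_b_rc_1_3 lc_b_rc_12_2 lc_b_rc_11_2 lc_b_rc_14_2 lc_b_rc_12_2 lc_b_rc_13_2 lc_b_rc_11_2 lc_b_Cert_tree lc_b_rc_12_2 lc_b_Cert_tree lc_b_rc_12_2 lc_b_rc_9_0 lc_b_rc_12_2 lc_b_rc_14_2 lc_b_rc_1_3 lc_b_rc_12_2 lc_b_rc_11_2) (@D3.rec (fun _ => (Cert rels S Gen.b)) lc_b_rc_14_2 lc_b_rc_15_2 lc_b_rc_11_2 lc_b_rc_13_2 lc_b_rc_10_2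 lc_b_rc_9_0 lc_b_rc_12_2 lc_b_rc_14_2 lc_b_rc_1_3 lc_b_rc_12_2 lc_b_rc_11_2 lc_b_rc_14_2 lc_b_rc_15_2 lc_b_rc_1_3 lc_b_rc_14_2 lc_b_rc_15_2 lc_b_rc_11_2 lc_b_rc_9_0) (@D3.rec (fun _ => (Cert rels S Gen.b)) lc_b_rc_12_2 lc_b_rc_1_3 lc_b_Cert_tree lc_b_rc_11_2 lc_b_rc_16_2 lc_b_rc_11_2 lc_b_rc_16_2 lc_b_Cert_tree lc_b_rc_13_2 lc_b_Cert_tree lc_b_rc_16_2 lc_b_rc_9_0 lc_b_rc_12_2 lc_b_rc_14_2 lc_b_rc_9_0 lc_b_rc_12_2 lc_b_rc_14_2 lc_b_rc_1_3) (@D3.rec (fun _ => (Cert rels S Gen.b)) lc_b_rc_12_2 lc_b_rc_14_2 lc_b_rc_15_2 lc_b_rc_1_3 lc_b_rc_12_2 lc_b_rc_11_2 lc_b_rc_9_0 lc_b_rc_12_2 lc_b_rc_16_2 lc_b_rc_1_3 lc_b_rc_12_2 lc_b_rc_14_2 lc_b_rc_9_1 lc_b_rc_15_2 lc_b_rc_1_3 lc_b_rc_14_2 lc_b_rc_15_2 lc_b_rc_11_2)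
def ce_b_2 : D2 → D3 → (Cert rels S Gen.b) := @D2.rec (fun _ => D3 → (Cert rels S Gen.b)) (@D3.rec (fun _ => (Cert rels S Gen.b)) lc_b_rc_10_2 lc_b_rc_10_2 lc_b_rc_11_2 lc_b_rc_10_2 lc_b_rc_11_2 lc_b_rc_12_2 lc_b_rc_13_2 lc_b_rc_11_2 lc_b_Cert_tree lc_b_rc_12_2 lc_b_rc_11_2 lc_b_rc_16_2 lc_b_rc_11_2 lc_b_rc_11_2 lc_b_Cert_tree lc_b_rc_12_2 lc_b_Cert_tree lc_b_rc_12_2) (@D3.rec (fun _ => (Cert rels S Gen.b)) lc_b_rc_9_0 lc_b_rc_12_2 lc_b_rc_14_2 lc_b_rc_9_0 lc_b_rc_12_2 lc_b_rc_14_2 lc_b_rc_1_3 lc_b_rc_12_2 lc_b_rc_11_2 lc_b_rc_14_2 lc_b_rc_15_2 lc_b_rc_11_2 lc_b_rc_13_2 lc_b_rc_10_2 lc_b_rc_16_2 lc_b_rc_13_2 lc_b_rc_11_2 lc_b_Cert_tree) (@D3.rec (fun _ => (Cert rels S Gen.b)) lc_b_rc_12_2 lc_b_Cert_tree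 lc_b_rc_12_2 lc_b_rc_9_0 lc_b_rc_12_2 lc_b_rc_14_2 lc_b_rc_9_0 lc_b_rc_12_2 lc_b_rc_14_2 lc_b_rc_1_3 lc_b_rc_12_2 lc_b_rc_11_2 lc_b_rc_14_2 lc_b_rc_15_2 lc_b_rc_1_3 lc_b_rc_12_2 lc_b_rc_11_2 lc_b_rc_14_2) (@D3.rec (fun _ => (Cert rels S Gen.b)) lc_b_rc_15_2 lc_b_rc_1_3 lc_b_rc_14_2 lc_b_rc_15_2 lc_b_rc_1_3 lc_b_rc_11_2 lc_b_rc_13_2 lc_b_rc_13_2 lc_b_Cert_tree lc_b_rc_12_2 lc_b_rc_9_0 lc_b_rc_12_2 lc_b_rc_14_2 lc_b_rc_9_0 lc_b_rc_12_2 lc_b_rc_14_2 lc_b_rc_1_3 lc_b_rc_12_2) (@D3.rec (fun _ => (Cert rels S Gen.b)) lc_b_rc_11_2 lc_b_rc_14_2 lc_b_rc_15_2 lc_b_rc_1_3 lc_b_rc_11_2 lc_b_rc_14_2 lc_b_rc_11_2 lc_b_rc_13_2 lc_b_rc_15_2 lc_b_rc_11_2 lc_b_rc_1_3 lc_b_rc_12_2 lc_b_rc_11_2 lc_b_rc_14_2 lc_b_rc_15_2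 lc_b_rc_1_3 lc_b_rc_11_2 lc_b_rc_14_2) (@D3.rec (fun _ => (Cert rels S Gen.b)) lc_b_rc_11_2 lc_b_rc_15_2 lc_b_rc_1_3 lc_b_rc_15_2 lc_b_rc_1_3 lc_b_rc_12_2 lc_b_rc_11_2 lc_b_rc_9_0 lc_b_rc_47_28 lc_b_rc_13_2 lc_b_rc_11_2 lc_b_Cert_tree lc_b_rc_11_2 lc_b_Cert_tree lc_b_rc_16_2 lc_b_rc_9_0 lc_b_rc_12_2 lc_b_rc_14_2) (@D3.rec (fun _ => (Cert rels S Gen.b)) lc_b_rc_9_0 lc_b_rc_12_2 lc_b_rc_16_2 lc_b_rc_1_3 lc_b_rc_12_2 lc_b_rc_11_2 lc_b_rc_14_2 lc_b_rc_15_2 lc_b_rc_1_3 lc_b_rc_12_2 lc_b_rc_11_2 lc_b_rc_14_2 lc_b_rc_15_2 lc_b_rc_1_3 lc_b_rc_14_2 lc_b_rc_15_2 lc_b_rc_1_3 lc_b_rc_11_2) (@D3.rec (fun _ => (Cert rels S Gen.b)) lc_b_rc_47_21 lc_b_rc_1_3 lc_b_rc_12_2 lc_b_rc_45_47 lc_b_rc_14_2 lc_b_rc_16_2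 lc_b_rc_1_3 lc_b_rc_15_2 lc_b_rc_1_3 lc_b_rc_15_2 lc_b_rc_13_2 lc_b_rc_10_2 lc_b_rc_11_2 lc_b_rc_13_2 lc_b_rc_11_2 lc_b_Cert_tree lc_b_rc_12_2 lc_b_rc_13_2) (@D3.rec (fun _ => (Cert rels S Gen.b)) lc_b_Cert_tree lc_b_rc_12_2 lc_b_rc_9_0 lc_b_rc_12_2 lc_b_rc_14_2 lc_b_rc_13_2 lc_b_rc_11_2 lc_b_Cert_tree lc_b_rc_12_2 lc_b_Cert_tree lc_b_rc_12_2 lc_b_rc_9_0 lc_b_rc_12_2 lc_b_rc_14_2 lc_b_rc_9_0 lc_b_rc_12_2 lc_b_rc_14_2 lc_b_rc_1_3) (@D3.rec (fun _ => (Cert rels S Gen.b)) lc_b_rc_12_2 lc_b_rc_11_2 lc_b_rc_14_2 lc_b_rc_15_2 lc_b_rc_1_3 lc_b_rc_12_2 lc_b_rc_11_2 lc_b_rc_14_2 lc_b_rc_15_2 lc_b_rc_1_3 lc_b_rc_11_2 lc_b_rc_14_2 lc_b_rc_11_2 lc_b_rc_13_2 lc_b_rc_15_2 lc_b_rc_12_2 lc_b_rc_11_2 lc_b_rc_13_2)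 (@D3.rec (fun _ => (Cert rels S Gen.b)) lc_b_rc_16_2 lc_b_rc_13_2 lc_b_rc_13_2 lc_b_Cert_tree lc_b_rc_12_2 lc_b_rc_9_0 lc_b_rc_12_2 lc_b_rc_14_2 lc_b_rc_9_0 lc_b_rc_12_2 lc_b_rc_14_2 lc_b_rc_1_3 lc_b_rc_12_2 lc_b_rc_11_2 lc_b_rc_14_2 lc_b_rc_15_2 lc_b_rc_1_3 lc_b_rc_12_2) (@D3.rec (fun _ => (Cert rels S Gen.b)) lc_b_rc_11_2 lc_b_rc_14_2 lc_b_rc_15_2 lc_b_rc_1_3 lc_b_rc_11_2 lc_b_rc_14_2 lc_b_rc_11_2 lc_b_rc_15_2 lc_b_rc_1_3 lc_b_rc_11_2 lc_b_rc_14_2 lc_b_rc_11_2 lc_b_rc_13_2 lc_b_rc_15_2 lc_b_rc_1_3 lc_b_rc_15_2 lc_b_rc_1_3 lc_b_rc_10_2) (@D3.rec (fun _ => (Cert rels S Gen.b)) lc_b_rc_13_2 lc_b_rc_12_0 lc_b_Cert_tree lc_b_rc_9_0 lc_b_rc_12_2 lc_b_rc_1_3 lc_b_rc_12_2 lc_b_rc_11_2 lc_b_rc_14_2 lc_b_rc_1_3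 lc_b_rc_12_2 lc_b_rc_11_2 lc_b_rc_14_2 lc_b_rc_15_2 lc_b_rc_1_3 lc_b_rc_11_2 lc_b_rc_14_2 lc_b_rc_11_2) (@D3.rec (fun _ => (Cert rels S Gen.b)) lc_b_rc_13_2 lc_b_rc_15_2 lc_b_rc_1_3 lc_b_rc_1_3 lc_b_rc_11_2 lc_b_rc_13_2 lc_b_rc_15_2 lc_b_rc_11_2 lc_b_rc_12_2 lc_b_rc_11_2 lc_b_rc_14_2 lc_b_rc_16_2 lc_b_rc_10_2 lc_b_rc_15_2 lc_b_rc_15_2 lc_b_rc_1_3 lc_b_rc_1_3 lc_b_rc_11_2) (@D3.rec (fun _ => (Cert rels S Gen.b)) lc_b_rc_1_1 lc_b_rc_13_2 lc_b_rc_47_56 lc_b_rc_11_2 lc_b_rc_9_0 lc_b_rc_12_2 lc_b_rc_11_2 lc_b_rc_9_0 lc_b_rc_12_2 lc_b_rc_16_2 lc_b_rc_1_3 lc_b_rc_12_2 lc_b_rc_11_2 lc_b_rc_14_2 lc_b_rc_15_2 lc_b_rc_1_3 lc_b_rc_12_2 lc_b_rc_15_2)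
def ce_b_3 : D2 → D3 → (Cert rels S Gen.b) := @D2.rec (fun _ => D3 → (Cert rels S Gen.b)) (@D3.rec (fun _ => (Cert rels S Gen.b)) lc_b_rc_14_2 lc_b_rc_16_2 lc_b_rc_1_3 lc_b_rc_11_2 lc_b_rc_14_2 lc_b_rc_14_2 lc_b_rc_13_2 lc_b_rc_1_3 lc_b_rc_11_2 lc_b_rc_14_2 lc_b_rc_11_2 lc_b_rc_14_0 lc_b_rc_15_2 lc_b_rc_1_3 lc_b_rc_15_2 lc_b_rc_1_3 lc_b_rc_1_3 lc_b_rc_13_2) (@D3.rec (fun _ => (Cert rels S Gen.b)) lc_b_rc_11_2 lc_b_Cert_tree lc_b_rc_12_2 lc_b_rc_13_2 lc_b_Cert_tree lc_b_rc_12_2 lc_b_rc_9_0 lc_b_rc_12_2 lc_b_rc_14_2 lc_b_Cert_tree lc_b_rc_9_0 lc_b_rc_12_2 lc_b_rc_14_2 lc_b_rc_1_3 lc_b_rc_12_2 lc_b_rc_11_2 lc_b_rc_14_2 lc_b_rc_15_2) (@D3.rec (fun _ => (Cert rels S Gen.b)) lc_b_rc_13_2 lc_b_Cert_tree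 lc_b_rc_12_2 lc_b_rc_9_0 lc_b_rc_12_2 lc_b_rc_14_2 lc_b_rc_9_0 lc_b_rc_12_2 lc_b_rc_14_2 lc_b_rc_1_3 lc_b_rc_12_2 lc_b_rc_11_2 lc_b_rc_14_2 lc_b_rc_15_2 lc_b_rc_1_3 lc_b_rc_12_2 lc_b_rc_11_2 lc_b_rc_14_2) (@D3.rec (fun _ => (Cert rels S Gen.b)) lc_b_rc_15_2 lc_b_rc_1_3 lc_b_rc_11_2 lc_b_rc_14_2 lc_b_rc_11_2 lc_b_rc_13_2 lc_b_rc_15_2 lc_b_rc_1_3 lc_b_rc_11_2 lc_b_rc_14_2 lc_b_rc_11_2 lc_b_rc_13_2 lc_b_rc_15_2 lc_b_rc_1_3 lc_b_rc_1_3 lc_b_rc_11_2 lc_b_rc_13_2 lc_b_rc_15_2) (@D3.rec (fun _ => (Cert rels S Gen.b)) lc_b_rc_12_2 lc_b_rc_11_2 lc_b_rc_13_2 lc_b_rc_16_2 lc_b_rc_12_2 lc_b_rc_13_2 lc_b_rc_13_2 lc_b_rc_9_0 lc_b_rc_12_2 lc_b_rc_14_2 lc_b_rc_12_0 lc_b_rc_12_2 lc_b_rc_11_2 lc_b_rc_14_2 lc_b_rc_15_2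 lc_b_rc_1_3 lc_b_rc_12_2 lc_b_rc_11_2) (@D3.rec (fun _ => (Cert rels S Gen.b)) lc_b_rc_14_2 lc_b_rc_15_2 lc_b_rc_1_3 lc_b_rc_11_2 lc_b_rc_14_2 lc_b_rc_11_2 lc_b_rc_13_2 lc_b_rc_15_2 lc_b_rc_15_2 lc_b_rc_11_2 lc_b_rc_14_2 lc_b_rc_11_2 lc_b_rc_15_2 lc_b_rc_16_0 lc_b_rc_1_3 lc_b_rc_10_2 lc_b_rc_11_2 lc_b_rc_15_2) (@D3.rec (fun _ => (Cert rels S Gen.b)) lc_b_rc_12_2 lc_b_rc_14_2 lc_b_rc_1_3 lc_b_rc_1_3 lc_b_rc_10_2 lc_b_rc_11_2 lc_b_rc_13_2 lc_b_rc_15_2 lc_b_rc_11_2 lc_b_rc_13_2 lc_b_rc_16_2 lc_b_rc_1_3 lc_b_rc_10_2 lc_b_rc_10_2 lc_b_rc_9_0 lc_b_rc_1_3 lc_b_rc_12_2 lc_b_rc_11_2) (@D3.rec (fun _ => (Cert rels S Gen.b)) lc_b_rc_1_3 lc_b_rc_11_2 lc_b_rc_14_2 lc_b_rc_11_2 lc_b_rc_13_2 lc_b_rc_1_3 lc_b_rc_11_2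 lc_b_rc_14_2 lc_b_rc_11_2 lc_b_rc_13_2 lc_b_rc_10_4 lc_b_rc_1_3 lc_b_rc_1_3 lc_b_rc_10_2 lc_b_rc_11_2 lc_b_rc_13_2 lc_b_rc_15_2 lc_b_rc_11_2) (@D3.rec (fun _ => (Cert rels S Gen.b)) lc_b_rc_1_3 lc_b_rc_1_3 lc_b_rc_1_3 lc_b_rc_11_2 lc_b_rc_13_2 lc_b_rc_14_0 lc_b_rc_11_2 lc_b_rc_12_2 lc_b_rc_11_2 lc_b_rc_14_2 lc_b_rc_11_2 lc_b_rc_1_3 lc_b_rc_12_2 lc_b_rc_11_2 lc_b_rc_14_2 lc_b_rc_16_2 lc_b_rc_1_3 lc_b_rc_11_2) (@D3.rec (fun _ => (Cert rels S Gen.b)) lc_b_rc_14_2 lc_b_rc_11_2 lc_b_rc_14_0 lc_b_rc_15_2 lc_b_rc_14_2 lc_b_rc_13_0 lc_b_rc_14_2 lc_b_rc_1_3 lc_b_rc_45_38 lc_b_rc_1_3 lc_b_rc_1_3 lc_b_rc_11_2 lc_b_rc_15_2 lc_b_rc_11_2 lc_b_rc_9_1 lc_b_rc_1_3 lc_b_Cert_tree lc_b_rc_13_2) (@D3.rec (fun _ =>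 (Cert rels S Gen.b)) lc_b_Cert_tree lc_b_rc_12_2 lc_b_rc_9_0 lc_b_rc_12_2 lc_b_rc_14_2 lc_b_Cert_tree lc_b_rc_13_2 lc_b_rc_9_0 lc_b_rc_12_2 lc_b_rc_14_2 lc_b_rc_1_3 lc_b_rc_12_2 lc_b_rc_11_2 lc_b_rc_14_2 lc_b_rc_15_2 lc_b_rc_9_0 lc_b_rc_1_3 lc_b_rc_12_2) (@D3.rec (fun _ => (Cert rels S Gen.b)) lc_b_rc_11_2 lc_b_rc_14_2 lc_b_rc_1_3 lc_b_rc_11_2 lc_b_rc_14_2 lc_b_rc_11_2 lc_b_rc_13_2 lc_b_rc_15_2 lc_b_rc_10_2 lc_b_rc_13_2 lc_b_rc_9_0 lc_b_rc_12_2 lc_b_rc_14_2 lc_b_rc_1_3 lc_b_rc_12_2 lc_b_rc_11_2 lc_b_rc_14_2 lc_b_rc_15_2) (@D3.rec (fun _ => (Cert rels S Gen.b)) lc_b_rc_1_3 lc_b_rc_12_2 lc_b_rc_11_2 lc_b_rc_14_2 lc_b_rc_15_2 lc_b_rc_1_3 lc_b_rc_11_2 lc_b_rc_14_2 lc_b_rc_11_2 lc_b_rc_13_2 lc_b_rc_15_2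 lc_b_rc_1_3 lc_b_rc_11_2 lc_b_rc_14_2 lc_b_rc_11_2 lc_b_rc_13_2 lc_b_rc_15_2 lc_b_rc_1_3) (@D3.rec (fun _ => (Cert rels S Gen.b)) lc_b_rc_1_3 lc_b_rc_10_2 lc_b_rc_11_2 lc_b_rc_13_2 lc_b_rc_15_2 lc_b_rc_12_2 lc_b_rc_11_2 lc_b_rc_13_2 lc_b_rc_16_2 lc_b_rc_1_3 lc_b_rc_1_3 lc_b_rc_10_2 lc_b_rc_11_2 lc_b_rc_13_2 lc_b_rc_15_2 lc_b_rc_12_2 lc_b_rc_11_2 lc_b_rc_13_2) (@D3.rec (fun _ => (Cert rels S Gen.b)) lc_b_rc_16_2 lc_b_rc_1_3 lc_b_rc_1_3 lc_b_rc_1_3 lc_b_rc_12_2 lc_b_rc_11_2 lc_b_rc_13_2 lc_b_rc_16_2 lc_b_rc_12_2 lc_b_rc_13_2 lc_b_rc_11_2 lc_b_rc_14_2 lc_b_rc_12_2 lc_b_rc_11_2 lc_b_rc_14_2 lc_b_rc_15_2 lc_b_rc_16_2 lc_b_rc_11_2)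
def ce_b_4 : D2 → D3 → (Cert rels S Gen.b) := @D2.rec (fun _ => D3 → (Cert rels S Gen.b)) (@D3.rec (fun _ => (Cert rels S Gen.b)) lc_b_rc_14_2 lc_b_rc_11_2 lc_b_rc_13_2 lc_b_rc_15_2 lc_b_rc_1_3 lc_b_rc_11_2 lc_b_rc_14_2 lc_b_rc_11_2 lc_b_rc_13_2 lc_b_rc_15_2 lc_b_rc_1_3 lc_b_rc_1_3 lc_b_rc_10_2 lc_b_rc_11_2 lc_b_rc_13_2 lc_b_rc_15_2 lc_b_rc_12_2 lc_b_rc_11_2) (@D3.rec (fun _ => (Cert rels S Gen.b)) lc_b_rc_13_2 lc_b_rc_16_2 lc_b_rc_14_2 lc_b_rc_10_2 lc_b_rc_11_2 lc_b_rc_15_2 lc_b_rc_12_2 lc_b_rc_10_2 lc_b_rc_10_2 lc_b_rc_12_2 lc_b_rc_11_0 lc_b_rc_14_0 lc_b_rc_1_3 lc_b_rc_1_3 lc_b_rc_10_2 lc_b_rc_10_2 lc_b_rc_11_2 lc_b_rc_13_2) (@D3.rec (fun _ => (Cert rels S Gen.b)) lc_b_rc_13_2 lc_b_rc_16_2 lc_b_rc_11_2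 lc_b_rc_1_3 lc_b_rc_1_3 lc_b_rc_11_2 lc_b_rc_1_3 lc_b_rc_1_3 lc_b_rc_10_2 lc_b_rc_11_2 lc_b_rc_13_2 lc_b_rc_12_2 lc_b_rc_1_1 lc_b_rc_1_3 lc_b_rc_10_2 lc_b_rc_11_2 lc_b_rc_13_2 lc_b_rc_11_2) (@D3.rec (fun _ => (Cert rels S Gen.b)) lc_b_rc_1_3 lc_b_rc_10_2 lc_b_rc_11_2 lc_b_rc_1_3 lc_b_rc_13_2 lc_b_rc_14_0 lc_b_rc_47_28 lc_b_rc_11_2 lc_b_rc_11_2 lc_b_rc_14_2 lc_b_rc_11_2 lc_b_rc_13_2 lc_b_rc_15_2 lc_b_rc_1_3 lc_b_rc_11_2 lc_b_rc_14_2 lc_b_rc_11_2 lc_b_rc_10_2) (@D3.rec (fun _ => (Cert rels S Gen.b)) lc_b_rc_47_21 lc_b_rc_1_3 lc_b_rc_1_3 lc_b_rc_11_2 lc_b_rc_15_2 lc_b_rc_9_1 lc_b_rc_9_1 lc_b_rc_11_2 lc_b_rc_1_3 lc_b_rc_1_3 lc_b_rc_11_2 lc_b_rc_9_1 lc_b_rc_9_0 lc_b_rc_12_2 lc_b_rc_14_2 lc_b_rc_9_0 lc_b_rc_12_2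 lc_b_rc_14_2) (@D3.rec (fun _ => (Cert rels S Gen.b)) lc_b_rc_1_3 lc_b_rc_12_2 lc_b_rc_11_2 lc_b_rc_14_2 lc_b_rc_15_2 lc_b_rc_9_0 lc_b_rc_12_2 lc_b_rc_1_3 lc_b_rc_12_2 lc_b_rc_11_2 lc_b_rc_14_2 lc_b_rc_1_3 lc_b_rc_11_2 lc_b_rc_14_2 lc_b_rc_11_2 lc_b_rc_13_2 lc_b_rc_15_2 lc_b_rc_1_3) (@D3.rec (fun _ => (Cert rels S Gen.b)) lc_b_rc_1_3 lc_b_rc_11_2 lc_b_rc_14_2 lc_b_rc_11_2 lc_b_rc_1_3 lc_b_rc_1_3 lc_b_rc_10_2 lc_b_rc_11_2 lc_b_rc_13_2 lc_b_rc_15_2 lc_b_rc_12_2 lc_b_rc_11_2 lc_b_rc_13_2 lc_b_rc_16_2 lc_b_rc_14_0 lc_b_rc_14_2 lc_b_rc_12_2 lc_b_rc_11_2) (@D3.rec (fun _ => (Cert rels S Gen.b)) lc_b_rc_14_2 lc_b_rc_15_2 lc_b_rc_16_2 lc_b_rc_11_2 lc_b_rc_14_2 lc_b_rc_11_2 lc_b_rc_13_2 lc_b_rc_15_2 lc_b_rc_1_3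 lc_b_rc_11_2 lc_b_rc_14_2 lc_b_rc_11_2 lc_b_rc_13_2 lc_b_rc_15_2 lc_b_rc_1_3 lc_b_rc_1_3 lc_b_rc_10_2 lc_b_rc_11_2) (@D3.rec (fun _ => (Cert rels S Gen.b)) lc_b_rc_13_2 lc_b_rc_15_2 lc_b_rc_12_2 lc_b_rc_11_2 lc_b_rc_13_2 lc_b_rc_16_2 lc_b_rc_1_3 lc_b_rc_1_3 lc_b_rc_10_2 lc_b_rc_11_2 lc_b_rc_13_2 lc_b_rc_15_2 lc_b_rc_12_2 lc_b_rc_11_2 lc_b_rc_13_2 lc_b_rc_1_1 lc_b_rc_11_2 lc_b_rc_1_3) (@D3.rec (fun _ => (Cert rels S Gen.b)) lc_b_rc_1_3 lc_b_rc_1_3 lc_b_rc_10_2 lc_b_rc_10_2 lc_b_rc_12_2 lc_b_rc_11_2 lc_b_rc_13_2 lc_b_rc_16_2 lc_b_rc_12_2 lc_b_rc_13_2 lc_b_rc_11_2 lc_b_rc_1_3 lc_b_rc_1_3 lc_b_rc_1_3 lc_b_rc_10_2 lc_b_rc_10_2 lc_b_rc_12_2 lc_b_rc_11_2) (@D3.rec (fun _ => (Cert rels S Gen.b)) lc_b_rc_13_2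 lc_b_rc_16_2 lc_b_rc_12_2 lc_b_rc_13_2 lc_b_rc_13_2 lc_b_rc_16_2 lc_b_rc_1_3 lc_b_rc_1_3 lc_b_rc_1_3 lc_b_rc_1_3 lc_b_rc_12_2 lc_b_rc_13_2 lc_b_rc_11_2 lc_b_Cert_tree lc_b_rc_15_2 lc_b_rc_11_2 lc_b_rc_14_2 lc_b_rc_11_2) (@D3.rec (fun _ => (Cert rels S Gen.b)) lc_b_rc_15_2 lc_b_rc_16_2 lc_b_rc_16_2 lc_b_rc_10_2 lc_b_rc_11_2 lc_b_rc_13_2 lc_b_rc_15_2 lc_b_rc_12_2 lc_b_rc_11_2 lc_b_rc_13_2 lc_b_rc_16_2 lc_b_rc_1_3 lc_b_rc_11_0 lc_b_rc_10_2 lc_b_rc_11_2 lc_b_rc_13_2 lc_b_rc_15_2 lc_b_rc_12_2) (@D3.rec (fun _ => (Cert rels S Gen.b)) lc_b_rc_11_2 lc_b_rc_13_2 lc_b_rc_13_2 lc_b_rc_10_2 lc_b_rc_1_3 lc_b_rc_11_0 lc_b_rc_10_2 lc_b_rc_10_2 lc_b_rc_12_2 lc_b_rc_11_2 lc_b_rc_13_2 lc_b_rc_10_4 lc_b_rc_13_2 lc_b_rc_13_2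 lc_b_rc_16_2 lc_b_rc_10_2 lc_b_rc_13_0 lc_b_rc_1_3) (@D3.rec (fun _ => (Cert rels S Gen.b)) lc_b_rc_10_2 lc_b_rc_10_2 lc_b_rc_10_0 lc_b_rc_13_2 lc_b_rc_16_2 lc_b_rc_11_0 lc_b_rc_1_3 lc_b_rc_10_2 lc_b_rc_46_29 lc_b_rc_1_3 lc_b_rc_1_3 lc_b_rc_12_2 lc_b_rc_13_2 lc_b_rc_11_2 lc_b_rc_47_35 lc_b_rc_10_2 lc_b_rc_11_2 lc_b_rc_13_2) (@D3.rec (fun _ => (Cert rels S Gen.b)) lc_b_rc_15_2 lc_b_rc_12_2 lc_b_rc_11_2 lc_b_rc_13_2 lc_b_rc_1_3 lc_b_rc_11_2 lc_b_rc_47_35 lc_b_rc_47_49 lc_b_rc_47_35 lc_b_rc_1_3 lc_b_rc_12_2 lc_b_rc_9_1 lc_b_rc_1_3 lc_b_rc_1_3 lc_b_rc_12_2 lc_b_rc_11_2 lc_b_rc_14_2 lc_b_rc_15_2)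
def ce_b_5 : D2 → D3 → (Cert rels S Gen.b) := @D2.rec (fun _ => D3 → (Cert rels S Gen.b)) (@D3.rec (fun _ => (Cert rels S Gen.b)) lc_b_rc_12_2 lc_b_rc_11_2 lc_b_rc_14_2 lc_b_rc_1_3 lc_b_rc_11_2 lc_b_rc_14_2 lc_b_rc_11_2 lc_b_rc_13_2 lc_b_rc_15_2 lc_b_rc_1_3 lc_b_rc_12_2 lc_b_rc_11_2 lc_b_rc_1_3 lc_b_rc_11_2 lc_b_rc_14_2 lc_b_rc_11_2 lc_b_rc_13_2 lc_b_rc_1_3) (@D3.rec (fun _ => (Cert rels S Gen.b)) lc_b_rc_1_3 lc_b_rc_10_2 lc_b_rc_11_2 lc_b_rc_13_2 lc_b_rc_15_2 lc_b_rc_12_2 lc_b_rc_11_2 lc_b_rc_13_2 lc_b_rc_16_2 lc_b_rc_1_3 lc_b_rc_1_3 lc_b_rc_10_2 lc_b_rc_11_2 lc_b_rc_12_2 lc_b_rc_47_7 lc_b_rc_1_3 lc_b_rc_1_3 lc_b_rc_1_3) (@D3.rec (fun _ => (Cert rels S Gen.b)) lc_b_rc_10_2 lc_b_rc_10_2 lc_b_rc_12_2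 lc_b_rc_11_2 lc_b_rc_13_2 lc_b_rc_16_2 lc_b_rc_12_2 lc_b_rc_13_2 lc_b_rc_13_2 lc_b_rc_16_2 lc_b_rc_11_2 lc_b_rc_13_2 lc_b_rc_15_2 lc_b_rc_11_2 lc_b_rc_14_2 lc_b_rc_11_2 lc_b_rc_13_2 lc_b_rc_15_2) (@D3.rec (fun _ => (Cert rels S Gen.b)) lc_b_rc_16_2 lc_b_rc_16_2 lc_b_rc_10_2 lc_b_rc_11_2 lc_b_rc_13_2 lc_b_rc_15_2 lc_b_rc_12_2 lc_b_rc_11_2 lc_b_rc_13_2 lc_b_rc_16_2 lc_b_rc_1_3 lc_b_rc_1_3 lc_b_rc_10_2 lc_b_rc_11_2 lc_b_rc_13_2 lc_b_rc_15_2 lc_b_rc_12_2 lc_b_rc_11_2) (@D3.rec (fun _ => (Cert rels S Gen.b)) lc_b_rc_13_2 lc_b_rc_16_2 lc_b_Cert_tree lc_b_rc_1_3 lc_b_rc_1_3 lc_b_rc_1_3 lc_b_rc_10_2 lc_b_rc_10_2 lc_b_rc_12_2 lc_b_rc_11_2 lc_b_rc_13_2 lc_b_rc_16_2 lc_b_rc_12_2 lc_b_rc_13_2 lc_b_rc_13_2 lc_b_rc_16_2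 lc_b_rc_1_3 lc_b_rc_10_2) (@D3.rec (fun _ => (Cert rels S Gen.b)) lc_b_rc_12_2 lc_b_rc_11_2 lc_b_rc_13_2 lc_b_rc_12_2 lc_b_rc_13_2 lc_b_rc_1_3 lc_b_rc_1_3 lc_b_rc_10_2 lc_b_rc_10_2 lc_b_rc_12_2 lc_b_rc_13_2 lc_b_rc_11_2 lc_b_rc_15_0 lc_b_rc_11_0 lc_b_rc_1_3 lc_b_rc_1_3 lc_b_rc_1_3 lc_b_rc_1_3) (@D3.rec (fun _ => (Cert rels S Gen.b)) lc_b_rc_10_2 lc_b_rc_10_2 lc_b_rc_10_2 lc_b_rc_10_0 lc_b_rc_10_2 lc_b_rc_12_2 lc_b_rc_13_2 lc_b_rc_13_2 lc_b_rc_16_2 lc_b_rc_13_2 lc_b_rc_11_2 lc_b_rc_16_2 lc_b_rc_16_2 lc_b_rc_1_3 lc_b_rc_1_3 lc_b_rc_11_2 lc_b_Cert_tree lc_b_rc_9_0) (@D3.rec (fun _ => (Cert rels S Gen.b)) lc_b_rc_10_2 lc_b_rc_11_2 lc_b_rc_15_2 lc_b_rc_12_2 lc_b_rc_11_2 lc_b_Cert_tree lc_b_rc_16_2 lc_b_rc_13_2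 lc_b_rc_16_2 lc_b_rc_10_2 lc_b_rc_10_2 lc_b_rc_12_2 lc_b_rc_11_2 lc_b_rc_13_2 lc_b_rc_16_2 lc_b_rc_1_3 lc_b_rc_1_3 lc_b_rc_1_3) (@D3.rec (fun _ => (Cert rels S Gen.b)) lc_b_rc_16_2 lc_b_rc_13_2 lc_b_rc_10_0 lc_b_rc_10_2 lc_b_rc_10_2 lc_b_rc_12_2 lc_b_rc_11_2 lc_b_rc_13_2 lc_b_rc_10_2 lc_b_rc_10_2 lc_b_rc_10_2 lc_b_rc_10_2 lc_b_rc_11_2 lc_b_rc_13_2 lc_b_rc_13_2 lc_b_rc_11_2 lc_b_rc_10_2 lc_b_rc_10_2) (@D3.rec (fun _ => (Cert rels S Gen.b)) lc_b_rc_10_0 lc_b_rc_10_0 lc_b_rc_11_0 lc_b_rc_12_2 lc_b_rc_47_28 lc_b_rc_9_0 lc_b_rc_12_2 lc_b_rc_11_2 lc_b_rc_13_2 lc_b_rc_1_3 lc_b_rc_11_2 lc_b_rc_14_2 lc_b_rc_11_2 lc_b_rc_13_2 lc_b_rc_15_2 lc_b_rc_11_2 lc_b_rc_14_2 lc_b_rc_11_2) (@D3.rec (fun _ => (Cert rels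 S Gen.b)) lc_b_rc_13_2 lc_b_rc_1_3 lc_b_rc_1_3 lc_b_rc_10_2 lc_b_rc_11_2 lc_b_rc_13_2 lc_b_rc_15_2 lc_b_rc_12_2 lc_b_rc_11_2 lc_b_rc_13_2 lc_b_rc_16_2 lc_b_rc_1_3 lc_b_rc_11_2 lc_b_rc_13_2 lc_b_rc_1_3 lc_b_rc_1_3 lc_b_rc_10_2 lc_b_rc_11_2) (@D3.rec (fun _ => (Cert rels S Gen.b)) lc_b_rc_13_2 lc_b_rc_12_2 lc_b_rc_13_2 lc_b_rc_16_2 lc_b_Cert_tree lc_b_rc_1_3 lc_b_rc_1_3 lc_b_rc_1_3 lc_b_rc_10_2 lc_b_rc_10_2 lc_b_rc_12_2 lc_b_rc_11_2 lc_b_rc_13_2 lc_b_rc_16_2 lc_b_rc_12_2 lc_b_rc_13_2 lc_b_rc_13_2 lc_b_rc_16_2) (@D3.rec (fun _ => (Cert rels S Gen.b)) lc_b_rc_1_3 lc_b_rc_10_2 lc_b_rc_12_2 lc_b_rc_13_2 lc_b_rc_1_3 lc_b_rc_1_3 lc_b_rc_1_3 lc_b_rc_10_2 lc_b_rc_12_2 lc_b_rc_13_2 lc_b_rc_16_2 lc_b_rc_14_2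 lc_b_rc_11_0 lc_b_rc_11_2 lc_b_rc_15_0 lc_b_rc_11_2 lc_b_rc_12_0 lc_b_rc_10_2) (@D3.rec (fun _ => (Cert rels S Gen.b)) lc_b_rc_11_2 lc_b_rc_13_2 lc_b_rc_15_2 lc_b_rc_12_2 lc_b_rc_11_2 lc_b_rc_13_2 lc_b_rc_16_2 lc_b_Cert_tree lc_b_rc_16_2 lc_b_rc_1_3 lc_b_rc_16_2 lc_b_rc_10_2 lc_b_rc_10_2 lc_b_rc_12_2 lc_b_rc_11_2 lc_b_rc_13_2 lc_b_rc_16_2 lc_b_rc_12_2) (@D3.rec (fun _ => (Cert rels S Gen.b)) lc_b_rc_13_2 lc_b_rc_13_2 lc_b_rc_16_2 lc_b_Cert_tree lc_b_rc_1_3 lc_b_rc_1_3 lc_b_rc_10_2 lc_b_rc_10_2 lc_b_rc_12_2 lc_b_rc_11_2 lc_b_rc_13_2 lc_b_rc_16_2 lc_b_rc_12_2 lc_b_rc_13_2 lc_b_rc_13_2 lc_b_rc_16_2 lc_b_rc_9_0 lc_b_rc_14_2)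
def ce_b_6 : D2 → D3 → (Cert rels S Gen.b) := @D2.rec (fun _ => D3 → (Cert rels S Gen.b)) (@D3.rec (fun _ => (Cert rels S Gen.b)) lc_b_rc_11_2 lc_b_rc_1_3 lc_b_rc_1_3 lc_b_rc_1_3 lc_b_rc_1_3 lc_b_rc_10_2 lc_b_rc_10_2 lc_b_rc_10_2 lc_b_rc_11_2 lc_b_rc_10_2 lc_b_rc_12_2 lc_b_rc_13_2 lc_b_rc_13_2 lc_b_rc_16_2 lc_b_rc_14_2 lc_b_rc_13_2 lc_b_rc_11_2 lc_b_rc_16_2) (@D3.rec (fun _ => (Cert rels S Gen.b)) lc_b_rc_16_2 lc_b_rc_1_3 lc_b_rc_10_2 lc_b_rc_12_2 lc_b_rc_13_2 lc_b_rc_1_3 lc_b_rc_11_2 lc_b_rc_10_2 lc_b_rc_11_2 lc_b_Cert_tree lc_b_rc_16_2 lc_b_rc_14_2 lc_b_rc_15_0 lc_b_rc_11_0 lc_b_rc_1_3 lc_b_rc_1_3 lc_b_rc_1_3 lc_b_rc_1_3) (@D3.rec (fun _ => (Cert rels S Gen.b)) lc_b_rc_10_2 lc_b_rc_10_2 lc_b_rc_10_2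 lc_b_rc_10_0 lc_b_rc_10_2 lc_b_rc_10_0 lc_b_rc_10_0 lc_b_rc_13_2 lc_b_rc_11_2 lc_b_rc_16_2 lc_b_rc_16_2 lc_b_rc_16_2 lc_b_Cert_tree lc_b_rc_11_2 lc_b_rc_11_2 lc_b_Cert_tree lc_b_rc_9_0 lc_b_rc_1_3) (@D3.rec (fun _ => (Cert rels S Gen.b)) lc_b_rc_10_2 lc_b_rc_12_2 lc_b_rc_11_2 lc_b_rc_9_0 lc_b_rc_14_2 lc_b_rc_13_2 lc_b_rc_1_3 lc_b_rc_1_3 lc_b_rc_1_3 lc_b_rc_10_2 lc_b_rc_10_2 lc_b_rc_10_2 lc_b_rc_11_2 lc_b_rc_16_2 lc_b_rc_1_3 lc_b_rc_10_2 lc_b_rc_10_2 lc_b_rc_10_2) (@D3.rec (fun _ => (Cert rels S Gen.b)) lc_b_rc_11_2 lc_b_rc_10_2 lc_b_rc_10_2 lc_b_rc_11_2 lc_b_rc_12_2 lc_b_rc_13_2 lc_b_rc_11_2 lc_b_rc_10_0 lc_b_rc_10_0 lc_b_rc_1_3 lc_b_rc_1_3 lc_b_rc_10_2 lc_b_rc_11_2 lc_b_rc_13_2 lc_b_rc_15_2 lc_b_rc_12_2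 lc_b_rc_11_2 lc_b_rc_13_2) (@D3.rec (fun _ => (Cert rels S Gen.b)) lc_b_rc_16_2 lc_b_rc_10_2 lc_b_rc_11_2 lc_b_rc_13_2 lc_b_rc_12_2 lc_b_rc_13_2 lc_b_rc_16_2 lc_b_Cert_tree lc_b_rc_1_3 lc_b_rc_1_3 lc_b_rc_1_3 lc_b_rc_10_2 lc_b_rc_10_2 lc_b_rc_12_2 lc_b_rc_11_2 lc_b_rc_13_2 lc_b_rc_16_2 lc_b_rc_12_2) (@D3.rec (fun _ => (Cert rels S Gen.b)) lc_b_rc_13_2 lc_b_rc_13_2 lc_b_rc_16_2 lc_b_rc_11_2 lc_b_rc_10_2 lc_b_rc_13_2 lc_b_rc_16_2 lc_b_Cert_tree lc_b_rc_1_3 lc_b_rc_1_3 lc_b_rc_10_2 lc_b_rc_10_2 lc_b_rc_12_2 lc_b_rc_13_2 lc_b_rc_16_2 lc_b_rc_13_2 lc_b_rc_16_2 lc_b_rc_9_0) (@D3.rec (fun _ => (Cert rels S Gen.b)) lc_b_rc_14_2 lc_b_rc_13_2 lc_b_rc_1_3 lc_b_rc_1_3 lc_b_rc_1_3 lc_b_rc_1_3 lc_b_rc_10_2 lc_b_rc_10_2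 lc_b_rc_10_2 lc_b_rc_11_2 lc_b_rc_10_2 lc_b_rc_12_2 lc_b_rc_13_2 lc_b_rc_13_2 lc_b_rc_16_2 lc_b_rc_14_2 lc_b_rc_13_2 lc_b_rc_11_2) (@D3.rec (fun _ => (Cert rels S Gen.b)) lc_b_rc_16_2 lc_b_rc_16_2 lc_b_rc_1_3 lc_b_rc_10_2 lc_b_rc_11_0 lc_b_rc_1_3 lc_b_rc_1_3 lc_b_rc_11_2 lc_b_rc_14_2 lc_b_rc_11_2 lc_b_rc_10_0 lc_b_Cert_tree lc_b_rc_15_0 lc_b_rc_11_2 lc_b_rc_15_0 lc_b_rc_11_2 lc_b_rc_10_2 lc_b_rc_10_2) (@D3.rec (fun _ => (Cert rels S Gen.b)) lc_b_rc_12_2 lc_b_rc_11_2 lc_b_rc_13_2 lc_b_rc_16_2 lc_b_rc_12_2 lc_b_rc_13_2 lc_b_rc_13_2 lc_b_rc_16_2 lc_b_rc_9_0 lc_b_rc_14_2 lc_b_rc_13_2 lc_b_rc_16_2 lc_b_rc_16_2 lc_b_rc_1_3 lc_b_rc_1_3 lc_b_rc_10_2 lc_b_rc_10_2 lc_b_rc_10_2) (@D3.rec (fun _ => (Cert rels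 S Gen.b)) lc_b_rc_11_2 lc_b_rc_10_2 lc_b_rc_12_2 lc_b_rc_13_2 lc_b_rc_13_2 lc_b_rc_16_2 lc_b_rc_14_2 lc_b_rc_13_2 lc_b_rc_11_2 lc_b_rc_16_2 lc_b_rc_16_2 lc_b_rc_9_0 lc_b_rc_14_2 lc_b_rc_14_0 lc_b_rc_1_3 lc_b_rc_1_3 lc_b_rc_1_3 lc_b_rc_10_2) (@D3.rec (fun _ => (Cert rels S Gen.b)) lc_b_rc_10_2 lc_b_rc_10_2 lc_b_rc_11_2 lc_b_rc_10_2 lc_b_rc_12_2 lc_b_rc_13_2 lc_b_rc_13_2 lc_b_rc_16_2 lc_b_rc_13_2 lc_b_rc_11_2 lc_b_rc_16_2 lc_b_rc_16_2 lc_b_rc_14_2 lc_b_rc_12_2 lc_b_rc_15_2 lc_b_rc_11_2 lc_b_rc_11_2 lc_b_rc_1_3) (@D3.rec (fun _ => (Cert rels S Gen.b)) lc_b_rc_1_3 lc_b_rc_1_3 lc_b_rc_1_3 lc_b_rc_11_2 lc_b_rc_10_2 lc_b_rc_10_2 lc_b_rc_10_2 lc_b_rc_11_2 lc_b_rc_10_2 lc_b_rc_12_2 lc_b_rc_11_2 lc_b_rc_14_2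 lc_b_rc_13_2 lc_b_rc_11_2 lc_b_rc_16_2 lc_b_rc_16_2 lc_b_rc_16_2 lc_b_Cert_tree) (@D3.rec (fun _ => (Cert rels S Gen.b)) lc_b_rc_11_2 lc_b_rc_11_2 lc_b_rc_13_2 lc_b_rc_11_2 lc_b_Cert_tree lc_b_rc_9_0 lc_b_rc_12_2 lc_b_rc_15_0 lc_b_rc_13_2 lc_b_rc_16_2 lc_b_rc_1_3 lc_b_rc_11_2 lc_b_rc_1_3 lc_b_rc_1_3 lc_b_rc_10_2 lc_b_rc_11_2 lc_b_rc_10_2 lc_b_rc_10_0) (@D3.rec (fun _ => (Cert rels S Gen.b)) lc_b_rc_10_2 lc_b_rc_10_0 lc_b_rc_10_0 lc_b_rc_10_0 lc_b_rc_10_0 lc_b_rc_16_2 lc_b_Cert_tree lc_b_rc_11_2 lc_b_rc_9_0 lc_b_rc_16_2 lc_b_Cert_tree lc_b_rc_9_0 lc_b_rc_1_3 lc_b_rc_10_2 lc_b_rc_10_2 lc_b_rc_14_2 lc_b_rc_10_2 lc_b_rc_10_2)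
def ce_b_7 : D2 → D3 → (Cert rels S Gen.b) := @D2.rec (fun _ => D3 → (Cert rels S Gen.b)) (@D3.rec (fun _ => (Cert rels S Gen.b)) lc_b_rc_1_1 lc_b_rc_11_2 lc_b_rc_11_2 lc_b_rc_12_2 lc_b_rc_13_2 lc_b_rc_11_2 lc_b_rc_11_2 lc_b_rc_12_2 lc_b_rc_14_2 lc_b_rc_16_2 lc_b_rc_12_2 lc_b_rc_10_0 lc_b_Cert_tree lc_b_rc_1_3 lc_b_rc_1_3 lc_b_rc_1_3 lc_b_rc_10_2 lc_b_rc_10_2) (@D3.rec (fun _ => (Cert rels S Gen.b)) lc_b_rc_12_2 lc_b_rc_11_2 lc_b_rc_13_2 lc_b_rc_16_2 lc_b_rc_13_0 lc_b_rc_13_2 lc_b_rc_13_2 lc_b_rc_16_2 lc_b_rc_10_2 lc_b_rc_10_2 lc_b_rc_12_2 lc_b_rc_13_2 lc_b_rc_16_2 lc_b_rc_13_2 lc_b_rc_16_2 lc_b_rc_9_0 lc_b_rc_14_2 lc_b_rc_13_2) (@D3.rec (fun _ => (Cert rels S Gen.b)) lc_b_rc_1_3 lc_b_rc_1_3 lc_b_rc_1_3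 lc_b_rc_1_3 lc_b_rc_10_2 lc_b_rc_10_2 lc_b_rc_10_2 lc_b_rc_11_2 lc_b_rc_10_2 lc_b_rc_12_2 lc_b_rc_13_2 lc_b_rc_13_2 lc_b_rc_16_2 lc_b_rc_14_2 lc_b_rc_13_2 lc_b_rc_11_2 lc_b_rc_16_2 lc_b_rc_16_2) (@D3.rec (fun _ => (Cert rels S Gen.b)) lc_b_Cert_tree lc_b_rc_11_2 lc_b_rc_10_2 lc_b_rc_16_2 lc_b_rc_9_0 lc_b_rc_14_2 lc_b_rc_13_2 lc_b_rc_1_3 lc_b_rc_1_3 lc_b_rc_1_3 lc_b_rc_10_2 lc_b_rc_10_2 lc_b_rc_11_2 lc_b_rc_10_2 lc_b_rc_13_2 lc_b_rc_16_2 lc_b_rc_16_2 lc_b_rc_14_2) (@D3.rec (fun _ => (Cert rels S Gen.b)) lc_b_rc_13_2 lc_b_rc_12_2 lc_b_rc_15_2 lc_b_rc_14_2 lc_b_rc_11_2 lc_b_rc_16_2 lc_b_rc_1_3 lc_b_rc_1_3 lc_b_rc_1_3 lc_b_rc_1_3 lc_b_rc_11_2 lc_b_rc_10_2 lc_b_rc_10_2 lc_b_rc_10_2 lc_b_rc_11_2 lc_b_rc_10_2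 lc_b_rc_12_2 lc_b_rc_11_2) (@D3.rec (fun _ => (Cert rels S Gen.b)) lc_b_rc_14_2 lc_b_rc_13_2 lc_b_rc_11_2 lc_b_rc_16_2 lc_b_rc_16_2 lc_b_rc_14_2 lc_b_rc_11_2 lc_b_rc_16_2 lc_b_Cert_tree lc_b_rc_11_2 lc_b_rc_11_2 lc_b_rc_10_0 lc_b_rc_11_2 lc_b_rc_13_2 lc_b_Cert_tree lc_b_Cert_tree lc_b_rc_9_0 lc_b_rc_16_0) (@D3.rec (fun _ => (Cert rels S Gen.b)) lc_b_rc_1_1 lc_b_rc_14_0 lc_b_rc_16_2 lc_b_rc_10_2 lc_b_rc_10_2 lc_b_rc_10_2 lc_b_rc_10_2 lc_b_rc_12_2 lc_b_rc_13_2 lc_b_rc_13_2 lc_b_rc_16_2 lc_b_rc_13_2 lc_b_rc_11_2 lc_b_rc_16_2 lc_b_rc_16_2 lc_b_rc_14_2 lc_b_rc_13_2 lc_b_rc_12_2) (@D3.rec (fun _ => (Cert rels S Gen.b)) lc_b_rc_11_2 lc_b_rc_14_2 lc_b_rc_14_0 lc_b_rc_16_2 lc_b_rc_16_2 lc_b_rc_1_3 lc_b_rc_1_3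 lc_b_rc_1_3 lc_b_rc_11_2 lc_b_rc_10_2 lc_b_rc_10_2 lc_b_rc_10_2 lc_b_rc_11_2 lc_b_rc_10_2 lc_b_rc_12_2 lc_b_rc_11_2 lc_b_rc_14_2 lc_b_rc_13_2) (@D3.rec (fun _ => (Cert rels S Gen.b)) lc_b_rc_11_2 lc_b_rc_16_2 lc_b_rc_16_2 lc_b_rc_14_2 lc_b_rc_11_2 lc_b_rc_16_2 lc_b_Cert_tree lc_b_rc_11_2 lc_b_rc_14_2 lc_b_rc_15_2 lc_b_rc_1_3 lc_b_rc_14_0 lc_b_rc_1_3 lc_b_rc_1_3 lc_b_rc_11_2 lc_b_rc_10_2 lc_b_rc_10_2 lc_b_rc_10_2) (@D3.rec (fun _ => (Cert rels S Gen.b)) lc_b_rc_11_2 lc_b_rc_10_2 lc_b_rc_11_2 lc_b_rc_13_2 lc_b_rc_11_2 lc_b_rc_16_2 lc_b_rc_16_2 lc_b_rc_16_2 lc_b_rc_11_2 lc_b_rc_12_2 lc_b_rc_15_2 lc_b_rc_12_2 lc_b_rc_11_2 lc_b_rc_11_2 lc_b_rc_1_3 lc_b_rc_11_2 lc_b_rc_1_3 lc_b_rc_1_3) (@D3.rec (fun _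 => (Cert rels S Gen.b)) lc_b_rc_13_2 lc_b_rc_10_2 lc_b_rc_10_2 lc_b_rc_11_2 lc_b_rc_10_2 lc_b_rc_11_2 lc_b_rc_10_2 lc_b_rc_12_2 lc_b_rc_11_2 lc_b_rc_14_2 lc_b_rc_12_2 lc_b_rc_16_2 lc_b_Cert_tree lc_b_rc_11_2 lc_b_rc_9_0 lc_b_rc_16_2 lc_b_Cert_tree lc_b_rc_13_2) (@D3.rec (fun _ => (Cert rels S Gen.b)) lc_b_rc_16_2 lc_b_Cert_tree lc_b_rc_9_0 lc_b_rc_1_3 lc_b_rc_1_3 lc_b_rc_11_2 lc_b_rc_1_3 lc_b_rc_16_2 lc_b_rc_1_3 lc_b_Cert_tree lc_b_rc_11_2 lc_b_rc_11_2 lc_b_rc_10_2 lc_b_Cert_tree lc_b_rc_11_2 lc_b_rc_11_2 lc_b_rc_12_2 lc_b_rc_10_0) (@D3.rec (fun _ => (Cert rels S Gen.b)) lc_b_rc_10_0 lc_b_rc_10_0 lc_b_rc_10_0 lc_b_rc_10_0 lc_b_rc_9_0 lc_b_rc_16_2 lc_b_rc_16_2 lc_b_rc_9_0 lc_b_rc_1_3 lc_b_rc_11_2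 lc_b_rc_13_2 lc_b_rc_12_2 lc_b_rc_14_2 lc_b_rc_13_2 lc_b_rc_16_2 lc_b_rc_12_2 lc_b_rc_12_2 lc_b_rc_14_2) (@D3.rec (fun _ => (Cert rels S Gen.b)) lc_b_rc_14_2 lc_b_rc_9_0 lc_b_rc_12_2 lc_b_rc_13_2 lc_b_rc_1_3 lc_b_rc_1_3 lc_b_rc_1_3 lc_b_rc_1_3 lc_b_rc_10_2 lc_b_rc_10_2 lc_b_rc_10_2 lc_b_rc_13_2 lc_b_rc_13_2 lc_b_rc_16_2 lc_b_rc_1_1 lc_b_rc_11_2 lc_b_rc_16_2 lc_b_rc_16_2) (@D3.rec (fun _ => (Cert rels S Gen.b)) lc_b_rc_10_2 lc_b_rc_10_2 lc_b_rc_11_2 lc_b_rc_10_2 lc_b_rc_13_2 lc_b_rc_16_2 lc_b_rc_11_2 lc_b_rc_16_2 lc_b_rc_14_2 lc_b_rc_13_2 lc_b_rc_12_2 lc_b_rc_15_2 lc_b_rc_14_2 lc_b_rc_11_2 lc_b_rc_16_2 lc_b_rc_1_3 lc_b_rc_1_3 lc_b_rc_1_3)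
def ce_b_8 : D2 → D3 → (Cert rels S Gen.b) := @D2.rec (fun _ => D3 → (Cert rels S Gen.b)) (@D3.rec (fun _ => (Cert rels S Gen.b)) lc_b_rc_1_3 lc_b_rc_11_2 lc_b_rc_10_2 lc_b_rc_10_2 lc_b_rc_10_2 lc_b_rc_11_2 lc_b_rc_10_2 lc_b_rc_12_2 lc_b_rc_11_2 lc_b_rc_14_2 lc_b_rc_13_2 lc_b_rc_11_2 lc_b_rc_16_2 lc_b_rc_16_2 lc_b_rc_14_2 lc_b_rc_11_2 lc_b_rc_16_2 lc_b_Cert_tree) (@D3.rec (fun _ => (Cert rels S Gen.b)) lc_b_rc_11_2 lc_b_rc_9_0 lc_b_rc_13_2 lc_b_rc_11_2 lc_b_rc_10_4 lc_b_rc_10_2 lc_b_rc_14_2 lc_b_rc_13_2 lc_b_rc_12_2 lc_b_rc_14_2 lc_b_rc_11_2 lc_b_rc_16_2 lc_b_rc_1_3 lc_b_rc_1_3 lc_b_rc_11_2 lc_b_rc_10_2 lc_b_rc_11_2 lc_b_rc_10_2) (@D3.rec (fun _ => (Cert rels S Gen.b)) lc_b_rc_11_2 lc_b_rc_11_2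 lc_b_rc_16_2 lc_b_rc_12_2 lc_b_rc_15_2 lc_b_rc_14_2 lc_b_rc_16_2 lc_b_rc_11_2 lc_b_rc_12_2 lc_b_rc_12_2 lc_b_rc_15_2 lc_b_rc_11_2 lc_b_rc_16_2 lc_b_rc_11_2 lc_b_rc_1_3 lc_b_rc_11_2 lc_b_rc_1_3 lc_b_rc_1_3) (@D3.rec (fun _ => (Cert rels S Gen.b)) lc_b_rc_11_2 lc_b_rc_13_2 lc_b_rc_10_2 lc_b_rc_10_2 lc_b_rc_11_2 lc_b_rc_10_2 lc_b_rc_11_2 lc_b_rc_10_2 lc_b_rc_12_2 lc_b_rc_11_2 lc_b_rc_14_2 lc_b_rc_12_2 lc_b_rc_13_2 lc_b_rc_14_2 lc_b_rc_11_2 lc_b_rc_16_2 lc_b_Cert_tree lc_b_rc_11_2) (@D3.rec (fun _ => (Cert rels S Gen.b)) lc_b_rc_16_2 lc_b_Cert_tree lc_b_rc_11_2 lc_b_rc_9_0 lc_b_rc_16_2 lc_b_rc_13_2 lc_b_rc_16_2 lc_b_rc_9_0 lc_b_rc_9_0 lc_b_rc_1_3 lc_b_rc_13_2 lc_b_rc_11_2 lc_b_rc_16_2 lc_b_rc_16_2 lc_b_rc_11_2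 lc_b_rc_10_2 lc_b_rc_10_2 lc_b_rc_10_2) (@D3.rec (fun _ => (Cert rels S Gen.b)) lc_b_rc_10_2 lc_b_rc_13_2 lc_b_rc_11_2 lc_b_rc_16_2 lc_b_rc_16_2 lc_b_rc_11_2 lc_b_rc_16_2 lc_b_Cert_tree lc_b_rc_11_2 lc_b_rc_12_2 lc_b_rc_14_2 lc_b_rc_16_2 lc_b_rc_12_2 lc_b_rc_12_2 lc_b_rc_12_2 lc_b_rc_13_2 lc_b_rc_1_1 lc_b_rc_16_2) (@D3.rec (fun _ => (Cert rels S Gen.b)) lc_b_rc_14_0 lc_b_rc_1_3 lc_b_rc_1_3 lc_b_rc_1_3 lc_b_rc_1_3 lc_b_rc_1_3 lc_b_rc_9_0 lc_b_rc_13_2 lc_b_rc_10_2 lc_b_rc_10_2 lc_b_rc_11_2 lc_b_rc_10_2 lc_b_rc_11_2 lc_b_rc_10_2 lc_b_rc_12_2 lc_b_rc_11_2 lc_b_rc_14_2 lc_b_rc_12_2) (@D3.rec (fun _ => (Cert rels S Gen.b)) lc_b_rc_14_2 lc_b_rc_11_2 lc_b_rc_16_2 lc_b_Cert_tree lc_b_rc_11_2 lc_b_rc_16_2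 lc_b_rc_11_2 lc_b_rc_9_0 lc_b_rc_16_2 lc_b_rc_13_2 lc_b_rc_1_3 lc_b_rc_1_3 lc_b_rc_1_3 lc_b_rc_13_2 lc_b_rc_10_2 lc_b_rc_11_2 lc_b_rc_10_2 lc_b_rc_11_2) (@D3.rec (fun _ => (Cert rels S Gen.b)) lc_b_rc_10_2 lc_b_rc_12_2 lc_b_rc_11_2 lc_b_rc_16_2 lc_b_rc_46_36 lc_b_rc_11_2 lc_b_rc_12_2 lc_b_rc_12_2 lc_b_rc_11_2 lc_b_rc_1_3 lc_b_Cert_tree lc_b_rc_11_2 lc_b_rc_13_2 lc_b_rc_16_2 lc_b_rc_11_2 lc_b_rc_10_2 lc_b_Cert_tree lc_b_rc_12_2) (@D3.rec (fun _ => (Cert rels S Gen.b)) lc_b_rc_11_2 lc_b_rc_13_2 lc_b_rc_11_2 lc_b_rc_14_2 lc_b_rc_12_2 lc_b_rc_15_2 lc_b_rc_14_2 lc_b_rc_9_0 lc_b_rc_16_2 lc_b_rc_1_3 lc_b_rc_16_2 lc_b_rc_9_0 lc_b_Cert_tree lc_b_rc_16_2 lc_b_rc_9_0 lc_b_rc_1_3 lc_b_rc_11_2 lc_b_rc_16_2)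 (@D3.rec (fun _ => (Cert rels S Gen.b)) lc_b_Cert_tree lc_b_rc_11_2 lc_b_rc_9_0 lc_b_rc_16_2 lc_b_rc_12_2 lc_b_rc_11_2 lc_b_rc_9_0 lc_b_rc_12_2 lc_b_rc_16_2 lc_b_rc_11_2 lc_b_rc_11_2 lc_b_rc_13_2 lc_b_rc_14_2 lc_b_rc_12_2 lc_b_rc_10_0 lc_b_rc_10_0 lc_b_rc_16_2 lc_b_rc_1_3) (@D3.rec (fun _ => (Cert rels S Gen.b)) lc_b_rc_16_2 lc_b_rc_14_2 lc_b_rc_13_2 lc_b_rc_16_2 lc_b_rc_14_2 lc_b_rc_14_2 lc_b_rc_13_2 lc_b_rc_47_28 lc_b_rc_11_2 lc_b_rc_16_2 lc_b_rc_1_3 lc_b_rc_1_3 lc_b_rc_1_3 lc_b_rc_10_2 lc_b_rc_10_2 lc_b_rc_10_2 lc_b_rc_10_2 lc_b_rc_11_2) (@D3.rec (fun _ => (Cert rels S Gen.b)) lc_b_rc_16_2 lc_b_rc_16_2 lc_b_rc_45_65 lc_b_rc_16_2 lc_b_Cert_tree lc_b_rc_11_2 lc_b_rc_11_2 lc_b_rc_10_2 lc_b_rc_11_2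 lc_b_rc_10_2 lc_b_rc_11_2 lc_b_rc_11_2 lc_b_rc_16_2 lc_b_rc_11_2 lc_b_rc_12_2 lc_b_rc_15_2 lc_b_rc_14_2 lc_b_rc_11_2) (@D3.rec (fun _ => (Cert rels S Gen.b)) lc_b_rc_16_2 lc_b_rc_14_2 lc_b_rc_12_2 lc_b_rc_12_2 lc_b_rc_15_2 lc_b_rc_11_2 lc_b_rc_16_2 lc_b_rc_11_2 lc_b_rc_11_2 lc_b_rc_1_3 lc_b_rc_1_3 lc_b_rc_1_3 lc_b_rc_1_3 lc_b_rc_1_3 lc_b_rc_11_2 lc_b_rc_13_2 lc_b_rc_10_2 lc_b_rc_10_2) (@D3.rec (fun _ => (Cert rels S Gen.b)) lc_b_rc_11_2 lc_b_rc_10_2 lc_b_rc_11_2 lc_b_rc_10_2 lc_b_rc_12_2 lc_b_rc_11_2 lc_b_rc_14_2 lc_b_rc_12_2 lc_b_rc_13_2 lc_b_rc_14_2 lc_b_rc_11_2 lc_b_rc_16_2 lc_b_Cert_tree lc_b_rc_11_2 lc_b_rc_11_2 lc_b_rc_16_2 lc_b_Cert_tree lc_b_rc_11_2)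
def ce_b_9 : D2 → D3 → (Cert rels S Gen.b) := @D2.rec (fun _ => D3 → (Cert rels S Gen.b)) (@D3.rec (fun _ => (Cert rels S Gen.b)) lc_b_rc_9_0 lc_b_rc_16_2 lc_b_rc_13_2 lc_b_rc_13_2 lc_b_rc_11_2 lc_b_rc_16_2 lc_b_rc_12_2 lc_b_rc_10_4 lc_b_rc_12_2 lc_b_rc_14_2 lc_b_rc_16_2 lc_b_rc_12_2 lc_b_rc_11_2 lc_b_rc_16_2 lc_b_rc_11_2 lc_b_rc_1_3 lc_b_rc_13_2 lc_b_rc_11_2) (@D3.rec (fun _ => (Cert rels S Gen.b)) lc_b_rc_10_2 lc_b_rc_12_2 lc_b_rc_11_2 lc_b_rc_11_2 lc_b_rc_11_2 lc_b_rc_13_2 lc_b_rc_11_2 lc_b_rc_12_2 lc_b_rc_12_2 lc_b_rc_15_2 lc_b_rc_16_2 lc_b_rc_13_2 lc_b_rc_12_2 lc_b_rc_11_2 lc_b_rc_12_2 lc_b_rc_11_2 lc_b_rc_16_2 lc_b_rc_11_0) (@D3.rec (fun _ => (Cert rels S Gen.b)) lc_b_rc_11_2 lc_b_rc_12_2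 lc_b_rc_1_3 lc_b_rc_47_28 lc_b_rc_11_2 lc_b_rc_13_2 lc_b_rc_16_2 lc_b_rc_10_2 lc_b_rc_11_2 lc_b_rc_10_2 lc_b_Cert_tree lc_b_rc_12_2 lc_b_rc_11_2 lc_b_rc_13_2 lc_b_rc_11_2 lc_b_rc_14_2 lc_b_rc_12_2 lc_b_rc_13_2) (@D3.rec (fun _ => (Cert rels S Gen.b)) lc_b_rc_15_2 lc_b_rc_14_2 lc_b_rc_13_2 lc_b_rc_16_2 lc_b_rc_11_2 lc_b_rc_9_0 lc_b_rc_16_2 lc_b_rc_9_0 lc_b_rc_16_2 lc_b_rc_1_3 lc_b_rc_16_2 lc_b_rc_16_2 lc_b_rc_12_2 lc_b_rc_11_2 lc_b_rc_1_1 lc_b_Cert_tree lc_b_rc_11_2 lc_b_rc_13_2) (@D3.rec (fun _ => (Cert rels S Gen.b)) lc_b_rc_10_2 lc_b_rc_11_2 lc_b_rc_10_2 lc_b_rc_10_2 lc_b_rc_11_2 lc_b_rc_16_2 lc_b_Cert_tree lc_b_rc_11_2 lc_b_rc_11_2 lc_b_rc_9_0 lc_b_rc_16_2 lc_b_rc_13_2 lc_b_rc_12_2 lc_b_rc_16_2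 lc_b_rc_13_2 lc_b_rc_14_2 lc_b_rc_13_2 lc_b_rc_11_2) (@D3.rec (fun _ => (Cert rels S Gen.b)) lc_b_rc_12_2 lc_b_rc_16_2 lc_b_rc_1_1 lc_b_rc_1_1 lc_b_rc_1_3 lc_b_rc_1_3 lc_b_rc_1_3 lc_b_rc_47_35 lc_b_rc_1_3 lc_b_rc_13_2 lc_b_rc_16_2 lc_b_rc_9_0 lc_b_rc_11_2 lc_b_rc_10_2 lc_b_Cert_tree lc_b_rc_12_2 lc_b_rc_11_2 lc_b_rc_11_2) (@D3.rec (fun _ => (Cert rels S Gen.b)) lc_b_rc_14_2 lc_b_rc_12_2 lc_b_rc_15_2 lc_b_rc_14_2 lc_b_rc_16_2 lc_b_rc_10_2 lc_b_rc_11_2 lc_b_rc_9_0 lc_b_rc_16_2 lc_b_rc_13_2 lc_b_rc_13_2 lc_b_rc_1_3 lc_b_rc_16_2 lc_b_rc_13_2 lc_b_rc_11_2 lc_b_rc_1_3 lc_b_rc_13_2 lc_b_rc_16_2) (@D3.rec (fun _ => (Cert rels S Gen.b)) lc_b_rc_11_2 lc_b_rc_10_2 lc_b_rc_46_29 lc_b_rc_12_2 lc_b_rc_11_2 lc_b_rc_11_2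 lc_b_rc_12_2 lc_b_rc_14_2 lc_b_Cert_tree lc_b_rc_12_2 lc_b_rc_9_0 lc_b_rc_16_2 lc_b_Cert_tree lc_b_rc_11_2 lc_b_rc_16_2 lc_b_rc_11_2 lc_b_rc_11_2 lc_b_rc_9_0) (@D3.rec (fun _ => (Cert rels S Gen.b)) lc_b_rc_12_2 lc_b_rc_16_2 lc_b_rc_14_2 lc_b_rc_12_2 lc_b_rc_13_2 lc_b_rc_14_2 lc_b_rc_16_2 lc_b_rc_15_2 lc_b_rc_14_2 lc_b_rc_15_2 lc_b_rc_16_2 lc_b_rc_1_3 lc_b_rc_1_3 lc_b_rc_9_0 lc_b_rc_16_2 lc_b_rc_15_2 lc_b_rc_11_2 lc_b_rc_9_0) (@D3.rec (fun _ => (Cert rels S Gen.b)) lc_b_rc_16_2 lc_b_rc_13_2 lc_b_rc_16_2 lc_b_rc_14_2 lc_b_rc_12_2 lc_b_rc_13_2 lc_b_rc_12_2 lc_b_rc_16_2 lc_b_rc_14_2 lc_b_rc_16_2 lc_b_rc_13_2 lc_b_rc_11_2 lc_b_rc_13_2 lc_b_rc_14_2 lc_b_rc_14_2 lc_b_rc_16_2 lc_b_rc_11_2 lc_b_rc_16_2)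 (@D3.rec (fun _ => (Cert rels S Gen.b)) lc_b_rc_1_3 lc_b_rc_16_2 lc_b_rc_12_2 lc_b_rc_11_2 lc_b_rc_1_3 lc_b_rc_1_3 lc_b_rc_1_3 lc_b_rc_10_2 lc_b_rc_10_2 lc_b_rc_10_2 lc_b_rc_10_2 lc_b_rc_10_2 lc_b_Cert_tree lc_b_rc_11_2 lc_b_Cert_tree lc_b_rc_16_2 lc_b_rc_9_0 lc_b_rc_16_2) (@D3.rec (fun _ => (Cert rels S Gen.b)) lc_b_rc_13_2 lc_b_rc_13_2 lc_b_rc_11_2 lc_b_rc_10_2 lc_b_rc_12_2 lc_b_rc_11_2 lc_b_rc_13_2 lc_b_rc_10_2 lc_b_rc_11_2 lc_b_rc_13_2 lc_b_rc_12_2 lc_b_rc_12_2 lc_b_rc_15_2 lc_b_rc_11_2 lc_b_rc_16_2 lc_b_rc_10_2 lc_b_rc_11_2 lc_b_rc_11_2) (@D3.rec (fun _ => (Cert rels S Gen.b)) lc_b_rc_14_2 lc_b_rc_47_28 lc_b_rc_12_2 lc_b_rc_11_2 lc_b_rc_12_2 lc_b_rc_16_2 lc_b_rc_12_2 lc_b_rc_11_2 lc_b_rc_10_0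 lc_b_rc_11_2 lc_b_rc_13_2 lc_b_rc_1_3 lc_b_rc_1_3 lc_b_rc_12_2 lc_b_rc_1_3 lc_b_rc_47_28 lc_b_rc_13_2 lc_b_rc_16_2) (@D3.rec (fun _ => (Cert rels S Gen.b)) lc_b_rc_10_2 lc_b_rc_11_2 lc_b_rc_10_2 lc_b_Cert_tree lc_b_rc_12_2 lc_b_rc_11_2 lc_b_rc_11_2 lc_b_rc_14_2 lc_b_rc_12_2 lc_b_rc_13_2 lc_b_rc_15_2 lc_b_rc_14_2 lc_b_rc_13_2 lc_b_rc_11_2 lc_b_rc_16_2 lc_b_rc_11_2 lc_b_rc_9_0 lc_b_rc_16_2) (@D3.rec (fun _ => (Cert rels S Gen.b)) lc_b_rc_13_2 lc_b_rc_46_43 lc_b_rc_11_2 lc_b_rc_9_0 lc_b_rc_16_2 lc_b_rc_13_2 lc_b_rc_1_3 lc_b_rc_16_2 lc_b_rc_13_2 lc_b_rc_11_2 lc_b_rc_16_2 lc_b_rc_11_2 lc_b_rc_14_2 lc_b_rc_12_2 lc_b_rc_10_4 lc_b_rc_12_2 lc_b_rc_16_2 lc_b_rc_11_2)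
def ce_b_10 : D2 → D3 → (Cert rels S Gen.b) := @D2.rec (fun _ => D3 → (Cert rels S Gen.b)) (@D3.rec (fun _ => (Cert rels S Gen.b)) lc_b_rc_12_2 lc_b_rc_11_0 lc_b_rc_11_2 lc_b_rc_13_2 lc_b_rc_13_2 lc_b_rc_16_2 lc_b_rc_12_2 lc_b_rc_11_2 lc_b_rc_11_0 lc_b_rc_12_2 lc_b_rc_13_2 lc_b_rc_11_2 lc_b_rc_11_2 lc_b_rc_12_2 lc_b_rc_13_2 lc_b_rc_12_2 lc_b_rc_11_2 lc_b_rc_12_2) (@D3.rec (fun _ => (Cert rels S Gen.b)) lc_b_rc_16_2 lc_b_rc_13_2 lc_b_rc_16_2 lc_b_rc_11_2 lc_b_rc_12_2 lc_b_rc_46_36 lc_b_rc_14_2 lc_b_rc_11_2 lc_b_rc_14_0 lc_b_rc_11_2 lc_b_rc_11_0 lc_b_rc_13_2 lc_b_rc_46_50 lc_b_rc_13_2 lc_b_rc_16_2 lc_b_rc_11_2 lc_b_rc_10_2 lc_b_rc_14_0) (@D3.rec (fun _ => (Cert rels S Gen.b)) lc_b_rc_11_2 lc_b_rc_9_0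 lc_b_rc_12_2 lc_b_rc_16_2 lc_b_rc_14_2 lc_b_rc_12_2 lc_b_rc_13_2 lc_b_rc_9_0 lc_b_rc_16_2 lc_b_rc_13_2 lc_b_rc_15_2 lc_b_rc_14_2 lc_b_rc_13_2 lc_b_rc_15_2 lc_b_rc_14_2 lc_b_rc_13_2 lc_b_rc_16_2 lc_b_rc_16_2) (@D3.rec (fun _ => (Cert rels S Gen.b)) lc_b_rc_1_3 lc_b_rc_11_2 lc_b_rc_9_0 lc_b_rc_16_2 lc_b_rc_13_2 lc_b_rc_13_2 lc_b_rc_16_2 lc_b_rc_11_2 lc_b_rc_10_2 lc_b_Cert_tree lc_b_rc_11_2 lc_b_rc_11_2 lc_b_rc_9_0 lc_b_rc_16_2 lc_b_rc_13_2 lc_b_rc_13_2 lc_b_rc_1_3 lc_b_rc_16_2) (@D3.rec (fun _ => (Cert rels S Gen.b)) lc_b_rc_13_2 lc_b_rc_11_2 lc_b_rc_12_2 lc_b_rc_11_2 lc_b_rc_16_2 lc_b_rc_14_2 lc_b_rc_11_2 lc_b_rc_16_2 lc_b_rc_11_2 lc_b_rc_11_2 lc_b_rc_11_2 lc_b_rc_1_1 lc_b_rc_1_3 lc_b_rc_47_35 lc_b_rc_1_3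 lc_b_rc_16_2 lc_b_rc_1_3 lc_b_Cert_tree) (@D3.rec (fun _ => (Cert rels S Gen.b)) lc_b_rc_16_2 lc_b_rc_9_0 lc_b_rc_14_2 lc_b_rc_11_2 lc_b_rc_11_2 lc_b_rc_9_0 lc_b_rc_12_2 lc_b_rc_16_2 lc_b_rc_14_2 lc_b_rc_12_2 lc_b_rc_13_2 lc_b_rc_15_2 lc_b_rc_14_2 lc_b_rc_15_2 lc_b_rc_16_2 lc_b_rc_13_2 lc_b_rc_9_1 lc_b_rc_16_2) (@D3.rec (fun _ => (Cert rels S Gen.b)) lc_b_rc_13_2 lc_b_rc_1_3 lc_b_rc_13_2 lc_b_rc_11_2 lc_b_rc_16_2 lc_b_rc_11_2 lc_b_rc_12_2 lc_b_rc_15_2 lc_b_rc_12_2 lc_b_rc_13_2 lc_b_rc_9_0 lc_b_rc_16_2 lc_b_rc_13_2 lc_b_rc_16_2 lc_b_rc_9_0 lc_b_rc_12_2 lc_b_rc_16_2 lc_b_rc_11_2) (@D3.rec (fun _ => (Cert rels S Gen.b)) lc_b_rc_11_2 lc_b_rc_16_2 lc_b_rc_11_2 lc_b_rc_11_2 lc_b_rc_13_2 lc_b_rc_12_2 lc_b_rc_12_2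 lc_b_rc_16_2 lc_b_rc_14_2 lc_b_rc_16_2 lc_b_rc_13_2 lc_b_rc_14_2 lc_b_rc_13_2 lc_b_rc_16_2 lc_b_rc_15_2 lc_b_rc_15_2 lc_b_rc_16_2 lc_b_rc_13_2) (@D3.rec (fun _ => (Cert rels S Gen.b)) lc_b_rc_16_2 lc_b_rc_13_2 lc_b_rc_14_2 lc_b_rc_13_2 lc_b_rc_14_2 lc_b_rc_16_2 lc_b_rc_13_2 lc_b_rc_16_2 lc_b_rc_13_2 lc_b_rc_13_2 lc_b_rc_16_2 lc_b_rc_10_2 lc_b_rc_12_2 lc_b_rc_11_2 lc_b_rc_16_2 lc_b_rc_1_3 lc_b_rc_12_2 lc_b_rc_13_2) (@D3.rec (fun _ => (Cert rels S Gen.b)) lc_b_rc_1_3 lc_b_rc_10_2 lc_b_rc_10_2 lc_b_rc_10_2 lc_b_rc_10_2 lc_b_rc_10_2 lc_b_rc_10_2 lc_b_rc_9_0 lc_b_rc_16_2 lc_b_rc_13_2 lc_b_rc_9_0 lc_b_rc_16_2 lc_b_rc_13_2 lc_b_rc_1_3 lc_b_rc_16_2 lc_b_rc_13_2 lc_b_rc_13_2 lc_b_rc_16_2) (@D3.rec (fun _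 => (Cert rels S Gen.b)) lc_b_rc_10_2 lc_b_rc_12_2 lc_b_rc_11_2 lc_b_rc_12_2 lc_b_rc_13_2 lc_b_rc_16_2 lc_b_rc_13_2 lc_b_rc_12_2 lc_b_rc_11_2 lc_b_rc_12_2 lc_b_rc_16_2 lc_b_rc_12_2 lc_b_rc_11_2 lc_b_rc_10_2 lc_b_rc_13_2 lc_b_rc_13_2 lc_b_rc_11_2 lc_b_rc_16_2) (@D3.rec (fun _ => (Cert rels S Gen.b)) lc_b_rc_46_36 lc_b_rc_11_2 lc_b_rc_12_2 lc_b_rc_14_0 lc_b_rc_11_2 lc_b_rc_11_2 lc_b_rc_11_0 lc_b_rc_12_2 lc_b_rc_13_2 lc_b_rc_11_2 lc_b_rc_13_2 lc_b_rc_1_3 lc_b_rc_16_2 lc_b_rc_1_3 lc_b_rc_1_1 lc_b_rc_1_1 lc_b_Cert_tree lc_b_rc_13_2) (@D3.rec (fun _ => (Cert rels S Gen.b)) lc_b_rc_16_2 lc_b_rc_11_2 lc_b_rc_10_2 lc_b_rc_11_2 lc_b_rc_9_0 lc_b_rc_16_2 lc_b_rc_14_2 lc_b_rc_12_2 lc_b_rc_13_2 lc_b_rc_13_2 lc_b_rc_15_2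 lc_b_rc_14_2 lc_b_rc_13_2 lc_b_rc_15_2 lc_b_rc_14_2 lc_b_rc_11_2 lc_b_rc_13_2 lc_b_rc_14_0) (@D3.rec (fun _ => (Cert rels S Gen.b)) lc_b_rc_16_2 lc_b_rc_13_2 lc_b_rc_16_2 lc_b_rc_13_2 lc_b_rc_16_2 lc_b_rc_13_2 lc_b_rc_1_3 lc_b_rc_13_2 lc_b_rc_11_2 lc_b_rc_13_2 lc_b_rc_14_2 lc_b_rc_12_2 lc_b_rc_11_2 lc_b_rc_12_2 lc_b_rc_1_3 lc_b_rc_11_2 lc_b_rc_11_0 lc_b_rc_13_2) (@D3.rec (fun _ => (Cert rels S Gen.b)) lc_b_rc_13_2 lc_b_rc_16_2 lc_b_rc_14_2 lc_b_rc_12_2 lc_b_rc_13_2 lc_b_rc_11_0 lc_b_rc_13_2 lc_b_rc_11_2 lc_b_rc_13_2 lc_b_rc_13_2 lc_b_rc_16_2 lc_b_rc_11_2 lc_b_rc_12_2 lc_b_rc_46_36 lc_b_rc_11_2 lc_b_rc_1_3 lc_b_rc_16_2 lc_b_rc_14_0)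
def ce_b_11 : D2 → D3 → (Cert rels S Gen.b) := @D2.rec (fun _ => D3 → (Cert rels S Gen.b)) (@D3.rec (fun _ => (Cert rels S Gen.b)) lc_b_rc_11_2 lc_b_rc_14_2 lc_b_rc_1_5 lc_b_rc_14_2 lc_b_rc_13_2 lc_b_rc_1_3 lc_b_rc_16_2 lc_b_rc_13_2 lc_b_rc_13_2 lc_b_rc_14_2 lc_b_rc_16_2 lc_b_rc_16_2 lc_b_rc_12_2 lc_b_rc_11_2 lc_b_rc_11_2 lc_b_rc_16_2 lc_b_rc_13_2 lc_b_rc_14_2) (@D3.rec (fun _ => (Cert rels S Gen.b)) lc_b_rc_12_2 lc_b_rc_16_2 lc_b_rc_14_2 lc_b_rc_16_2 lc_b_rc_13_2 lc_b_rc_15_2 lc_b_rc_14_2 lc_b_rc_13_2 lc_b_rc_9_0 lc_b_rc_16_2 lc_b_rc_45_38 lc_b_rc_15_2 lc_b_rc_14_2 lc_b_rc_11_2 lc_b_rc_15_2 lc_b_rc_16_2 lc_b_rc_13_2 lc_b_rc_16_2) (@D3.rec (fun _ => (Cert rels S Gen.b)) lc_b_rc_13_2 lc_b_rc_16_2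 lc_b_rc_11_2 lc_b_rc_9_0 lc_b_rc_16_2 lc_b_rc_13_2 lc_b_rc_13_2 lc_b_rc_16_2 lc_b_rc_13_2 lc_b_rc_1_3 lc_b_rc_13_2 lc_b_rc_11_2 lc_b_rc_13_2 lc_b_rc_11_2 lc_b_rc_11_2 lc_b_rc_16_2 lc_b_rc_11_2 lc_b_rc_11_2) (@D3.rec (fun _ => (Cert rels S Gen.b)) lc_b_rc_11_2 lc_b_rc_16_2 lc_b_rc_11_2 lc_b_rc_13_2 lc_b_rc_16_2 lc_b_rc_1_3 lc_b_rc_13_2 lc_b_rc_9_0 lc_b_rc_16_2 lc_b_rc_16_2 lc_b_rc_12_2 lc_b_rc_14_2 lc_b_rc_16_2 lc_b_rc_13_2 lc_b_rc_11_2 lc_b_rc_12_2 lc_b_rc_16_2 lc_b_rc_14_2) (@D3.rec (fun _ => (Cert rels S Gen.b)) lc_b_rc_16_2 lc_b_rc_13_2 lc_b_rc_12_0 lc_b_rc_14_2 lc_b_rc_13_2 lc_b_rc_15_2 lc_b_rc_10_2 lc_b_rc_16_2 lc_b_rc_13_2 lc_b_rc_11_2 lc_b_rc_1_3 lc_b_rc_13_2 lc_b_rc_16_2 lc_b_rc_13_2 lc_b_rc_15_2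 lc_b_rc_10_4 lc_b_rc_13_2 lc_b_rc_16_2) (@D3.rec (fun _ => (Cert rels S Gen.b)) lc_b_rc_13_2 lc_b_rc_13_2 lc_b_rc_12_2 lc_b_rc_16_2 lc_b_rc_13_2 lc_b_rc_16_2 lc_b_rc_13_2 lc_b_rc_11_2 lc_b_rc_13_2 lc_b_rc_11_2 lc_b_rc_13_2 lc_b_rc_16_2 lc_b_rc_14_2 lc_b_rc_16_2 lc_b_rc_13_2 lc_b_rc_16_2 lc_b_rc_13_2 lc_b_rc_14_2) (@D3.rec (fun _ => (Cert rels S Gen.b)) lc_b_rc_1_3 lc_b_rc_13_2 lc_b_rc_14_2 lc_b_rc_16_2 lc_b_rc_13_2 lc_b_rc_13_2 lc_b_rc_11_2 lc_b_rc_10_2 lc_b_rc_12_2 lc_b_rc_13_2 lc_b_rc_12_0 lc_b_rc_16_2 lc_b_rc_13_2 lc_b_rc_1_3 lc_b_rc_10_2 lc_b_rc_10_2 lc_b_rc_10_2 lc_b_rc_10_2) (@D3.rec (fun _ => (Cert rels S Gen.b)) lc_b_rc_11_2 lc_b_rc_16_2 lc_b_rc_13_2 lc_b_rc_16_2 lc_b_rc_13_2 lc_b_rc_1_3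 lc_b_rc_13_2 lc_b_rc_11_2 lc_b_rc_10_2 lc_b_rc_13_2 lc_b_rc_16_2 lc_b_rc_47_35 lc_b_rc_16_2 lc_b_rc_12_2 lc_b_rc_13_2 lc_b_rc_13_2 lc_b_rc_10_2 lc_b_rc_11_2) (@D3.rec (fun _ => (Cert rels S Gen.b)) lc_b_rc_12_2 lc_b_rc_46_36 lc_b_rc_11_2 lc_b_rc_11_2 lc_b_rc_12_2 lc_b_rc_13_2 lc_b_rc_10_2 lc_b_rc_14_0 lc_b_rc_16_2 lc_b_rc_46_29 lc_b_rc_1_3 lc_b_rc_11_2 lc_b_rc_13_2 lc_b_rc_16_2 lc_b_rc_11_2 lc_b_rc_16_2 lc_b_rc_1_1 lc_b_rc_11_2) (@D3.rec (fun _ => (Cert rels S Gen.b)) lc_b_rc_13_2 lc_b_rc_11_0 lc_b_rc_13_2 lc_b_rc_13_2 lc_b_rc_9_0 lc_b_rc_1_1 lc_b_rc_9_0 lc_b_rc_16_2 lc_b_rc_14_2 lc_b_rc_16_2 lc_b_rc_16_2 lc_b_rc_12_2 lc_b_rc_11_2 lc_b_rc_13_2 lc_b_rc_14_0 lc_b_rc_16_2 lc_b_rc_13_2 lc_b_rc_15_2)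 (@D3.rec (fun _ => (Cert rels S Gen.b)) lc_b_rc_14_2 lc_b_rc_13_2 lc_b_rc_15_2 lc_b_rc_14_2 lc_b_rc_11_2 lc_b_rc_15_2 lc_b_rc_13_2 lc_b_rc_16_2 lc_b_rc_13_2 lc_b_rc_11_2 lc_b_rc_10_2 lc_b_rc_13_2 lc_b_rc_1_3 lc_b_rc_13_2 lc_b_rc_14_2 lc_b_rc_11_2 lc_b_rc_11_2 lc_b_rc_1_3) (@D3.rec (fun _ => (Cert rels S Gen.b)) lc_b_rc_13_2 lc_b_rc_13_2 lc_b_rc_16_2 lc_b_rc_16_2 lc_b_rc_14_2 lc_b_rc_13_2 lc_b_rc_13_2 lc_b_rc_11_2 lc_b_rc_13_2 lc_b_rc_16_2 lc_b_rc_11_2 lc_b_rc_16_2 lc_b_rc_13_2 lc_b_rc_16_2 lc_b_rc_16_2 lc_b_rc_11_2 lc_b_rc_16_2 lc_b_rc_13_2) (@D3.rec (fun _ => (Cert rels S Gen.b)) lc_b_rc_45_38 lc_b_rc_47_42 lc_b_rc_14_2 lc_b_rc_16_2 lc_b_rc_9_1 lc_b_rc_13_0 lc_b_rc_14_2 lc_b_rc_16_2 lc_b_rc_16_2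 lc_b_rc_12_2 lc_b_rc_13_2 lc_b_rc_11_2 lc_b_rc_16_2 lc_b_rc_12_2 lc_b_rc_16_2 lc_b_rc_14_2 lc_b_rc_16_2 lc_b_rc_13_2) (@D3.rec (fun _ => (Cert rels S Gen.b)) lc_b_rc_13_0 lc_b_rc_16_2 lc_b_rc_13_2 lc_b_rc_15_2 lc_b_rc_14_2 lc_b_rc_11_2 lc_b_rc_16_2 lc_b_rc_13_2 lc_b_rc_45_47 lc_b_rc_15_2 lc_b_rc_11_2 lc_b_Cert_tree lc_b_rc_13_2 lc_b_rc_11_2 lc_b_rc_16_2 lc_b_rc_13_2 lc_b_rc_16_2 lc_b_rc_13_2) (@D3.rec (fun _ => (Cert rels S Gen.b)) lc_b_rc_13_2 lc_b_rc_11_2 lc_b_rc_1_3 lc_b_rc_13_2 lc_b_rc_1_1 lc_b_rc_13_2 lc_b_rc_11_2 lc_b_rc_16_2 lc_b_rc_13_2 lc_b_rc_16_2 lc_b_rc_9_1 lc_b_rc_13_2 lc_b_rc_47_35 lc_b_rc_13_0 lc_b_rc_16_2 lc_b_rc_13_2 lc_b_rc_15_0 lc_b_rc_10_2)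
def ce_b_12 : D2 → D3 → (Cert rels S Gen.b) := @D2.rec (fun _ => D3 → (Cert rels S Gen.b)) (@D3.rec (fun _ => (Cert rels S Gen.b)) lc_b_rc_10_2 lc_b_rc_16_2 lc_b_rc_16_2 lc_b_rc_13_2 lc_b_rc_14_2 lc_b_rc_13_2 lc_b_rc_11_2 lc_b_rc_16_2 lc_b_rc_14_2 lc_b_rc_11_2 lc_b_rc_13_2 lc_b_rc_11_2 lc_b_rc_12_2 lc_b_rc_10_4 lc_b_rc_13_2 lc_b_rc_16_2 lc_b_rc_16_2 lc_b_rc_13_2) (@D3.rec (fun _ => (Cert rels S Gen.b)) lc_b_rc_14_2 lc_b_rc_13_2 lc_b_rc_13_2 lc_b_rc_13_2 lc_b_rc_11_2 lc_b_rc_16_2 lc_b_rc_13_2 lc_b_rc_13_2 lc_b_rc_11_2 lc_b_rc_13_2 lc_b_rc_11_2 lc_b_rc_11_2 lc_b_rc_10_2 lc_b_rc_13_2 lc_b_rc_10_2 lc_b_rc_11_2 lc_b_rc_10_2 lc_b_rc_10_2) (@D3.rec (fun _ => (Cert rels S Gen.b)) lc_b_rc_11_2 lc_b_rc_45_38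 lc_b_rc_13_2 lc_b_rc_13_2 lc_b_rc_47_56 lc_b_rc_1_3 lc_b_rc_11_2 lc_b_rc_12_2 lc_b_rc_16_2 lc_b_rc_16_2 lc_b_rc_16_2 lc_b_rc_16_2 lc_b_rc_12_0 lc_b_rc_13_2 lc_b_rc_11_2 lc_b_rc_11_2 lc_b_rc_11_2 lc_b_rc_16_2) (@D3.rec (fun _ => (Cert rels S Gen.b)) lc_b_rc_11_2 lc_b_rc_13_2 lc_b_rc_13_2 lc_b_rc_16_2 lc_b_rc_16_2 lc_b_rc_16_2 lc_b_rc_13_2 lc_b_rc_16_2 lc_b_rc_13_2 lc_b_rc_12_2 lc_b_rc_1_1 lc_b_rc_13_2 lc_b_rc_13_2 lc_b_rc_11_2 lc_b_rc_9_0 lc_b_rc_9_0 lc_b_rc_16_2 lc_b_rc_13_2) (@D3.rec (fun _ => (Cert rels S Gen.b)) lc_b_rc_16_2 lc_b_rc_16_2 lc_b_rc_12_2 lc_b_rc_13_2 lc_b_rc_16_2 lc_b_rc_13_2 lc_b_rc_11_2 lc_b_rc_15_2 lc_b_rc_14_2 lc_b_rc_11_2 lc_b_rc_15_2 lc_b_rc_11_2 lc_b_Cert_tree lc_b_rc_1_3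 lc_b_rc_11_2 lc_b_rc_47_21 lc_b_rc_11_2 lc_b_rc_13_2) (@D3.rec (fun _ => (Cert rels S Gen.b)) lc_b_rc_1_3 lc_b_rc_13_0 lc_b_rc_16_2 lc_b_rc_14_2 lc_b_rc_11_2 lc_b_rc_13_0 lc_b_rc_45_29 lc_b_rc_16_2 lc_b_rc_13_2 lc_b_rc_10_4 lc_b_rc_11_0 lc_b_rc_16_2 lc_b_rc_13_2 lc_b_rc_12_2 lc_b_rc_11_2 lc_b_rc_13_2 lc_b_rc_45_20 lc_b_rc_9_1) (@D3.rec (fun _ => (Cert rels S Gen.b)) lc_b_rc_14_2 lc_b_rc_16_2 lc_b_rc_11_2 lc_b_rc_13_2 lc_b_rc_16_2 lc_b_rc_1_1 lc_b_rc_13_2 lc_b_rc_9_1 lc_b_rc_16_2 lc_b_rc_13_2 lc_b_rc_14_2 lc_b_rc_13_2 lc_b_rc_11_2 lc_b_rc_15_2 lc_b_rc_11_2 lc_b_Cert_tree lc_b_rc_9_0 lc_b_rc_13_0) (@D3.rec (fun _ => (Cert rels S Gen.b)) lc_b_rc_47_56 lc_b_rc_13_0 lc_b_rc_9_0 lc_b_rc_11_2 lc_b_rc_13_2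 lc_b_rc_11_2 lc_b_rc_11_2 lc_b_rc_46_8 lc_b_rc_13_2 lc_b_rc_10_4 lc_b_rc_11_0 lc_b_rc_11_2 lc_b_rc_13_2 lc_b_rc_11_2 lc_b_rc_10_2 lc_b_rc_12_0 lc_b_rc_47_14 lc_b_rc_13_2) (@D3.rec (fun _ => (Cert rels S Gen.b)) lc_b_rc_11_2 lc_b_rc_14_2 lc_b_rc_11_2 lc_b_rc_12_2 lc_b_rc_13_2 lc_b_rc_11_2 lc_b_rc_13_2 lc_b_rc_13_2 lc_b_rc_13_2 lc_b_rc_11_2 lc_b_rc_13_2 lc_b_rc_11_2 lc_b_rc_11_2 lc_b_rc_11_2 lc_b_rc_45_56 lc_b_rc_9_0 lc_b_rc_11_2 lc_b_rc_13_0) (@D3.rec (fun _ => (Cert rels S Gen.b)) lc_b_rc_11_2 lc_b_rc_45_29 lc_b_rc_12_2 lc_b_rc_10_2 lc_b_rc_16_2 lc_b_rc_9_0 lc_b_rc_11_2 lc_b_rc_11_2 lc_b_Cert_tree lc_b_rc_45_65 lc_b_rc_13_2 lc_b_rc_11_0 lc_b_rc_13_2 lc_b_rc_11_2 lc_b_rc_1_3 lc_b_rc_10_4 lc_b_rc_10_2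 lc_b_rc_10_4) (@D3.rec (fun _ => (Cert rels S Gen.b)) lc_b_rc_13_2 lc_b_rc_1_1 lc_b_rc_13_2 lc_b_rc_13_0 lc_b_rc_13_2 lc_b_rc_11_2 lc_b_rc_16_2 lc_b_rc_11_2 lc_b_rc_13_2 lc_b_rc_12_2 lc_b_rc_11_2 lc_b_rc_12_2 lc_b_rc_15_2 lc_b_rc_11_2 lc_b_Cert_tree lc_b_rc_45_47 lc_b_rc_9_0 lc_b_rc_9_0) (@D3.rec (fun _ => (Cert rels S Gen.b)) lc_b_rc_45_29 lc_b_rc_11_2 lc_b_rc_11_2 lc_b_rc_11_2 lc_b_rc_45_29 lc_b_rc_1_1 lc_b_rc_45_47 lc_b_rc_9_0 lc_b_rc_45_20 lc_b_rc_11_2 lc_b_rc_9_1 lc_b_rc_14_2 lc_b_rc_11_2 lc_b_Cert_tree lc_b_rc_11_2 lc_b_rc_10_2 lc_b_rc_11_2 lc_b_rc_47_35) (@D3.rec (fun _ => (Cert rels S Gen.b)) lc_b_rc_13_2 lc_b_rc_11_2 lc_b_rc_13_2 lc_b_rc_11_2 lc_b_rc_10_4 lc_b_rc_13_2 lc_b_rc_9_0 lc_b_rc_45_20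 lc_b_rc_45_29 lc_b_rc_11_2 lc_b_rc_9_1 lc_b_rc_45_47 lc_b_rc_11_2 lc_b_rc_11_2 lc_b_rc_11_2 lc_b_rc_11_2 lc_b_rc_11_2 lc_b_rc_14_2) (@D3.rec (fun _ => (Cert rels S Gen.b)) lc_b_rc_11_2 lc_b_rc_45_56 lc_b_rc_9_0 lc_b_rc_11_2 lc_b_rc_45_56 lc_b_rc_45_29 lc_b_rc_14_2 lc_b_rc_9_0 lc_b_rc_9_0 lc_b_rc_13_2 lc_b_rc_13_0 lc_b_rc_9_0 lc_b_rc_11_2 lc_b_rc_11_2 lc_b_rc_12_2 lc_b_rc_11_2 lc_b_rc_13_0 lc_b_rc_11_2) (@D3.rec (fun _ => (Cert rels S Gen.b)) lc_b_rc_13_2 lc_b_rc_12_2 lc_b_rc_16_0 lc_b_rc_9_0 lc_b_rc_16_2 lc_b_rc_9_1 lc_b_rc_13_0 lc_b_rc_9_0 lc_b_rc_45_20 lc_b_rc_45_65 lc_b_rc_14_2 lc_b_rc_13_2 lc_b_rc_10_2 lc_b_rc_16_2 lc_b_rc_12_2 lc_b_rc_10_2 lc_b_rc_45_56 lc_b_rc_14_2)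
def ce_b : Pt → (Cert rels S Gen.b) := @Pt.rec (fun _ => (Cert rels S Gen.b)) (@D1.rec (fun _ => D2 → D3 → (Cert rels S Gen.b)) ce_b_0 ce_b_1 ce_b_2 ce_b_3 ce_b_4 ce_b_5 ce_b_6 ce_b_7 ce_b_8 ce_b_9 ce_b_10 ce_b_11 ce_b_12)

end

end Cfsg.Agent.Helper28.S1687
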