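import Cfsg.Agent.Lib.Helper28.S1687.Tree

set_option autoImplicit false
set_option maxRecDepth 100000

namespace Cfsg.Agent.Helper28.S1687

open Cfsg.Agent.Helper28
open Cfsg.Spor.Fi22 (Gen)

noncomputable section

def lv_c_0 : D2 → D3 → Nat := @D2.rec (fun _ => D3 → Nat) (@D3.rec (fun _ => Nat) 1 0 0 1 1 3 3 4 4 4 0 5 5 5 5 5 1 2) (@D3.rec (fun _ => Nat) 2 6 6 6 6 6 0 6 2 2 3 3 3 7 7 0 7 7) (@D3.rec (fun _ => Nat) 0 7 1 2 7 3 3 7 3 4 4 7 4 8 0 8 1 2) (@D3.rec (fun _ => Nat) 0 8 1 2 2 7 2 3 8 4 4 4 8 5 8 5 8 0) (@D3.rec (fun _ => Nat) 9 1 2 2 2 3 1 2 2 8 2 2 3 3 8 3 9 9) (@D3.rec (fun _ => Nat) 5 5 9 9 6 9 9 9 1 2 2 2 2 3 3 3 9 2) (@D3.rec (fun _ => Nat) 2 3 3 3 9 9 8 3 3 4 9 8 10 6 10 10 10 10) (@D3.rec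 (fun _ => Nat) 2 2 3 3 3 9 3 3 4 9 10 10 9 3 3 3 4 4) (@D3.rec (fun _ => Nat) 0 10 10 9 9 4 9 0 0 9 11 11 11 11 11 10 3 3) (@D3.rec (fun _ => Nat) 3 4 4 10 10 4 10 0 10 0 11 11 11 10 10 10 4 4) (@D3.rec (fun _ => Nat) 10 5 0 1 2 2 11 0 10 10 0 10 1 1 2 10 12 12) (@D3.rec (fun _ => Nat) 0 11 11 11 4 4 11 5 0 11 11 0 11 1 11 1 2 2) (@D3.rec (fun _ => Nat) 2 12 12 0 11 11 11 11 11 5 0 11 0 1 2 2 3 3) (@D3.rec (fun _ => Nat) 0 1 2 11 0 1 2 11 12 2 3 11 13 0 1 12 12 12) (@D3.rec (fun _ => Nat) 12 12 5 0 12 0 1 12 0 1 2 12 11 12 2 2 2 3)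
def lv_c_1 : D2 → D3 → Nat := @D2.rec (fun _ => D3 → Nat) (@D3.rec (fun _ => Nat) 4 3 3 3 13 0 1 2 12 12 12 12 12 0 0 1 2 12) (@D3.rec (fun _ => Nat) 1 2 13 11 3 3 4 0 1 2 2 3 0 1 2 6 2 3) (@D3.rec (fun _ => Nat) 12 13 11 3 4 0 1 11 13 13 13 13 13 0 0 1 2 13) (@D3.rec (fun _ => Nat) 1 2 12 0 1 2 14 2 3 13 12 3 4 3 12 3 3 5) (@D3.rec (fun _ => Nat) 4 5 4 4 0 0 1 2 2 3 0 13 13 13 0 0 1 2) (@D3.rec (fun _ => Nat) 1 2 6 2 3 13 14 2 14 12 12 4 0 0 1 2 6 2) (@D3.rec (fun _ => Nat) 3 5 3 4 1 2 7 2 3 7 7 3 4 12 12 4 1 2) (@D3.rec (fun _ => Nat) 12 12 0 14 14 14 0 0 1 2 1 2 15 2 3 14 13 2) (@D3.rec (fun _ => Nat) 13 1 2 15 2 3 15 15 3 4 13 5 4 13 5 4 13 13) (@D3.rec (fun _ => Nat) 4 0 13 6 5 6 0 0 1 2 1 2 6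 2 3 5 3 4) (@D3.rec (fun _ => Nat) 1 2 14 0 0 1 2 1 2 7 2 3 7 2 3 7 7 3) (@D3.rec (fun _ => Nat) 4 15 15 13 13 13 13 0 1 2 1 2 7 2 3 7 7 5) (@D3.rec (fun _ => Nat) 3 4 6 6 4 8 2 3 8 8 12 3 4 8 8 4 13 13) (@D3.rec (fun _ => Nat) 2 13 1 2 15 0 0 1 2 1 2 16 2 3 16 2 3 16) (@D3.rec (fun _ => Nat) 16 3 4 14 14 14 16 2 3 23 16 13 3 4 23 16 4 14)
def lv_c_2 : D2 → D3 → Nat := @D2.rec (fun _ => D3 → Nat) (@D3.rec (fun _ => Nat) 6 5 14 6 0 14 14 0 1 2 14 7 0 0 1 2 1 2) (@D3.rec (fun _ => Nat) 7 2 3 7 2 3 7 7 5 3 4 6 6 4 2 3 0 1) (@D3.rec (fun _ => Nat) 2 1 2 8 2 3 8 2 3 8 8 13 3 4 8 8 14 3) (@D3.rec (fun _ => Nat) 4 8 8 4 16 0 18 0 1 2 13 2 3 8 2 3 8 8) (@D3.rec (fun _ => Nat) 13 3 4 8 13 8 6 6 4 7 9 9 13 3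 4 9 0 9) (@D3.rec (fun _ => Nat) 13 4 9 9 14 14 15 18 2 20 0 1 2 1 2 17 2 3) (@D3.rec (fun _ => Nat) 17 2 3 24 17 14 3 4 17 17 15 3 4 24 17 4 15 21) (@D3.rec (fun _ => Nat) 19 22 17 14 3 22 22 4 22 17 15 7 0 15 0 1 2 0) (@D3.rec (fun _ => Nat) 1 2 14 2 3 15 0 1 2 1 2 8 2 3 8 2 3 8) (@D3.rec (fun _ => Nat) 8 14 3 4 8 8 15 3 4 8 14 8 6 6 4 7 7 7) (@D3.rec (fun _ => Nat) 7 3 22 1 2 9 2 3 9 2 3 9 9 5 3 4 9 9) (@D3.rec (fun _ => Nat) 14 3 4 9 0 9 14 4 9 0 9 15 17 4 9 9 0 1) (@D3.rec (fun _ => Nat) 2 19 1 14 2 14 14 14 3 9 9 14 3 4 9 0 9 14) (@D3.rec (fun _ => Nat) 14 4 14 9 14 14 9 7 10 19 10 4 1 10 14 10 15 19) (@D3.rec (fun _ => Nat) 16 20 1 2 18 2 3 18 2 3 18 18 5 3 4 23 18 15)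
def lv_c_3 : D2 → D3 → Nat := @D2.rec (fun _ => D3 → Nat) (@D3.rec (fun _ => Nat) 3 4 23 23 18 15 4 18 21 18 16 18 4 18 18 23 23 0) (@D3.rec (fun _ => Nat) 0 1 2 0 1 2 15 2 3 1 15 2 3 15 15 15 3 4) (@D3.rec (fun _ => Nat) 0 1 2 9 2 3 9 2 3 9 9 5 3 4 9 9 15 3) (@D3.rec (fun _ => Nat) 4 9 0 9 15 15 4 9 0 9 16 18 4 15 9 15 15 9) (@D3.rec (fun _ => Nat) 7 7 7 7 8 8 24 10 2 3 10 10 5 3 4 10 10 6) (@D3.rec (fun _ => Nat) 3 4 10 0 10 6 6 4 10 0 10 15 4 0 10 1 2 10) (@D3.rec (fun _ => Nat) 15 15 0 10 1 2 2 10 16 18 18 10 1 2 15 15 15 15) (@D3.rec (fun _ => Nat) 15 0 15 15 15 10 0 10 15 15 4 21 20 1 20 2 10 15) (@D3.rec (fun _ => Nat) 15 15 10 15 22 2 3 19 5 3 4 19 19 6 3 4 19 24) (@D3.rec (fun _ => Nat) 19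 6 6 4 19 16 4 19 16 23 19 22 19 17 19 19 1 2) (@D3.rec (fun _ => Nat) 1 2 16 2 3 1 2 16 2 3 16 16 5 3 4 16 16 16) (@D3.rec (fun _ => Nat) 16 3 16 0 16 16 16 4 1 2 10 2 3 10 10 5 3 4) (@D3.rec (fun _ => Nat) 10 10 6 3 4 10 0 10 6 6 4 10 0 10 16 16 4 0) (@D3.rec (fun _ => Nat) 10 1 2 2 10 16 16 16 16 0 10 1 2 2 10 17 17 19) (@D3.rec (fun _ => Nat) 19 16 16 10 16 16 16 16 8 8 0 24 11 6 3 4 11 0)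
def lv_c_4 : D2 → D3 → Nat := @D2.rec (fun _ => D3 → Nat) (@D3.rec (fun _ => Nat) 11 6 6 4 11 0 11 7 26 4 0 11 1 2 2 11 7 7) (@D3.rec (fun _ => Nat) 7 7 11 1 23 11 16 1 2 3 16 1 2 11 2 2 3 4) (@D3.rec (fun _ => Nat) 19 19 16 16 16 0 0 16 1 25 25 16 16 21 1 22 27 16) (@D3.rec (fun _ => Nat) 26 2 22 16 21 6 3 4 0 20 6 6 4 20 23 20 7 23) (@D3.rec (fun _ => Nat) 4 27 20 22 20 7 7 7 25 20 23 18 17 2 3 17 2 3) (@D3.rec (fun _ => Nat) 17 17 5 3 4 17 2 17 17 6 3 17 0 17 6 6 4 17) (@D3.rec (fun _ => Nat) 17 0 17 17 0 17 1 2 2 17 17 17 17 17 2 3 11 6) (@D3.rec (fun _ => Nat) 3 4 11 0 11 6 6 4 11 0 11 7 7 4 0 11 1 2) (@D3.rec (fun _ => Nat) 2 11 7 7 7 7 21 11 1 2 25 11 17 17 17 17 1 25) (@D3.rec (fun _ => Nat)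 30 22 2 2 3 22 4 27 17 17 1 2 2 11 2 2 3 3) (@D3.rec (fun _ => Nat) 4 3 18 20 20 20 17 17 17 17 17 17 0 1 24 0 12 7) (@D3.rec (fun _ => Nat) 4 0 12 1 2 2 12 7 7 7 7 0 12 1 2 2 12 8) (@D3.rec (fun _ => Nat) 8 23 28 1 2 12 2 2 3 3 4 8 8 8 8 3 2 3) (@D3.rec (fun _ => Nat) 3 4 9 5 20 17 26 1 1 24 24 27 24 7 4 1 2 27) (@D3.rec (fun _ => Nat) 21 7 7 7 27 27 8 8 23 25 23 22 25 18 18 17 3 4)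
def lv_c_5 : D2 → D3 → Nat := @D2.rec (fun _ => D3 → Nat) (@D3.rec (fun _ => Nat) 18 6 3 18 0 18 6 6 4 18 18 16 18 0 18 7 7 0) (@D3.rec (fun _ => Nat) 18 1 2 2 18 7 7 7 7 26 18 1 2 18 1 2 28 18) (@D3.rec (fun _ => Nat) 2 2 3 27 29 31 18 18 18 18 17 3 4 0 12 7 7 4) (@D3.rec (fun _ => Nat) 0 12 1 2 2 12 7 7 7 7 0 12 1 2 2 12 8 8) (@D3.rec (fun _ => Nat) 8 8 1 2 2 12 2 2 3 3 4 3 8 8 8 8 23 2) (@D3.rec (fun _ => Nat) 3 24 25 18 18 25 32 3 4 24 5 0 2 2 3 3 4 3) (@D3.rec (fun _ => Nat) 3 3 4 9 3 4 5 5 5 21 0 21 21 18 18 0 1 18) (@D3.rec (fun _ => Nat) 1 2 13 8 8 1 2 2 13 2 2 3 3 4 27 8 8 8) (@D3.rec (fun _ => Nat) 8 1 2 2 2 3 3 4 2 3 3 4 9 5 5 9 3 5) (@D3.rec (fun _ => Nat) 10 10 18 8 8 2 23 24 24 19 0 19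 18 18 4 0 19 7) (@D3.rec (fun _ => Nat) 7 0 19 1 2 2 19 7 7 7 7 19 0 17 0 19 1 2) (@D3.rec (fun _ => Nat) 2 8 8 8 1 2 2 19 2 2 3 3 4 3 8 8 8 8) (@D3.rec (fun _ => Nat) 25 2 3 2 3 28 26 3 27 29 31 19 19 0 18 18 4 1) (@D3.rec (fun _ => Nat) 2 2 13 8 8 8 8 1 2 2 13 2 2 3 3 4 3 8) (@D3.rec (fun _ => Nat) 8 8 8 1 2 2 2 2 3 3 4 3 9 9 9 9 22 2)
def lv_c_6 : D2 → D3 → Nat := @D2.rec (fun _ => D3 → Nat) (@D3.rec (fun _ => Nat) 2 3 3 4 3 3 3 4 9 3 4 5 5 5 9 9 0 9) (@D3.rec (fun _ => Nat) 9 23 3 26 31 32 9 5 0 1 3 3 4 3 4 5 5 5) (@D3.rec (fun _ => Nat) 4 5 5 10 5 10 10 6 0 6 6 22 1 2 0 1 8 19) (@D3.rec (fun _ => Nat) 2 3 3 26 2 2 3 3 4 3 3 4 18 31 2 3 3 4) (@D3.rec (fun _ => Nat) 9 5 5 10 10 10 11 11 11 0 20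 1 2 2 20 19 19 19) (@D3.rec (fun _ => Nat) 19 1 2 2 8 8 8 1 2 2 20 2 2 3 3 4 3 8) (@D3.rec (fun _ => Nat) 8 8 8 0 1 2 18 1 2 2 2 2 3 4 3 9 9 23) (@D3.rec (fun _ => Nat) 2 2 3 3 4 3 3 3 4 19 3 4 5 5 5 9 9 0) (@D3.rec (fun _ => Nat) 9 9 30 3 3 34 28 9 36 0 0 1 19 19 19 19 2 2) (@D3.rec (fun _ => Nat) 3 3 4 3 9 9 9 9 23 2 2 3 3 4 3 3 3 4) (@D3.rec (fun _ => Nat) 19 3 4 5 5 5 9 9 0 9 9 23 2 2 3 4 3 3) (@D3.rec (fun _ => Nat) 3 4 19 3 4 5 5 5 10 33 10 10 23 3 3 4 3 29) (@D3.rec (fun _ => Nat) 5 5 5 9 4 5 5 10 5 10 10 5 6 0 6 6 10 1) (@D3.rec (fun _ => Nat) 2 0 10 0 1 8 4 5 5 5 6 0 6 6 6 0 6 11) (@D3.rec (fun _ => Nat) 6 11 11 11 11 7 1 2 8 2 1 8 9 3 3 30 3 3)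
def lv_c_7 : D2 → D3 → Nat := @D2.rec (fun _ => D3 → Nat) (@D3.rec (fun _ => Nat) 4 18 19 19 10 18 11 11 11 11 12 12 1 2 2 21 2 2) (@D3.rec (fun _ => Nat) 31 30 4 3 20 20 20 20 2 2 3 4 3 9 9 24 2 2) (@D3.rec (fun _ => Nat) 3 3 4 3 3 3 4 8 3 4 5 5 5 9 9 0 9 9) (@D3.rec (fun _ => Nat) 1 2 2 3 24 2 2 3 4 3 3 4 8 3 5 5 10 24) (@D3.rec (fun _ => Nat) 24 3 3 4 20 3 4 5 5 5 9 4 5 5 20 5 20 20) (@D3.rec (fun _ => Nat) 5 6 0 6 6 10 0 10 1 2 11 10 31 10 1 1 8 20) (@D3.rec (fun _ => Nat) 20 20 20 3 3 4 3 4 5 5 5 10 0 10 10 32 24 3) (@D3.rec (fun _ => Nat) 3 4 20 3 4 5 5 5 19 4 5 5 20 5 20 20 5 6) (@D3.rec (fun _ => Nat) 0 6 6 34 30 10 1 2 24 3 4 3 5 5 26 4 5 5) (@D3.rec (fun _ => Nat) 20 5 20 6 0 6 6 11 32 24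 24 5 5 5 33 0 6 6) (@D3.rec (fun _ => Nat) 10 5 6 0 6 11 6 11 11 11 11 7 1 2 8 2 1 0) (@D3.rec (fun _ => Nat) 11 1 8 9 6 0 6 6 7 1 2 34 7 1 2 2 12 12) (@D3.rec (fun _ => Nat) 12 12 12 12 8 2 9 24 9 19 19 20 20 19 11 19 12 12) (@D3.rec (fun _ => Nat) 13 25 2 2 29 28 4 3 4 8 3 33 34 5 21 0 21 21) (@D3.rec (fun _ => Nat) 3 4 18 3 5 5 31 10 25 25 3 3 4 9 3 4 5 5)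
def lv_c_8 : D2 → D3 → Nat := @D2.rec (fun _ => D3 → Nat) (@D3.rec (fun _ => Nat) 5 20 4 5 5 9 5 9 9 5 6 0 6 6 10 0 10 1) (@D3.rec (fun _ => Nat) 2 25 2 3 8 3 25 25 3 4 9 3 5 5 10 5 35 5) (@D3.rec (fun _ => Nat) 9 9 6 25 25 25 25 10 4 5 5 21 5 21 6 0 6 6) (@D3.rec (fun _ => Nat) 32 10 5 6 0 6 21 6 21 21 21 21 21 7 29 7 1 2) (@D3.rec (fun _ => Nat) 11 1 2 8 2 11 11 8 32 9 21 0 21 21 20 4 5 5) (@D3.rec (fun _ => Nat) 5 6 0 6 6 28 11 1 2 25 25 25 20 4 5 5 21 5) (@D3.rec (fun _ => Nat) 21 5 6 0 6 6 20 20 5 6 0 6 21 6 21 21 21 21) (@D3.rec (fun _ => Nat) 7 0 7 1 2 33 33 8 2 3 5 5 6 34 6 0 6 21) (@D3.rec (fun _ => Nat) 6 21 21 7 1 2 0 6 6 35 1 2 0 11 29 7 1 2) (@D3.rec (fun _ => Nat) 2 12 12 12 12 12 12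 8 2 37 9 25 1 2 20 9 34 7) (@D3.rec (fun _ => Nat) 1 2 25 2 36 36 21 2 2 3 3 3 13 13 13 13 9 25) (@D3.rec (fun _ => Nat) 20 21 20 20 20 13 26 4 9 3 33 32 5 9 5 9 9 0) (@D3.rec (fun _ => Nat) 33 34 0 22 1 2 21 5 19 5 19 0 6 32 26 26 26 0) (@D3.rec (fun _ => Nat) 26 21 4 5 5 10 5 10 10 5 6 0 6 6 21 21 5 6) (@D3.rec (fun _ => Nat) 0 6 34 6 10 10 10 10 10 7 34 7 1 2 29 11 1 2)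
def lv_c_9 : D2 → D3 → Nat := @D2.rec (fun _ => D3 → Nat) (@D3.rec (fun _ => Nat) 8 2 3 26 9 3 9 9 26 26 26 5 33 5 10 6 12 30) (@D3.rec (fun _ => Nat) 6 35 35 10 10 10 34 26 26 26 26 30 6 0 6 22 6 22) (@D3.rec (fun _ => Nat) 22 22 7 1 2 36 11 7 34 7 1 2 2 22 22 22 22 22) (@D3.rec (fun _ => Nat) 22 22 22 8 34 8 2 35 2 9 9 13 9 30 22 1 2 21) (@D3.rec (fun _ => Nat) 6 0 6 6 34 7 1 2 30 8 2 3 26 26 21 5 6 0) (@D3.rec (fun _ => Nat) 6 6 22 22 7 0 7 1 2 0 21 7 0 7 1 2 2 22) (@D3.rec (fun _ => Nat) 22 22 22 22 8 1 2 8 2 3 39 9 9 3 31 6 34 33) (@D3.rec (fun _ => Nat) 28 7 1 2 2 22 22 2 1 2 26 2 1 2 2 31 31 11) (@D3.rec (fun _ => Nat) 2 2 3 3 3 13 13 38 13 13 9 31 26 21 2 21 34 31) (@D3.rec (fun _ => Nat) 2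 3 26 35 36 36 22 22 3 3 3 4 4 14 21 21 0 27) (@D3.rec (fun _ => Nat) 10 5 10 10 35 35 34 10 10 10 10 10 1 2 1 2 8 2) (@D3.rec (fun _ => Nat) 3 22 0 6 20 20 20 1 2 40 27 27 27 32 27 1 2 22) (@D3.rec (fun _ => Nat) 22 5 6 0 6 6 35 11 11 11 11 7 7 1 2 22 0 22) (@D3.rec (fun _ => Nat) 7 37 7 1 33 2 36 11 11 11 11 11 11 35 8 36 8 2) (@D3.rec (fun _ => Nat) 3 29 29 33 2 3 9 9 3 35 27 10 10 10 10 27 27 33)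
def lv_c_10 : D2 → D3 → Nat := @D2.rec (fun _ => D3 → Nat) (@D3.rec (fun _ => Nat) 6 35 35 11 32 12 30 30 34 37 37 41 11 11 33 27 0 27) (@D3.rec (fun _ => Nat) 27 36 35 35 7 1 2 2 23 23 23 23 2 36 36 27 8 37) (@D3.rec (fun _ => Nat) 37 11 2 2 3 3 3 23 23 23 23 23 23 23 23 9 9 36) (@D3.rec (fun _ => Nat) 10 30 32 2 3 34 22 37 7 1 2 36 8 2 3 30 34 9) (@D3.rec (fun _ => Nat) 3 31 27 0 22 7 0 7 1 2 2 23 8 1 2 2 3 1) (@D3.rec (fun _ => Nat) 2 33 8 1 2 11 2 2 3 3 3 23 23 23 2 3 9 9) (@D3.rec (fun _ => Nat) 3 10 10 33 34 28 2 2 3 3 35 2 3 27 12 2 2 3) (@D3.rec (fun _ => Nat) 3 3 33 31 39 12 12 12 3 3 3 4 4 14 32 22 22 36) (@D3.rec (fun _ => Nat) 33 3 38 38 23 23 23 4 4 5 22 1 34 2 11 11 11 11) (@D3.rec (fun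 _ => Nat) 35 11 11 11 11 11 11 8 2 3 33 2 3 38 9 3 0 23) (@D3.rec (fun _ => Nat) 1 2 2 21 21 2 3 28 0 28 28 34 34 2 3 23 0 23) (@D3.rec (fun _ => Nat) 7 32 7 1 36 2 34 35 12 12 12 8 2 3 38 23 1 33) (@D3.rec (fun _ => Nat) 2 35 8 37 11 2 36 35 3 43 33 12 12 12 12 35 36 9) (@D3.rec (fun _ => Nat) 9 3 31 31 36 3 10 10 35 11 11 11 36 28 36 35 35 35) (@D3.rec (fun _ => Nat) 32 32 34 32 38 37 37 36 12 35 35 37 28 1 2 38 35 37)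
def lv_c_11 : D2 → D3 → Nat := @D2.rec (fun _ => D3 → Nat) (@D3.rec (fun _ => Nat) 37 2 2 3 3 24 24 24 24 34 38 35 35 29 37 39 34 12) (@D3.rec (fun _ => Nat) 39 12 3 3 3 4 4 4 24 24 24 24 24 0 24 10 32 32) (@D3.rec (fun _ => Nat) 3 36 37 34 2 3 36 9 3 34 10 33 1 2 32 8 1 2) (@D3.rec (fun _ => Nat) 2 2 3 3 2 3 3 12 2 3 36 33 2 3 12 12 12 3) (@D3.rec (fun _ => Nat) 3 3 26 4 4 24 3 10 10 12 11 43 37 30 3 3 4 37) (@D3.rec (fun _ => Nat) 3 36 24 13 3 3 3 4 4 35 35 13 26 13 13 4 4 5) (@D3.rec (fun _ => Nat) 23 33 38 24 24 5 30 2 36 3 12 12 12 44 12 12 12 12) (@D3.rec (fun _ => Nat) 0 9 3 33 3 36 10 24 1 36 2 2 2 3 3 22 3 38) (@D3.rec (fun _ => Nat) 29 1 36 2 37 41 3 34 24 1 35 2 35 8 36 2 36 38) (@D3.rec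 (fun _ => Nat) 3 36 41 13 3 33 37 2 28 32 3 37 37 38 12 12 3 33) (@D3.rec (fun _ => Nat) 35 37 35 13 0 13 38 10 10 12 31 40 11 34 12 31 37 38) (@D3.rec (fun _ => Nat) 39 37 32 44 34 41 39 0 39 37 39 2 3 38 31 35 37 40) (@D3.rec (fun _ => Nat) 3 3 4 25 25 0 27 36 41 35 29 23 37 32 13 33 39 13) (@D3.rec (fun _ => Nat) 4 4 4 5 5 0 25 25 0 25 0 1 34 23 36 42 34 3) (@D3.rec (fun _ => Nat) 10 12 36 41 2 3 34 2 3 3 3 4 3 28 13 3 36 35)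
def lv_c_12 : D2 → D3 → Nat := @D2.rec (fun _ => D3 → Nat) (@D3.rec (fun _ => Nat) 3 13 13 13 4 4 13 29 5 38 11 40 40 4 37 34 24 14) (@D3.rec (fun _ => Nat) 4 4 5 39 14 27 14 5 33 25 0 29 3 33 13 32 13 13) (@D3.rec (fun _ => Nat) 0 1 10 40 25 40 40 25 2 38 3 3 3 4 0 12 40 2) (@D3.rec (fun _ => Nat) 36 3 39 33 2 39 3 34 36 3 36 37 37 39 30 38 38 3) (@D3.rec (fun _ => Nat) 27 37 36 36 13 13 13 33 35 0 35 0 1 11 41 13 34 37) (@D3.rec (fun _ => Nat) 36 37 42 38 0 41 1 39 39 3 35 35 36 4 0 26 41 1) (@D3.rec (fun _ => Nat) 25 40 0 37 25 43 0 14 37 37 5 5 0 6 0 1 26 0) (@D3.rec (fun _ => Nat) 1 1 14 38 34 13 38 3 34 3 4 31 14 38 38 40 14 14) (@D3.rec (fun _ => Nat) 39 5 38 42 29 36 42 26 5 32 27 0 32 47 1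 26 35 33) (@D3.rec (fun _ => Nat) 41 1 39 3 42 4 13 0 1 13 38 3 39 39 38 3 39 36) (@D3.rec (fun _ => Nat) 30 41 40 42 41 14 27 0 38 14 42 14 35 40 1 43 1 14) (@D3.rec (fun _ => Nat) 40 37 37 40 1 39 0 41 41 0 1 25 0 1 37 25 0 1) (@D3.rec (fun _ => Nat) 43 39 6 41 1 1 15 1 41 40 34 35 41 42 44 35 0 31) (@D3.rec (fun _ => Nat) 44 1 14 0 0 14 1 41 36 40 32 42 42 41 15 38 1 38) (@D3.rec (fun _ => Nat) 40 41 15 15 1 1 1 42 1 45 37 44 1 15 1 1 38 15)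
def lv_c : Pt → Nat := @Pt.rec (fun _ => Nat) (@D1.rec (fun _ => D2 → D3 → Nat) lv_c_0 lv_c_1 lv_c_2 lv_c_3 lv_c_4 lv_c_5 lv_c_6 lv_c_7 lv_c_8 lv_c_9 lv_c_10 lv_c_11 lv_c_12)
abbrev lc_c_Cert_tree : Cert rels S Gen.c := Cert.tree
abbrev lc_c_rc_2_1 : Cert rels S Gen.c := rc_2_1
abbrev lc_c_rc_2_3 : Cert rels S Gen.c := rc_2_3
abbrev lc_c_rc_10_1 : Cert rels S Gen.c := rc_10_1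
abbrev lc_c_rc_10_3 : Cert rels S Gen.c := rc_10_3
abbrev lc_c_rc_10_5 : Cert rels S Gen.c := rc_10_5
abbrev lc_c_rc_17_0 : Cert rels S Gen.c := rc_17_0
abbrev lc_c_rc_17_1 : Cert rels S Gen.c := rc_17_1
abbrev lc_c_rc_18_0 : Cert rels S Gen.c := rc_18_0
abbrev lc_c_rc_18_2 : Cert rels S Gen.c := rc_18_2
abbrev lc_c_rc_18_4 : Cert rels S Gen.c := rc_18_4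
abbrev lc_c_rc_19_0 : Cert rels S Gen.c := rc_19_0
abbrev lc_c_rc_19_2 : Cert rels S Gen.c := rc_19_2
abbrev lc_c_rc_20_0 : Cert rels S Gen.c := rc_20_0
abbrev lc_c_rc_20_2 : Cert rels S Gen.c := rc_20_2
abbrev lc_c_rc_21_0 : Cert rels S Gen.c := rc_21_0
abbrev lc_c_rc_21_2 : Cert rels S Gen.c := rc_21_2
abbrev lc_c_rc_22_0 : Cert rels S Gen.c := rc_22_0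
abbrev lc_c_rc_22_2 : Cert rels S Gen.c := rc_22_2
abbrev lc_c_rc_23_0 : Cert rels S Gen.c := rc_23_0
abbrev lc_c_rc_23_2 : Cert rels S Gen.c := rc_23_2
abbrev lc_c_rc_45_28 : Cert rels S Gen.c := rc_45_28
abbrev lc_c_rc_45_37 : Cert rels S Gen.c := rc_45_37
abbrev lc_c_rc_45_46 : Cert rels S Gen.c := rc_45_46
abbrev lc_c_rc_45_55 : Cert rels S Gen.c := rc_45_55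
abbrev lc_c_rc_45_64 : Cert rels S Gen.c := rc_45_64
abbrev lc_c_rc_46_9 : Cert rels S Gen.c := rc_46_9
abbrev lc_c_rc_46_16 : Cert rels S Gen.c := rc_46_16
abbrev lc_c_rc_46_23 : Cert rels S Gen.c := rc_46_23
abbrev lc_c_rc_46_30 : Cert rels S Gen.c := rc_46_30
abbrev lc_c_rc_46_37 : Cert rels S Gen.c := rc_46_37
abbrev lc_c_rc_46_44 : Cert rels S Gen.c := rc_46_44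
abbrev lc_c_rc_46_51 : Cert rels S Gen.c := rc_46_51
abbrev lc_c_rc_47_8 : Cert rels S Gen.c := rc_47_8
abbrev lc_c_rc_47_15 : Cert rels S Gen.c := rc_47_15
abbrev lc_c_rc_47_22 : Cert rels S Gen.c := rc_47_22
abbrev lc_c_rc_47_29 : Cert rels S Gen.c := rc_47_29
abbrev lc_c_rc_47_36 : Cert rels S Gen.c := rc_47_36
abbrev lc_c_rc_47_43 : Cert rels S Gen.c := rc_47_43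
abbrev lc_c_rc_47_50 : Cert rels S Gen.c := rc_47_50
abbrev lc_c_sc_1_0 : Cert rels S Gen.c := sc_1_0
def ce_c_0 : D2 → D3 → (Cert rels S Gen.c) := @D2.rec (fun _ => D3 → (Cert rels S Gen.c)) (@D3.rec (fun _ => (Cert rels S Gen.c)) lc_c_sc_1_0 lc_c_Cert_tree lc_c_Cert_tree lc_c_rc_17_0 lc_c_rc_17_0 lc_c_rc_18_2 lc_c_rc_10_3 lc_c_rc_18_2 lc_c_rc_19_2 lc_c_rc_20_2 lc_c_Cert_tree lc_c_rc_19_2 lc_c_rc_20_2 lc_c_rc_21_2 lc_c_rc_20_2 lc_c_rc_23_2 lc_c_rc_17_0 lc_c_rc_19_2) (@D3.rec (fun _ => (Cert rels S Gen.c)) lc_c_rc_20_2 lc_c_rc_21_2 lc_c_rc_20_2 lc_c_rc_23_2 lc_c_rc_22_2 lc_c_rc_21_2 lc_c_Cert_tree lc_c_rc_23_2 lc_c_rc_19_2 lc_c_rc_20_2 lc_c_rc_21_2 lc_c_rc_20_2 lc_c_rc_23_2 lc_c_rc_22_2 lc_c_rc_21_2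 lc_c_Cert_tree lc_c_rc_23_2 lc_c_rc_22_2) (@D3.rec (fun _ => (Cert rels S Gen.c)) lc_c_Cert_tree lc_c_rc_23_2 lc_c_rc_17_0 lc_c_rc_23_2 lc_c_rc_18_2 lc_c_rc_21_2 lc_c_rc_20_2 lc_c_rc_18_2 lc_c_rc_23_2 lc_c_rc_22_2 lc_c_rc_21_2 lc_c_rc_18_4 lc_c_rc_23_2 lc_c_rc_22_2 lc_c_Cert_tree lc_c_rc_23_2 lc_c_rc_17_0 lc_c_rc_23_2) (@D3.rec (fun _ => (Cert rels S Gen.c)) lc_c_Cert_tree lc_c_rc_23_2 lc_c_rc_17_0 lc_c_rc_19_2 lc_c_rc_23_2 lc_c_rc_10_3 lc_c_rc_23_2 lc_c_rc_20_2 lc_c_rc_18_2 lc_c_rc_22_2 lc_c_rc_21_2 lc_c_rc_23_2 lc_c_rc_18_2 lc_c_rc_22_2 lc_c_rc_21_2 lc_c_rc_23_2 lc_c_rc_23_2 lc_c_Cert_tree) (@D3.rec (fun _ => (Cert rels S Gen.c)) lc_c_rc_23_2 lc_c_rc_17_0 lc_c_rc_19_2 lc_c_rc_23_2 lc_c_rc_23_2 lc_c_rc_20_2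 lc_c_rc_17_0 lc_c_rc_19_2 lc_c_rc_23_2 lc_c_rc_10_3 lc_c_rc_19_2 lc_c_rc_23_2 lc_c_rc_23_2 lc_c_rc_20_2 lc_c_rc_10_3 lc_c_rc_20_2 lc_c_rc_19_2 lc_c_rc_18_2) (@D3.rec (fun _ => (Cert rels S Gen.c)) lc_c_rc_22_2 lc_c_rc_23_2 lc_c_rc_20_2 lc_c_rc_22_2 lc_c_rc_23_2 lc_c_rc_19_2 lc_c_rc_23_2 lc_c_rc_20_2 lc_c_rc_17_0 lc_c_rc_19_2 lc_c_rc_23_2 lc_c_rc_19_2 lc_c_rc_23_2 lc_c_rc_23_2 lc_c_rc_20_2 lc_c_rc_20_2 lc_c_rc_10_3 lc_c_rc_19_2) (@D3.rec (fun _ => (Cert rels S Gen.c)) lc_c_rc_23_2 lc_c_rc_21_2 lc_c_rc_23_2 lc_c_rc_20_2 lc_c_rc_10_3 lc_c_rc_10_3 lc_c_rc_18_2 lc_c_rc_23_2 lc_c_rc_20_2 lc_c_rc_20_2 lc_c_rc_10_3 lc_c_rc_18_2 lc_c_rc_19_2 lc_c_rc_23_2 lc_c_rc_19_2 lc_c_rc_23_2 lc_c_rc_19_2 lc_c_rc_20_2)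 (@D3.rec (fun _ => (Cert rels S Gen.c)) lc_c_rc_19_2 lc_c_rc_23_2 lc_c_rc_21_2 lc_c_rc_23_2 lc_c_rc_20_2 lc_c_rc_18_2 lc_c_rc_23_2 lc_c_rc_20_2 lc_c_rc_20_2 lc_c_rc_18_2 lc_c_rc_10_3 lc_c_rc_10_3 lc_c_rc_18_2 lc_c_rc_21_2 lc_c_rc_23_2 lc_c_rc_20_2 lc_c_rc_23_2 lc_c_rc_20_2) (@D3.rec (fun _ => (Cert rels S Gen.c)) lc_c_Cert_tree lc_c_rc_10_3 lc_c_rc_10_3 lc_c_rc_20_2 lc_c_rc_18_2 lc_c_rc_20_2 lc_c_rc_18_2 lc_c_Cert_tree lc_c_Cert_tree lc_c_rc_19_2 lc_c_rc_21_2 lc_c_rc_21_2 lc_c_rc_19_2 lc_c_rc_20_2 lc_c_rc_20_2 lc_c_rc_18_2 lc_c_rc_21_2 lc_c_rc_23_2) (@D3.rec (fun _ => (Cert rels S Gen.c)) lc_c_rc_20_2 lc_c_rc_23_2 lc_c_rc_20_2 lc_c_rc_20_2 lc_c_rc_18_2 lc_c_rc_20_2 lc_c_rc_18_2 lc_c_Cert_tree lc_c_rc_19_2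 lc_c_Cert_tree lc_c_rc_10_3 lc_c_rc_10_3 lc_c_rc_10_3 lc_c_rc_18_2 lc_c_rc_20_2 lc_c_rc_18_2 lc_c_rc_23_2 lc_c_rc_20_2) (@D3.rec (fun _ => (Cert rels S Gen.c)) lc_c_rc_18_2 lc_c_rc_20_2 lc_c_Cert_tree lc_c_rc_17_0 lc_c_rc_20_2 lc_c_rc_23_2 lc_c_rc_10_3 lc_c_Cert_tree lc_c_rc_23_2 lc_c_rc_20_2 lc_c_Cert_tree lc_c_rc_19_2 lc_c_rc_17_0 lc_c_rc_17_0 lc_c_rc_19_2 lc_c_rc_21_2 lc_c_rc_21_2 lc_c_rc_20_2) (@D3.rec (fun _ => (Cert rels S Gen.c)) lc_c_Cert_tree lc_c_rc_18_2 lc_c_rc_20_2 lc_c_rc_18_2 lc_c_rc_23_2 lc_c_rc_20_2 lc_c_rc_18_2 lc_c_rc_20_2 lc_c_Cert_tree lc_c_rc_23_2 lc_c_rc_20_2 lc_c_Cert_tree lc_c_rc_19_2 lc_c_rc_17_0 lc_c_rc_21_2 lc_c_rc_17_0 lc_c_rc_21_2 lc_c_rc_20_2) (@D3.rec (fun _ => (Cert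 rels S Gen.c)) lc_c_rc_23_2 lc_c_rc_10_3 lc_c_rc_10_3 lc_c_Cert_tree lc_c_rc_19_2 lc_c_rc_20_2 lc_c_rc_18_2 lc_c_rc_23_2 lc_c_rc_20_2 lc_c_rc_20_2 lc_c_Cert_tree lc_c_rc_19_2 lc_c_Cert_tree lc_c_rc_17_0 lc_c_rc_20_2 lc_c_rc_23_2 lc_c_rc_23_2 lc_c_rc_20_2) (@D3.rec (fun _ => (Cert rels S Gen.c)) lc_c_Cert_tree lc_c_rc_17_0 lc_c_rc_19_2 lc_c_rc_23_2 lc_c_Cert_tree lc_c_rc_17_0 lc_c_rc_19_2 lc_c_rc_21_2 lc_c_rc_10_3 lc_c_rc_19_2 lc_c_rc_21_2 lc_c_rc_22_2 lc_c_rc_21_2 lc_c_Cert_tree lc_c_rc_17_0 lc_c_rc_19_2 lc_c_rc_20_2 lc_c_rc_18_2) (@D3.rec (fun _ => (Cert rels S Gen.c)) lc_c_rc_23_2 lc_c_rc_20_2 lc_c_rc_20_2 lc_c_Cert_tree lc_c_rc_19_2 lc_c_Cert_tree lc_c_rc_17_0 lc_c_rc_23_2 lc_c_Cert_tree lc_c_rc_17_0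 lc_c_rc_19_2 lc_c_rc_21_2 lc_c_rc_10_3 lc_c_rc_22_2 lc_c_rc_21_2 lc_c_rc_20_2 lc_c_rc_23_2 lc_c_rc_19_2)
def ce_c_1 : D2 → D3 → (Cert rels S Gen.c) := @D2.rec (fun _ => D3 → (Cert rels S Gen.c)) (@D3.rec (fun _ => (Cert rels S Gen.c)) lc_c_rc_21_2 lc_c_rc_23_2 lc_c_rc_23_2 lc_c_rc_20_2 lc_c_rc_20_2 lc_c_Cert_tree lc_c_rc_17_0 lc_c_rc_19_2 lc_c_rc_20_2 lc_c_rc_19_2 lc_c_rc_23_2 lc_c_rc_20_2 lc_c_rc_23_2 lc_c_Cert_tree lc_c_Cert_tree lc_c_rc_17_0 lc_c_rc_19_2 lc_c_rc_21_2) (@D3.rec (fun _ => (Cert rels S Gen.c)) lc_c_rc_17_0 lc_c_rc_19_2 lc_c_rc_10_3 lc_c_rc_18_2 lc_c_rc_23_2 lc_c_rc_20_2 lc_c_rc_20_2 lc_c_Cert_tree lc_c_rc_17_0 lc_c_rc_19_2 lc_c_rc_19_2 lc_c_rc_21_2 lc_c_Cert_tree lc_c_rc_17_0 lc_c_rc_19_2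 lc_c_rc_10_3 lc_c_rc_19_2 lc_c_rc_21_2) (@D3.rec (fun _ => (Cert rels S Gen.c)) lc_c_rc_22_2 lc_c_rc_2_1 lc_c_rc_18_2 lc_c_rc_21_2 lc_c_rc_22_2 lc_c_Cert_tree lc_c_rc_17_0 lc_c_rc_10_3 lc_c_rc_20_2 lc_c_rc_19_2 lc_c_rc_23_2 lc_c_rc_20_2 lc_c_rc_23_2 lc_c_Cert_tree lc_c_Cert_tree lc_c_rc_17_0 lc_c_rc_19_2 lc_c_rc_21_2) (@D3.rec (fun _ => (Cert rels S Gen.c)) lc_c_rc_17_0 lc_c_rc_19_2 lc_c_rc_10_3 lc_c_Cert_tree lc_c_rc_17_0 lc_c_rc_19_2 lc_c_rc_10_3 lc_c_rc_19_2 lc_c_rc_21_2 lc_c_rc_22_2 lc_c_rc_2_1 lc_c_rc_19_2 lc_c_rc_21_2 lc_c_rc_23_2 lc_c_rc_18_2 lc_c_rc_23_2 lc_c_rc_20_2 lc_c_rc_19_2) (@D3.rec (fun _ => (Cert rels S Gen.c)) lc_c_rc_19_2 lc_c_rc_23_2 lc_c_rc_20_2 lc_c_rc_20_2 lc_c_Cert_tree lc_c_Cert_tree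 lc_c_rc_17_0 lc_c_rc_19_2 lc_c_rc_19_2 lc_c_rc_21_2 lc_c_Cert_tree lc_c_rc_23_2 lc_c_rc_20_2 lc_c_rc_23_2 lc_c_Cert_tree lc_c_Cert_tree lc_c_rc_17_0 lc_c_rc_19_2) (@D3.rec (fun _ => (Cert rels S Gen.c)) lc_c_rc_17_0 lc_c_rc_19_2 lc_c_rc_10_3 lc_c_rc_19_2 lc_c_rc_21_2 lc_c_rc_22_2 lc_c_rc_10_3 lc_c_rc_19_2 lc_c_rc_2_1 lc_c_rc_19_2 lc_c_rc_18_2 lc_c_rc_20_2 lc_c_Cert_tree lc_c_Cert_tree lc_c_rc_17_0 lc_c_rc_19_2 lc_c_rc_10_3 lc_c_rc_19_2) (@D3.rec (fun _ => (Cert rels S Gen.c)) lc_c_rc_21_2 lc_c_rc_18_2 lc_c_rc_21_2 lc_c_rc_22_2 lc_c_rc_17_0 lc_c_rc_19_2 lc_c_rc_10_3 lc_c_rc_19_2 lc_c_rc_21_2 lc_c_rc_2_1 lc_c_rc_10_3 lc_c_rc_21_2 lc_c_rc_22_2 lc_c_rc_18_2 lc_c_rc_20_2 lc_c_rc_22_2 lc_c_rc_17_0 lc_c_rc_19_2)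 (@D3.rec (fun _ => (Cert rels S Gen.c)) lc_c_rc_10_3 lc_c_rc_2_1 lc_c_Cert_tree lc_c_rc_23_2 lc_c_rc_20_2 lc_c_rc_23_2 lc_c_Cert_tree lc_c_Cert_tree lc_c_rc_17_0 lc_c_rc_19_2 lc_c_rc_17_0 lc_c_rc_19_2 lc_c_rc_10_3 lc_c_rc_19_2 lc_c_rc_21_2 lc_c_rc_22_2 lc_c_rc_10_3 lc_c_rc_19_2) (@D3.rec (fun _ => (Cert rels S Gen.c)) lc_c_rc_2_1 lc_c_rc_17_0 lc_c_rc_19_2 lc_c_rc_10_3 lc_c_rc_19_2 lc_c_rc_21_2 lc_c_rc_2_1 lc_c_rc_10_3 lc_c_rc_21_2 lc_c_rc_22_2 lc_c_rc_18_2 lc_c_rc_19_2 lc_c_rc_19_2 lc_c_rc_18_2 lc_c_rc_23_2 lc_c_rc_20_2 lc_c_rc_19_2 lc_c_rc_18_2) (@D3.rec (fun _ => (Cert rels S Gen.c)) lc_c_rc_20_2 lc_c_Cert_tree lc_c_rc_47_36 lc_c_rc_19_2 lc_c_rc_20_2 lc_c_rc_20_2 lc_c_Cert_tree lc_c_Cert_tree lc_c_rc_17_0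 lc_c_rc_19_2 lc_c_rc_17_0 lc_c_rc_19_2 lc_c_rc_10_3 lc_c_rc_19_2 lc_c_rc_21_2 lc_c_rc_18_2 lc_c_rc_21_2 lc_c_rc_22_2) (@D3.rec (fun _ => (Cert rels S Gen.c)) lc_c_rc_17_0 lc_c_rc_23_2 lc_c_rc_23_2 lc_c_Cert_tree lc_c_Cert_tree lc_c_rc_17_0 lc_c_rc_19_2 lc_c_rc_17_0 lc_c_rc_19_2 lc_c_rc_10_3 lc_c_rc_19_2 lc_c_rc_21_2 lc_c_rc_10_3 lc_c_rc_19_2 lc_c_rc_21_2 lc_c_rc_2_1 lc_c_rc_10_3 lc_c_rc_21_2) (@D3.rec (fun _ => (Cert rels S Gen.c)) lc_c_rc_22_2 lc_c_rc_2_1 lc_c_rc_10_3 lc_c_rc_18_2 lc_c_rc_21_2 lc_c_rc_19_2 lc_c_rc_20_2 lc_c_Cert_tree lc_c_rc_17_0 lc_c_rc_19_2 lc_c_rc_17_0 lc_c_rc_19_2 lc_c_rc_10_3 lc_c_rc_19_2 lc_c_rc_21_2 lc_c_rc_2_1 lc_c_rc_10_3 lc_c_rc_18_2) (@D3.rec (fun _ => (Cert rels S Gen.c))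 lc_c_rc_21_2 lc_c_rc_22_2 lc_c_rc_18_2 lc_c_rc_20_2 lc_c_rc_22_2 lc_c_rc_10_3 lc_c_rc_19_2 lc_c_rc_21_2 lc_c_rc_2_1 lc_c_rc_10_3 lc_c_rc_18_2 lc_c_rc_21_2 lc_c_rc_22_2 lc_c_rc_2_1 lc_c_rc_10_3 lc_c_rc_22_2 lc_c_rc_18_2 lc_c_rc_10_3) (@D3.rec (fun _ => (Cert rels S Gen.c)) lc_c_rc_19_2 lc_c_rc_2_1 lc_c_rc_17_0 lc_c_rc_23_2 lc_c_rc_23_2 lc_c_Cert_tree lc_c_Cert_tree lc_c_rc_17_0 lc_c_rc_19_2 lc_c_rc_17_0 lc_c_rc_19_2 lc_c_rc_10_3 lc_c_rc_19_2 lc_c_rc_21_2 lc_c_rc_10_3 lc_c_rc_19_2 lc_c_rc_21_2 lc_c_rc_2_1) (@D3.rec (fun _ => (Cert rels S Gen.c)) lc_c_rc_10_3 lc_c_rc_21_2 lc_c_rc_22_2 lc_c_rc_2_1 lc_c_rc_10_3 lc_c_rc_18_2 lc_c_rc_10_3 lc_c_rc_19_2 lc_c_rc_21_2 lc_c_rc_23_0 lc_c_rc_10_3 lc_c_rc_18_2 lc_c_rc_21_2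 lc_c_rc_22_2 lc_c_rc_21_0 lc_c_rc_10_3 lc_c_rc_22_2 lc_c_rc_18_2)
def ce_c_2 : D2 → D3 → (Cert rels S Gen.c) := @D2.rec (fun _ => D3 → (Cert rels S Gen.c)) (@D3.rec (fun _ => (Cert rels S Gen.c)) lc_c_rc_19_2 lc_c_rc_20_2 lc_c_rc_18_2 lc_c_rc_20_2 lc_c_Cert_tree lc_c_rc_19_2 lc_c_rc_20_2 lc_c_Cert_tree lc_c_rc_17_0 lc_c_rc_19_2 lc_c_rc_23_2 lc_c_rc_20_2 lc_c_Cert_tree lc_c_Cert_tree lc_c_rc_17_0 lc_c_rc_19_2 lc_c_rc_17_0 lc_c_rc_19_2) (@D3.rec (fun _ => (Cert rels S Gen.c)) lc_c_rc_10_3 lc_c_rc_19_2 lc_c_rc_21_2 lc_c_rc_10_3 lc_c_rc_19_2 lc_c_rc_21_2 lc_c_rc_2_1 lc_c_rc_10_3 lc_c_rc_18_2 lc_c_rc_21_2 lc_c_rc_22_2 lc_c_rc_18_2 lc_c_rc_20_2 lc_c_rc_22_2 lc_c_rc_23_2 lc_c_rc_20_2 lc_c_Cert_tree lc_c_rc_17_0)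 (@D3.rec (fun _ => (Cert rels S Gen.c)) lc_c_rc_19_2 lc_c_rc_17_0 lc_c_rc_19_2 lc_c_rc_10_3 lc_c_rc_19_2 lc_c_rc_21_2 lc_c_rc_10_3 lc_c_rc_19_2 lc_c_rc_21_2 lc_c_rc_2_1 lc_c_rc_10_3 lc_c_rc_18_2 lc_c_rc_21_2 lc_c_rc_22_2 lc_c_rc_2_1 lc_c_rc_10_3 lc_c_rc_18_2 lc_c_rc_21_2) (@D3.rec (fun _ => (Cert rels S Gen.c)) lc_c_rc_22_2 lc_c_rc_2_1 lc_c_rc_10_3 lc_c_rc_22_2 lc_c_rc_2_1 lc_c_Cert_tree lc_c_rc_19_0 lc_c_Cert_tree lc_c_rc_17_0 lc_c_rc_19_2 lc_c_rc_18_2 lc_c_rc_19_2 lc_c_rc_21_2 lc_c_rc_10_3 lc_c_rc_19_2 lc_c_rc_21_2 lc_c_rc_2_1 lc_c_rc_10_3) (@D3.rec (fun _ => (Cert rels S Gen.c)) lc_c_rc_18_2 lc_c_rc_21_2 lc_c_rc_22_2 lc_c_rc_2_1 lc_c_rc_10_3 lc_c_rc_10_3 lc_c_rc_18_2 lc_c_rc_20_2 lc_c_rc_22_2 lc_c_rc_18_2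 lc_c_rc_2_1 lc_c_rc_10_3 lc_c_rc_18_2 lc_c_rc_21_2 lc_c_rc_22_2 lc_c_rc_2_1 lc_c_Cert_tree lc_c_rc_10_3) (@D3.rec (fun _ => (Cert rels S Gen.c)) lc_c_rc_18_2 lc_c_rc_22_2 lc_c_rc_2_1 lc_c_rc_10_3 lc_c_rc_2_1 lc_c_rc_10_3 lc_c_rc_18_2 lc_c_rc_10_3 lc_c_rc_23_2 lc_c_rc_10_1 lc_c_Cert_tree lc_c_rc_17_0 lc_c_rc_19_2 lc_c_rc_17_0 lc_c_rc_19_2 lc_c_rc_10_3 lc_c_rc_19_2 lc_c_rc_21_2) (@D3.rec (fun _ => (Cert rels S Gen.c)) lc_c_rc_10_3 lc_c_rc_19_2 lc_c_rc_21_2 lc_c_rc_23_0 lc_c_rc_10_3 lc_c_rc_18_2 lc_c_rc_21_2 lc_c_rc_22_2 lc_c_rc_2_1 lc_c_rc_10_3 lc_c_rc_18_2 lc_c_rc_21_2 lc_c_rc_22_2 lc_c_rc_22_2 lc_c_rc_10_3 lc_c_rc_22_2 lc_c_rc_2_1 lc_c_rc_18_4) (@D3.rec (fun _ => (Cert rels S Gen.c)) lc_c_rc_19_0 lc_c_rc_19_2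 lc_c_rc_10_3 lc_c_rc_18_2 lc_c_rc_21_2 lc_c_rc_22_2 lc_c_rc_21_2 lc_c_rc_22_2 lc_c_rc_20_2 lc_c_rc_10_3 lc_c_rc_20_2 lc_c_rc_20_2 lc_c_Cert_tree lc_c_rc_20_2 lc_c_Cert_tree lc_c_rc_17_0 lc_c_rc_19_2 lc_c_Cert_tree) (@D3.rec (fun _ => (Cert rels S Gen.c)) lc_c_rc_17_0 lc_c_rc_19_2 lc_c_rc_18_2 lc_c_rc_19_2 lc_c_rc_21_2 lc_c_rc_20_2 lc_c_Cert_tree lc_c_rc_17_0 lc_c_rc_19_2 lc_c_rc_17_0 lc_c_rc_19_2 lc_c_rc_10_3 lc_c_rc_19_2 lc_c_rc_21_2 lc_c_rc_10_3 lc_c_rc_19_2 lc_c_rc_21_2 lc_c_rc_2_1) (@D3.rec (fun _ => (Cert rels S Gen.c)) lc_c_rc_10_3 lc_c_rc_18_2 lc_c_rc_21_2 lc_c_rc_22_2 lc_c_rc_2_1 lc_c_rc_10_3 lc_c_rc_18_2 lc_c_rc_21_2 lc_c_rc_22_2 lc_c_rc_2_1 lc_c_rc_10_3 lc_c_rc_10_3 lc_c_rc_18_2 lc_c_rc_20_2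 lc_c_rc_22_2 lc_c_rc_19_2 lc_c_rc_18_2 lc_c_rc_20_2) (@D3.rec (fun _ => (Cert rels S Gen.c)) lc_c_rc_23_2 lc_c_rc_20_2 lc_c_rc_18_4 lc_c_rc_17_0 lc_c_rc_19_2 lc_c_rc_10_3 lc_c_rc_19_2 lc_c_rc_21_2 lc_c_rc_10_3 lc_c_rc_19_2 lc_c_rc_21_2 lc_c_rc_2_1 lc_c_rc_10_3 lc_c_rc_18_2 lc_c_rc_21_2 lc_c_rc_22_2 lc_c_rc_2_1 lc_c_rc_10_3) (@D3.rec (fun _ => (Cert rels S Gen.c)) lc_c_rc_18_2 lc_c_rc_21_2 lc_c_rc_22_2 lc_c_rc_2_1 lc_c_Cert_tree lc_c_rc_10_3 lc_c_rc_18_2 lc_c_rc_22_2 lc_c_rc_2_1 lc_c_Cert_tree lc_c_rc_10_3 lc_c_rc_18_2 lc_c_rc_18_0 lc_c_rc_22_2 lc_c_rc_2_1 lc_c_rc_10_3 lc_c_Cert_tree lc_c_rc_17_0) (@D3.rec (fun _ => (Cert rels S Gen.c)) lc_c_rc_20_2 lc_c_rc_19_0 lc_c_rc_17_0 lc_c_rc_18_2 lc_c_rc_19_2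 lc_c_rc_2_1 lc_c_rc_19_2 lc_c_rc_18_2 lc_c_rc_21_2 lc_c_rc_2_1 lc_c_rc_10_3 lc_c_rc_18_2 lc_c_rc_21_2 lc_c_rc_22_2 lc_c_rc_2_1 lc_c_Cert_tree lc_c_rc_10_3 lc_c_rc_18_2) (@D3.rec (fun _ => (Cert rels S Gen.c)) lc_c_rc_20_2 lc_c_rc_22_2 lc_c_rc_2_1 lc_c_rc_2_1 lc_c_rc_10_3 lc_c_rc_10_3 lc_c_rc_10_3 lc_c_rc_18_2 lc_c_rc_2_1 lc_c_rc_2_1 lc_c_rc_10_3 lc_c_rc_22_2 lc_c_rc_17_0 lc_c_rc_10_3 lc_c_rc_18_2 lc_c_rc_2_1 lc_c_rc_2_1 lc_c_rc_47_50) (@D3.rec (fun _ => (Cert rels S Gen.c)) lc_c_rc_20_2 lc_c_rc_18_2 lc_c_rc_17_0 lc_c_rc_19_2 lc_c_rc_10_3 lc_c_rc_19_2 lc_c_rc_21_2 lc_c_rc_10_3 lc_c_rc_19_2 lc_c_rc_21_2 lc_c_rc_2_1 lc_c_rc_10_3 lc_c_rc_18_2 lc_c_rc_21_2 lc_c_rc_22_2 lc_c_rc_22_2 lc_c_rc_10_3 lc_c_rc_18_2)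
def ce_c_3 : D2 → D3 → (Cert rels S Gen.c) := @D2.rec (fun _ => D3 → (Cert rels S Gen.c)) (@D3.rec (fun _ => (Cert rels S Gen.c)) lc_c_rc_21_2 lc_c_rc_22_2 lc_c_rc_22_2 lc_c_rc_22_2 lc_c_rc_10_3 lc_c_rc_18_2 lc_c_rc_22_2 lc_c_rc_2_1 lc_c_rc_19_2 lc_c_rc_10_3 lc_c_rc_18_2 lc_c_rc_18_0 lc_c_rc_22_2 lc_c_rc_2_1 lc_c_rc_10_3 lc_c_rc_18_4 lc_c_rc_22_2 lc_c_Cert_tree) (@D3.rec (fun _ => (Cert rels S Gen.c)) lc_c_Cert_tree lc_c_rc_17_0 lc_c_rc_19_2 lc_c_Cert_tree lc_c_rc_17_0 lc_c_rc_19_2 lc_c_rc_10_3 lc_c_rc_19_2 lc_c_rc_21_2 lc_c_rc_17_0 lc_c_rc_18_2 lc_c_rc_19_2 lc_c_rc_21_2 lc_c_rc_2_1 lc_c_rc_19_2 lc_c_rc_18_2 lc_c_rc_21_2 lc_c_rc_22_2) (@D3.rec (fun _ => (Cert rels S Gen.c)) lc_c_Cert_tree lc_c_rc_17_0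 lc_c_rc_19_2 lc_c_rc_10_3 lc_c_rc_19_2 lc_c_rc_21_2 lc_c_rc_10_3 lc_c_rc_19_2 lc_c_rc_21_2 lc_c_rc_2_1 lc_c_rc_10_3 lc_c_rc_18_2 lc_c_rc_21_2 lc_c_rc_22_2 lc_c_rc_2_1 lc_c_rc_10_3 lc_c_rc_18_2 lc_c_rc_21_2) (@D3.rec (fun _ => (Cert rels S Gen.c)) lc_c_rc_22_2 lc_c_rc_2_1 lc_c_Cert_tree lc_c_rc_10_3 lc_c_rc_18_2 lc_c_rc_20_2 lc_c_rc_22_2 lc_c_rc_2_1 lc_c_Cert_tree lc_c_rc_10_3 lc_c_rc_18_2 lc_c_rc_18_0 lc_c_rc_22_2 lc_c_rc_2_1 lc_c_rc_2_1 lc_c_rc_10_3 lc_c_rc_10_3 lc_c_rc_10_3) (@D3.rec (fun _ => (Cert rels S Gen.c)) lc_c_rc_19_2 lc_c_rc_18_2 lc_c_rc_20_2 lc_c_rc_23_2 lc_c_rc_19_2 lc_c_rc_20_2 lc_c_rc_19_2 lc_c_rc_10_3 lc_c_rc_19_2 lc_c_rc_21_2 lc_c_rc_2_1 lc_c_rc_10_3 lc_c_rc_18_2 lc_c_rc_21_2 lc_c_rc_22_2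 lc_c_rc_2_1 lc_c_rc_10_3 lc_c_rc_18_2) (@D3.rec (fun _ => (Cert rels S Gen.c)) lc_c_rc_21_2 lc_c_rc_22_2 lc_c_rc_2_1 lc_c_Cert_tree lc_c_rc_10_3 lc_c_rc_18_2 lc_c_rc_20_2 lc_c_rc_22_2 lc_c_rc_2_1 lc_c_Cert_tree lc_c_rc_10_3 lc_c_rc_18_2 lc_c_rc_22_2 lc_c_Cert_tree lc_c_rc_2_1 lc_c_rc_17_0 lc_c_rc_21_2 lc_c_rc_10_3) (@D3.rec (fun _ => (Cert rels S Gen.c)) lc_c_rc_19_2 lc_c_rc_18_2 lc_c_Cert_tree lc_c_rc_2_1 lc_c_rc_17_0 lc_c_rc_21_2 lc_c_rc_20_2 lc_c_rc_10_3 lc_c_rc_18_2 lc_c_rc_18_0 lc_c_rc_18_0 lc_c_rc_2_1 lc_c_rc_17_0 lc_c_rc_20_2 lc_c_rc_20_2 lc_c_rc_2_1 lc_c_rc_19_2 lc_c_rc_18_2) (@D3.rec (fun _ => (Cert rels S Gen.c)) lc_c_rc_2_1 lc_c_Cert_tree lc_c_rc_21_2 lc_c_rc_18_2 lc_c_rc_20_2 lc_c_rc_2_1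 lc_c_Cert_tree lc_c_rc_10_3 lc_c_rc_18_2 lc_c_rc_20_2 lc_c_rc_22_2 lc_c_rc_23_2 lc_c_rc_17_0 lc_c_rc_17_0 lc_c_rc_18_4 lc_c_rc_20_2 lc_c_rc_10_3 lc_c_rc_18_2) (@D3.rec (fun _ => (Cert rels S Gen.c)) lc_c_rc_2_1 lc_c_rc_2_1 lc_c_rc_2_1 lc_c_rc_10_3 lc_c_rc_19_2 lc_c_rc_19_2 lc_c_rc_21_2 lc_c_rc_10_3 lc_c_rc_18_2 lc_c_rc_21_2 lc_c_rc_22_2 lc_c_rc_2_1 lc_c_rc_10_3 lc_c_rc_18_2 lc_c_rc_21_2 lc_c_rc_22_2 lc_c_rc_2_1 lc_c_rc_21_0) (@D3.rec (fun _ => (Cert rels S Gen.c)) lc_c_rc_10_3 lc_c_rc_18_2 lc_c_rc_20_2 lc_c_rc_22_2 lc_c_rc_10_3 lc_c_rc_18_2 lc_c_rc_22_2 lc_c_rc_2_1 lc_c_rc_19_2 lc_c_rc_19_2 lc_c_rc_2_1 lc_c_rc_20_0 lc_c_rc_10_3 lc_c_rc_18_2 lc_c_rc_18_0 lc_c_rc_2_1 lc_c_rc_17_0 lc_c_rc_19_2) (@D3.rec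 (fun _ => (Cert rels S Gen.c)) lc_c_rc_17_0 lc_c_rc_19_2 lc_c_rc_10_3 lc_c_rc_19_2 lc_c_rc_21_2 lc_c_rc_17_0 lc_c_rc_19_2 lc_c_rc_10_3 lc_c_rc_19_2 lc_c_rc_21_2 lc_c_rc_2_1 lc_c_rc_10_3 lc_c_rc_18_2 lc_c_rc_21_2 lc_c_rc_22_2 lc_c_rc_20_2 lc_c_rc_2_1 lc_c_rc_19_2) (@D3.rec (fun _ => (Cert rels S Gen.c)) lc_c_rc_18_2 lc_c_rc_21_2 lc_c_rc_2_1 lc_c_Cert_tree lc_c_rc_21_2 lc_c_rc_18_2 lc_c_rc_20_2 lc_c_rc_22_2 lc_c_rc_17_0 lc_c_rc_19_2 lc_c_rc_10_3 lc_c_rc_19_2 lc_c_rc_21_2 lc_c_rc_2_1 lc_c_rc_10_3 lc_c_rc_18_2 lc_c_rc_21_2 lc_c_rc_22_2) (@D3.rec (fun _ => (Cert rels S Gen.c)) lc_c_rc_2_1 lc_c_rc_10_3 lc_c_rc_18_2 lc_c_rc_21_2 lc_c_rc_22_2 lc_c_rc_2_1 lc_c_Cert_tree lc_c_rc_10_3 lc_c_rc_18_2 lc_c_rc_20_2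 lc_c_rc_22_2 lc_c_rc_2_1 lc_c_Cert_tree lc_c_rc_10_3 lc_c_rc_18_2 lc_c_rc_20_2 lc_c_rc_22_2 lc_c_Cert_tree) (@D3.rec (fun _ => (Cert rels S Gen.c)) lc_c_rc_2_1 lc_c_rc_17_0 lc_c_rc_21_2 lc_c_rc_20_2 lc_c_rc_10_3 lc_c_rc_19_2 lc_c_rc_18_2 lc_c_rc_20_2 lc_c_rc_23_2 lc_c_Cert_tree lc_c_rc_2_1 lc_c_rc_17_0 lc_c_rc_21_2 lc_c_rc_20_2 lc_c_rc_10_3 lc_c_rc_18_2 lc_c_rc_18_2 lc_c_rc_18_0) (@D3.rec (fun _ => (Cert rels S Gen.c)) lc_c_rc_18_0 lc_c_rc_2_1 lc_c_rc_2_1 lc_c_rc_2_1 lc_c_rc_10_3 lc_c_rc_10_3 lc_c_rc_10_3 lc_c_rc_10_3 lc_c_rc_19_2 lc_c_rc_20_2 lc_c_Cert_tree lc_c_rc_20_2 lc_c_rc_10_3 lc_c_rc_18_2 lc_c_rc_21_2 lc_c_rc_22_2 lc_c_rc_2_1 lc_c_Cert_tree)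
def ce_c_4 : D2 → D3 → (Cert rels S Gen.c) := @D2.rec (fun _ => D3 → (Cert rels S Gen.c)) (@D3.rec (fun _ => (Cert rels S Gen.c)) lc_c_rc_10_3 lc_c_rc_18_2 lc_c_rc_20_2 lc_c_rc_22_2 lc_c_rc_2_1 lc_c_Cert_tree lc_c_rc_10_3 lc_c_rc_18_2 lc_c_rc_21_0 lc_c_rc_22_2 lc_c_Cert_tree lc_c_rc_2_1 lc_c_rc_17_0 lc_c_rc_21_2 lc_c_rc_20_2 lc_c_rc_10_3 lc_c_rc_19_2 lc_c_rc_18_2) (@D3.rec (fun _ => (Cert rels S Gen.c)) lc_c_rc_20_2 lc_c_rc_23_2 lc_c_rc_2_1 lc_c_rc_17_0 lc_c_rc_20_2 lc_c_rc_10_3 lc_c_rc_19_2 lc_c_rc_17_0 lc_c_rc_21_2 lc_c_rc_19_2 lc_c_rc_19_2 lc_c_rc_17_0 lc_c_rc_21_2 lc_c_rc_2_1 lc_c_rc_21_2 lc_c_rc_20_2 lc_c_rc_22_2 lc_c_rc_21_2) (@D3.rec (fun _ => (Cert rels S Gen.c)) lc_c_rc_18_0 lc_c_rc_18_0 lc_c_rc_18_2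 lc_c_rc_2_1 lc_c_rc_2_1 lc_c_Cert_tree lc_c_Cert_tree lc_c_rc_2_1 lc_c_rc_17_0 lc_c_rc_20_2 lc_c_rc_21_2 lc_c_rc_19_2 lc_c_rc_20_2 lc_c_rc_10_1 lc_c_rc_17_0 lc_c_rc_10_3 lc_c_rc_45_64 lc_c_rc_18_2) (@D3.rec (fun _ => (Cert rels S Gen.c)) lc_c_rc_45_55 lc_c_rc_20_2 lc_c_rc_10_3 lc_c_rc_2_1 lc_c_rc_20_2 lc_c_rc_18_2 lc_c_rc_21_2 lc_c_rc_22_2 lc_c_Cert_tree lc_c_rc_10_3 lc_c_rc_18_2 lc_c_rc_20_2 lc_c_rc_22_2 lc_c_rc_2_1 lc_c_rc_10_3 lc_c_rc_10_3 lc_c_rc_18_2 lc_c_rc_21_0) (@D3.rec (fun _ => (Cert rels S Gen.c)) lc_c_rc_22_2 lc_c_rc_22_0 lc_c_rc_2_1 lc_c_rc_20_2 lc_c_rc_10_3 lc_c_rc_19_2 lc_c_rc_18_2 lc_c_rc_20_2 lc_c_rc_20_0 lc_c_rc_2_1 lc_c_rc_47_15 lc_c_rc_20_2 lc_c_rc_10_3 lc_c_rc_19_2 lc_c_rc_21_2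 lc_c_rc_10_3 lc_c_rc_19_2 lc_c_rc_21_2) (@D3.rec (fun _ => (Cert rels S Gen.c)) lc_c_rc_2_1 lc_c_rc_10_3 lc_c_rc_18_2 lc_c_rc_21_2 lc_c_rc_22_2 lc_c_rc_10_3 lc_c_rc_19_2 lc_c_rc_2_1 lc_c_rc_10_3 lc_c_rc_18_2 lc_c_rc_21_2 lc_c_rc_2_1 lc_c_Cert_tree lc_c_rc_10_3 lc_c_rc_18_2 lc_c_rc_20_2 lc_c_rc_22_2 lc_c_rc_2_1) (@D3.rec (fun _ => (Cert rels S Gen.c)) lc_c_rc_2_1 lc_c_Cert_tree lc_c_rc_21_2 lc_c_rc_18_2 lc_c_Cert_tree lc_c_rc_2_1 lc_c_rc_17_0 lc_c_rc_21_2 lc_c_rc_20_2 lc_c_rc_22_2 lc_c_rc_19_2 lc_c_rc_18_2 lc_c_rc_20_2 lc_c_rc_23_2 lc_c_rc_19_2 lc_c_rc_21_2 lc_c_rc_10_3 lc_c_rc_18_2) (@D3.rec (fun _ => (Cert rels S Gen.c)) lc_c_rc_21_2 lc_c_rc_22_2 lc_c_rc_2_1 lc_c_Cert_tree lc_c_rc_10_3 lc_c_rc_18_2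 lc_c_rc_20_2 lc_c_rc_22_2 lc_c_rc_2_1 lc_c_Cert_tree lc_c_rc_10_3 lc_c_rc_18_2 lc_c_rc_20_2 lc_c_rc_22_2 lc_c_Cert_tree lc_c_rc_2_1 lc_c_rc_17_0 lc_c_rc_21_2) (@D3.rec (fun _ => (Cert rels S Gen.c)) lc_c_rc_20_2 lc_c_rc_10_3 lc_c_rc_19_2 lc_c_rc_18_2 lc_c_rc_20_2 lc_c_rc_23_2 lc_c_rc_22_2 lc_c_rc_2_1 lc_c_rc_17_0 lc_c_rc_21_2 lc_c_rc_19_2 lc_c_rc_10_3 lc_c_rc_19_2 lc_c_rc_18_2 lc_c_rc_20_2 lc_c_rc_23_2 lc_c_rc_17_0 lc_c_rc_21_2) (@D3.rec (fun _ => (Cert rels S Gen.c)) lc_c_rc_20_2 lc_c_rc_20_2 lc_c_rc_21_2 lc_c_rc_20_2 lc_c_rc_19_2 lc_c_rc_21_2 lc_c_rc_21_2 lc_c_rc_20_2 lc_c_rc_19_2 lc_c_rc_20_2 lc_c_rc_17_0 lc_c_rc_21_2 lc_c_rc_20_2 lc_c_rc_2_1 lc_c_rc_21_2 lc_c_rc_20_2 lc_c_rc_19_2 lc_c_rc_22_2)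 (@D3.rec (fun _ => (Cert rels S Gen.c)) lc_c_rc_21_2 lc_c_rc_23_2 lc_c_rc_18_2 lc_c_rc_19_2 lc_c_rc_18_0 lc_c_rc_18_0 lc_c_rc_2_1 lc_c_rc_2_1 lc_c_rc_2_1 lc_c_rc_2_1 lc_c_rc_10_3 lc_c_rc_10_3 lc_c_Cert_tree lc_c_rc_17_0 lc_c_rc_2_1 lc_c_Cert_tree lc_c_rc_10_3 lc_c_rc_18_2) (@D3.rec (fun _ => (Cert rels S Gen.c)) lc_c_rc_22_2 lc_c_Cert_tree lc_c_rc_2_1 lc_c_rc_17_0 lc_c_rc_21_2 lc_c_rc_20_2 lc_c_rc_10_3 lc_c_rc_19_2 lc_c_rc_18_2 lc_c_rc_20_2 lc_c_rc_23_2 lc_c_Cert_tree lc_c_rc_2_1 lc_c_rc_17_0 lc_c_rc_21_2 lc_c_rc_20_2 lc_c_rc_10_3 lc_c_rc_19_2) (@D3.rec (fun _ => (Cert rels S Gen.c)) lc_c_rc_18_2 lc_c_rc_2_1 lc_c_rc_23_2 lc_c_rc_17_0 lc_c_rc_21_2 lc_c_rc_2_1 lc_c_rc_21_2 lc_c_rc_20_2 lc_c_rc_19_2 lc_c_rc_22_2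 lc_c_rc_21_2 lc_c_rc_19_2 lc_c_rc_20_2 lc_c_rc_20_2 lc_c_rc_23_2 lc_c_rc_19_2 lc_c_rc_21_2 lc_c_rc_22_2) (@D3.rec (fun _ => (Cert rels S Gen.c)) lc_c_rc_22_2 lc_c_rc_21_2 lc_c_rc_18_2 lc_c_rc_22_2 lc_c_rc_22_2 lc_c_rc_19_2 lc_c_rc_45_28 lc_c_rc_17_0 lc_c_rc_17_0 lc_c_rc_21_2 lc_c_rc_20_2 lc_c_rc_45_37 lc_c_rc_10_1 lc_c_rc_18_2 lc_c_rc_22_2 lc_c_rc_17_0 lc_c_rc_21_2 lc_c_rc_47_36) (@D3.rec (fun _ => (Cert rels S Gen.c)) lc_c_rc_10_3 lc_c_rc_19_2 lc_c_rc_18_2 lc_c_rc_20_2 lc_c_rc_23_2 lc_c_rc_46_23 lc_c_rc_19_2 lc_c_rc_18_2 lc_c_rc_20_2 lc_c_rc_20_2 lc_c_rc_19_2 lc_c_rc_20_2 lc_c_rc_17_0 lc_c_rc_2_1 lc_c_rc_10_3 lc_c_rc_18_2 lc_c_rc_21_2 lc_c_rc_22_2)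
def ce_c_5 : D2 → D3 → (Cert rels S Gen.c) := @D2.rec (fun _ => D3 → (Cert rels S Gen.c)) (@D3.rec (fun _ => (Cert rels S Gen.c)) lc_c_rc_10_3 lc_c_rc_18_2 lc_c_rc_21_2 lc_c_rc_2_1 lc_c_Cert_tree lc_c_rc_10_3 lc_c_rc_18_2 lc_c_rc_20_2 lc_c_rc_22_2 lc_c_rc_2_1 lc_c_rc_10_3 lc_c_rc_18_2 lc_c_rc_2_1 lc_c_Cert_tree lc_c_rc_10_3 lc_c_rc_18_2 lc_c_rc_20_2 lc_c_Cert_tree) (@D3.rec (fun _ => (Cert rels S Gen.c)) lc_c_rc_2_1 lc_c_rc_17_0 lc_c_rc_21_2 lc_c_rc_20_2 lc_c_rc_10_3 lc_c_rc_19_2 lc_c_rc_18_2 lc_c_rc_20_2 lc_c_rc_23_2 lc_c_rc_19_2 lc_c_rc_2_1 lc_c_rc_17_0 lc_c_rc_21_2 lc_c_rc_19_2 lc_c_rc_17_0 lc_c_rc_21_2 lc_c_rc_20_2 lc_c_rc_2_1) (@D3.rec (fun _ => (Cert rels S Gen.c)) lc_c_rc_21_2 lc_c_rc_20_2 lc_c_rc_19_2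 lc_c_rc_20_2 lc_c_rc_20_2 lc_c_rc_20_2 lc_c_rc_19_2 lc_c_rc_20_2 lc_c_rc_20_2 lc_c_rc_23_2 lc_c_rc_18_2 lc_c_rc_21_2 lc_c_rc_22_2 lc_c_Cert_tree lc_c_rc_10_3 lc_c_rc_18_2 lc_c_rc_20_2 lc_c_rc_22_2) (@D3.rec (fun _ => (Cert rels S Gen.c)) lc_c_Cert_tree lc_c_rc_2_1 lc_c_rc_17_0 lc_c_rc_21_2 lc_c_rc_20_2 lc_c_rc_10_3 lc_c_rc_19_2 lc_c_rc_18_2 lc_c_rc_20_2 lc_c_rc_23_2 lc_c_Cert_tree lc_c_rc_2_1 lc_c_rc_17_0 lc_c_rc_21_2 lc_c_rc_20_2 lc_c_rc_10_3 lc_c_rc_19_2 lc_c_rc_18_2) (@D3.rec (fun _ => (Cert rels S Gen.c)) lc_c_rc_20_2 lc_c_rc_23_2 lc_c_rc_17_0 lc_c_rc_21_2 lc_c_rc_20_2 lc_c_rc_2_1 lc_c_rc_21_2 lc_c_rc_20_2 lc_c_rc_19_2 lc_c_rc_22_2 lc_c_rc_21_2 lc_c_rc_23_2 lc_c_rc_19_2 lc_c_rc_20_2 lc_c_rc_20_2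 lc_c_rc_23_2 lc_c_rc_21_2 lc_c_rc_21_2) (@D3.rec (fun _ => (Cert rels S Gen.c)) lc_c_rc_19_2 lc_c_rc_21_2 lc_c_rc_20_2 lc_c_rc_19_2 lc_c_rc_20_2 lc_c_rc_19_2 lc_c_rc_21_2 lc_c_rc_19_2 lc_c_rc_21_2 lc_c_rc_19_2 lc_c_rc_19_2 lc_c_Cert_tree lc_c_rc_21_2 lc_c_rc_20_2 lc_c_rc_19_2 lc_c_rc_22_2 lc_c_rc_21_2 lc_c_rc_23_2) (@D3.rec (fun _ => (Cert rels S Gen.c)) lc_c_rc_19_2 lc_c_rc_22_2 lc_c_rc_21_2 lc_c_rc_18_2 lc_c_rc_23_2 lc_c_rc_19_2 lc_c_rc_19_2 lc_c_rc_22_2 lc_c_rc_23_2 lc_c_rc_19_2 lc_c_Cert_tree lc_c_rc_19_2 lc_c_rc_18_0 lc_c_rc_2_1 lc_c_rc_2_1 lc_c_Cert_tree lc_c_rc_17_0 lc_c_rc_10_3) (@D3.rec (fun _ => (Cert rels S Gen.c)) lc_c_rc_17_0 lc_c_rc_21_2 lc_c_rc_10_3 lc_c_rc_19_2 lc_c_rc_18_2 lc_c_rc_17_0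 lc_c_rc_21_2 lc_c_rc_20_2 lc_c_rc_2_1 lc_c_rc_21_2 lc_c_rc_20_2 lc_c_rc_19_2 lc_c_rc_22_2 lc_c_rc_21_2 lc_c_rc_10_3 lc_c_rc_19_2 lc_c_rc_20_2 lc_c_rc_20_2) (@D3.rec (fun _ => (Cert rels S Gen.c)) lc_c_rc_23_2 lc_c_rc_17_0 lc_c_rc_21_2 lc_c_rc_21_2 lc_c_rc_20_2 lc_c_rc_19_2 lc_c_rc_22_2 lc_c_rc_21_2 lc_c_rc_21_2 lc_c_rc_19_2 lc_c_rc_22_2 lc_c_rc_21_2 lc_c_rc_18_2 lc_c_rc_19_2 lc_c_rc_22_2 lc_c_rc_18_2 lc_c_rc_22_2 lc_c_rc_22_2) (@D3.rec (fun _ => (Cert rels S Gen.c)) lc_c_rc_18_2 lc_c_rc_19_2 lc_c_rc_21_2 lc_c_rc_19_2 lc_c_rc_18_2 lc_c_rc_21_2 lc_c_rc_21_0 lc_c_rc_21_0 lc_c_rc_45_28 lc_c_rc_2_1 lc_c_Cert_tree lc_c_rc_10_3 lc_c_rc_18_2 lc_c_rc_18_2 lc_c_rc_22_2 lc_c_Cert_tree lc_c_rc_10_3 lc_c_rc_18_2)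 (@D3.rec (fun _ => (Cert rels S Gen.c)) lc_c_rc_20_2 lc_c_Cert_tree lc_c_rc_2_1 lc_c_rc_17_0 lc_c_rc_21_2 lc_c_rc_20_2 lc_c_rc_10_3 lc_c_rc_19_2 lc_c_rc_18_2 lc_c_rc_20_2 lc_c_rc_23_2 lc_c_rc_2_1 lc_c_Cert_tree lc_c_rc_18_4 lc_c_Cert_tree lc_c_rc_2_1 lc_c_rc_17_0 lc_c_rc_21_2) (@D3.rec (fun _ => (Cert rels S Gen.c)) lc_c_rc_20_2 lc_c_rc_19_2 lc_c_rc_20_2 lc_c_rc_23_2 lc_c_rc_17_0 lc_c_rc_21_2 lc_c_rc_20_2 lc_c_rc_2_1 lc_c_rc_21_2 lc_c_rc_20_2 lc_c_rc_19_2 lc_c_rc_22_2 lc_c_rc_21_2 lc_c_rc_23_2 lc_c_rc_19_2 lc_c_rc_20_2 lc_c_rc_20_2 lc_c_rc_23_2) (@D3.rec (fun _ => (Cert rels S Gen.c)) lc_c_rc_20_2 lc_c_rc_21_2 lc_c_rc_19_2 lc_c_rc_21_2 lc_c_rc_19_2 lc_c_rc_20_2 lc_c_rc_20_2 lc_c_rc_19_2 lc_c_rc_19_2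 lc_c_rc_19_2 lc_c_rc_21_2 lc_c_rc_21_2 lc_c_rc_20_2 lc_c_Cert_tree lc_c_rc_18_2 lc_c_rc_18_2 lc_c_rc_22_2 lc_c_rc_17_0) (@D3.rec (fun _ => (Cert rels S Gen.c)) lc_c_rc_21_2 lc_c_rc_20_2 lc_c_rc_10_3 lc_c_rc_19_2 lc_c_rc_18_2 lc_c_rc_20_2 lc_c_rc_23_2 lc_c_rc_17_0 lc_c_rc_21_2 lc_c_rc_20_2 lc_c_rc_2_1 lc_c_rc_21_2 lc_c_rc_20_2 lc_c_rc_19_2 lc_c_rc_22_2 lc_c_rc_21_2 lc_c_rc_23_2 lc_c_rc_19_2) (@D3.rec (fun _ => (Cert rels S Gen.c)) lc_c_rc_20_2 lc_c_rc_20_2 lc_c_rc_23_2 lc_c_rc_17_0 lc_c_rc_21_2 lc_c_rc_20_2 lc_c_rc_21_2 lc_c_rc_20_2 lc_c_rc_19_2 lc_c_rc_22_2 lc_c_rc_21_2 lc_c_rc_23_2 lc_c_rc_19_2 lc_c_rc_20_2 lc_c_rc_20_2 lc_c_rc_23_2 lc_c_rc_10_3 lc_c_rc_21_2)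
def ce_c_6 : D2 → D3 → (Cert rels S Gen.c) := @D2.rec (fun _ => D3 → (Cert rels S Gen.c)) (@D3.rec (fun _ => (Cert rels S Gen.c)) lc_c_rc_20_2 lc_c_rc_19_2 lc_c_rc_22_2 lc_c_rc_21_2 lc_c_rc_23_2 lc_c_rc_19_2 lc_c_rc_22_2 lc_c_rc_21_2 lc_c_rc_18_2 lc_c_rc_23_2 lc_c_rc_19_2 lc_c_rc_19_2 lc_c_rc_22_2 lc_c_rc_23_2 lc_c_rc_21_2 lc_c_rc_20_2 lc_c_Cert_tree lc_c_rc_23_2) (@D3.rec (fun _ => (Cert rels S Gen.c)) lc_c_rc_23_2 lc_c_rc_19_2 lc_c_rc_19_2 lc_c_rc_19_2 lc_c_rc_10_3 lc_c_rc_19_2 lc_c_rc_18_2 lc_c_rc_19_2 lc_c_Cert_tree lc_c_rc_17_0 lc_c_rc_19_2 lc_c_rc_22_2 lc_c_rc_21_2 lc_c_rc_23_2 lc_c_rc_19_2 lc_c_rc_19_2 lc_c_rc_22_2 lc_c_rc_23_2) (@D3.rec (fun _ => (Cert rels S Gen.c)) lc_c_rc_19_2 lc_c_rc_19_2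 lc_c_rc_22_2 lc_c_rc_18_2 lc_c_rc_23_2 lc_c_rc_19_2 lc_c_rc_18_2 lc_c_rc_19_2 lc_c_Cert_tree lc_c_rc_19_2 lc_c_rc_23_2 lc_c_rc_19_2 lc_c_rc_17_0 lc_c_rc_23_2 lc_c_Cert_tree lc_c_rc_17_0 lc_c_rc_10_3 lc_c_rc_2_1) (@D3.rec (fun _ => (Cert rels S Gen.c)) lc_c_rc_21_2 lc_c_rc_19_2 lc_c_rc_22_2 lc_c_rc_10_3 lc_c_rc_21_2 lc_c_rc_20_2 lc_c_rc_19_2 lc_c_rc_22_2 lc_c_rc_21_2 lc_c_rc_19_2 lc_c_rc_22_2 lc_c_rc_21_2 lc_c_rc_18_2 lc_c_rc_23_2 lc_c_rc_21_2 lc_c_rc_19_2 lc_c_rc_22_2 lc_c_rc_21_2) (@D3.rec (fun _ => (Cert rels S Gen.c)) lc_c_rc_18_2 lc_c_rc_19_2 lc_c_rc_22_2 lc_c_rc_18_2 lc_c_rc_19_2 lc_c_rc_20_2 lc_c_rc_18_2 lc_c_rc_19_2 lc_c_rc_21_2 lc_c_Cert_tree lc_c_rc_2_1 lc_c_rc_17_0 lc_c_rc_21_2 lc_c_rc_20_2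 lc_c_rc_10_3 lc_c_rc_19_2 lc_c_rc_18_2 lc_c_rc_18_2) (@D3.rec (fun _ => (Cert rels S Gen.c)) lc_c_rc_18_2 lc_c_rc_17_0 lc_c_rc_21_2 lc_c_rc_20_2 lc_c_rc_19_2 lc_c_rc_20_2 lc_c_rc_23_2 lc_c_rc_17_0 lc_c_rc_21_2 lc_c_rc_20_2 lc_c_rc_2_1 lc_c_rc_21_2 lc_c_rc_20_2 lc_c_rc_19_2 lc_c_rc_22_2 lc_c_rc_21_2 lc_c_rc_23_2 lc_c_rc_19_2) (@D3.rec (fun _ => (Cert rels S Gen.c)) lc_c_rc_20_2 lc_c_rc_20_2 lc_c_rc_23_2 lc_c_Cert_tree lc_c_rc_17_0 lc_c_rc_20_2 lc_c_rc_18_4 lc_c_rc_17_0 lc_c_rc_21_2 lc_c_rc_20_2 lc_c_rc_21_2 lc_c_rc_20_2 lc_c_rc_19_2 lc_c_rc_21_2 lc_c_rc_23_2 lc_c_rc_20_2 lc_c_rc_23_2 lc_c_rc_10_3) (@D3.rec (fun _ => (Cert rels S Gen.c)) lc_c_rc_21_2 lc_c_rc_20_2 lc_c_rc_19_2 lc_c_rc_22_2 lc_c_rc_21_2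 lc_c_rc_23_2 lc_c_rc_19_2 lc_c_rc_22_2 lc_c_rc_21_2 lc_c_rc_18_2 lc_c_rc_23_2 lc_c_rc_19_2 lc_c_rc_19_2 lc_c_rc_22_2 lc_c_rc_23_2 lc_c_rc_21_2 lc_c_rc_20_2 lc_c_Cert_tree) (@D3.rec (fun _ => (Cert rels S Gen.c)) lc_c_rc_23_2 lc_c_rc_23_2 lc_c_rc_46_23 lc_c_rc_19_2 lc_c_rc_19_2 lc_c_rc_18_0 lc_c_rc_19_2 lc_c_rc_18_2 lc_c_rc_18_0 lc_c_Cert_tree lc_c_Cert_tree lc_c_rc_17_0 lc_c_rc_19_2 lc_c_rc_18_2 lc_c_rc_18_2 lc_c_rc_18_2 lc_c_rc_21_2 lc_c_rc_20_2) (@D3.rec (fun _ => (Cert rels S Gen.c)) lc_c_rc_19_2 lc_c_rc_22_2 lc_c_rc_21_2 lc_c_rc_23_2 lc_c_rc_19_2 lc_c_rc_20_2 lc_c_rc_20_2 lc_c_rc_23_2 lc_c_rc_2_1 lc_c_rc_21_2 lc_c_rc_20_2 lc_c_rc_19_2 lc_c_rc_22_2 lc_c_rc_21_2 lc_c_rc_23_2 lc_c_rc_19_2 lc_c_rc_22_2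 lc_c_rc_21_2) (@D3.rec (fun _ => (Cert rels S Gen.c)) lc_c_rc_18_2 lc_c_rc_23_2 lc_c_rc_19_2 lc_c_rc_19_2 lc_c_rc_22_2 lc_c_rc_23_2 lc_c_rc_21_2 lc_c_rc_20_2 lc_c_Cert_tree lc_c_rc_23_2 lc_c_rc_23_2 lc_c_rc_10_3 lc_c_rc_21_2 lc_c_rc_20_2 lc_c_rc_19_2 lc_c_rc_21_2 lc_c_rc_23_2 lc_c_rc_19_2) (@D3.rec (fun _ => (Cert rels S Gen.c)) lc_c_rc_22_2 lc_c_rc_21_2 lc_c_rc_18_2 lc_c_rc_23_2 lc_c_rc_19_2 lc_c_rc_19_2 lc_c_rc_22_2 lc_c_rc_23_2 lc_c_rc_20_2 lc_c_rc_46_37 lc_c_rc_23_2 lc_c_rc_23_2 lc_c_rc_10_3 lc_c_rc_19_2 lc_c_rc_22_2 lc_c_rc_21_2 lc_c_rc_23_2 lc_c_rc_23_2) (@D3.rec (fun _ => (Cert rels S Gen.c)) lc_c_rc_19_2 lc_c_rc_22_2 lc_c_rc_23_2 lc_c_rc_18_2 lc_c_rc_19_2 lc_c_rc_19_2 lc_c_rc_22_2 lc_c_rc_18_2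 lc_c_rc_23_2 lc_c_rc_19_2 lc_c_rc_18_2 lc_c_rc_21_2 lc_c_rc_19_2 lc_c_Cert_tree lc_c_rc_19_2 lc_c_rc_23_2 lc_c_rc_23_2 lc_c_rc_17_0) (@D3.rec (fun _ => (Cert rels S Gen.c)) lc_c_rc_23_2 lc_c_Cert_tree lc_c_rc_20_2 lc_c_Cert_tree lc_c_rc_17_0 lc_c_rc_10_3 lc_c_rc_19_2 lc_c_rc_19_2 lc_c_rc_22_2 lc_c_rc_23_2 lc_c_rc_19_2 lc_c_Cert_tree lc_c_rc_19_2 lc_c_rc_23_2 lc_c_rc_19_2 lc_c_Cert_tree lc_c_rc_19_2 lc_c_rc_18_2) (@D3.rec (fun _ => (Cert rels S Gen.c)) lc_c_rc_23_2 lc_c_rc_19_2 lc_c_rc_18_2 lc_c_rc_21_2 lc_c_rc_19_2 lc_c_rc_19_2 lc_c_rc_17_0 lc_c_rc_23_2 lc_c_rc_10_3 lc_c_rc_23_2 lc_c_rc_17_0 lc_c_rc_10_3 lc_c_rc_2_1 lc_c_rc_19_2 lc_c_rc_22_2 lc_c_rc_23_2 lc_c_rc_19_2 lc_c_rc_22_2)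
def ce_c_7 : D2 → D3 → (Cert rels S Gen.c) := @D2.rec (fun _ => D3 → (Cert rels S Gen.c)) (@D3.rec (fun _ => (Cert rels S Gen.c)) lc_c_rc_21_2 lc_c_rc_18_2 lc_c_rc_18_2 lc_c_rc_19_2 lc_c_rc_20_2 lc_c_rc_18_2 lc_c_rc_18_2 lc_c_rc_19_2 lc_c_rc_21_2 lc_c_rc_23_2 lc_c_rc_19_2 lc_c_rc_21_2 lc_c_rc_17_0 lc_c_rc_21_2 lc_c_rc_20_2 lc_c_rc_2_1 lc_c_rc_21_2 lc_c_rc_20_2) (@D3.rec (fun _ => (Cert rels S Gen.c)) lc_c_rc_2_3 lc_c_rc_46_16 lc_c_rc_21_2 lc_c_rc_23_2 lc_c_rc_19_2 lc_c_rc_19_2 lc_c_rc_18_2 lc_c_rc_18_2 lc_c_rc_21_2 lc_c_rc_20_2 lc_c_rc_19_2 lc_c_rc_21_2 lc_c_rc_23_2 lc_c_rc_20_2 lc_c_rc_23_2 lc_c_rc_2_1 lc_c_rc_21_2 lc_c_rc_20_2) (@D3.rec (fun _ => (Cert rels S Gen.c)) lc_c_rc_19_2 lc_c_rc_22_2 lc_c_rc_21_2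 lc_c_rc_23_2 lc_c_rc_19_2 lc_c_rc_22_2 lc_c_rc_21_2 lc_c_rc_18_2 lc_c_rc_23_2 lc_c_rc_19_2 lc_c_rc_19_2 lc_c_rc_22_2 lc_c_rc_23_2 lc_c_rc_21_2 lc_c_rc_20_2 lc_c_Cert_tree lc_c_rc_23_2 lc_c_rc_23_2) (@D3.rec (fun _ => (Cert rels S Gen.c)) lc_c_rc_17_0 lc_c_rc_20_2 lc_c_rc_20_2 lc_c_rc_23_2 lc_c_rc_10_3 lc_c_rc_21_2 lc_c_rc_20_2 lc_c_rc_19_2 lc_c_rc_21_2 lc_c_rc_23_2 lc_c_rc_19_2 lc_c_rc_21_2 lc_c_rc_18_2 lc_c_rc_23_2 lc_c_rc_19_2 lc_c_rc_23_2 lc_c_rc_23_2 lc_c_rc_10_3) (@D3.rec (fun _ => (Cert rels S Gen.c)) lc_c_rc_10_3 lc_c_rc_19_2 lc_c_rc_22_2 lc_c_rc_21_2 lc_c_rc_2_1 lc_c_rc_23_2 lc_c_rc_19_2 lc_c_rc_19_2 lc_c_rc_22_2 lc_c_rc_23_2 lc_c_rc_18_2 lc_c_rc_19_2 lc_c_rc_19_2 lc_c_rc_22_2 lc_c_rc_18_2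 lc_c_rc_23_2 lc_c_rc_19_2 lc_c_rc_18_2) (@D3.rec (fun _ => (Cert rels S Gen.c)) lc_c_rc_21_2 lc_c_rc_19_2 lc_c_Cert_tree lc_c_rc_19_2 lc_c_rc_23_2 lc_c_rc_21_2 lc_c_Cert_tree lc_c_rc_23_2 lc_c_rc_17_0 lc_c_rc_23_2 lc_c_rc_18_2 lc_c_rc_2_1 lc_c_rc_22_2 lc_c_rc_20_2 lc_c_rc_17_0 lc_c_rc_17_0 lc_c_rc_10_3 lc_c_rc_19_2) (@D3.rec (fun _ => (Cert rels S Gen.c)) lc_c_rc_19_2 lc_c_rc_18_2 lc_c_rc_18_2 lc_c_rc_19_2 lc_c_rc_22_2 lc_c_rc_21_2 lc_c_rc_23_2 lc_c_rc_19_2 lc_c_rc_19_2 lc_c_rc_22_2 lc_c_rc_23_2 lc_c_rc_20_2 lc_c_Cert_tree lc_c_rc_23_2 lc_c_rc_23_2 lc_c_rc_23_2 lc_c_rc_10_3 lc_c_rc_19_2) (@D3.rec (fun _ => (Cert rels S Gen.c)) lc_c_rc_22_2 lc_c_rc_21_2 lc_c_rc_2_1 lc_c_rc_23_2 lc_c_rc_19_2 lc_c_rc_19_2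 lc_c_rc_22_2 lc_c_rc_23_2 lc_c_rc_18_2 lc_c_rc_19_2 lc_c_rc_19_2 lc_c_rc_22_2 lc_c_rc_18_2 lc_c_rc_23_2 lc_c_rc_19_2 lc_c_rc_18_2 lc_c_rc_21_2 lc_c_rc_19_2) (@D3.rec (fun _ => (Cert rels S Gen.c)) lc_c_Cert_tree lc_c_rc_19_2 lc_c_rc_23_2 lc_c_rc_2_1 lc_c_rc_46_30 lc_c_rc_23_2 lc_c_rc_17_0 lc_c_rc_23_2 lc_c_rc_10_3 lc_c_rc_19_2 lc_c_rc_21_2 lc_c_rc_23_2 lc_c_rc_19_2 lc_c_rc_23_2 lc_c_rc_23_0 lc_c_rc_19_2 lc_c_rc_19_2 lc_c_rc_22_2) (@D3.rec (fun _ => (Cert rels S Gen.c)) lc_c_rc_18_2 lc_c_rc_23_2 lc_c_rc_18_2 lc_c_rc_19_2 lc_c_Cert_tree lc_c_rc_19_2 lc_c_rc_23_2 lc_c_rc_23_2 lc_c_rc_18_4 lc_c_rc_10_3 lc_c_rc_10_3 lc_c_rc_19_2 lc_c_rc_22_2 lc_c_rc_23_2 lc_c_rc_2_3 lc_c_Cert_tree lc_c_rc_19_2 lc_c_rc_23_2)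 (@D3.rec (fun _ => (Cert rels S Gen.c)) lc_c_rc_20_2 lc_c_rc_21_2 lc_c_rc_19_2 lc_c_Cert_tree lc_c_rc_19_2 lc_c_rc_18_2 lc_c_rc_23_2 lc_c_rc_19_2 lc_c_rc_18_2 lc_c_rc_21_2 lc_c_rc_19_2 lc_c_rc_19_2 lc_c_rc_17_0 lc_c_rc_23_2 lc_c_rc_10_3 lc_c_rc_23_2 lc_c_rc_17_0 lc_c_Cert_tree) (@D3.rec (fun _ => (Cert rels S Gen.c)) lc_c_rc_23_2 lc_c_rc_17_0 lc_c_rc_10_3 lc_c_rc_2_1 lc_c_rc_19_2 lc_c_Cert_tree lc_c_rc_19_2 lc_c_rc_23_2 lc_c_rc_19_2 lc_c_rc_17_0 lc_c_rc_23_2 lc_c_rc_2_3 lc_c_rc_19_2 lc_c_rc_17_0 lc_c_rc_19_2 lc_c_rc_23_2 lc_c_rc_19_2 lc_c_rc_18_2) (@D3.rec (fun _ => (Cert rels S Gen.c)) lc_c_rc_21_2 lc_c_rc_19_2 lc_c_rc_22_2 lc_c_rc_21_2 lc_c_rc_10_3 lc_c_rc_23_2 lc_c_rc_10_3 lc_c_rc_10_3 lc_c_rc_2_1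 lc_c_rc_2_1 lc_c_rc_20_2 lc_c_rc_19_2 lc_c_rc_21_2 lc_c_rc_18_2 lc_c_rc_23_2 lc_c_rc_18_2 lc_c_rc_19_2 lc_c_rc_21_2) (@D3.rec (fun _ => (Cert rels S Gen.c)) lc_c_rc_21_2 lc_c_rc_10_3 lc_c_rc_21_2 lc_c_rc_20_2 lc_c_rc_2_3 lc_c_rc_46_30 lc_c_rc_21_2 lc_c_rc_23_2 lc_c_rc_21_2 lc_c_rc_18_2 lc_c_rc_23_2 lc_c_rc_10_3 lc_c_rc_10_3 lc_c_rc_23_2 lc_c_rc_19_2 lc_c_Cert_tree lc_c_rc_19_2 lc_c_rc_18_2) (@D3.rec (fun _ => (Cert rels S Gen.c)) lc_c_rc_19_2 lc_c_rc_21_2 lc_c_rc_18_2 lc_c_rc_23_2 lc_c_rc_19_2 lc_c_rc_23_2 lc_c_rc_2_1 lc_c_rc_23_2 lc_c_rc_2_1 lc_c_rc_2_1 lc_c_rc_19_2 lc_c_rc_22_2 lc_c_rc_21_2 lc_c_rc_2_1 lc_c_rc_23_2 lc_c_rc_19_2 lc_c_rc_19_2 lc_c_rc_22_2)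
def ce_c_8 : D2 → D3 → (Cert rels S Gen.c) := @D2.rec (fun _ => D3 → (Cert rels S Gen.c)) (@D3.rec (fun _ => (Cert rels S Gen.c)) lc_c_rc_23_2 lc_c_rc_18_2 lc_c_rc_19_2 lc_c_rc_19_2 lc_c_rc_22_2 lc_c_rc_18_2 lc_c_rc_23_2 lc_c_rc_19_2 lc_c_rc_18_2 lc_c_rc_21_2 lc_c_rc_19_2 lc_c_Cert_tree lc_c_rc_19_2 lc_c_rc_23_2 lc_c_rc_21_2 lc_c_Cert_tree lc_c_rc_23_2 lc_c_rc_17_0) (@D3.rec (fun _ => (Cert rels S Gen.c)) lc_c_rc_23_2 lc_c_rc_10_3 lc_c_rc_20_2 lc_c_rc_23_2 lc_c_rc_18_2 lc_c_rc_23_2 lc_c_rc_10_3 lc_c_rc_10_3 lc_c_rc_19_2 lc_c_rc_21_2 lc_c_rc_2_1 lc_c_rc_23_2 lc_c_rc_19_2 lc_c_rc_23_2 lc_c_rc_18_2 lc_c_rc_19_2 lc_c_rc_10_1 lc_c_rc_23_2) (@D3.rec (fun _ => (Cert rels S Gen.c)) lc_c_rc_19_2 lc_c_rc_18_2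 lc_c_rc_19_2 lc_c_rc_10_3 lc_c_rc_10_3 lc_c_rc_10_3 lc_c_rc_10_3 lc_c_rc_2_1 lc_c_rc_19_2 lc_c_rc_19_2 lc_c_rc_22_2 lc_c_rc_2_1 lc_c_rc_23_2 lc_c_rc_2_1 lc_c_rc_19_2 lc_c_Cert_tree lc_c_rc_19_2 lc_c_rc_23_2) (@D3.rec (fun _ => (Cert rels S Gen.c)) lc_c_rc_22_2 lc_c_rc_20_2 lc_c_rc_21_2 lc_c_rc_19_2 lc_c_Cert_tree lc_c_rc_19_2 lc_c_rc_18_2 lc_c_rc_23_2 lc_c_rc_19_2 lc_c_rc_18_2 lc_c_rc_21_2 lc_c_rc_19_2 lc_c_rc_20_2 lc_c_rc_21_2 lc_c_rc_20_2 lc_c_rc_19_2 lc_c_rc_17_0 lc_c_rc_23_2) (@D3.rec (fun _ => (Cert rels S Gen.c)) lc_c_rc_23_2 lc_c_rc_17_0 lc_c_rc_23_2 lc_c_rc_10_3 lc_c_rc_23_2 lc_c_rc_20_2 lc_c_rc_23_2 lc_c_rc_10_3 lc_c_rc_2_3 lc_c_rc_2_1 lc_c_rc_19_2 lc_c_Cert_tree lc_c_rc_19_2 lc_c_rc_18_2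 lc_c_rc_18_2 lc_c_rc_19_2 lc_c_rc_19_2 lc_c_rc_22_2) (@D3.rec (fun _ => (Cert rels S Gen.c)) lc_c_rc_23_2 lc_c_rc_19_2 lc_c_Cert_tree lc_c_rc_19_2 lc_c_rc_23_2 lc_c_rc_18_2 lc_c_rc_23_2 lc_c_rc_17_0 lc_c_rc_23_2 lc_c_rc_2_1 lc_c_rc_10_3 lc_c_rc_10_3 lc_c_rc_2_1 lc_c_rc_19_2 lc_c_rc_19_2 lc_c_rc_22_2 lc_c_rc_2_1 lc_c_rc_23_2) (@D3.rec (fun _ => (Cert rels S Gen.c)) lc_c_rc_2_1 lc_c_rc_21_2 lc_c_rc_19_2 lc_c_Cert_tree lc_c_rc_19_2 lc_c_rc_23_2 lc_c_rc_18_2 lc_c_rc_20_2 lc_c_rc_21_2 lc_c_rc_19_2 lc_c_Cert_tree lc_c_rc_19_2 lc_c_rc_18_2 lc_c_rc_23_2 lc_c_rc_19_2 lc_c_rc_18_2 lc_c_rc_21_2 lc_c_rc_19_2) (@D3.rec (fun _ => (Cert rels S Gen.c)) lc_c_rc_21_2 lc_c_Cert_tree lc_c_rc_19_2 lc_c_rc_17_0 lc_c_rc_23_2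 lc_c_rc_18_2 lc_c_rc_21_0 lc_c_rc_10_3 lc_c_rc_23_2 lc_c_rc_20_2 lc_c_rc_19_2 lc_c_rc_23_2 lc_c_rc_19_2 lc_c_rc_2_1 lc_c_rc_19_2 lc_c_Cert_tree lc_c_rc_19_2 lc_c_rc_18_2) (@D3.rec (fun _ => (Cert rels S Gen.c)) lc_c_rc_23_2 lc_c_rc_19_2 lc_c_rc_18_2 lc_c_rc_19_2 lc_c_rc_17_0 lc_c_rc_23_2 lc_c_Cert_tree lc_c_rc_19_2 lc_c_rc_23_2 lc_c_rc_2_3 lc_c_rc_17_0 lc_c_rc_23_2 lc_c_Cert_tree lc_c_rc_23_2 lc_c_rc_46_30 lc_c_rc_19_2 lc_c_rc_17_0 lc_c_rc_19_2) (@D3.rec (fun _ => (Cert rels S Gen.c)) lc_c_rc_23_2 lc_c_rc_19_2 lc_c_rc_18_2 lc_c_rc_21_2 lc_c_rc_19_2 lc_c_rc_22_2 lc_c_rc_21_2 lc_c_rc_10_3 lc_c_rc_23_2 lc_c_rc_21_2 lc_c_rc_10_3 lc_c_rc_10_3 lc_c_rc_17_0 lc_c_rc_23_2 lc_c_rc_10_3 lc_c_rc_2_1 lc_c_rc_17_1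 lc_c_rc_19_2) (@D3.rec (fun _ => (Cert rels S Gen.c)) lc_c_rc_17_0 lc_c_rc_23_2 lc_c_rc_10_3 lc_c_rc_23_2 lc_c_rc_19_2 lc_c_rc_10_5 lc_c_rc_18_2 lc_c_rc_19_2 lc_c_rc_23_2 lc_c_rc_21_2 lc_c_rc_23_2 lc_c_rc_20_2 lc_c_rc_21_2 lc_c_rc_19_2 lc_c_rc_21_2 lc_c_rc_22_2 lc_c_rc_10_3 lc_c_rc_2_1) (@D3.rec (fun _ => (Cert rels S Gen.c)) lc_c_rc_23_2 lc_c_rc_21_2 lc_c_rc_19_2 lc_c_rc_18_2 lc_c_rc_18_2 lc_c_rc_21_2 lc_c_rc_10_3 lc_c_rc_21_2 lc_c_rc_2_1 lc_c_rc_23_2 lc_c_rc_2_3 lc_c_rc_46_30 lc_c_rc_23_2 lc_c_rc_18_2 lc_c_rc_23_2 lc_c_rc_19_2 lc_c_rc_18_2 lc_c_Cert_tree) (@D3.rec (fun _ => (Cert rels S Gen.c)) lc_c_rc_23_2 lc_c_rc_23_2 lc_c_Cert_tree lc_c_rc_19_2 lc_c_rc_17_0 lc_c_rc_23_2 lc_c_rc_18_2 lc_c_rc_19_2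 lc_c_rc_18_2 lc_c_rc_23_2 lc_c_rc_18_2 lc_c_Cert_tree lc_c_rc_19_2 lc_c_rc_21_2 lc_c_rc_2_1 lc_c_rc_2_1 lc_c_rc_2_1 lc_c_Cert_tree) (@D3.rec (fun _ => (Cert rels S Gen.c)) lc_c_rc_2_1 lc_c_rc_2_1 lc_c_rc_19_2 lc_c_rc_19_2 lc_c_rc_22_2 lc_c_rc_2_1 lc_c_rc_23_2 lc_c_rc_2_1 lc_c_rc_2_1 lc_c_rc_21_2 lc_c_rc_19_2 lc_c_Cert_tree lc_c_rc_19_2 lc_c_rc_23_2 lc_c_rc_18_2 lc_c_rc_20_2 lc_c_rc_21_2 lc_c_rc_19_2) (@D3.rec (fun _ => (Cert rels S Gen.c)) lc_c_Cert_tree lc_c_rc_19_2 lc_c_rc_18_2 lc_c_rc_23_2 lc_c_rc_19_2 lc_c_rc_18_2 lc_c_rc_21_2 lc_c_rc_19_2 lc_c_rc_20_2 lc_c_rc_21_2 lc_c_rc_19_2 lc_c_rc_19_2 lc_c_rc_17_0 lc_c_rc_23_2 lc_c_rc_20_0 lc_c_rc_23_2 lc_c_rc_17_0 lc_c_rc_23_2)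
def ce_c_9 : D2 → D3 → (Cert rels S Gen.c) := @D2.rec (fun _ => D3 → (Cert rels S Gen.c)) (@D3.rec (fun _ => (Cert rels S Gen.c)) lc_c_rc_10_3 lc_c_rc_23_2 lc_c_rc_20_2 lc_c_rc_10_3 lc_c_rc_2_1 lc_c_rc_23_2 lc_c_rc_19_2 lc_c_rc_18_2 lc_c_rc_10_3 lc_c_rc_10_3 lc_c_rc_10_3 lc_c_rc_19_2 lc_c_rc_47_36 lc_c_rc_23_2 lc_c_rc_2_1 lc_c_rc_19_2 lc_c_rc_20_2 lc_c_rc_17_0) (@D3.rec (fun _ => (Cert rels S Gen.c)) lc_c_rc_19_2 lc_c_rc_19_2 lc_c_rc_2_3 lc_c_rc_21_2 lc_c_rc_19_2 lc_c_rc_20_2 lc_c_rc_46_44 lc_c_rc_10_3 lc_c_rc_10_3 lc_c_rc_10_3 lc_c_rc_10_3 lc_c_rc_20_2 lc_c_rc_19_2 lc_c_Cert_tree lc_c_rc_19_2 lc_c_rc_2_1 lc_c_rc_23_2 lc_c_rc_2_1) (@D3.rec (fun _ => (Cert rels S Gen.c)) lc_c_rc_2_1 lc_c_rc_2_1 lc_c_rc_19_2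 lc_c_rc_17_0 lc_c_rc_23_2 lc_c_rc_18_2 lc_c_rc_23_2 lc_c_rc_21_2 lc_c_rc_21_0 lc_c_rc_19_2 lc_c_rc_17_0 lc_c_rc_19_2 lc_c_rc_23_2 lc_c_rc_19_2 lc_c_rc_18_2 lc_c_rc_21_2 lc_c_rc_19_2 lc_c_rc_20_2) (@D3.rec (fun _ => (Cert rels S Gen.c)) lc_c_rc_22_2 lc_c_rc_21_2 lc_c_rc_20_2 lc_c_rc_21_2 lc_c_rc_21_2 lc_c_rc_10_3 lc_c_rc_23_2 lc_c_rc_20_2 lc_c_rc_23_2 lc_c_rc_2_1 lc_c_rc_10_3 lc_c_rc_23_2 lc_c_rc_2_1 lc_c_rc_20_2 lc_c_rc_19_2 lc_c_rc_17_0 lc_c_rc_23_2 lc_c_rc_20_2) (@D3.rec (fun _ => (Cert rels S Gen.c)) lc_c_rc_19_2 lc_c_Cert_tree lc_c_rc_19_2 lc_c_rc_23_2 lc_c_rc_19_2 lc_c_rc_19_2 lc_c_rc_17_0 lc_c_rc_23_2 lc_c_rc_23_2 lc_c_rc_10_3 lc_c_rc_23_2 lc_c_rc_20_2 lc_c_rc_10_3 lc_c_rc_10_3 lc_c_rc_2_1 lc_c_rc_21_2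 lc_c_rc_19_2 lc_c_Cert_tree) (@D3.rec (fun _ => (Cert rels S Gen.c)) lc_c_rc_19_2 lc_c_rc_23_2 lc_c_rc_2_1 lc_c_rc_2_1 lc_c_rc_21_2 lc_c_Cert_tree lc_c_rc_19_2 lc_c_rc_17_0 lc_c_rc_23_2 lc_c_Cert_tree lc_c_rc_23_2 lc_c_rc_21_2 lc_c_Cert_tree lc_c_rc_19_2 lc_c_rc_17_0 lc_c_rc_19_2 lc_c_rc_23_2 lc_c_rc_18_2) (@D3.rec (fun _ => (Cert rels S Gen.c)) lc_c_rc_21_2 lc_c_rc_19_2 lc_c_rc_22_2 lc_c_rc_21_2 lc_c_rc_21_2 lc_c_rc_17_0 lc_c_rc_23_2 lc_c_rc_10_3 lc_c_rc_23_2 lc_c_rc_20_2 lc_c_rc_45_64 lc_c_rc_2_1 lc_c_rc_10_3 lc_c_rc_20_2 lc_c_rc_46_30 lc_c_rc_19_2 lc_c_rc_17_1 lc_c_rc_2_1) (@D3.rec (fun _ => (Cert rels S Gen.c)) lc_c_rc_17_1 lc_c_rc_19_2 lc_c_rc_17_0 lc_c_rc_19_2 lc_c_rc_23_2 lc_c_rc_18_2 lc_c_rc_19_2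 lc_c_rc_23_2 lc_c_rc_17_0 lc_c_rc_23_2 lc_c_rc_10_3 lc_c_rc_23_2 lc_c_rc_17_0 lc_c_rc_19_2 lc_c_rc_23_2 lc_c_rc_19_2 lc_c_rc_21_0 lc_c_rc_10_3) (@D3.rec (fun _ => (Cert rels S Gen.c)) lc_c_rc_19_2 lc_c_rc_23_2 lc_c_rc_21_2 lc_c_rc_23_2 lc_c_rc_20_2 lc_c_rc_21_2 lc_c_rc_19_2 lc_c_rc_21_0 lc_c_rc_21_2 lc_c_rc_22_2 lc_c_rc_10_3 lc_c_rc_22_2 lc_c_rc_2_1 lc_c_rc_10_3 lc_c_rc_23_2 lc_c_rc_2_1 lc_c_rc_45_28 lc_c_rc_10_3) (@D3.rec (fun _ => (Cert rels S Gen.c)) lc_c_rc_23_2 lc_c_rc_20_2 lc_c_rc_10_3 lc_c_rc_18_4 lc_c_rc_19_2 lc_c_rc_20_2 lc_c_rc_19_2 lc_c_rc_18_2 lc_c_rc_21_2 lc_c_rc_23_2 lc_c_rc_20_2 lc_c_rc_23_2 lc_c_rc_20_2 lc_c_rc_21_2 lc_c_rc_20_2 lc_c_rc_19_2 lc_c_Cert_tree lc_c_rc_10_3) (@D3.rec (fun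 _ => (Cert rels S Gen.c)) lc_c_rc_2_1 lc_c_rc_23_2 lc_c_rc_2_1 lc_c_rc_2_1 lc_c_rc_18_2 lc_c_rc_23_2 lc_c_rc_23_2 lc_c_rc_19_2 lc_c_rc_18_2 lc_c_rc_21_2 lc_c_rc_19_2 lc_c_rc_20_2 lc_c_rc_17_0 lc_c_rc_23_2 lc_c_rc_17_0 lc_c_rc_23_2 lc_c_rc_10_3 lc_c_rc_23_2) (@D3.rec (fun _ => (Cert rels S Gen.c)) lc_c_rc_20_2 lc_c_rc_20_2 lc_c_Cert_tree lc_c_rc_19_2 lc_c_rc_19_2 lc_c_rc_18_2 lc_c_rc_20_2 lc_c_rc_17_0 lc_c_rc_23_2 lc_c_rc_2_1 lc_c_rc_2_1 lc_c_rc_2_1 lc_c_rc_2_1 lc_c_rc_10_3 lc_c_rc_2_1 lc_c_rc_17_0 lc_c_rc_23_2 lc_c_rc_2_1) (@D3.rec (fun _ => (Cert rels S Gen.c)) lc_c_rc_2_1 lc_c_rc_21_2 lc_c_rc_19_2 lc_c_Cert_tree lc_c_rc_19_2 lc_c_rc_23_2 lc_c_rc_19_2 lc_c_rc_2_1 lc_c_rc_2_1 lc_c_rc_2_1 lc_c_rc_2_1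 lc_c_rc_21_2 lc_c_rc_19_2 lc_c_rc_17_0 lc_c_rc_23_2 lc_c_rc_20_2 lc_c_Cert_tree lc_c_rc_23_2) (@D3.rec (fun _ => (Cert rels S Gen.c)) lc_c_rc_21_2 lc_c_rc_21_0 lc_c_rc_19_2 lc_c_rc_17_0 lc_c_rc_18_2 lc_c_rc_23_2 lc_c_rc_23_2 lc_c_rc_21_2 lc_c_rc_19_2 lc_c_rc_20_2 lc_c_rc_22_2 lc_c_rc_21_2 lc_c_rc_20_2 lc_c_rc_2_1 lc_c_rc_21_2 lc_c_rc_23_2 lc_c_rc_10_3 lc_c_rc_23_2) (@D3.rec (fun _ => (Cert rels S Gen.c)) lc_c_rc_20_2 lc_c_rc_19_2 lc_c_rc_23_2 lc_c_rc_19_2 lc_c_rc_23_2 lc_c_rc_20_2 lc_c_rc_2_1 lc_c_rc_10_3 lc_c_rc_20_2 lc_c_rc_22_2 lc_c_rc_10_3 lc_c_rc_2_1 lc_c_rc_21_2 lc_c_rc_19_2 lc_c_rc_20_2 lc_c_rc_10_3 lc_c_rc_10_3 lc_c_rc_46_23)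
def ce_c_10 : D2 → D3 → (Cert rels S Gen.c) := @D2.rec (fun _ => D3 → (Cert rels S Gen.c)) (@D3.rec (fun _ => (Cert rels S Gen.c)) lc_c_rc_19_2 lc_c_rc_19_2 lc_c_rc_17_0 lc_c_rc_2_1 lc_c_rc_17_0 lc_c_rc_23_2 lc_c_rc_19_2 lc_c_rc_23_2 lc_c_rc_18_2 lc_c_rc_19_2 lc_c_rc_20_2 lc_c_rc_47_29 lc_c_rc_21_2 lc_c_rc_20_2 lc_c_rc_20_2 lc_c_rc_10_3 lc_c_Cert_tree lc_c_rc_10_3) (@D3.rec (fun _ => (Cert rels S Gen.c)) lc_c_rc_10_3 lc_c_rc_21_0 lc_c_rc_21_0 lc_c_rc_18_2 lc_c_rc_19_2 lc_c_rc_17_0 lc_c_rc_19_2 lc_c_rc_23_2 lc_c_rc_2_1 lc_c_rc_2_1 lc_c_rc_2_1 lc_c_rc_2_1 lc_c_rc_23_2 lc_c_rc_19_2 lc_c_rc_23_2 lc_c_rc_18_2 lc_c_rc_21_2 lc_c_rc_21_0) (@D3.rec (fun _ => (Cert rels S Gen.c)) lc_c_rc_21_0 lc_c_rc_10_3 lc_c_rc_19_2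 lc_c_rc_23_2 lc_c_rc_21_2 lc_c_rc_23_2 lc_c_rc_20_2 lc_c_rc_21_2 lc_c_rc_19_2 lc_c_rc_20_2 lc_c_rc_22_2 lc_c_rc_21_2 lc_c_rc_20_2 lc_c_rc_22_2 lc_c_rc_21_2 lc_c_rc_2_1 lc_c_rc_10_3 lc_c_rc_21_2) (@D3.rec (fun _ => (Cert rels S Gen.c)) lc_c_rc_2_1 lc_c_rc_23_2 lc_c_rc_10_3 lc_c_rc_23_2 lc_c_rc_20_2 lc_c_rc_19_2 lc_c_rc_23_2 lc_c_rc_19_2 lc_c_rc_19_2 lc_c_rc_17_0 lc_c_rc_23_2 lc_c_rc_19_2 lc_c_rc_10_3 lc_c_rc_23_2 lc_c_rc_20_2 lc_c_rc_20_2 lc_c_rc_21_2 lc_c_rc_10_3) (@D3.rec (fun _ => (Cert rels S Gen.c)) lc_c_rc_20_2 lc_c_rc_46_37 lc_c_rc_10_3 lc_c_Cert_tree lc_c_rc_2_1 lc_c_rc_21_2 lc_c_Cert_tree lc_c_rc_19_2 lc_c_rc_17_0 lc_c_rc_19_2 lc_c_rc_23_2 lc_c_rc_2_1 lc_c_rc_21_2 lc_c_rc_17_0 lc_c_rc_23_2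 lc_c_rc_23_2 lc_c_rc_20_2 lc_c_rc_17_0) (@D3.rec (fun _ => (Cert rels S Gen.c)) lc_c_rc_23_2 lc_c_rc_10_3 lc_c_rc_21_2 lc_c_rc_17_0 lc_c_rc_23_2 lc_c_rc_10_3 lc_c_rc_19_2 lc_c_rc_23_2 lc_c_rc_21_2 lc_c_rc_23_2 lc_c_rc_20_2 lc_c_rc_22_2 lc_c_rc_21_2 lc_c_rc_22_2 lc_c_rc_23_2 lc_c_rc_20_2 lc_c_rc_2_1 lc_c_rc_10_3) (@D3.rec (fun _ => (Cert rels S Gen.c)) lc_c_rc_20_2 lc_c_rc_2_1 lc_c_rc_10_3 lc_c_rc_23_2 lc_c_rc_23_2 lc_c_rc_23_2 lc_c_rc_19_2 lc_c_rc_23_2 lc_c_rc_23_2 lc_c_rc_20_2 lc_c_rc_19_2 lc_c_rc_23_2 lc_c_rc_20_2 lc_c_rc_10_3 lc_c_rc_10_3 lc_c_rc_19_2 lc_c_rc_23_2 lc_c_rc_21_2) (@D3.rec (fun _ => (Cert rels S Gen.c)) lc_c_rc_23_2 lc_c_rc_20_2 lc_c_rc_46_30 lc_c_rc_23_2 lc_c_rc_17_1 lc_c_rc_2_1 lc_c_rc_10_3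 lc_c_rc_10_3 lc_c_rc_21_2 lc_c_rc_23_2 lc_c_rc_20_2 lc_c_rc_23_2 lc_c_rc_20_2 lc_c_rc_21_2 lc_c_rc_22_2 lc_c_rc_2_1 lc_c_rc_10_3 lc_c_rc_20_2) (@D3.rec (fun _ => (Cert rels S Gen.c)) lc_c_rc_10_3 lc_c_rc_20_2 lc_c_rc_21_2 lc_c_rc_20_2 lc_c_rc_21_2 lc_c_rc_19_2 lc_c_rc_20_2 lc_c_rc_23_2 lc_c_rc_20_2 lc_c_rc_20_2 lc_c_rc_21_2 lc_c_rc_17_0 lc_c_rc_21_2 lc_c_rc_23_2 lc_c_rc_2_1 lc_c_rc_2_1 lc_c_rc_2_1 lc_c_rc_2_1) (@D3.rec (fun _ => (Cert rels S Gen.c)) lc_c_rc_23_2 lc_c_rc_21_2 lc_c_rc_19_2 lc_c_rc_20_2 lc_c_rc_22_2 lc_c_rc_21_2 lc_c_rc_20_2 lc_c_rc_10_3 lc_c_rc_23_2 lc_c_rc_20_2 lc_c_rc_10_3 lc_c_rc_23_2 lc_c_rc_20_2 lc_c_rc_46_30 lc_c_rc_10_3 lc_c_rc_20_2 lc_c_Cert_tree lc_c_rc_23_2) (@D3.rec (fun _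 => (Cert rels S Gen.c)) lc_c_rc_17_0 lc_c_rc_19_2 lc_c_rc_23_2 lc_c_rc_19_2 lc_c_rc_20_2 lc_c_rc_23_2 lc_c_rc_20_2 lc_c_rc_2_1 lc_c_Cert_tree lc_c_rc_2_1 lc_c_rc_2_1 lc_c_rc_19_2 lc_c_rc_23_2 lc_c_rc_23_2 lc_c_rc_20_2 lc_c_rc_2_1 lc_c_Cert_tree lc_c_rc_2_1) (@D3.rec (fun _ => (Cert rels S Gen.c)) lc_c_rc_21_2 lc_c_rc_18_2 lc_c_rc_19_2 lc_c_rc_17_0 lc_c_rc_21_0 lc_c_rc_23_2 lc_c_rc_2_1 lc_c_rc_23_2 lc_c_rc_2_1 lc_c_rc_2_1 lc_c_rc_2_1 lc_c_rc_21_2 lc_c_rc_23_2 lc_c_rc_20_2 lc_c_rc_22_2 lc_c_rc_23_2 lc_c_rc_17_0 lc_c_rc_20_2) (@D3.rec (fun _ => (Cert rels S Gen.c)) lc_c_rc_23_2 lc_c_rc_18_4 lc_c_rc_21_2 lc_c_rc_23_2 lc_c_rc_10_3 lc_c_rc_23_2 lc_c_rc_18_2 lc_c_rc_21_0 lc_c_rc_20_2 lc_c_rc_19_0 lc_c_rc_21_0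 lc_c_rc_21_2 lc_c_rc_20_2 lc_c_rc_22_2 lc_c_rc_21_2 lc_c_rc_23_2 lc_c_rc_20_2 lc_c_rc_2_1) (@D3.rec (fun _ => (Cert rels S Gen.c)) lc_c_rc_10_3 lc_c_rc_20_2 lc_c_rc_23_2 lc_c_rc_20_2 lc_c_rc_21_2 lc_c_rc_20_2 lc_c_rc_2_1 lc_c_rc_10_3 lc_c_rc_23_2 lc_c_rc_2_1 lc_c_rc_21_2 lc_c_rc_20_2 lc_c_rc_19_2 lc_c_rc_10_3 lc_c_rc_19_2 lc_c_rc_23_2 lc_c_rc_19_2 lc_c_rc_20_2) (@D3.rec (fun _ => (Cert rels S Gen.c)) lc_c_rc_17_0 lc_c_rc_23_2 lc_c_rc_17_0 lc_c_rc_23_2 lc_c_rc_2_3 lc_c_rc_21_2 lc_c_rc_20_2 lc_c_rc_2_1 lc_c_rc_21_2 lc_c_rc_46_44 lc_c_rc_21_0 lc_c_rc_22_2 lc_c_rc_10_3 lc_c_rc_17_0 lc_c_rc_23_2 lc_c_rc_21_0 lc_c_rc_21_0 lc_c_rc_19_2)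
def ce_c_11 : D2 → D3 → (Cert rels S Gen.c) := @D2.rec (fun _ => D3 → (Cert rels S Gen.c)) (@D3.rec (fun _ => (Cert rels S Gen.c)) lc_c_rc_23_2 lc_c_rc_19_2 lc_c_rc_23_2 lc_c_rc_23_2 lc_c_rc_20_2 lc_c_rc_2_1 lc_c_rc_2_1 lc_c_rc_2_1 lc_c_rc_2_1 lc_c_rc_19_2 lc_c_rc_23_2 lc_c_rc_2_3 lc_c_rc_19_2 lc_c_rc_17_0 lc_c_rc_19_2 lc_c_rc_23_2 lc_c_rc_21_0 lc_c_rc_2_1) (@D3.rec (fun _ => (Cert rels S Gen.c)) lc_c_rc_21_0 lc_c_rc_10_3 lc_c_rc_21_2 lc_c_rc_23_2 lc_c_rc_20_2 lc_c_rc_22_2 lc_c_rc_23_2 lc_c_rc_20_2 lc_c_rc_22_2 lc_c_rc_21_2 lc_c_rc_20_2 lc_c_rc_22_2 lc_c_rc_21_2 lc_c_Cert_tree lc_c_rc_22_2 lc_c_rc_2_1 lc_c_rc_20_2 lc_c_rc_10_3) (@D3.rec (fun _ => (Cert rels S Gen.c)) lc_c_rc_20_2 lc_c_rc_19_2 lc_c_rc_23_2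 lc_c_rc_10_3 lc_c_rc_23_2 lc_c_rc_20_2 lc_c_rc_20_2 lc_c_rc_10_3 lc_c_rc_20_2 lc_c_rc_23_2 lc_c_rc_10_3 lc_c_rc_23_2 lc_c_rc_17_0 lc_c_rc_23_2 lc_c_rc_19_2 lc_c_rc_21_2 lc_c_rc_17_0 lc_c_rc_23_2) (@D3.rec (fun _ => (Cert rels S Gen.c)) lc_c_rc_19_2 lc_c_rc_23_2 lc_c_rc_23_2 lc_c_rc_20_2 lc_c_rc_23_2 lc_c_rc_20_2 lc_c_rc_20_2 lc_c_rc_10_3 lc_c_rc_23_2 lc_c_rc_20_2 lc_c_rc_19_2 lc_c_rc_18_2 lc_c_rc_23_2 lc_c_rc_20_2 lc_c_rc_2_1 lc_c_rc_10_3 lc_c_rc_10_3 lc_c_rc_21_2) (@D3.rec (fun _ => (Cert rels S Gen.c)) lc_c_rc_23_2 lc_c_rc_20_2 lc_c_rc_22_2 lc_c_rc_23_2 lc_c_rc_20_2 lc_c_rc_22_2 lc_c_rc_20_2 lc_c_rc_2_1 lc_c_rc_10_3 lc_c_rc_18_2 lc_c_rc_2_1 lc_c_rc_47_50 lc_c_rc_45_28 lc_c_rc_20_2 lc_c_rc_23_2 lc_c_rc_20_2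 lc_c_rc_20_2 lc_c_rc_19_2) (@D3.rec (fun _ => (Cert rels S Gen.c)) lc_c_rc_20_2 lc_c_rc_20_2 lc_c_rc_17_1 lc_c_rc_10_3 lc_c_rc_21_2 lc_c_rc_23_2 lc_c_rc_20_2 lc_c_rc_23_2 lc_c_rc_20_2 lc_c_rc_23_2 lc_c_rc_46_9 lc_c_rc_2_1 lc_c_rc_20_0 lc_c_rc_10_3 lc_c_rc_10_3 lc_c_rc_23_2 lc_c_rc_20_2 lc_c_rc_20_2) (@D3.rec (fun _ => (Cert rels S Gen.c)) lc_c_rc_2_1 lc_c_rc_10_3 lc_c_rc_21_2 lc_c_rc_21_2 lc_c_rc_20_2 lc_c_rc_20_2 lc_c_rc_18_2 lc_c_rc_23_2 lc_c_rc_23_2 lc_c_rc_20_2 lc_c_rc_2_1 lc_c_rc_2_1 lc_c_rc_2_1 lc_c_rc_19_2 lc_c_rc_21_2 lc_c_rc_20_2 lc_c_rc_22_2 lc_c_rc_21_2) (@D3.rec (fun _ => (Cert rels S Gen.c)) lc_c_Cert_tree lc_c_rc_10_3 lc_c_rc_20_2 lc_c_rc_23_2 lc_c_rc_20_2 lc_c_rc_2_1 lc_c_rc_10_3 lc_c_rc_18_2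 lc_c_rc_17_0 lc_c_rc_19_2 lc_c_rc_23_2 lc_c_rc_19_2 lc_c_rc_23_2 lc_c_rc_23_2 lc_c_rc_20_2 lc_c_rc_20_2 lc_c_rc_20_2 lc_c_rc_21_0) (@D3.rec (fun _ => (Cert rels S Gen.c)) lc_c_rc_2_1 lc_c_rc_17_0 lc_c_rc_17_0 lc_c_rc_23_2 lc_c_rc_21_0 lc_c_rc_19_0 lc_c_rc_20_2 lc_c_rc_20_2 lc_c_rc_2_1 lc_c_rc_17_0 lc_c_rc_2_1 lc_c_rc_23_2 lc_c_rc_18_2 lc_c_rc_21_2 lc_c_rc_21_0 lc_c_rc_23_2 lc_c_rc_18_2 lc_c_rc_23_2) (@D3.rec (fun _ => (Cert rels S Gen.c)) lc_c_rc_20_2 lc_c_rc_23_2 lc_c_rc_19_2 lc_c_rc_2_1 lc_c_rc_20_2 lc_c_rc_2_3 lc_c_rc_46_30 lc_c_rc_23_2 lc_c_rc_22_2 lc_c_rc_21_0 lc_c_rc_20_2 lc_c_rc_19_2 lc_c_rc_23_2 lc_c_rc_2_3 lc_c_rc_2_1 lc_c_rc_10_3 lc_c_rc_20_2 lc_c_rc_19_0) (@D3.rec (fun _ => (Cert rels S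 Gen.c)) lc_c_rc_19_2 lc_c_rc_21_0 lc_c_rc_23_2 lc_c_rc_21_2 lc_c_Cert_tree lc_c_rc_22_2 lc_c_rc_10_3 lc_c_rc_2_1 lc_c_rc_10_3 lc_c_rc_18_2 lc_c_rc_20_2 lc_c_rc_18_4 lc_c_rc_2_1 lc_c_rc_2_3 lc_c_rc_21_2 lc_c_rc_18_2 lc_c_rc_21_2 lc_c_rc_23_2) (@D3.rec (fun _ => (Cert rels S Gen.c)) lc_c_rc_10_5 lc_c_rc_20_2 lc_c_rc_23_2 lc_c_rc_17_0 lc_c_rc_23_2 lc_c_rc_10_5 lc_c_rc_21_2 lc_c_Cert_tree lc_c_rc_47_8 lc_c_rc_23_2 lc_c_rc_45_55 lc_c_rc_23_2 lc_c_rc_20_2 lc_c_rc_23_2 lc_c_rc_21_0 lc_c_rc_19_0 lc_c_rc_23_2 lc_c_rc_47_43) (@D3.rec (fun _ => (Cert rels S Gen.c)) lc_c_rc_23_2 lc_c_rc_20_2 lc_c_rc_20_2 lc_c_rc_2_1 lc_c_rc_2_1 lc_c_Cert_tree lc_c_rc_20_2 lc_c_rc_23_2 lc_c_rc_19_2 lc_c_rc_19_2 lc_c_rc_20_2 lc_c_rc_20_2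 lc_c_rc_23_2 lc_c_rc_19_2 lc_c_rc_2_1 lc_c_rc_20_2 lc_c_rc_23_2 lc_c_rc_10_3) (@D3.rec (fun _ => (Cert rels S Gen.c)) lc_c_rc_22_2 lc_c_rc_23_2 lc_c_rc_20_2 lc_c_rc_23_2 lc_c_rc_20_2 lc_c_Cert_tree lc_c_rc_22_2 lc_c_rc_21_2 lc_c_Cert_tree lc_c_rc_22_2 lc_c_Cert_tree lc_c_rc_17_0 lc_c_rc_10_3 lc_c_rc_18_2 lc_c_rc_20_2 lc_c_rc_10_3 lc_c_rc_18_2 lc_c_rc_20_2) (@D3.rec (fun _ => (Cert rels S Gen.c)) lc_c_rc_10_3 lc_c_rc_18_2 lc_c_rc_20_2 lc_c_rc_47_22 lc_c_rc_23_2 lc_c_rc_20_2 lc_c_rc_19_2 lc_c_rc_23_2 lc_c_rc_20_2 lc_c_rc_23_2 lc_c_rc_20_2 lc_c_rc_20_2 lc_c_rc_20_2 lc_c_rc_18_2 lc_c_rc_10_3 lc_c_rc_20_2 lc_c_rc_19_2 lc_c_rc_20_2)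
def ce_c_12 : D2 → D3 → (Cert rels S Gen.c) := @D2.rec (fun _ => D3 → (Cert rels S Gen.c)) (@D3.rec (fun _ => (Cert rels S Gen.c)) lc_c_rc_20_2 lc_c_rc_2_1 lc_c_rc_10_3 lc_c_rc_10_3 lc_c_rc_23_2 lc_c_rc_20_2 lc_c_rc_18_2 lc_c_rc_22_2 lc_c_rc_20_2 lc_c_rc_17_1 lc_c_rc_2_1 lc_c_rc_17_1 lc_c_rc_19_2 lc_c_rc_20_2 lc_c_rc_20_2 lc_c_rc_23_2 lc_c_rc_23_2 lc_c_rc_10_3) (@D3.rec (fun _ => (Cert rels S Gen.c)) lc_c_rc_23_2 lc_c_rc_20_2 lc_c_rc_20_2 lc_c_rc_17_1 lc_c_rc_2_1 lc_c_rc_21_2 lc_c_rc_10_3 lc_c_rc_20_2 lc_c_rc_18_2 lc_c_rc_21_2 lc_c_Cert_tree lc_c_rc_18_2 lc_c_rc_20_2 lc_c_rc_45_37 lc_c_rc_2_1 lc_c_rc_18_2 lc_c_rc_21_2 lc_c_rc_22_2) (@D3.rec (fun _ => (Cert rels S Gen.c)) lc_c_Cert_tree lc_c_rc_17_0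 lc_c_rc_10_3 lc_c_rc_19_0 lc_c_rc_18_2 lc_c_rc_10_1 lc_c_rc_18_4 lc_c_rc_19_2 lc_c_rc_23_2 lc_c_rc_23_2 lc_c_rc_20_2 lc_c_rc_23_2 lc_c_rc_20_2 lc_c_rc_20_2 lc_c_Cert_tree lc_c_rc_18_2 lc_c_rc_23_2 lc_c_rc_23_2) (@D3.rec (fun _ => (Cert rels S Gen.c)) lc_c_rc_23_2 lc_c_rc_20_2 lc_c_rc_18_0 lc_c_rc_21_0 lc_c_rc_23_2 lc_c_rc_23_2 lc_c_rc_20_2 lc_c_rc_19_0 lc_c_rc_21_0 lc_c_rc_20_2 lc_c_rc_23_2 lc_c_rc_2_1 lc_c_rc_10_1 lc_c_rc_46_51 lc_c_rc_18_2 lc_c_rc_2_3 lc_c_rc_23_2 lc_c_rc_20_2) (@D3.rec (fun _ => (Cert rels S Gen.c)) lc_c_rc_22_2 lc_c_rc_23_2 lc_c_rc_21_0 lc_c_rc_2_3 lc_c_rc_2_1 lc_c_rc_10_3 lc_c_rc_18_2 lc_c_rc_19_0 lc_c_rc_20_2 lc_c_Cert_tree lc_c_rc_20_2 lc_c_Cert_tree lc_c_rc_17_0 lc_c_rc_2_1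 lc_c_rc_18_2 lc_c_rc_19_2 lc_c_rc_18_2 lc_c_rc_21_2) (@D3.rec (fun _ => (Cert rels S Gen.c)) lc_c_rc_2_1 lc_c_rc_45_28 lc_c_rc_17_0 lc_c_rc_45_28 lc_c_Cert_tree lc_c_rc_22_0 lc_c_rc_17_0 lc_c_rc_2_1 lc_c_rc_45_37 lc_c_rc_20_2 lc_c_rc_19_2 lc_c_rc_23_2 lc_c_rc_19_2 lc_c_rc_20_2 lc_c_Cert_tree lc_c_rc_2_1 lc_c_rc_19_2 lc_c_rc_17_0) (@D3.rec (fun _ => (Cert rels S Gen.c)) lc_c_rc_21_2 lc_c_rc_19_2 lc_c_Cert_tree lc_c_rc_20_2 lc_c_rc_17_0 lc_c_rc_17_1 lc_c_Cert_tree lc_c_rc_2_1 lc_c_rc_23_2 lc_c_rc_10_3 lc_c_rc_23_2 lc_c_rc_20_2 lc_c_Cert_tree lc_c_rc_20_2 lc_c_Cert_tree lc_c_rc_17_0 lc_c_rc_22_2 lc_c_Cert_tree) (@D3.rec (fun _ => (Cert rels S Gen.c)) lc_c_rc_17_0 lc_c_rc_17_0 lc_c_rc_10_3 lc_c_rc_19_2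 lc_c_rc_20_2 lc_c_rc_18_2 lc_c_rc_45_64 lc_c_rc_20_2 lc_c_rc_20_2 lc_c_rc_20_2 lc_c_rc_20_2 lc_c_rc_18_2 lc_c_rc_10_3 lc_c_rc_18_2 lc_c_rc_20_2 lc_c_rc_46_23 lc_c_rc_2_1 lc_c_rc_10_3) (@D3.rec (fun _ => (Cert rels S Gen.c)) lc_c_rc_18_2 lc_c_rc_20_2 lc_c_rc_17_1 lc_c_rc_20_2 lc_c_rc_22_2 lc_c_rc_18_2 lc_c_rc_2_1 lc_c_rc_20_2 lc_c_rc_20_2 lc_c_rc_18_2 lc_c_rc_21_2 lc_c_Cert_tree lc_c_rc_18_2 lc_c_rc_45_55 lc_c_rc_17_0 lc_c_rc_18_2 lc_c_rc_18_2 lc_c_rc_18_2) (@D3.rec (fun _ => (Cert rels S Gen.c)) lc_c_rc_20_0 lc_c_rc_17_0 lc_c_rc_20_0 lc_c_rc_20_2 lc_c_rc_10_3 lc_c_rc_20_2 lc_c_rc_18_2 lc_c_Cert_tree lc_c_rc_17_0 lc_c_rc_19_2 lc_c_rc_10_3 lc_c_rc_20_2 lc_c_rc_10_3 lc_c_rc_17_0 lc_c_rc_23_2 lc_c_rc_20_2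 lc_c_rc_2_1 lc_c_rc_20_2) (@D3.rec (fun _ => (Cert rels S Gen.c)) lc_c_rc_18_2 lc_c_rc_45_64 lc_c_rc_18_2 lc_c_rc_18_2 lc_c_rc_10_3 lc_c_rc_18_2 lc_c_rc_22_2 lc_c_Cert_tree lc_c_rc_21_0 lc_c_rc_2_1 lc_c_rc_18_2 lc_c_rc_19_2 lc_c_rc_20_2 lc_c_rc_18_4 lc_c_rc_17_0 lc_c_rc_22_2 lc_c_rc_17_0 lc_c_rc_10_3) (@D3.rec (fun _ => (Cert rels S Gen.c)) lc_c_rc_21_2 lc_c_rc_45_37 lc_c_rc_45_64 lc_c_rc_10_1 lc_c_rc_17_0 lc_c_rc_17_1 lc_c_Cert_tree lc_c_rc_19_0 lc_c_rc_20_2 lc_c_Cert_tree lc_c_rc_17_0 lc_c_rc_21_2 lc_c_Cert_tree lc_c_rc_17_0 lc_c_rc_18_2 lc_c_rc_20_2 lc_c_Cert_tree lc_c_rc_17_0) (@D3.rec (fun _ => (Cert rels S Gen.c)) lc_c_rc_17_0 lc_c_rc_17_1 lc_c_rc_20_2 lc_c_rc_21_2 lc_c_rc_17_0 lc_c_rc_17_0 lc_c_rc_10_3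 lc_c_rc_17_0 lc_c_rc_46_23 lc_c_rc_18_2 lc_c_rc_18_2 lc_c_rc_18_2 lc_c_rc_18_2 lc_c_rc_18_2 lc_c_rc_45_55 lc_c_rc_18_2 lc_c_Cert_tree lc_c_rc_18_2) (@D3.rec (fun _ => (Cert rels S Gen.c)) lc_c_rc_45_46 lc_c_rc_17_0 lc_c_rc_18_2 lc_c_Cert_tree lc_c_Cert_tree lc_c_rc_19_2 lc_c_rc_17_0 lc_c_rc_21_2 lc_c_rc_18_2 lc_c_rc_18_2 lc_c_rc_18_2 lc_c_rc_20_0 lc_c_rc_19_0 lc_c_rc_18_2 lc_c_rc_19_2 lc_c_rc_45_46 lc_c_rc_17_0 lc_c_rc_45_37) (@D3.rec (fun _ => (Cert rels S Gen.c)) lc_c_rc_20_0 lc_c_rc_10_1 lc_c_rc_21_2 lc_c_rc_10_3 lc_c_rc_17_0 lc_c_rc_17_0 lc_c_rc_17_0 lc_c_rc_21_0 lc_c_rc_17_0 lc_c_rc_46_37 lc_c_rc_18_2 lc_c_rc_23_0 lc_c_rc_17_0 lc_c_rc_19_2 lc_c_rc_17_0 lc_c_rc_17_0 lc_c_rc_20_0 lc_c_rc_21_2)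
def ce_c : Pt → (Cert rels S Gen.c) := @Pt.rec (fun _ => (Cert rels S Gen.c)) (@D1.rec (fun _ => D2 → D3 → (Cert rels S Gen.c)) ce_c_0 ce_c_1 ce_c_2 ce_c_3 ce_c_4 ce_c_5 ce_c_6 ce_c_7 ce_c_8 ce_c_9 ce_c_10 ce_c_11 ce_c_12)

end

end Cfsg.Agent.Helper28.S1687
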