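import Cfsg.Agent.Lib.Helper28.S1687.Tree

set_option autoImplicit false
set_option maxRecDepth 100000

namespace Cfsg.Agent.Helper28.S1687

open Cfsg.Agent.Helper28
open Cfsg.Spor.Fi22 (Gen)

noncomputable section

def lv_d_0 : D2 → D3 → Nat := @D2.rec (fun _ => D3 → Nat) (@D3.rec (fun _ => Nat) 1 2 3 0 0 1 0 1 4 4 1 5 5 5 0 5 4 6) (@D3.rec (fun _ => Nat) 6 6 0 6 6 0 1 2 0 0 7 0 7 7 0 1 2 0) (@D3.rec (fun _ => Nat) 1 2 6 2 1 2 6 1 2 8 0 1 2 0 1 2 7 2) (@D3.rec (fun _ => Nat) 1 2 7 7 2 7 7 7 2 3 7 7 2 0 1 2 2 1) (@D3.rec (fun _ => Nat) 2 8 8 2 8 8 8 8 2 8 0 8 8 8 8 0 9 3) (@D3.rec (fun _ => Nat) 8 8 9 1 2 9 2 9 9 9 2 0 9 9 9 0 9 0) (@D3.rec (fun _ => Nat) 9 9 9 9 0 9 1 2 0 0 0 1 10 9 10 2 10 10) (@D3.rec (fun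 _ => Nat) 0 10 10 10 10 1 2 0 0 1 0 10 1 2 2 0 10 0) (@D3.rec (fun _ => Nat) 1 2 0 9 2 0 1 1 1 9 11 11 11 11 0 1 2 2) (@D3.rec (fun _ => Nat) 0 11 0 10 2 0 1 1 10 1 2 2 0 2 10 2 3 0) (@D3.rec (fun _ => Nat) 1 0 1 10 10 2 0 1 10 0 1 4 5 10 10 10 12 0) (@D3.rec (fun _ => Nat) 1 2 11 2 3 0 1 0 1 11 0 1 4 5 11 11 2 11) (@D3.rec (fun _ => Nat) 2 3 0 1 11 11 3 11 0 0 1 4 1 5 0 11 11 0) (@D3.rec (fun _ => Nat) 1 11 4 0 1 5 4 5 6 0 11 11 0 1 12 12 12 3) (@D3.rec (fun _ => Nat) 12 0 0 1 4 1 5 0 1 5 4 5 6 12 12 0 12 12)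
def lv_d_1 : D2 → D3 → Nat := @D2.rec (fun _ => D3 → Nat) (@D3.rec (fun _ => Nat) 12 3 12 0 0 1 12 4 0 12 12 0 0 1 1 5 4 5) (@D3.rec (fun _ => Nat) 6 12 6 1 2 0 0 1 12 4 0 5 1 11 11 6 11 5) (@D3.rec (fun _ => Nat) 6 7 1 2 12 1 13 13 0 13 13 0 0 1 1 5 4 5) (@D3.rec (fun _ => Nat) 6 13 6 1 12 12 6 12 5 6 7 0 0 13 1 2 0 0) (@D3.rec (fun _ => Nat) 13 13 0 0 1 1 13 4 0 5 1 2 0 0 1 1 12 12) (@D3.rec (fun _ => Nat) 6 13 6 12 5 6 7 0 7 12 2 0 1 1 4 12 13 0) (@D3.rec (fun _ => Nat) 5 1 2 6 12 12 12 0 12 7 12 12 6 2 12 3 14 14) (@D3.rec (fun _ => Nat) 14 14 1 2 0 0 1 1 13 13 6 14 6 13 5 6 7 0) (@D3.rec (fun _ => Nat) 7 13 13 13 0 13 7 13 13 6 1 11 2 1 2 0 13 2) (@D3.rec (fun _ => Nat) 0 1 1 2 0 0 1 1 4 13 14 14 14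 0 5 1 2 6) (@D3.rec (fun _ => Nat) 13 2 0 1 1 13 4 13 13 13 0 13 7 0 14 7 13 13) (@D3.rec (fun _ => Nat) 6 8 0 1 13 13 0 1 4 13 5 13 5 0 13 14 0 1) (@D3.rec (fun _ => Nat) 2 6 2 13 3 13 0 13 13 0 1 2 13 13 13 13 3 15) (@D3.rec (fun _ => Nat) 0 15 14 2 0 1 1 14 4 14 14 14 0 14 7 0 15 7) (@D3.rec (fun _ => Nat) 14 14 6 8 0 1 14 0 14 14 18 1 17 14 14 14 14 2)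
def lv_d_2 : D2 → D3 → Nat := @D2.rec (fun _ => D3 → Nat) (@D3.rec (fun _ => Nat) 12 0 2 0 1 14 0 1 4 14 2 0 1 1 5 4 5 14) (@D3.rec (fun _ => Nat) 5 0 14 15 0 15 15 0 1 2 6 2 14 3 14 0 1 14) (@D3.rec (fun _ => Nat) 4 14 5 14 0 5 14 0 14 14 0 1 2 14 8 0 1 2) (@D3.rec (fun _ => Nat) 15 14 14 14 0 1 14 1 5 14 5 0 14 6 0 14 6 0) (@D3.rec (fun _ => Nat) 1 2 14 0 1 2 2 6 3 3 14 0 1 21 14 20 1 20) (@D3.rec (fun _ => Nat) 2 3 14 14 16 0 1 15 15 0 1 15 4 15 5 15 0 5) (@D3.rec (fun _ => Nat) 15 0 15 15 0 1 2 15 8 0 1 2 16 15 15 15 0 1) (@D3.rec (fun _ => Nat) 15 15 17 1 17 15 22 18 15 15 0 0 1 0 1 5 4 1) (@D3.rec (fun _ => Nat) 5 15 5 0 15 0 1 6 4 7 5 6 0 5 6 0 15 6) (@D3.rec (fun _ => Nat) 0 1 2 15 16 0 1 2 16 0 1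 2 2 6 3 16 3 15) (@D3.rec (fun _ => Nat) 15 22 1 15 5 15 0 5 15 0 6 15 0 1 2 6 15 0) (@D3.rec (fun _ => Nat) 1 2 15 0 1 2 2 3 0 1 2 2 7 3 15 15 1 16) (@D3.rec (fun _ => Nat) 15 15 14 6 0 6 0 1 2 7 0 1 2 15 0 1 2 2) (@D3.rec (fun _ => Nat) 6 3 1 2 2 7 3 3 19 1 21 23 9 20 3 15 21 1) (@D3.rec (fun _ => Nat) 16 1 16 5 16 0 5 16 0 6 16 0 1 2 6 16 18 1)
def lv_d_3 : D2 → D3 → Nat := @D2.rec (fun _ => D3 → Nat) (@D3.rec (fun _ => Nat) 2 16 22 1 23 2 19 0 1 2 2 7 3 16 16 1 16 1) (@D3.rec (fun _ => Nat) 1 6 4 1 7 5 6 0 5 15 6 0 16 6 0 1 2 16) (@D3.rec (fun _ => Nat) 1 8 5 7 0 5 8 0 6 7 0 1 2 6 7 0 1 2) (@D3.rec (fun _ => Nat) 16 0 1 2 2 6 3 0 1 2 2 7 3 1 2 2 7 3) (@D3.rec (fun _ => Nat) 7 3 7 7 17 0 15 16 0 6 16 0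 1 2 6 16 0 1) (@D3.rec (fun _ => Nat) 2 7 0 1 2 2 7 3 21 1 2 2 23 1 24 9 2 22) (@D3.rec (fun _ => Nat) 7 3 1 2 9 2 8 3 3 8 8 16 17 0 15 7 0 1) (@D3.rec (fun _ => Nat) 0 1 2 2 15 0 1 2 2 15 3 1 20 9 2 7 3 3) (@D3.rec (fun _ => Nat) 2 8 3 3 16 0 6 0 1 2 6 17 0 1 2 7 0 1) (@D3.rec (fun _ => Nat) 2 2 7 3 19 2 24 24 7 1 2 2 3 3 8 17 16 16) (@D3.rec (fun _ => Nat) 8 5 7 0 5 16 15 8 0 6 7 0 1 2 6 16 7 0) (@D3.rec (fun _ => Nat) 1 2 0 1 2 2 16 3 16 16 9 0 6 8 0 1 2 6) (@D3.rec (fun _ => Nat) 9 0 1 2 7 0 1 2 2 7 3 0 1 2 2 16 3 1) (@D3.rec (fun _ => Nat) 2 9 2 7 3 7 3 7 7 1 2 9 2 8 3 7 3 8) (@D3.rec (fun _ => Nat) 8 2 8 3 8 3 8 8 8 0 1 16 0 1 2 7 0 1)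
def lv_d_4 : D2 → D3 → Nat := @D2.rec (fun _ => D3 → Nat) (@D3.rec (fun _ => Nat) 2 2 16 3 0 1 2 2 16 3 1 2 10 2 8 3 7 3) (@D3.rec (fun _ => Nat) 8 8 21 10 2 23 9 10 10 8 8 10 2 3 10 0 3 9) (@D3.rec (fun _ => Nat) 9 9 1 16 0 1 1 2 15 2 16 16 16 1 21 2 16 3) (@D3.rec (fun _ => Nat) 8 15 3 3 17 1 2 7 1 2 2 17 3 0 1 2 2 17) (@D3.rec (fun _ => Nat) 3 1 2 2 23 7 3 8 2 3 3 9 17 0 17 9 0 6) (@D3.rec (fun _ => Nat) 8 0 1 2 6 17 0 9 0 1 2 0 1 2 2 17 3 17) (@D3.rec (fun _ => Nat) 0 1 2 2 1 2 16 2 17 3 7 3 17 17 0 17 0 1) (@D3.rec (fun _ => Nat) 2 7 0 1 2 2 17 3 0 1 2 2 17 3 1 2 10 2) (@D3.rec (fun _ => Nat) 8 3 7 3 8 8 1 2 10 2 17 3 9 3 17 17 10 2) (@D3.rec (fun _ => Nat) 8 22 10 16 8 3 8 8 8 0 10 2 9 3 10 0 8 3) (@D3.rec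 (fun _ => Nat) 9 9 8 0 9 9 9 3 9 26 9 0 1 9 17 1 2 2) (@D3.rec (fun _ => Nat) 3 1 2 11 2 17 3 16 3 17 17 1 2 11 2 17 3 8) (@D3.rec (fun _ => Nat) 3 17 17 11 2 29 11 0 8 3 9 8 16 9 9 0 11 3) (@D3.rec (fun _ => Nat) 11 0 1 10 26 11 1 16 16 2 17 17 18 2 3 20 2 18) (@D3.rec (fun _ => Nat) 3 17 3 18 1 2 26 3 18 2 17 9 3 18 0 1 2 18)
def lv_d_5 : D2 → D3 → Nat := @D2.rec (fun _ => D3 → Nat) (@D3.rec (fun _ => Nat) 0 1 2 0 1 2 2 6 3 18 0 1 0 1 2 2 6 1) (@D3.rec (fun _ => Nat) 2 17 2 18 3 7 3 18 18 1 2 17 2 9 17 2 18 3) (@D3.rec (fun _ => Nat) 17 27 8 3 18 18 8 0 18 18 1 2 18 1 2 2 6 3) (@D3.rec (fun _ => Nat) 1 2 11 2 18 3 17 3 18 18 1 2 11 2 18 3 8 3) (@D3.rec (fun _ => Nat) 18 18 11 2 9 3 11 0 8 3 9 9 8 0 9 9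 2 23) (@D3.rec (fun _ => Nat) 9 3 18 9 33 9 9 0 17 9 0 1 11 25 9 3 10 10) (@D3.rec (fun _ => Nat) 17 11 0 1 2 9 0 10 10 29 1 2 10 10 0 1 9 10) (@D3.rec (fun _ => Nat) 12 2 3 17 3 12 2 18 3 12 0 17 3 18 18 17 30 18) (@D3.rec (fun _ => Nat) 18 12 2 12 28 28 3 18 12 0 12 0 1 17 10 1 12 0) (@D3.rec (fun _ => Nat) 1 11 12 18 3 21 18 3 19 0 1 2 2 6 3 1 2 2) (@D3.rec (fun _ => Nat) 16 1 2 18 2 7 3 18 3 7 7 0 1 6 1 2 18 2) (@D3.rec (fun _ => Nat) 7 8 34 7 18 2 19 3 18 0 8 3 19 19 8 0 19 19) (@D3.rec (fun _ => Nat) 2 18 9 18 9 3 19 0 9 0 19 9 0 1 2 6 3 12) (@D3.rec (fun _ => Nat) 2 26 3 18 3 7 7 12 2 19 3 12 0 18 3 19 19 18) (@D3.rec (fun _ => Nat) 0 19 19 12 2 19 12 0 10 3 19 19 10 0 19 19 29 12)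
def lv_d_6 : D2 → D3 → Nat := @D2.rec (fun _ => D3 → Nat) (@D3.rec (fun _ => Nat) 27 9 3 10 10 0 12 0 1 2 9 0 10 10 37 34 1 2) (@D3.rec (fun _ => Nat) 10 11 23 11 36 0 1 0 1 18 18 12 25 27 10 0 11 11) (@D3.rec (fun _ => Nat) 18 0 0 1 2 19 2 31 1 2 11 35 19 2 1 18 10 11) (@D3.rec (fun _ => Nat) 13 18 3 13 13 31 18 3 19 0 13 0 1 19 13 28 13 33) (@D3.rec (fun _ => Nat) 1 0 0 1 18 18 1 18 12 1 2 19 2 7 3 19 3 7) (@D3.rec (fun _ => Nat) 7 19 2 17 19 17 17 19 2 8 3 19 0 19 3 8 8 19) (@D3.rec (fun _ => Nat) 0 8 8 1 19 7 7 19 2 8 19 0 10 38 8 32 32 19) (@D3.rec (fun _ => Nat) 19 0 9 3 20 20 0 19 0 1 2 9 0 20 20 9 0 1) (@D3.rec (fun _ => Nat) 2 20 11 0 0 10 0 1 10 1 1 19 19 3 7 7 13 26) (@D3.rec (fun _ => Nat) 19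 3 24 26 19 0 8 8 13 13 0 19 3 20 20 0 13 0) (@D3.rec (fun _ => Nat) 1 2 19 0 20 20 19 0 1 2 20 32 13 33 10 20 20 0) (@D3.rec (fun _ => Nat) 13 0 1 2 10 0 20 20 28 1 2 20 32 27 27 25 27 24) (@D3.rec (fun _ => Nat) 0 11 11 1 33 0 0 1 2 10 2 32 34 1 2 11 31 9) (@D3.rec (fun _ => Nat) 2 1 0 1 6 19 19 0 26 25 37 1 2 12 0 1 2 1) (@D3.rec (fun _ => Nat) 2 3 2 20 20 36 6 2 20 20 19 19 11 28 14 14 0 14)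
def lv_d_7 : D2 → D3 → Nat := @D2.rec (fun _ => D3 → Nat) (@D3.rec (fun _ => Nat) 31 1 1 19 0 1 1 3 19 19 19 19 20 2 8 3 20 0) (@D3.rec (fun _ => Nat) 20 3 8 8 20 0 8 8 20 0 20 18 18 0 18 20 20 0) (@D3.rec (fun _ => Nat) 20 3 9 9 0 20 0 1 2 20 0 9 9 20 0 1 2 9) (@D3.rec (fun _ => Nat) 20 8 0 8 20 20 0 10 32 9 0 0 1 2 31 37 32 20) (@D3.rec (fun _ => Nat) 29 0 20 0 1 2 10 0 21 21 1 2 0 0 1 2 10 2) (@D3.rec (fun _ => Nat) 10 0 1 2 21 27 1 2 9 2 1 1 1 34 33 20 20 20) (@D3.rec (fun _ => Nat) 0 8 8 0 14 30 28 20 0 25 26 0 1 2 9 14 32 0) (@D3.rec (fun _ => Nat) 14 0 1 2 20 0 21 21 1 2 0 0 1 2 11 2 20 0) (@D3.rec (fun _ => Nat) 1 2 21 31 1 2 9 2 30 28 32 33 26 21 1 30 0 0) (@D3.rec (fun _ => Nat) 1 2 2 26 1 2 21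 28 2 34 29 0 29 31 26 1 2 12) (@D3.rec (fun _ => Nat) 0 29 0 1 2 1 2 3 2 11 11 38 6 2 10 10 35 1) (@D3.rec (fun _ => Nat) 2 6 7 20 0 1 2 26 36 6 2 1 2 6 3 2 5 2) (@D3.rec (fun _ => Nat) 4 4 21 21 7 7 21 20 20 1 29 29 20 1 2 3 26 4) (@D3.rec (fun _ => Nat) 20 21 21 0 21 3 9 9 0 1 2 0 9 9 0 1 2 9) (@D3.rec (fun _ => Nat) 0 0 1 2 0 19 1 2 21 0 0 21 0 1 2 21 0 10)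
def lv_d_8 : D2 → D3 → Nat := @D2.rec (fun _ => D3 → Nat) (@D3.rec (fun _ => Nat) 10 1 2 0 0 1 2 11 2 21 0 1 2 10 0 1 2 9) (@D3.rec (fun _ => Nat) 2 21 0 9 1 2 21 29 34 0 1 2 35 35 1 0 1 2) (@D3.rec (fun _ => Nat) 30 2 37 0 21 31 31 1 34 0 0 1 2 2 35 1 2 22) (@D3.rec (fun _ => Nat) 2 0 36 0 1 2 1 2 3 2 11 11 10 27 1 2 6 2) (@D3.rec (fun _ => Nat) 29 10 2 10 10 33 32 33 21 21 0 1 2 9 1 35 0 26) (@D3.rec (fun _ => Nat) 26 0 1 2 27 1 2 30 2 27 31 34 1 28 0 28 1 2) (@D3.rec (fun _ => Nat) 2 21 0 1 2 22 2 0 30 0 1 2 1 2 3 2 12 12) (@D3.rec (fun _ => Nat) 31 1 2 6 2 31 2 10 10 10 0 32 37 0 0 1 2 1) (@D3.rec (fun _ => Nat) 2 3 2 28 6 2 1 2 27 36 6 2 1 2 1 2 6 3) (@D3.rec (fun _ => Nat) 2 5 2 4 4 12 12 7 7 11 11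 37 11 2 7 8 1 2) (@D3.rec (fun _ => Nat) 6 2 7 7 5 2 7 12 7 4 4 22 6 6 5 22 8 21) (@D3.rec (fun _ => Nat) 29 29 14 2 4 28 0 0 1 2 0 10 10 1 2 21 2 1) (@D3.rec (fun _ => Nat) 2 10 1 2 21 2 1 0 1 2 2 1 2 2 27 22 0 1) (@D3.rec (fun _ => Nat) 2 1 2 0 31 1 2 28 2 22 32 1 2 11 2 0 36 0) (@D3.rec (fun _ => Nat) 1 2 1 2 3 2 12 12 10 0 1 2 6 2 1 2 10 2)
def lv_d_9 : D2 → D3 → Nat := @D2.rec (fun _ => D3 → Nat) (@D3.rec (fun _ => Nat) 10 10 10 0 1 2 21 2 29 27 29 0 1 2 2 37 0 1) (@D3.rec (fun _ => Nat) 2 3 2 30 30 10 1 32 0 31 31 0 0 1 2 1 2 3) (@D3.rec (fun _ => Nat) 2 11 31 6 2 1 2 0 1 2 6 3 2 5 2 4 4 11) (@D3.rec (fun _ => Nat) 12 12 29 27 2 7 7 11 11 11 11 38 33 1 2 21 2 0) (@D3.rec (fun _ => Nat) 0 1 2 30 1 2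 6 2 2 32 32 10 0 33 0 30 0 1) (@D3.rec (fun _ => Nat) 2 30 3 2 33 1 2 6 2 1 2 0 1 2 6 3 2 2) (@D3.rec (fun _ => Nat) 4 4 13 13 33 7 2 7 7 11 11 11 11 39 1 2 1 2) (@D3.rec (fun _ => Nat) 1 2 6 3 2 2 4 7 6 2 7 7 11 14 2 5 2 7) (@D3.rec (fun _ => Nat) 12 7 4 4 12 6 6 36 5 13 8 12 37 12 12 8 2 7) (@D3.rec (fun _ => Nat) 7 23 8 6 6 23 13 8 13 13 38 5 27 7 15 15 1 2) (@D3.rec (fun _ => Nat) 1 2 22 2 1 2 11 31 2 22 22 23 33 2 22 2 22 22) (@D3.rec (fun _ => Nat) 23 0 1 2 3 2 10 6 2 10 34 0 33 1 2 26 2 2) (@D3.rec (fun _ => Nat) 0 36 0 1 2 34 3 2 28 30 30 35 32 6 2 0 1 2) (@D3.rec (fun _ => Nat) 0 1 2 6 3 2 2 4 4 11 13 13 31 1 2 2 7 7) (@D3.rec (fun _ => Nat) 11 22 2 11 11 38 11 11 39 1 2 2 22 22 22 0 29 1)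
def lv_d_10 : D2 → D3 → Nat := @D2.rec (fun _ => D3 → Nat) (@D3.rec (fun _ => Nat) 2 3 2 11 1 2 3 2 4 4 11 32 32 31 0 0 1 2) (@D3.rec (fun _ => Nat) 33 1 2 1 2 6 3 2 5 2 4 12 7 21 2 1 2 5) (@D3.rec (fun _ => Nat) 2 7 22 7 4 4 12 6 6 39 5 5 0 13 31 8 8 12) (@D3.rec (fun _ => Nat) 12 2 22 22 22 1 2 1 2 6 2 2 7 7 11 11 34 32) (@D3.rec (fun _ => Nat) 37 1 2 1 2 0 1 2 6 3 2 4 35 7 2 7 29 21) (@D3.rec (fun _ => Nat) 2 1 2 7 2 7 22 7 4 4 12 5 5 14 8 12 8 8) (@D3.rec (fun _ => Nat) 0 12 31 2 2 2 22 7 4 12 7 7 13 8 12 21 12 15) (@D3.rec (fun _ => Nat) 15 13 6 6 13 35 13 8 13 13 37 5 30 7 36 13 13 24) (@D3.rec (fun _ => Nat) 8 38 7 28 14 14 40 14 0 29 16 27 23 2 2 23 23 24) (@D3.rec (fun _ => Nat) 2 34 33 24 23 23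 0 32 32 24 23 23 24 23 23 0 1 2) (@D3.rec (fun _ => Nat) 6 3 2 4 11 7 11 0 1 2 33 3 2 27 30 0 1 2) (@D3.rec (fun _ => Nat) 0 1 2 6 3 2 4 4 30 28 30 35 7 28 1 2 22 22) (@D3.rec (fun _ => Nat) 2 1 2 2 7 7 4 4 12 39 5 5 0 14 31 2 30 8) (@D3.rec (fun _ => Nat) 8 0 23 40 12 38 12 41 2 23 23 0 1 2 3 2 4 12) (@D3.rec (fun _ => Nat) 22 2 4 4 12 5 0 32 32 1 2 1 2 27 2 22 2 5)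
def lv_d_11 : D2 → D3 → Nat := @D2.rec (fun _ => D3 → Nat) (@D3.rec (fun _ => Nat) 2 23 7 4 13 6 6 37 0 22 22 13 23 2 6 6 38 8) (@D3.rec (fun _ => Nat) 23 8 23 23 37 5 5 0 7 7 0 6 0 1 39 9 23 23) (@D3.rec (fun _ => Nat) 0 2 2 7 7 12 12 8 0 34 39 2 22 2 1 2 7 2) (@D3.rec (fun _ => Nat) 23 7 4 32 8 28 0 22 22 13 23 2 8 13 8 23 8 23) (@D3.rec (fun _ => Nat) 23 0 5 5 33 6 0 9 0 1 38 13 13 13 23 45 34 8) (@D3.rec (fun _ => Nat) 38 13 22 13 22 22 36 16 33 7 31 37 14 14 39 14 0 29) (@D3.rec (fun _ => Nat) 14 38 40 15 0 0 1 28 24 25 25 24 0 25 36 39 24 0) (@D3.rec (fun _ => Nat) 1 34 38 24 0 24 0 1 23 23 2 31 7 4 12 0 0 1) (@D3.rec (fun _ => Nat) 2 28 3 2 4 32 32 1 2 23 23 2 1 2 2 7 4 4) (@D3.rec (fun _ => Nat) 31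 5 0 33 0 2 23 23 23 23 13 24 2 38 8 8 0 5) (@D3.rec (fun _ => Nat) 5 0 6 0 1 39 40 9 0 1 40 38 37 24 0 1 2 4) (@D3.rec (fun _ => Nat) 13 0 23 13 5 0 0 1 39 2 2 28 14 23 37 6 6 38) (@D3.rec (fun _ => Nat) 24 38 0 7 0 1 23 23 0 24 39 7 7 0 9 24 24 39) (@D3.rec (fun _ => Nat) 24 24 0 6 0 1 8 0 1 39 1 24 0 1 13 13 8 0) (@D3.rec (fun _ => Nat) 0 1 39 34 23 31 2 8 29 24 0 35 38 1 23 0 24 32)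
def lv_d_12 : D2 → D3 → Nat := @D2.rec (fun _ => D3 → Nat) (@D3.rec (fun _ => Nat) 0 9 24 0 24 0 1 6 35 1 40 1 24 0 40 14 23 41) (@D3.rec (fun _ => Nat) 23 0 31 30 38 15 0 0 1 0 1 1 0 0 0 1 38 0) (@D3.rec (fun _ => Nat) 1 31 40 40 1 39 1 41 24 24 13 32 0 0 1 1 2 29) (@D3.rec (fun _ => Nat) 4 34 0 2 24 24 30 2 38 0 5 0 0 1 1 40 24 0) (@D3.rec (fun _ => Nat) 24 0 25 38 9 0 1 6 0 1 0 1 44 44 1 40 1 14) (@D3.rec (fun _ => Nat) 0 1 0 0 1 1 39 33 40 0 0 7 0 0 1 42 1 25) (@D3.rec (fun _ => Nat) 24 0 1 0 8 0 1 39 25 0 25 0 1 37 1 5 41 1) (@D3.rec (fun _ => Nat) 25 25 25 1 0 1 1 0 32 38 0 1 0 1 0 1 39 0) (@D3.rec (fun _ => Nat) 1 0 1 40 35 1 41 0 0 1 0 1 1 1 25 1 1 1) (@D3.rec (fun _ => Nat) 1 41 38 0 0 0 1 1 23 33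 36 0 0 1 42 0 0 40) (@D3.rec (fun _ => Nat) 1 0 1 1 0 1 0 1 0 0 1 36 37 1 37 1 37 41) (@D3.rec (fun _ => Nat) 40 1 1 1 39 1 1 40 1 1 5 37 1 39 1 37 1 45) (@D3.rec (fun _ => Nat) 40 1 0 1 5 41 41 26 26 1 1 1 1 1 1 1 1 1) (@D3.rec (fun _ => Nat) 1 41 1 1 1 4 5 24 1 1 1 1 1 1 36 1 39 1) (@D3.rec (fun _ => Nat) 1 41 38 41 44 5 40 42 43 39 1 40 43 40 44 5 4 44)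
def lv_d : Pt → Nat := @Pt.rec (fun _ => Nat) (@D1.rec (fun _ => D2 → D3 → Nat) lv_d_0 lv_d_1 lv_d_2 lv_d_3 lv_d_4 lv_d_5 lv_d_6 lv_d_7 lv_d_8 lv_d_9 lv_d_10 lv_d_11 lv_d_12)
abbrev lc_d_Cert_tree : Cert rels S Gen.d := Cert.tree
abbrev lc_d_rc_3_1 : Cert rels S Gen.d := rc_3_1
abbrev lc_d_rc_3_3 : Cert rels S Gen.d := rc_3_3
abbrev lc_d_rc_11_1 : Cert rels S Gen.d := rc_11_1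
abbrev lc_d_rc_11_3 : Cert rels S Gen.d := rc_11_3
abbrev lc_d_rc_18_1 : Cert rels S Gen.d := rc_18_1
abbrev lc_d_rc_18_3 : Cert rels S Gen.d := rc_18_3
abbrev lc_d_rc_18_5 : Cert rels S Gen.d := rc_18_5
abbrev lc_d_rc_24_0 : Cert rels S Gen.d := rc_24_0
abbrev lc_d_rc_24_1 : Cert rels S Gen.d := rc_24_1
abbrev lc_d_rc_25_2 : Cert rels S Gen.d := rc_25_2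
abbrev lc_d_rc_25_4 : Cert rels S Gen.d := rc_25_4
abbrev lc_d_rc_26_2 : Cert rels S Gen.d := rc_26_2
abbrev lc_d_rc_26_4 : Cert rels S Gen.d := rc_26_4
abbrev lc_d_rc_27_0 : Cert rels S Gen.d := rc_27_0
abbrev lc_d_rc_27_2 : Cert rels S Gen.d := rc_27_2
abbrev lc_d_rc_28_0 : Cert rels S Gen.d := rc_28_0
abbrev lc_d_rc_28_2 : Cert rels S Gen.d := rc_28_2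
abbrev lc_d_rc_29_2 : Cert rels S Gen.d := rc_29_2
abbrev lc_d_rc_45_6 : Cert rels S Gen.d := rc_45_6
abbrev lc_d_rc_45_18 : Cert rels S Gen.d := rc_45_18
abbrev lc_d_rc_45_24 : Cert rels S Gen.d := rc_45_24
abbrev lc_d_rc_45_27 : Cert rels S Gen.d := rc_45_27
abbrev lc_d_rc_45_30 : Cert rels S Gen.d := rc_45_30
abbrev lc_d_rc_45_33 : Cert rels S Gen.d := rc_45_33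
abbrev lc_d_rc_45_36 : Cert rels S Gen.d := rc_45_36
abbrev lc_d_rc_45_39 : Cert rels S Gen.d := rc_45_39
abbrev lc_d_rc_45_45 : Cert rels S Gen.d := rc_45_45
abbrev lc_d_rc_45_51 : Cert rels S Gen.d := rc_45_51
abbrev lc_d_rc_45_57 : Cert rels S Gen.d := rc_45_57
abbrev lc_d_rc_45_63 : Cert rels S Gen.d := rc_45_63
abbrev lc_d_rc_45_66 : Cert rels S Gen.d := rc_45_66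
abbrev lc_d_rc_45_69 : Cert rels S Gen.d := rc_45_69
abbrev lc_d_rc_45_72 : Cert rels S Gen.d := rc_45_72
abbrev lc_d_rc_46_17 : Cert rels S Gen.d := rc_46_17
abbrev lc_d_rc_46_24 : Cert rels S Gen.d := rc_46_24
abbrev lc_d_rc_46_31 : Cert rels S Gen.d := rc_46_31
abbrev lc_d_rc_46_38 : Cert rels S Gen.d := rc_46_38
abbrev lc_d_rc_46_59 : Cert rels S Gen.d := rc_46_59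
abbrev lc_d_rc_47_16 : Cert rels S Gen.d := rc_47_16
abbrev lc_d_rc_47_23 : Cert rels S Gen.d := rc_47_23
abbrev lc_d_rc_47_30 : Cert rels S Gen.d := rc_47_30
abbrev lc_d_rc_47_37 : Cert rels S Gen.d := rc_47_37
abbrev lc_d_rc_47_44 : Cert rels S Gen.d := rc_47_44
abbrev lc_d_sc_2_0 : Cert rels S Gen.d := sc_2_0
abbrev lc_d_sc_8_9 : Cert rels S Gen.d := sc_8_9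
def ce_d_0 : D2 → D3 → (Cert rels S Gen.d) := @D2.rec (fun _ => D3 → (Cert rels S Gen.d)) (@D3.rec (fun _ => (Cert rels S Gen.d)) lc_d_sc_2_0 lc_d_rc_11_1 lc_d_rc_3_1 lc_d_Cert_tree lc_d_Cert_tree lc_d_rc_24_0 lc_d_Cert_tree lc_d_rc_24_0 lc_d_rc_25_2 lc_d_rc_26_2 lc_d_rc_24_0 lc_d_rc_25_2 lc_d_rc_26_2 lc_d_rc_27_2 lc_d_Cert_tree lc_d_rc_29_2 lc_d_rc_18_3 lc_d_rc_25_2) (@D3.rec (fun _ => (Cert rels S Gen.d)) lc_d_rc_26_2 lc_d_rc_27_2 lc_d_Cert_tree lc_d_rc_29_2 lc_d_rc_28_2 lc_d_Cert_tree lc_d_rc_24_0 lc_d_rc_29_2 lc_d_Cert_tree lc_d_Cert_tree lc_d_rc_27_2 lc_d_Cert_tree lc_d_rc_29_2 lc_d_rc_28_2 lc_d_Cert_tree lc_d_rc_24_0 lc_d_rc_29_2 lc_d_Cert_tree) (@D3.rec (fun _ => (Cert rels S Gen.d)) lc_d_rc_24_0 lc_d_rc_29_2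 lc_d_rc_18_3 lc_d_rc_29_2 lc_d_rc_24_0 lc_d_rc_27_2 lc_d_sc_8_9 lc_d_rc_24_0 lc_d_rc_29_2 lc_d_rc_28_2 lc_d_Cert_tree lc_d_rc_24_0 lc_d_rc_29_2 lc_d_Cert_tree lc_d_rc_24_0 lc_d_rc_29_2 lc_d_rc_18_3 lc_d_rc_29_2) (@D3.rec (fun _ => (Cert rels S Gen.d)) lc_d_rc_24_0 lc_d_rc_29_2 lc_d_rc_18_3 lc_d_rc_25_2 lc_d_rc_29_2 lc_d_rc_11_1 lc_d_rc_18_3 lc_d_rc_26_2 lc_d_rc_27_2 lc_d_rc_28_2 lc_d_rc_27_2 lc_d_rc_29_2 lc_d_rc_29_2 lc_d_Cert_tree lc_d_rc_24_0 lc_d_rc_29_2 lc_d_rc_29_2 lc_d_rc_24_0) (@D3.rec (fun _ => (Cert rels S Gen.d)) lc_d_rc_29_2 lc_d_rc_18_3 lc_d_rc_25_2 lc_d_rc_29_2 lc_d_rc_18_3 lc_d_rc_26_2 lc_d_rc_18_3 lc_d_rc_25_2 lc_d_rc_29_2 lc_d_rc_11_1 lc_d_Cert_tree lc_d_rc_18_3 lc_d_rc_25_2 lc_d_rc_26_2 lc_d_rc_11_1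 lc_d_Cert_tree lc_d_rc_25_2 lc_d_rc_28_2) (@D3.rec (fun _ => (Cert rels S Gen.d)) lc_d_rc_28_2 lc_d_rc_29_2 lc_d_rc_26_2 lc_d_rc_24_0 lc_d_rc_29_2 lc_d_rc_25_2 lc_d_rc_29_2 lc_d_rc_26_2 lc_d_rc_18_3 lc_d_rc_25_2 lc_d_rc_29_2 lc_d_Cert_tree lc_d_rc_18_3 lc_d_rc_25_2 lc_d_rc_26_2 lc_d_Cert_tree lc_d_rc_11_1 lc_d_Cert_tree) (@D3.rec (fun _ => (Cert rels S Gen.d)) lc_d_rc_18_3 lc_d_rc_27_2 lc_d_rc_25_2 lc_d_rc_26_2 lc_d_Cert_tree lc_d_rc_11_1 lc_d_rc_24_0 lc_d_rc_29_2 lc_d_Cert_tree lc_d_Cert_tree lc_d_Cert_tree lc_d_rc_24_0 lc_d_rc_25_2 lc_d_rc_29_2 lc_d_rc_25_2 lc_d_rc_29_2 lc_d_rc_25_2 lc_d_rc_26_2) (@D3.rec (fun _ => (Cert rels S Gen.d)) lc_d_Cert_tree lc_d_rc_18_3 lc_d_rc_27_2 lc_d_rc_25_2 lc_d_rc_26_2 lc_d_rc_24_0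 lc_d_rc_29_2 lc_d_Cert_tree lc_d_Cert_tree lc_d_rc_24_0 lc_d_Cert_tree lc_d_rc_11_1 lc_d_rc_24_0 lc_d_rc_27_2 lc_d_rc_29_2 lc_d_Cert_tree lc_d_rc_27_2 lc_d_Cert_tree) (@D3.rec (fun _ => (Cert rels S Gen.d)) lc_d_rc_24_0 lc_d_rc_29_2 lc_d_Cert_tree lc_d_rc_26_2 lc_d_rc_29_2 lc_d_Cert_tree lc_d_rc_24_0 lc_d_rc_24_0 lc_d_rc_24_0 lc_d_rc_25_2 lc_d_rc_27_2 lc_d_rc_27_2 lc_d_rc_25_2 lc_d_rc_26_2 lc_d_Cert_tree lc_d_rc_24_0 lc_d_rc_27_2 lc_d_rc_29_2) (@D3.rec (fun _ => (Cert rels S Gen.d)) lc_d_Cert_tree lc_d_rc_27_2 lc_d_Cert_tree lc_d_rc_26_2 lc_d_rc_29_2 lc_d_Cert_tree lc_d_rc_24_0 lc_d_rc_24_0 lc_d_rc_25_2 lc_d_rc_24_0 lc_d_rc_27_2 lc_d_rc_29_2 lc_d_Cert_tree lc_d_rc_27_2 lc_d_rc_26_2 lc_d_rc_29_2 lc_d_rc_29_2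 lc_d_Cert_tree) (@D3.rec (fun _ => (Cert rels S Gen.d)) lc_d_rc_24_0 lc_d_Cert_tree lc_d_rc_24_0 lc_d_rc_18_3 lc_d_rc_26_2 lc_d_rc_29_2 lc_d_Cert_tree lc_d_rc_24_0 lc_d_rc_29_2 lc_d_Cert_tree lc_d_rc_24_0 lc_d_rc_25_2 lc_d_rc_18_3 lc_d_rc_18_3 lc_d_rc_11_1 lc_d_rc_27_2 lc_d_rc_27_2 lc_d_Cert_tree) (@D3.rec (fun _ => (Cert rels S Gen.d)) lc_d_rc_24_0 lc_d_rc_27_2 lc_d_rc_26_2 lc_d_rc_29_2 lc_d_rc_29_2 lc_d_Cert_tree lc_d_rc_24_0 lc_d_Cert_tree lc_d_rc_24_0 lc_d_rc_29_2 lc_d_Cert_tree lc_d_rc_24_0 lc_d_rc_25_2 lc_d_rc_18_3 lc_d_rc_27_2 lc_d_rc_18_3 lc_d_rc_27_2 lc_d_rc_26_2) (@D3.rec (fun _ => (Cert rels S Gen.d)) lc_d_rc_29_2 lc_d_rc_29_2 lc_d_Cert_tree lc_d_rc_24_0 lc_d_rc_25_2 lc_d_rc_26_2 lc_d_rc_29_2 lc_d_rc_29_2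 lc_d_Cert_tree lc_d_Cert_tree lc_d_rc_24_0 lc_d_rc_25_2 lc_d_rc_24_0 lc_d_rc_18_3 lc_d_Cert_tree lc_d_rc_18_3 lc_d_rc_29_2 lc_d_Cert_tree) (@D3.rec (fun _ => (Cert rels S Gen.d)) lc_d_rc_24_0 lc_d_rc_18_3 lc_d_rc_25_2 lc_d_Cert_tree lc_d_rc_24_0 lc_d_rc_18_3 lc_d_rc_25_2 lc_d_rc_27_2 lc_d_rc_11_1 lc_d_Cert_tree lc_d_rc_11_1 lc_d_rc_28_2 lc_d_Cert_tree lc_d_rc_24_0 lc_d_rc_18_3 lc_d_rc_25_2 lc_d_rc_26_2 lc_d_rc_29_2) (@D3.rec (fun _ => (Cert rels S Gen.d)) lc_d_rc_29_2 lc_d_Cert_tree lc_d_Cert_tree lc_d_rc_24_0 lc_d_rc_25_2 lc_d_rc_24_0 lc_d_rc_18_3 lc_d_Cert_tree lc_d_rc_24_0 lc_d_rc_18_3 lc_d_rc_25_2 lc_d_rc_27_2 lc_d_rc_11_1 lc_d_rc_28_2 lc_d_rc_18_3 lc_d_Cert_tree lc_d_rc_18_3 lc_d_rc_25_2)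
def ce_d_1 : D2 → D3 → (Cert rels S Gen.d) := @D2.rec (fun _ => D3 → (Cert rels S Gen.d)) (@D3.rec (fun _ => (Cert rels S Gen.d)) lc_d_rc_26_2 lc_d_rc_29_2 lc_d_rc_29_2 lc_d_Cert_tree lc_d_Cert_tree lc_d_rc_24_0 lc_d_rc_18_3 lc_d_rc_25_2 lc_d_Cert_tree lc_d_rc_25_2 lc_d_rc_29_2 lc_d_Cert_tree lc_d_Cert_tree lc_d_rc_24_0 lc_d_rc_24_0 lc_d_rc_18_3 lc_d_rc_25_2 lc_d_rc_27_2) (@D3.rec (fun _ => (Cert rels S Gen.d)) lc_d_rc_18_3 lc_d_rc_25_2 lc_d_rc_11_1 lc_d_rc_24_0 lc_d_rc_29_2 lc_d_Cert_tree lc_d_Cert_tree lc_d_rc_24_0 lc_d_rc_18_3 lc_d_rc_25_2 lc_d_Cert_tree lc_d_rc_27_2 lc_d_rc_24_0 lc_d_rc_26_2 lc_d_rc_25_2 lc_d_rc_11_1 lc_d_rc_18_3 lc_d_rc_27_2) (@D3.rec (fun _ => (Cert rels S Gen.d)) lc_d_rc_28_2 lc_d_rc_3_1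 lc_d_rc_24_0 lc_d_rc_27_2 lc_d_rc_11_1 lc_d_rc_24_0 lc_d_rc_18_3 lc_d_rc_11_1 lc_d_Cert_tree lc_d_rc_25_2 lc_d_rc_29_2 lc_d_Cert_tree lc_d_Cert_tree lc_d_rc_24_0 lc_d_rc_24_0 lc_d_rc_18_3 lc_d_rc_25_2 lc_d_rc_27_2) (@D3.rec (fun _ => (Cert rels S Gen.d)) lc_d_rc_18_3 lc_d_rc_25_2 lc_d_rc_11_1 lc_d_rc_24_0 lc_d_rc_26_2 lc_d_rc_25_2 lc_d_rc_11_1 lc_d_rc_18_3 lc_d_rc_27_2 lc_d_rc_28_2 lc_d_rc_3_1 lc_d_Cert_tree lc_d_Cert_tree lc_d_rc_18_3 lc_d_rc_24_0 lc_d_rc_29_2 lc_d_Cert_tree lc_d_Cert_tree) (@D3.rec (fun _ => (Cert rels S Gen.d)) lc_d_rc_25_2 lc_d_rc_29_2 lc_d_Cert_tree lc_d_Cert_tree lc_d_rc_24_0 lc_d_rc_24_0 lc_d_rc_18_3 lc_d_rc_25_2 lc_d_Cert_tree lc_d_rc_27_2 lc_d_rc_24_0 lc_d_rc_29_2 lc_d_Cert_tree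 lc_d_Cert_tree lc_d_rc_24_0 lc_d_rc_24_0 lc_d_rc_26_2 lc_d_rc_25_2) (@D3.rec (fun _ => (Cert rels S Gen.d)) lc_d_rc_18_3 lc_d_rc_25_2 lc_d_rc_11_1 lc_d_rc_18_3 lc_d_rc_27_2 lc_d_rc_28_2 lc_d_rc_11_1 lc_d_Cert_tree lc_d_rc_3_1 lc_d_rc_25_2 lc_d_rc_29_2 lc_d_Cert_tree lc_d_rc_24_0 lc_d_rc_24_0 lc_d_rc_18_3 lc_d_rc_25_2 lc_d_rc_11_1 lc_d_Cert_tree) (@D3.rec (fun _ => (Cert rels S Gen.d)) lc_d_rc_27_2 lc_d_rc_24_0 lc_d_rc_27_2 lc_d_rc_28_2 lc_d_rc_29_2 lc_d_rc_25_2 lc_d_rc_11_1 lc_d_Cert_tree lc_d_rc_27_2 lc_d_rc_3_1 lc_d_rc_11_1 lc_d_rc_18_3 lc_d_rc_28_2 lc_d_rc_27_2 lc_d_rc_26_2 lc_d_rc_28_2 lc_d_rc_18_3 lc_d_rc_25_2) (@D3.rec (fun _ => (Cert rels S Gen.d)) lc_d_rc_11_1 lc_d_rc_3_1 lc_d_rc_24_0 lc_d_rc_29_2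 lc_d_Cert_tree lc_d_Cert_tree lc_d_rc_24_0 lc_d_rc_24_0 lc_d_rc_26_2 lc_d_rc_25_2 lc_d_rc_18_3 lc_d_rc_25_2 lc_d_rc_11_1 lc_d_rc_18_3 lc_d_rc_27_2 lc_d_rc_28_2 lc_d_rc_11_1 lc_d_Cert_tree) (@D3.rec (fun _ => (Cert rels S Gen.d)) lc_d_rc_3_1 lc_d_rc_29_2 lc_d_rc_25_2 lc_d_rc_11_1 lc_d_Cert_tree lc_d_rc_27_2 lc_d_rc_3_1 lc_d_rc_11_1 lc_d_rc_18_3 lc_d_rc_28_2 lc_d_rc_24_0 lc_d_rc_47_23 lc_d_rc_29_2 lc_d_rc_24_0 lc_d_rc_29_2 lc_d_Cert_tree lc_d_rc_25_2 lc_d_rc_29_2) (@D3.rec (fun _ => (Cert rels S Gen.d)) lc_d_Cert_tree lc_d_rc_24_0 lc_d_rc_24_0 lc_d_rc_29_2 lc_d_Cert_tree lc_d_Cert_tree lc_d_rc_24_0 lc_d_rc_24_0 lc_d_rc_18_3 lc_d_rc_25_2 lc_d_rc_18_3 lc_d_rc_25_2 lc_d_rc_11_1 lc_d_Cert_tree lc_d_rc_27_2 lc_d_rc_24_0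 lc_d_rc_27_2 lc_d_rc_28_2) (@D3.rec (fun _ => (Cert rels S Gen.d)) lc_d_rc_18_3 lc_d_rc_29_2 lc_d_Cert_tree lc_d_rc_24_0 lc_d_rc_24_0 lc_d_rc_18_3 lc_d_rc_25_2 lc_d_rc_29_2 lc_d_rc_25_2 lc_d_rc_11_1 lc_d_Cert_tree lc_d_rc_27_2 lc_d_rc_11_1 lc_d_Cert_tree lc_d_rc_25_2 lc_d_rc_3_1 lc_d_rc_11_1 lc_d_rc_18_3) (@D3.rec (fun _ => (Cert rels S Gen.d)) lc_d_rc_28_2 lc_d_rc_3_1 lc_d_Cert_tree lc_d_rc_24_0 lc_d_rc_27_2 lc_d_rc_25_2 lc_d_Cert_tree lc_d_rc_24_0 lc_d_rc_18_3 lc_d_rc_25_2 lc_d_rc_18_3 lc_d_rc_25_2 lc_d_rc_11_1 lc_d_Cert_tree lc_d_rc_27_2 lc_d_rc_3_1 lc_d_Cert_tree lc_d_rc_24_0) (@D3.rec (fun _ => (Cert rels S Gen.d)) lc_d_rc_27_2 lc_d_rc_28_2 lc_d_rc_27_2 lc_d_rc_26_2 lc_d_rc_28_2 lc_d_rc_11_1 lc_d_Cert_tree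 lc_d_rc_27_2 lc_d_rc_3_1 lc_d_Cert_tree lc_d_rc_24_0 lc_d_rc_27_2 lc_d_rc_28_2 lc_d_rc_3_1 lc_d_rc_11_1 lc_d_rc_18_3 lc_d_rc_28_2 lc_d_rc_11_1) (@D3.rec (fun _ => (Cert rels S Gen.d)) lc_d_Cert_tree lc_d_rc_3_1 lc_d_rc_18_3 lc_d_rc_29_2 lc_d_Cert_tree lc_d_rc_24_0 lc_d_rc_24_0 lc_d_rc_18_3 lc_d_rc_25_2 lc_d_rc_29_2 lc_d_rc_25_2 lc_d_rc_11_1 lc_d_Cert_tree lc_d_rc_27_2 lc_d_rc_11_1 lc_d_Cert_tree lc_d_rc_25_2 lc_d_rc_3_1) (@D3.rec (fun _ => (Cert rels S Gen.d)) lc_d_rc_11_1 lc_d_rc_18_3 lc_d_rc_28_2 lc_d_rc_3_1 lc_d_Cert_tree lc_d_rc_24_0 lc_d_rc_11_1 lc_d_Cert_tree lc_d_rc_27_2 lc_d_rc_3_1 lc_d_rc_27_2 lc_d_rc_24_0 lc_d_rc_45_39 lc_d_rc_28_2 lc_d_rc_3_1 lc_d_rc_11_1 lc_d_rc_18_3 lc_d_rc_29_2)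
def ce_d_2 : D2 → D3 → (Cert rels S Gen.d) := @D2.rec (fun _ => D3 → (Cert rels S Gen.d)) (@D3.rec (fun _ => (Cert rels S Gen.d)) lc_d_rc_29_2 lc_d_Cert_tree lc_d_rc_29_2 lc_d_Cert_tree lc_d_rc_24_0 lc_d_rc_25_2 lc_d_Cert_tree lc_d_rc_24_0 lc_d_rc_18_3 lc_d_rc_25_2 lc_d_rc_29_2 lc_d_Cert_tree lc_d_rc_24_0 lc_d_rc_24_0 lc_d_rc_18_3 lc_d_rc_25_2 lc_d_rc_18_3 lc_d_rc_25_2) (@D3.rec (fun _ => (Cert rels S Gen.d)) lc_d_rc_11_1 lc_d_Cert_tree lc_d_rc_27_2 lc_d_rc_11_1 lc_d_Cert_tree lc_d_rc_25_2 lc_d_rc_3_1 lc_d_Cert_tree lc_d_rc_24_0 lc_d_rc_27_2 lc_d_rc_28_2 lc_d_rc_27_2 lc_d_rc_26_2 lc_d_rc_28_2 lc_d_rc_18_3 lc_d_Cert_tree lc_d_rc_24_0 lc_d_rc_18_3) (@D3.rec (fun _ => (Cert rels S Gen.d)) lc_d_rc_25_2 lc_d_rc_18_3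 lc_d_rc_25_2 lc_d_rc_11_1 lc_d_Cert_tree lc_d_rc_27_2 lc_d_rc_11_1 lc_d_Cert_tree lc_d_rc_27_2 lc_d_rc_3_1 lc_d_Cert_tree lc_d_rc_24_0 lc_d_rc_27_2 lc_d_rc_28_2 lc_d_rc_3_1 lc_d_Cert_tree lc_d_rc_24_0 lc_d_rc_27_2) (@D3.rec (fun _ => (Cert rels S Gen.d)) lc_d_rc_25_2 lc_d_rc_3_1 lc_d_rc_11_1 lc_d_rc_18_3 lc_d_Cert_tree lc_d_rc_24_0 lc_d_rc_26_2 lc_d_rc_24_0 lc_d_rc_18_3 lc_d_rc_25_2 lc_d_rc_11_1 lc_d_Cert_tree lc_d_rc_27_2 lc_d_rc_11_1 lc_d_Cert_tree lc_d_rc_27_2 lc_d_rc_3_1 lc_d_Cert_tree) (@D3.rec (fun _ => (Cert rels S Gen.d)) lc_d_rc_24_0 lc_d_rc_27_2 lc_d_rc_28_2 lc_d_Cert_tree lc_d_rc_24_0 lc_d_rc_27_2 lc_d_rc_27_2 lc_d_rc_26_2 lc_d_rc_28_2 lc_d_rc_28_2 lc_d_rc_3_1 lc_d_Cert_tree lc_d_rc_24_0 lc_d_rc_27_2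 lc_d_rc_28_2 lc_d_rc_27_2 lc_d_rc_24_0 lc_d_rc_24_1) (@D3.rec (fun _ => (Cert rels S Gen.d)) lc_d_rc_27_2 lc_d_rc_28_2 lc_d_rc_3_1 lc_d_rc_11_1 lc_d_rc_3_1 lc_d_Cert_tree lc_d_rc_24_0 lc_d_rc_11_1 lc_d_rc_18_3 lc_d_Cert_tree lc_d_rc_24_0 lc_d_rc_18_3 lc_d_rc_25_2 lc_d_rc_18_3 lc_d_rc_25_2 lc_d_rc_11_1 lc_d_Cert_tree lc_d_rc_27_2) (@D3.rec (fun _ => (Cert rels S Gen.d)) lc_d_rc_11_1 lc_d_Cert_tree lc_d_rc_27_2 lc_d_rc_3_1 lc_d_Cert_tree lc_d_rc_24_0 lc_d_rc_27_2 lc_d_rc_28_2 lc_d_rc_3_1 lc_d_Cert_tree lc_d_rc_24_0 lc_d_rc_27_2 lc_d_rc_25_2 lc_d_rc_3_1 lc_d_rc_11_1 lc_d_rc_18_3 lc_d_Cert_tree lc_d_rc_24_0) (@D3.rec (fun _ => (Cert rels S Gen.d)) lc_d_rc_26_2 lc_d_rc_3_1 lc_d_rc_11_3 lc_d_rc_24_0 lc_d_rc_27_2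 lc_d_rc_28_2 lc_d_rc_27_2 lc_d_rc_28_2 lc_d_rc_3_1 lc_d_rc_11_1 lc_d_Cert_tree lc_d_Cert_tree lc_d_rc_24_0 lc_d_Cert_tree lc_d_rc_24_0 lc_d_rc_18_3 lc_d_rc_25_2 lc_d_rc_24_0) (@D3.rec (fun _ => (Cert rels S Gen.d)) lc_d_rc_18_3 lc_d_rc_25_2 lc_d_rc_11_1 lc_d_Cert_tree lc_d_rc_27_2 lc_d_Cert_tree lc_d_rc_24_0 lc_d_rc_18_3 lc_d_rc_25_2 lc_d_rc_18_3 lc_d_rc_25_2 lc_d_rc_11_1 lc_d_Cert_tree lc_d_rc_27_2 lc_d_rc_11_1 lc_d_Cert_tree lc_d_rc_27_2 lc_d_rc_3_1) (@D3.rec (fun _ => (Cert rels S Gen.d)) lc_d_Cert_tree lc_d_rc_24_0 lc_d_rc_27_2 lc_d_rc_28_2 lc_d_rc_3_1 lc_d_Cert_tree lc_d_rc_24_0 lc_d_rc_27_2 lc_d_rc_25_2 lc_d_Cert_tree lc_d_rc_24_0 lc_d_rc_27_2 lc_d_rc_27_2 lc_d_rc_26_2 lc_d_rc_28_2 lc_d_rc_25_2 lc_d_rc_28_2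 lc_d_rc_27_2) (@D3.rec (fun _ => (Cert rels S Gen.d)) lc_d_rc_29_2 lc_d_rc_11_3 lc_d_rc_24_0 lc_d_rc_18_3 lc_d_rc_25_2 lc_d_rc_11_1 lc_d_Cert_tree lc_d_rc_27_2 lc_d_rc_11_1 lc_d_Cert_tree lc_d_rc_27_2 lc_d_rc_3_1 lc_d_Cert_tree lc_d_rc_24_0 lc_d_rc_27_2 lc_d_rc_28_2 lc_d_rc_3_1 lc_d_Cert_tree) (@D3.rec (fun _ => (Cert rels S Gen.d)) lc_d_rc_24_0 lc_d_rc_27_2 lc_d_rc_28_2 lc_d_Cert_tree lc_d_rc_24_0 lc_d_rc_27_2 lc_d_rc_27_2 lc_d_rc_28_2 lc_d_Cert_tree lc_d_rc_24_0 lc_d_rc_27_2 lc_d_rc_27_2 lc_d_rc_26_2 lc_d_rc_28_2 lc_d_rc_3_1 lc_d_rc_11_1 lc_d_rc_24_0 lc_d_rc_18_3) (@D3.rec (fun _ => (Cert rels S Gen.d)) lc_d_rc_11_1 lc_d_rc_29_2 lc_d_rc_26_2 lc_d_rc_11_1 lc_d_Cert_tree lc_d_rc_3_1 lc_d_Cert_tree lc_d_rc_24_0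 lc_d_rc_27_2 lc_d_rc_3_1 lc_d_Cert_tree lc_d_rc_24_0 lc_d_rc_27_2 lc_d_rc_28_2 lc_d_Cert_tree lc_d_rc_24_0 lc_d_rc_27_2 lc_d_rc_27_2) (@D3.rec (fun _ => (Cert rels S Gen.d)) lc_d_rc_26_2 lc_d_rc_28_2 lc_d_rc_24_0 lc_d_rc_27_2 lc_d_rc_27_2 lc_d_rc_11_1 lc_d_rc_28_2 lc_d_rc_28_2 lc_d_rc_3_3 lc_d_rc_24_0 lc_d_rc_27_2 lc_d_rc_28_2 lc_d_rc_18_3 lc_d_rc_28_2 lc_d_rc_28_2 lc_d_rc_3_1 lc_d_rc_3_3 lc_d_rc_24_0) (@D3.rec (fun _ => (Cert rels S Gen.d)) lc_d_rc_26_2 lc_d_rc_24_0 lc_d_rc_18_3 lc_d_rc_25_2 lc_d_rc_11_1 lc_d_Cert_tree lc_d_rc_27_2 lc_d_rc_11_1 lc_d_Cert_tree lc_d_rc_27_2 lc_d_rc_3_1 lc_d_Cert_tree lc_d_rc_24_0 lc_d_rc_27_2 lc_d_rc_28_2 lc_d_rc_3_1 lc_d_rc_28_2 lc_d_rc_24_0)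
def ce_d_3 : D2 → D3 → (Cert rels S Gen.d) := @D2.rec (fun _ => D3 → (Cert rels S Gen.d)) (@D3.rec (fun _ => (Cert rels S Gen.d)) lc_d_rc_27_2 lc_d_rc_28_2 lc_d_rc_28_2 lc_d_rc_24_0 lc_d_rc_27_2 lc_d_rc_27_2 lc_d_rc_27_2 lc_d_Cert_tree lc_d_rc_24_0 lc_d_rc_27_2 lc_d_rc_27_2 lc_d_rc_26_2 lc_d_rc_28_2 lc_d_rc_3_1 lc_d_rc_11_1 lc_d_rc_24_0 lc_d_rc_3_1 lc_d_rc_24_0) (@D3.rec (fun _ => (Cert rels S Gen.d)) lc_d_rc_24_0 lc_d_rc_18_3 lc_d_rc_25_2 lc_d_rc_24_0 lc_d_rc_18_3 lc_d_rc_25_2 lc_d_rc_11_1 lc_d_Cert_tree lc_d_rc_27_2 lc_d_rc_26_2 lc_d_rc_11_1 lc_d_Cert_tree lc_d_rc_27_2 lc_d_rc_3_1 lc_d_Cert_tree lc_d_rc_24_0 lc_d_rc_27_2 lc_d_rc_28_2) (@D3.rec (fun _ => (Cert rels S Gen.d)) lc_d_rc_24_0 lc_d_rc_18_3 lc_d_rc_25_2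 lc_d_rc_11_1 lc_d_Cert_tree lc_d_rc_27_2 lc_d_rc_11_1 lc_d_Cert_tree lc_d_rc_27_2 lc_d_rc_3_1 lc_d_Cert_tree lc_d_rc_24_0 lc_d_rc_27_2 lc_d_rc_28_2 lc_d_rc_3_1 lc_d_Cert_tree lc_d_rc_24_0 lc_d_rc_27_2) (@D3.rec (fun _ => (Cert rels S Gen.d)) lc_d_rc_28_2 lc_d_Cert_tree lc_d_rc_24_0 lc_d_rc_27_2 lc_d_rc_27_2 lc_d_rc_26_2 lc_d_rc_28_2 lc_d_Cert_tree lc_d_rc_24_0 lc_d_rc_27_2 lc_d_rc_27_2 lc_d_rc_26_2 lc_d_rc_28_2 lc_d_rc_24_0 lc_d_rc_27_2 lc_d_rc_27_2 lc_d_rc_11_1 lc_d_rc_28_2) (@D3.rec (fun _ => (Cert rels S Gen.d)) lc_d_rc_25_2 lc_d_rc_28_2 lc_d_rc_26_2 lc_d_rc_29_2 lc_d_rc_25_2 lc_d_Cert_tree lc_d_rc_26_2 lc_d_rc_11_1 lc_d_Cert_tree lc_d_rc_27_2 lc_d_rc_3_1 lc_d_Cert_tree lc_d_rc_24_0 lc_d_rc_27_2 lc_d_rc_28_2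 lc_d_rc_3_1 lc_d_Cert_tree lc_d_rc_24_0) (@D3.rec (fun _ => (Cert rels S Gen.d)) lc_d_rc_27_2 lc_d_rc_28_2 lc_d_Cert_tree lc_d_rc_24_0 lc_d_rc_27_2 lc_d_rc_27_2 lc_d_rc_26_2 lc_d_rc_28_2 lc_d_rc_28_2 lc_d_rc_24_0 lc_d_rc_27_2 lc_d_rc_27_2 lc_d_rc_27_2 lc_d_rc_24_0 lc_d_rc_27_2 lc_d_rc_18_3 lc_d_rc_27_2 lc_d_rc_27_2) (@D3.rec (fun _ => (Cert rels S Gen.d)) lc_d_rc_25_2 lc_d_rc_28_2 lc_d_rc_24_0 lc_d_rc_27_2 lc_d_rc_18_3 lc_d_rc_27_2 lc_d_rc_11_1 lc_d_rc_28_2 lc_d_rc_28_2 lc_d_rc_26_2 lc_d_rc_29_2 lc_d_rc_3_1 lc_d_rc_3_1 lc_d_Cert_tree lc_d_rc_11_1 lc_d_rc_3_1 lc_d_Cert_tree lc_d_rc_24_0) (@D3.rec (fun _ => (Cert rels S Gen.d)) lc_d_Cert_tree lc_d_rc_24_0 lc_d_rc_27_2 lc_d_rc_27_2 lc_d_rc_25_2 lc_d_Cert_tree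 lc_d_rc_24_0 lc_d_rc_27_2 lc_d_rc_27_2 lc_d_rc_26_2 lc_d_rc_28_2 lc_d_rc_24_0 lc_d_rc_18_3 lc_d_rc_18_3 lc_d_rc_27_2 lc_d_rc_11_1 lc_d_rc_28_2 lc_d_rc_28_2) (@D3.rec (fun _ => (Cert rels S Gen.d)) lc_d_rc_27_2 lc_d_rc_3_1 lc_d_rc_28_2 lc_d_rc_28_2 lc_d_rc_26_2 lc_d_Cert_tree lc_d_rc_27_2 lc_d_Cert_tree lc_d_rc_24_0 lc_d_rc_27_2 lc_d_rc_28_2 lc_d_rc_3_1 lc_d_Cert_tree lc_d_rc_24_0 lc_d_rc_27_2 lc_d_rc_28_2 lc_d_Cert_tree lc_d_rc_24_0) (@D3.rec (fun _ => (Cert rels S Gen.d)) lc_d_rc_27_2 lc_d_rc_27_2 lc_d_rc_26_2 lc_d_rc_28_2 lc_d_rc_27_2 lc_d_rc_27_2 lc_d_rc_27_2 lc_d_rc_27_2 lc_d_rc_25_2 lc_d_rc_24_0 lc_d_rc_27_2 lc_d_rc_27_2 lc_d_rc_28_2 lc_d_rc_28_2 lc_d_rc_26_2 lc_d_rc_3_1 lc_d_rc_26_2 lc_d_rc_25_2) (@D3.rec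 (fun _ => (Cert rels S Gen.d)) lc_d_rc_18_3 lc_d_rc_25_2 lc_d_rc_11_1 lc_d_Cert_tree lc_d_rc_27_2 lc_d_rc_26_2 lc_d_rc_25_2 lc_d_rc_11_1 lc_d_Cert_tree lc_d_rc_27_2 lc_d_rc_3_1 lc_d_Cert_tree lc_d_rc_24_0 lc_d_rc_27_2 lc_d_rc_28_2 lc_d_rc_11_1 lc_d_rc_3_1 lc_d_Cert_tree) (@D3.rec (fun _ => (Cert rels S Gen.d)) lc_d_rc_24_0 lc_d_rc_27_2 lc_d_Cert_tree lc_d_rc_24_0 lc_d_rc_27_2 lc_d_rc_27_2 lc_d_rc_25_2 lc_d_rc_28_2 lc_d_rc_18_3 lc_d_rc_26_2 lc_d_rc_11_1 lc_d_Cert_tree lc_d_rc_27_2 lc_d_rc_3_1 lc_d_Cert_tree lc_d_rc_24_0 lc_d_rc_27_2 lc_d_rc_28_2) (@D3.rec (fun _ => (Cert rels S Gen.d)) lc_d_rc_3_1 lc_d_Cert_tree lc_d_rc_24_0 lc_d_rc_27_2 lc_d_rc_28_2 lc_d_Cert_tree lc_d_rc_24_0 lc_d_rc_27_2 lc_d_rc_27_2 lc_d_rc_26_2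 lc_d_rc_28_2 lc_d_Cert_tree lc_d_rc_24_0 lc_d_rc_27_2 lc_d_rc_27_2 lc_d_rc_26_2 lc_d_rc_28_2 lc_d_rc_24_0) (@D3.rec (fun _ => (Cert rels S Gen.d)) lc_d_rc_27_2 lc_d_rc_18_3 lc_d_rc_27_2 lc_d_rc_11_1 lc_d_rc_28_2 lc_d_rc_25_2 lc_d_rc_28_2 lc_d_rc_26_2 lc_d_rc_29_2 lc_d_rc_24_0 lc_d_rc_27_2 lc_d_rc_18_3 lc_d_rc_27_2 lc_d_rc_11_1 lc_d_rc_28_2 lc_d_rc_25_2 lc_d_rc_28_2 lc_d_rc_26_2) (@D3.rec (fun _ => (Cert rels S Gen.d)) lc_d_rc_29_2 lc_d_rc_27_2 lc_d_rc_3_1 lc_d_rc_28_2 lc_d_rc_11_1 lc_d_rc_28_2 lc_d_rc_11_1 lc_d_rc_11_1 lc_d_rc_25_2 lc_d_Cert_tree lc_d_rc_24_0 lc_d_rc_26_2 lc_d_Cert_tree lc_d_rc_24_0 lc_d_rc_27_2 lc_d_rc_28_2 lc_d_Cert_tree lc_d_rc_24_0)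
def ce_d_4 : D2 → D3 → (Cert rels S Gen.d) := @D2.rec (fun _ => D3 → (Cert rels S Gen.d)) (@D3.rec (fun _ => (Cert rels S Gen.d)) lc_d_rc_27_2 lc_d_rc_27_2 lc_d_rc_26_2 lc_d_rc_28_2 lc_d_Cert_tree lc_d_rc_24_0 lc_d_rc_27_2 lc_d_rc_27_2 lc_d_rc_26_2 lc_d_rc_28_2 lc_d_rc_24_0 lc_d_rc_27_2 lc_d_rc_18_3 lc_d_rc_27_2 lc_d_rc_11_1 lc_d_rc_28_2 lc_d_rc_25_2 lc_d_rc_28_2) (@D3.rec (fun _ => (Cert rels S Gen.d)) lc_d_rc_26_2 lc_d_rc_29_2 lc_d_rc_27_2 lc_d_rc_18_3 lc_d_rc_27_2 lc_d_rc_27_2 lc_d_rc_25_2 lc_d_rc_3_1 lc_d_rc_18_3 lc_d_rc_11_1 lc_d_rc_25_2 lc_d_rc_3_1 lc_d_rc_27_2 lc_d_rc_28_2 lc_d_rc_18_3 lc_d_Cert_tree lc_d_rc_28_2 lc_d_rc_11_1) (@D3.rec (fun _ => (Cert rels S Gen.d)) lc_d_rc_26_2 lc_d_rc_29_2 lc_d_rc_24_0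 lc_d_rc_3_1 lc_d_Cert_tree lc_d_rc_24_0 lc_d_rc_24_0 lc_d_rc_27_2 lc_d_rc_18_3 lc_d_rc_27_2 lc_d_rc_25_2 lc_d_rc_25_2 lc_d_rc_26_2 lc_d_rc_24_0 lc_d_rc_18_3 lc_d_rc_27_2 lc_d_rc_11_1 lc_d_rc_28_2) (@D3.rec (fun _ => (Cert rels S Gen.d)) lc_d_rc_3_1 lc_d_rc_18_3 lc_d_rc_28_2 lc_d_rc_28_2 lc_d_rc_26_2 lc_d_rc_24_0 lc_d_rc_27_2 lc_d_rc_28_2 lc_d_rc_24_0 lc_d_rc_27_2 lc_d_rc_27_2 lc_d_rc_26_2 lc_d_rc_28_2 lc_d_Cert_tree lc_d_rc_24_0 lc_d_rc_27_2 lc_d_rc_27_2 lc_d_rc_26_2) (@D3.rec (fun _ => (Cert rels S Gen.d)) lc_d_rc_28_2 lc_d_rc_24_0 lc_d_rc_27_2 lc_d_rc_27_2 lc_d_rc_46_24 lc_d_rc_25_2 lc_d_rc_28_2 lc_d_rc_26_2 lc_d_rc_27_2 lc_d_rc_28_2 lc_d_rc_28_2 lc_d_rc_26_2 lc_d_rc_11_1 lc_d_Cert_tree lc_d_rc_26_2 lc_d_rc_11_1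 lc_d_Cert_tree lc_d_rc_27_2) (@D3.rec (fun _ => (Cert rels S Gen.d)) lc_d_rc_3_1 lc_d_Cert_tree lc_d_rc_24_0 lc_d_rc_27_2 lc_d_rc_28_2 lc_d_rc_11_1 lc_d_Cert_tree lc_d_rc_3_1 lc_d_Cert_tree lc_d_rc_24_0 lc_d_rc_27_2 lc_d_Cert_tree lc_d_rc_24_0 lc_d_rc_27_2 lc_d_rc_27_2 lc_d_rc_26_2 lc_d_rc_28_2 lc_d_rc_3_1) (@D3.rec (fun _ => (Cert rels S Gen.d)) lc_d_Cert_tree lc_d_rc_24_0 lc_d_rc_27_2 lc_d_rc_27_2 lc_d_rc_24_0 lc_d_rc_27_2 lc_d_rc_18_3 lc_d_rc_27_2 lc_d_rc_25_2 lc_d_rc_28_2 lc_d_rc_25_2 lc_d_rc_28_2 lc_d_rc_26_2 lc_d_rc_25_2 lc_d_Cert_tree lc_d_rc_26_2 lc_d_Cert_tree lc_d_rc_24_0) (@D3.rec (fun _ => (Cert rels S Gen.d)) lc_d_rc_27_2 lc_d_rc_28_2 lc_d_Cert_tree lc_d_rc_24_0 lc_d_rc_27_2 lc_d_rc_27_2 lc_d_rc_26_2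 lc_d_rc_28_2 lc_d_Cert_tree lc_d_rc_24_0 lc_d_rc_27_2 lc_d_rc_27_2 lc_d_rc_26_2 lc_d_rc_28_2 lc_d_rc_24_0 lc_d_rc_27_2 lc_d_rc_18_3 lc_d_rc_27_2) (@D3.rec (fun _ => (Cert rels S Gen.d)) lc_d_rc_11_1 lc_d_rc_28_2 lc_d_rc_25_2 lc_d_rc_28_2 lc_d_rc_26_2 lc_d_rc_29_2 lc_d_rc_24_0 lc_d_rc_27_2 lc_d_rc_18_3 lc_d_rc_27_2 lc_d_rc_11_1 lc_d_rc_28_2 lc_d_rc_25_2 lc_d_rc_28_2 lc_d_rc_26_2 lc_d_rc_29_2 lc_d_rc_3_1 lc_d_rc_27_2) (@D3.rec (fun _ => (Cert rels S Gen.d)) lc_d_rc_3_1 lc_d_rc_27_2 lc_d_rc_18_3 lc_d_rc_18_3 lc_d_rc_11_1 lc_d_rc_28_2 lc_d_rc_11_1 lc_d_rc_11_1 lc_d_rc_25_2 lc_d_Cert_tree lc_d_rc_3_1 lc_d_rc_27_2 lc_d_rc_3_1 lc_d_rc_28_2 lc_d_rc_18_3 lc_d_Cert_tree lc_d_rc_11_1 lc_d_rc_28_2) (@D3.rec (fun _ =>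 (Cert rels S Gen.d)) lc_d_rc_11_1 lc_d_rc_11_1 lc_d_rc_25_2 lc_d_Cert_tree lc_d_rc_26_2 lc_d_rc_29_2 lc_d_rc_3_1 lc_d_rc_28_2 lc_d_rc_3_1 lc_d_rc_28_2 lc_d_rc_11_1 lc_d_Cert_tree lc_d_rc_24_0 lc_d_rc_18_3 lc_d_rc_26_2 lc_d_rc_24_0 lc_d_rc_27_2 lc_d_rc_27_2) (@D3.rec (fun _ => (Cert rels S Gen.d)) lc_d_rc_28_2 lc_d_rc_24_0 lc_d_rc_27_2 lc_d_rc_18_3 lc_d_rc_27_2 lc_d_rc_11_1 lc_d_rc_28_2 lc_d_rc_25_2 lc_d_rc_28_2 lc_d_rc_26_2 lc_d_rc_29_2 lc_d_rc_24_0 lc_d_rc_27_2 lc_d_rc_18_3 lc_d_rc_27_2 lc_d_rc_11_1 lc_d_rc_28_2 lc_d_rc_25_2) (@D3.rec (fun _ => (Cert rels S Gen.d)) lc_d_rc_28_2 lc_d_rc_26_2 lc_d_rc_29_2 lc_d_rc_3_1 lc_d_rc_27_2 lc_d_rc_24_1 lc_d_rc_18_3 lc_d_Cert_tree lc_d_rc_11_1 lc_d_rc_28_2 lc_d_rc_11_1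 lc_d_rc_25_2 lc_d_rc_25_2 lc_d_rc_26_2 lc_d_rc_29_2 lc_d_Cert_tree lc_d_rc_3_1 lc_d_rc_28_2) (@D3.rec (fun _ => (Cert rels S Gen.d)) lc_d_rc_18_3 lc_d_Cert_tree lc_d_rc_24_0 lc_d_rc_11_1 lc_d_rc_3_3 lc_d_rc_25_2 lc_d_rc_24_0 lc_d_rc_18_3 lc_d_rc_18_3 lc_d_rc_27_2 lc_d_rc_3_1 lc_d_rc_25_2 lc_d_rc_26_2 lc_d_rc_27_2 lc_d_rc_28_2 lc_d_rc_18_3 lc_d_rc_27_2 lc_d_rc_11_1) (@D3.rec (fun _ => (Cert rels S Gen.d)) lc_d_rc_28_2 lc_d_rc_25_2 lc_d_rc_28_2 lc_d_rc_26_2 lc_d_rc_24_0 lc_d_rc_27_2 lc_d_rc_11_1 lc_d_rc_28_2 lc_d_rc_26_2 lc_d_rc_27_2 lc_d_rc_25_2 lc_d_rc_26_2 lc_d_rc_28_2 lc_d_rc_3_1 lc_d_Cert_tree lc_d_rc_24_0 lc_d_rc_27_2 lc_d_rc_26_2)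
def ce_d_5 : D2 → D3 → (Cert rels S Gen.d) := @D2.rec (fun _ => D3 → (Cert rels S Gen.d)) (@D3.rec (fun _ => (Cert rels S Gen.d)) lc_d_Cert_tree lc_d_rc_24_0 lc_d_rc_27_2 lc_d_Cert_tree lc_d_rc_24_0 lc_d_rc_27_2 lc_d_rc_27_2 lc_d_rc_26_2 lc_d_rc_28_2 lc_d_rc_3_1 lc_d_Cert_tree lc_d_rc_24_0 lc_d_Cert_tree lc_d_rc_24_0 lc_d_rc_27_2 lc_d_rc_27_2 lc_d_rc_26_2 lc_d_rc_24_0) (@D3.rec (fun _ => (Cert rels S Gen.d)) lc_d_rc_27_2 lc_d_rc_18_3 lc_d_rc_27_2 lc_d_rc_11_1 lc_d_rc_28_2 lc_d_rc_25_2 lc_d_rc_28_2 lc_d_rc_26_2 lc_d_rc_29_2 lc_d_rc_24_0 lc_d_rc_27_2 lc_d_rc_18_3 lc_d_rc_27_2 lc_d_rc_25_2 lc_d_rc_18_3 lc_d_rc_27_2 lc_d_rc_3_1 lc_d_rc_28_2) (@D3.rec (fun _ => (Cert rels S Gen.d)) lc_d_rc_18_3 lc_d_rc_28_0 lc_d_rc_11_1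 lc_d_rc_28_2 lc_d_rc_26_2 lc_d_rc_25_2 lc_d_rc_25_2 lc_d_Cert_tree lc_d_rc_26_2 lc_d_rc_27_2 lc_d_rc_24_0 lc_d_rc_27_2 lc_d_rc_26_2 lc_d_rc_24_0 lc_d_rc_27_2 lc_d_rc_27_2 lc_d_rc_26_2 lc_d_rc_28_2) (@D3.rec (fun _ => (Cert rels S Gen.d)) lc_d_rc_24_0 lc_d_rc_27_2 lc_d_rc_18_3 lc_d_rc_27_2 lc_d_rc_11_1 lc_d_rc_28_2 lc_d_rc_25_2 lc_d_rc_28_2 lc_d_rc_26_2 lc_d_rc_29_2 lc_d_rc_24_0 lc_d_rc_27_2 lc_d_rc_18_3 lc_d_rc_27_2 lc_d_rc_11_1 lc_d_rc_28_2 lc_d_rc_25_2 lc_d_rc_28_2) (@D3.rec (fun _ => (Cert rels S Gen.d)) lc_d_rc_26_2 lc_d_rc_29_2 lc_d_rc_3_1 lc_d_rc_27_2 lc_d_rc_3_1 lc_d_rc_28_2 lc_d_rc_18_3 lc_d_Cert_tree lc_d_rc_11_1 lc_d_rc_28_2 lc_d_rc_11_1 lc_d_rc_11_1 lc_d_rc_25_2 lc_d_Cert_tree lc_d_rc_26_2 lc_d_rc_29_2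 lc_d_rc_27_2 lc_d_rc_27_2) (@D3.rec (fun _ => (Cert rels S Gen.d)) lc_d_rc_11_1 lc_d_rc_28_2 lc_d_rc_11_1 lc_d_rc_25_2 lc_d_rc_11_3 lc_d_rc_3_1 lc_d_rc_3_1 lc_d_Cert_tree lc_d_rc_18_3 lc_d_rc_11_1 lc_d_Cert_tree lc_d_rc_24_0 lc_d_rc_3_1 lc_d_rc_27_0 lc_d_rc_3_1 lc_d_rc_28_2 lc_d_rc_3_1 lc_d_rc_3_1) (@D3.rec (fun _ => (Cert rels S Gen.d)) lc_d_rc_18_3 lc_d_rc_18_3 lc_d_Cert_tree lc_d_rc_24_0 lc_d_rc_29_2 lc_d_rc_11_1 lc_d_Cert_tree lc_d_rc_11_1 lc_d_rc_11_1 lc_d_rc_46_31 lc_d_rc_24_0 lc_d_rc_29_2 lc_d_rc_29_2 lc_d_rc_3_1 lc_d_Cert_tree lc_d_rc_24_0 lc_d_rc_18_3 lc_d_rc_11_1) (@D3.rec (fun _ => (Cert rels S Gen.d)) lc_d_rc_18_3 lc_d_rc_27_2 lc_d_rc_28_2 lc_d_rc_25_2 lc_d_rc_28_2 lc_d_rc_3_1 lc_d_rc_27_2 lc_d_rc_3_1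 lc_d_rc_28_2 lc_d_rc_18_3 lc_d_Cert_tree lc_d_rc_11_1 lc_d_rc_28_2 lc_d_rc_11_1 lc_d_rc_11_1 lc_d_rc_25_2 lc_d_rc_3_1 lc_d_rc_26_2) (@D3.rec (fun _ => (Cert rels S Gen.d)) lc_d_rc_29_2 lc_d_rc_3_1 lc_d_rc_27_2 lc_d_rc_18_3 lc_d_rc_11_1 lc_d_rc_47_30 lc_d_rc_28_2 lc_d_rc_11_1 lc_d_rc_3_1 lc_d_Cert_tree lc_d_rc_18_3 lc_d_Cert_tree lc_d_rc_24_0 lc_d_rc_25_2 lc_d_rc_11_1 lc_d_rc_24_0 lc_d_rc_3_1 lc_d_Cert_tree) (@D3.rec (fun _ => (Cert rels S Gen.d)) lc_d_rc_24_0 lc_d_rc_25_2 lc_d_rc_27_2 lc_d_rc_25_2 lc_d_rc_28_2 lc_d_rc_18_3 lc_d_rc_11_1 lc_d_rc_28_2 lc_d_rc_11_1 lc_d_Cert_tree lc_d_rc_24_0 lc_d_rc_27_2 lc_d_rc_27_2 lc_d_rc_26_2 lc_d_rc_28_2 lc_d_rc_24_0 lc_d_rc_27_2 lc_d_rc_27_2) (@D3.rec (fun _ => (Cert rels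 S Gen.d)) lc_d_rc_26_2 lc_d_rc_24_0 lc_d_rc_27_2 lc_d_rc_18_3 lc_d_rc_27_2 lc_d_rc_11_1 lc_d_rc_28_2 lc_d_rc_25_2 lc_d_rc_28_2 lc_d_rc_26_2 lc_d_rc_29_2 lc_d_Cert_tree lc_d_rc_24_0 lc_d_rc_26_2 lc_d_rc_24_0 lc_d_rc_27_2 lc_d_rc_18_3 lc_d_rc_27_2) (@D3.rec (fun _ => (Cert rels S Gen.d)) lc_d_rc_11_1 lc_d_rc_25_2 lc_d_rc_46_24 lc_d_rc_29_2 lc_d_rc_3_1 lc_d_rc_27_2 lc_d_rc_3_1 lc_d_rc_28_2 lc_d_rc_18_3 lc_d_Cert_tree lc_d_rc_11_1 lc_d_rc_28_2 lc_d_rc_11_1 lc_d_rc_11_1 lc_d_rc_25_2 lc_d_Cert_tree lc_d_rc_26_2 lc_d_rc_29_2) (@D3.rec (fun _ => (Cert rels S Gen.d)) lc_d_rc_27_2 lc_d_rc_18_3 lc_d_rc_11_1 lc_d_rc_18_3 lc_d_rc_3_1 lc_d_rc_28_2 lc_d_rc_3_1 lc_d_Cert_tree lc_d_rc_11_1 lc_d_Cert_tree lc_d_rc_27_2 lc_d_rc_27_2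 lc_d_Cert_tree lc_d_rc_24_0 lc_d_rc_27_2 lc_d_rc_26_2 lc_d_rc_28_2 lc_d_rc_18_3) (@D3.rec (fun _ => (Cert rels S Gen.d)) lc_d_rc_27_2 lc_d_rc_27_0 lc_d_rc_28_2 lc_d_rc_25_2 lc_d_rc_28_2 lc_d_rc_26_2 lc_d_rc_29_2 lc_d_rc_3_1 lc_d_rc_27_2 lc_d_rc_3_1 lc_d_rc_28_2 lc_d_rc_18_3 lc_d_Cert_tree lc_d_rc_11_1 lc_d_rc_28_2 lc_d_rc_11_1 lc_d_rc_11_1 lc_d_rc_25_2) (@D3.rec (fun _ => (Cert rels S Gen.d)) lc_d_Cert_tree lc_d_rc_26_2 lc_d_rc_29_2 lc_d_rc_3_1 lc_d_rc_27_2 lc_d_rc_3_1 lc_d_rc_18_3 lc_d_Cert_tree lc_d_rc_11_1 lc_d_rc_28_2 lc_d_rc_11_1 lc_d_rc_11_1 lc_d_rc_25_2 lc_d_Cert_tree lc_d_rc_26_2 lc_d_rc_29_2 lc_d_rc_11_1 lc_d_rc_3_1)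
def ce_d_6 : D2 → D3 → (Cert rels S Gen.d) := @D2.rec (fun _ => D3 → (Cert rels S Gen.d)) (@D3.rec (fun _ => (Cert rels S Gen.d)) lc_d_rc_28_2 lc_d_rc_3_1 lc_d_rc_28_2 lc_d_rc_3_1 lc_d_rc_3_1 lc_d_Cert_tree lc_d_rc_18_3 lc_d_Cert_tree lc_d_rc_24_0 lc_d_rc_29_2 lc_d_rc_11_1 lc_d_Cert_tree lc_d_rc_11_1 lc_d_rc_11_1 lc_d_rc_11_3 lc_d_rc_46_31 lc_d_rc_24_0 lc_d_rc_29_2) (@D3.rec (fun _ => (Cert rels S Gen.d)) lc_d_rc_29_2 lc_d_rc_3_1 lc_d_rc_25_2 lc_d_rc_11_1 lc_d_rc_45_6 lc_d_Cert_tree lc_d_rc_24_0 lc_d_Cert_tree lc_d_rc_24_0 lc_d_rc_18_3 lc_d_rc_3_1 lc_d_rc_3_1 lc_d_rc_26_2 lc_d_rc_29_2 lc_d_rc_3_1 lc_d_Cert_tree lc_d_rc_3_1 lc_d_rc_3_1) (@D3.rec (fun _ => (Cert rels S Gen.d)) lc_d_rc_18_3 lc_d_Cert_tree lc_d_Cert_tree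 lc_d_rc_24_0 lc_d_rc_29_2 lc_d_rc_25_2 lc_d_rc_29_2 lc_d_rc_46_31 lc_d_rc_24_0 lc_d_rc_29_2 lc_d_rc_11_1 lc_d_rc_27_2 lc_d_rc_26_2 lc_d_rc_29_2 lc_d_rc_24_0 lc_d_rc_18_3 lc_d_rc_11_1 lc_d_rc_3_1) (@D3.rec (fun _ => (Cert rels S Gen.d)) lc_d_rc_18_3 lc_d_rc_11_1 lc_d_rc_28_2 lc_d_rc_11_1 lc_d_rc_3_1 lc_d_rc_27_0 lc_d_rc_3_1 lc_d_rc_28_2 lc_d_rc_3_1 lc_d_Cert_tree lc_d_rc_18_3 lc_d_Cert_tree lc_d_rc_24_0 lc_d_rc_11_1 lc_d_rc_3_1 lc_d_rc_24_1 lc_d_rc_18_3 lc_d_rc_3_3) (@D3.rec (fun _ => (Cert rels S Gen.d)) lc_d_rc_24_0 lc_d_Cert_tree lc_d_Cert_tree lc_d_rc_24_0 lc_d_rc_25_2 lc_d_rc_26_2 lc_d_rc_24_0 lc_d_rc_25_2 lc_d_rc_27_2 lc_d_rc_24_0 lc_d_rc_27_2 lc_d_rc_18_3 lc_d_rc_27_2 lc_d_rc_11_1 lc_d_rc_28_2 lc_d_rc_25_2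 lc_d_rc_28_2 lc_d_rc_26_2) (@D3.rec (fun _ => (Cert rels S Gen.d)) lc_d_rc_29_2 lc_d_rc_18_3 lc_d_rc_27_2 lc_d_rc_11_1 lc_d_rc_25_2 lc_d_rc_26_2 lc_d_rc_29_2 lc_d_rc_3_1 lc_d_rc_27_2 lc_d_rc_3_1 lc_d_rc_28_2 lc_d_rc_18_3 lc_d_Cert_tree lc_d_rc_11_1 lc_d_rc_28_2 lc_d_rc_11_1 lc_d_rc_11_1 lc_d_rc_25_2) (@D3.rec (fun _ => (Cert rels S Gen.d)) lc_d_Cert_tree lc_d_rc_26_2 lc_d_rc_29_2 lc_d_rc_24_0 lc_d_rc_18_3 lc_d_rc_11_1 lc_d_rc_29_2 lc_d_rc_3_1 lc_d_rc_27_2 lc_d_rc_3_1 lc_d_rc_18_3 lc_d_Cert_tree lc_d_rc_11_1 lc_d_rc_3_3 lc_d_rc_11_1 lc_d_rc_46_59 lc_d_rc_27_2 lc_d_rc_11_1) (@D3.rec (fun _ => (Cert rels S Gen.d)) lc_d_rc_3_1 lc_d_Cert_tree lc_d_rc_3_1 lc_d_rc_28_2 lc_d_rc_3_1 lc_d_rc_3_1 lc_d_Cert_tree lc_d_rc_18_3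 lc_d_Cert_tree lc_d_rc_24_0 lc_d_rc_29_2 lc_d_rc_11_1 lc_d_Cert_tree lc_d_rc_11_1 lc_d_rc_11_1 lc_d_rc_27_2 lc_d_Cert_tree lc_d_rc_24_0) (@D3.rec (fun _ => (Cert rels S Gen.d)) lc_d_rc_29_2 lc_d_rc_29_2 lc_d_rc_3_1 lc_d_Cert_tree lc_d_Cert_tree lc_d_rc_3_1 lc_d_Cert_tree lc_d_rc_24_0 lc_d_rc_11_1 lc_d_rc_24_0 lc_d_rc_24_0 lc_d_rc_18_3 lc_d_rc_25_2 lc_d_rc_28_2 lc_d_rc_26_2 lc_d_rc_29_2 lc_d_rc_18_3 lc_d_rc_27_0) (@D3.rec (fun _ => (Cert rels S Gen.d)) lc_d_rc_11_1 lc_d_rc_28_2 lc_d_rc_26_2 lc_d_rc_29_2 lc_d_rc_25_2 lc_d_Cert_tree lc_d_rc_26_2 lc_d_rc_29_2 lc_d_rc_11_1 lc_d_rc_3_1 lc_d_Cert_tree lc_d_rc_3_1 lc_d_rc_28_2 lc_d_rc_3_1 lc_d_rc_3_1 lc_d_Cert_tree lc_d_rc_18_3 lc_d_Cert_tree) (@D3.rec (fun _ =>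 (Cert rels S Gen.d)) lc_d_rc_24_0 lc_d_rc_29_2 lc_d_rc_11_1 lc_d_Cert_tree lc_d_rc_11_1 lc_d_rc_11_1 lc_d_rc_27_2 lc_d_Cert_tree lc_d_rc_24_0 lc_d_rc_29_2 lc_d_rc_29_2 lc_d_rc_27_0 lc_d_rc_3_1 lc_d_rc_26_4 lc_d_rc_3_1 lc_d_rc_3_1 lc_d_rc_3_1 lc_d_Cert_tree) (@D3.rec (fun _ => (Cert rels S Gen.d)) lc_d_rc_18_3 lc_d_Cert_tree lc_d_rc_24_0 lc_d_rc_29_2 lc_d_rc_11_1 lc_d_Cert_tree lc_d_rc_11_1 lc_d_rc_11_1 lc_d_rc_24_1 lc_d_rc_24_0 lc_d_rc_29_2 lc_d_rc_29_2 lc_d_rc_3_3 lc_d_rc_25_4 lc_d_rc_3_1 lc_d_rc_26_4 lc_d_rc_29_2 lc_d_rc_25_2) (@D3.rec (fun _ => (Cert rels S Gen.d)) lc_d_Cert_tree lc_d_rc_3_1 lc_d_rc_3_1 lc_d_rc_24_0 lc_d_rc_25_4 lc_d_Cert_tree lc_d_Cert_tree lc_d_rc_24_0 lc_d_rc_29_2 lc_d_rc_25_2 lc_d_rc_29_2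 lc_d_rc_3_1 lc_d_rc_45_27 lc_d_rc_24_0 lc_d_rc_29_2 lc_d_rc_11_1 lc_d_rc_27_0 lc_d_rc_18_3) (@D3.rec (fun _ => (Cert rels S Gen.d)) lc_d_rc_29_2 lc_d_rc_24_0 lc_d_Cert_tree lc_d_rc_24_0 lc_d_rc_18_3 lc_d_rc_11_1 lc_d_rc_3_1 lc_d_Cert_tree lc_d_rc_26_2 lc_d_rc_29_2 lc_d_rc_45_18 lc_d_rc_24_0 lc_d_rc_29_2 lc_d_rc_3_1 lc_d_Cert_tree lc_d_rc_24_0 lc_d_rc_29_2 lc_d_rc_24_0) (@D3.rec (fun _ => (Cert rels S Gen.d)) lc_d_rc_29_2 lc_d_rc_25_2 lc_d_rc_29_2 lc_d_rc_27_2 lc_d_rc_25_2 lc_d_rc_18_5 lc_d_rc_18_3 lc_d_rc_29_2 lc_d_rc_11_1 lc_d_rc_29_2 lc_d_rc_3_1 lc_d_rc_11_1 lc_d_rc_3_1 lc_d_rc_11_1 lc_d_rc_18_3 lc_d_rc_11_1 lc_d_Cert_tree lc_d_rc_3_1)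
def ce_d_7 : D2 → D3 → (Cert rels S Gen.d) := @D2.rec (fun _ => D3 → (Cert rels S Gen.d)) (@D3.rec (fun _ => (Cert rels S Gen.d)) lc_d_rc_3_3 lc_d_rc_24_0 lc_d_rc_24_0 lc_d_rc_25_2 lc_d_Cert_tree lc_d_rc_24_0 lc_d_rc_24_0 lc_d_rc_25_2 lc_d_rc_27_2 lc_d_rc_29_2 lc_d_rc_25_2 lc_d_rc_27_2 lc_d_rc_3_1 lc_d_rc_27_2 lc_d_rc_3_1 lc_d_rc_28_2 lc_d_rc_18_3 lc_d_Cert_tree) (@D3.rec (fun _ => (Cert rels S Gen.d)) lc_d_rc_25_2 lc_d_rc_28_2 lc_d_rc_11_1 lc_d_rc_11_1 lc_d_rc_25_2 lc_d_Cert_tree lc_d_rc_26_2 lc_d_rc_29_2 lc_d_rc_18_3 lc_d_Cert_tree lc_d_rc_11_1 lc_d_rc_11_1 lc_d_rc_11_1 lc_d_Cert_tree lc_d_rc_29_2 lc_d_rc_11_1 lc_d_rc_3_1 lc_d_Cert_tree) (@D3.rec (fun _ => (Cert rels S Gen.d)) lc_d_rc_3_1 lc_d_rc_28_2 lc_d_rc_3_1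 lc_d_rc_3_1 lc_d_Cert_tree lc_d_rc_18_3 lc_d_Cert_tree lc_d_rc_24_0 lc_d_rc_29_2 lc_d_rc_11_1 lc_d_Cert_tree lc_d_rc_11_1 lc_d_rc_11_1 lc_d_rc_27_2 lc_d_Cert_tree lc_d_rc_24_0 lc_d_rc_29_2 lc_d_rc_29_2) (@D3.rec (fun _ => (Cert rels S Gen.d)) lc_d_rc_3_1 lc_d_rc_3_1 lc_d_Cert_tree lc_d_rc_11_1 lc_d_rc_11_1 lc_d_rc_3_1 lc_d_Cert_tree lc_d_rc_3_1 lc_d_rc_47_23 lc_d_rc_3_1 lc_d_Cert_tree lc_d_Cert_tree lc_d_rc_24_0 lc_d_rc_29_2 lc_d_rc_46_24 lc_d_rc_18_5 lc_d_rc_27_2 lc_d_rc_11_1) (@D3.rec (fun _ => (Cert rels S Gen.d)) lc_d_rc_25_2 lc_d_Cert_tree lc_d_rc_3_1 lc_d_Cert_tree lc_d_rc_24_0 lc_d_rc_29_2 lc_d_rc_3_1 lc_d_Cert_tree lc_d_rc_3_1 lc_d_rc_3_1 lc_d_rc_24_0 lc_d_rc_28_2 lc_d_Cert_tree lc_d_Cert_tree lc_d_rc_24_0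 lc_d_rc_29_2 lc_d_rc_25_2 lc_d_rc_29_2) (@D3.rec (fun _ => (Cert rels S Gen.d)) lc_d_rc_11_1 lc_d_Cert_tree lc_d_rc_24_0 lc_d_rc_29_2 lc_d_rc_11_1 lc_d_rc_11_3 lc_d_rc_24_0 lc_d_rc_29_2 lc_d_rc_18_3 lc_d_rc_29_2 lc_d_rc_24_0 lc_d_rc_24_0 lc_d_rc_24_0 lc_d_rc_47_30 lc_d_rc_11_3 lc_d_rc_18_3 lc_d_rc_11_1 lc_d_rc_25_2) (@D3.rec (fun _ => (Cert rels S Gen.d)) lc_d_Cert_tree lc_d_rc_26_2 lc_d_rc_29_2 lc_d_Cert_tree lc_d_rc_18_3 lc_d_rc_3_1 lc_d_rc_29_2 lc_d_rc_11_1 lc_d_Cert_tree lc_d_rc_26_2 lc_d_rc_29_2 lc_d_Cert_tree lc_d_rc_24_0 lc_d_rc_29_2 lc_d_rc_29_2 lc_d_rc_11_1 lc_d_rc_26_2 lc_d_Cert_tree) (@D3.rec (fun _ => (Cert rels S Gen.d)) lc_d_rc_3_1 lc_d_Cert_tree lc_d_rc_24_0 lc_d_rc_29_2 lc_d_rc_3_1 lc_d_Cert_tree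 lc_d_rc_3_1 lc_d_rc_3_1 lc_d_rc_24_0 lc_d_rc_28_2 lc_d_Cert_tree lc_d_Cert_tree lc_d_rc_24_0 lc_d_rc_29_2 lc_d_rc_25_2 lc_d_rc_29_2 lc_d_rc_11_1 lc_d_Cert_tree) (@D3.rec (fun _ => (Cert rels S Gen.d)) lc_d_rc_24_0 lc_d_rc_29_2 lc_d_rc_11_1 lc_d_rc_28_2 lc_d_rc_24_0 lc_d_rc_29_2 lc_d_rc_18_3 lc_d_rc_29_2 lc_d_rc_3_1 lc_d_rc_25_2 lc_d_rc_11_1 lc_d_rc_26_2 lc_d_rc_46_38 lc_d_rc_3_1 lc_d_rc_24_0 lc_d_rc_25_2 lc_d_Cert_tree lc_d_Cert_tree) (@D3.rec (fun _ => (Cert rels S Gen.d)) lc_d_rc_24_0 lc_d_rc_29_2 lc_d_rc_29_2 lc_d_rc_47_44 lc_d_rc_24_0 lc_d_rc_29_2 lc_d_rc_11_1 lc_d_rc_29_2 lc_d_rc_29_2 lc_d_rc_25_4 lc_d_rc_18_1 lc_d_Cert_tree lc_d_rc_3_3 lc_d_rc_3_3 lc_d_rc_46_38 lc_d_rc_24_0 lc_d_rc_29_2 lc_d_rc_3_1)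 (@D3.rec (fun _ => (Cert rels S Gen.d)) lc_d_Cert_tree lc_d_rc_27_2 lc_d_Cert_tree lc_d_rc_24_0 lc_d_rc_29_2 lc_d_rc_24_0 lc_d_rc_29_2 lc_d_rc_25_2 lc_d_rc_29_2 lc_d_rc_27_2 lc_d_rc_25_2 lc_d_rc_25_4 lc_d_rc_18_3 lc_d_rc_29_2 lc_d_rc_11_1 lc_d_rc_18_3 lc_d_rc_45_51 lc_d_rc_24_0) (@D3.rec (fun _ => (Cert rels S Gen.d)) lc_d_rc_29_2 lc_d_rc_18_3 lc_d_rc_11_1 lc_d_rc_3_1 lc_d_Cert_tree lc_d_rc_24_0 lc_d_rc_29_2 lc_d_rc_29_2 lc_d_rc_18_5 lc_d_rc_18_3 lc_d_rc_29_2 lc_d_rc_24_0 lc_d_rc_29_2 lc_d_rc_18_3 lc_d_rc_25_2 lc_d_rc_29_2 lc_d_rc_25_2 lc_d_rc_29_2) (@D3.rec (fun _ => (Cert rels S Gen.d)) lc_d_rc_27_2 lc_d_rc_25_2 lc_d_rc_28_2 lc_d_rc_27_2 lc_d_rc_11_1 lc_d_rc_18_3 lc_d_rc_11_1 lc_d_rc_11_1 lc_d_rc_3_1 lc_d_rc_24_0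 lc_d_rc_26_2 lc_d_rc_25_2 lc_d_rc_27_2 lc_d_rc_24_0 lc_d_rc_29_2 lc_d_rc_25_2 lc_d_rc_25_2 lc_d_rc_27_2) (@D3.rec (fun _ => (Cert rels S Gen.d)) lc_d_rc_27_2 lc_d_rc_11_1 lc_d_rc_3_1 lc_d_Cert_tree lc_d_rc_3_1 lc_d_rc_28_2 lc_d_rc_3_1 lc_d_rc_3_1 lc_d_Cert_tree lc_d_rc_24_0 lc_d_rc_29_2 lc_d_Cert_tree lc_d_rc_11_1 lc_d_rc_11_1 lc_d_Cert_tree lc_d_rc_24_0 lc_d_rc_29_2 lc_d_rc_29_2) (@D3.rec (fun _ => (Cert rels S Gen.d)) lc_d_Cert_tree lc_d_Cert_tree lc_d_rc_24_0 lc_d_rc_29_2 lc_d_Cert_tree lc_d_rc_11_1 lc_d_rc_24_0 lc_d_rc_29_2 lc_d_rc_11_1 lc_d_Cert_tree lc_d_Cert_tree lc_d_rc_3_1 lc_d_Cert_tree lc_d_rc_24_0 lc_d_rc_29_2 lc_d_rc_3_1 lc_d_Cert_tree lc_d_rc_3_1)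
def ce_d_8 : D2 → D3 → (Cert rels S Gen.d) := @D2.rec (fun _ => D3 → (Cert rels S Gen.d)) (@D3.rec (fun _ => (Cert rels S Gen.d)) lc_d_rc_3_1 lc_d_rc_24_0 lc_d_rc_28_2 lc_d_Cert_tree lc_d_Cert_tree lc_d_rc_24_0 lc_d_rc_29_2 lc_d_rc_25_2 lc_d_rc_29_2 lc_d_rc_11_1 lc_d_Cert_tree lc_d_rc_24_0 lc_d_rc_29_2 lc_d_rc_11_1 lc_d_Cert_tree lc_d_rc_24_0 lc_d_rc_29_2 lc_d_rc_18_3) (@D3.rec (fun _ => (Cert rels S Gen.d)) lc_d_rc_29_2 lc_d_rc_11_1 lc_d_Cert_tree lc_d_rc_3_1 lc_d_rc_24_0 lc_d_rc_29_2 lc_d_rc_11_1 lc_d_rc_3_1 lc_d_rc_27_2 lc_d_Cert_tree lc_d_rc_24_0 lc_d_rc_29_2 lc_d_rc_3_1 lc_d_rc_18_5 lc_d_rc_24_0 lc_d_Cert_tree lc_d_rc_24_0 lc_d_rc_29_2) (@D3.rec (fun _ => (Cert rels S Gen.d)) lc_d_rc_25_2 lc_d_rc_29_2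 lc_d_rc_25_2 lc_d_Cert_tree lc_d_rc_11_1 lc_d_rc_27_2 lc_d_rc_25_2 lc_d_rc_24_0 lc_d_rc_24_0 lc_d_Cert_tree lc_d_Cert_tree lc_d_rc_24_0 lc_d_rc_29_2 lc_d_rc_29_2 lc_d_rc_11_1 lc_d_rc_24_0 lc_d_rc_29_2 lc_d_rc_3_1) (@D3.rec (fun _ => (Cert rels S Gen.d)) lc_d_rc_28_2 lc_d_Cert_tree lc_d_rc_24_0 lc_d_Cert_tree lc_d_rc_24_0 lc_d_rc_29_2 lc_d_rc_24_0 lc_d_rc_29_2 lc_d_rc_25_2 lc_d_rc_29_2 lc_d_rc_27_2 lc_d_rc_25_2 lc_d_rc_26_2 lc_d_rc_24_0 lc_d_rc_24_0 lc_d_rc_29_2 lc_d_rc_18_3 lc_d_rc_29_2) (@D3.rec (fun _ => (Cert rels S Gen.d)) lc_d_rc_29_2 lc_d_rc_18_3 lc_d_rc_29_2 lc_d_rc_11_1 lc_d_rc_18_3 lc_d_rc_46_31 lc_d_rc_27_2 lc_d_rc_18_3 lc_d_rc_11_1 lc_d_rc_3_1 lc_d_Cert_tree lc_d_rc_24_0 lc_d_rc_29_2 lc_d_rc_29_2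 lc_d_rc_24_0 lc_d_rc_29_2 lc_d_Cert_tree lc_d_rc_28_2) (@D3.rec (fun _ => (Cert rels S Gen.d)) lc_d_rc_29_2 lc_d_Cert_tree lc_d_rc_24_0 lc_d_rc_29_2 lc_d_rc_29_2 lc_d_rc_24_0 lc_d_rc_29_2 lc_d_rc_28_0 lc_d_rc_29_2 lc_d_rc_25_2 lc_d_rc_11_3 lc_d_rc_26_2 lc_d_rc_24_0 lc_d_rc_25_2 lc_d_Cert_tree lc_d_rc_26_2 lc_d_rc_24_0 lc_d_rc_29_2) (@D3.rec (fun _ => (Cert rels S Gen.d)) lc_d_rc_29_2 lc_d_rc_3_1 lc_d_Cert_tree lc_d_rc_24_0 lc_d_rc_29_2 lc_d_rc_3_1 lc_d_rc_28_2 lc_d_Cert_tree lc_d_rc_3_3 lc_d_Cert_tree lc_d_rc_24_0 lc_d_rc_29_2 lc_d_rc_24_0 lc_d_rc_29_2 lc_d_rc_25_2 lc_d_rc_29_2 lc_d_rc_27_2 lc_d_rc_25_2) (@D3.rec (fun _ => (Cert rels S Gen.d)) lc_d_rc_11_1 lc_d_rc_24_0 lc_d_rc_29_2 lc_d_rc_18_3 lc_d_rc_29_2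 lc_d_rc_29_2 lc_d_rc_29_2 lc_d_rc_11_1 lc_d_rc_18_3 lc_d_rc_26_2 lc_d_Cert_tree lc_d_rc_11_1 lc_d_rc_27_2 lc_d_Cert_tree lc_d_Cert_tree lc_d_rc_24_0 lc_d_rc_29_2 lc_d_rc_24_0) (@D3.rec (fun _ => (Cert rels S Gen.d)) lc_d_rc_29_2 lc_d_rc_25_2 lc_d_rc_29_2 lc_d_rc_29_2 lc_d_rc_18_3 lc_d_rc_29_2 lc_d_rc_24_0 lc_d_rc_29_2 lc_d_rc_29_2 lc_d_rc_25_4 lc_d_rc_18_3 lc_d_rc_29_2 lc_d_rc_24_0 lc_d_rc_29_2 lc_d_rc_24_0 lc_d_rc_29_2 lc_d_rc_18_3 lc_d_rc_25_2) (@D3.rec (fun _ => (Cert rels S Gen.d)) lc_d_rc_29_2 lc_d_rc_25_2 lc_d_rc_29_2 lc_d_rc_27_2 lc_d_rc_25_2 lc_d_rc_28_2 lc_d_rc_27_2 lc_d_rc_11_1 lc_d_rc_18_3 lc_d_rc_3_1 lc_d_rc_11_1 lc_d_rc_18_1 lc_d_rc_26_2 lc_d_rc_29_2 lc_d_rc_11_1 lc_d_rc_3_1 lc_d_rc_24_0 lc_d_rc_29_2)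 (@D3.rec (fun _ => (Cert rels S Gen.d)) lc_d_rc_18_3 lc_d_rc_29_2 lc_d_rc_11_1 lc_d_rc_18_3 lc_d_rc_25_2 lc_d_rc_29_2 lc_d_rc_11_1 lc_d_rc_18_3 lc_d_rc_18_3 lc_d_rc_27_2 lc_d_rc_25_2 lc_d_rc_26_2 lc_d_rc_27_2 lc_d_rc_25_2 lc_d_rc_27_2 lc_d_rc_28_2 lc_d_rc_11_1 lc_d_rc_3_1) (@D3.rec (fun _ => (Cert rels S Gen.d)) lc_d_rc_29_2 lc_d_rc_27_2 lc_d_rc_25_2 lc_d_rc_29_2 lc_d_rc_27_2 lc_d_rc_27_2 lc_d_Cert_tree lc_d_Cert_tree lc_d_rc_24_0 lc_d_rc_29_2 lc_d_Cert_tree lc_d_rc_3_1 lc_d_rc_3_1 lc_d_rc_24_0 lc_d_rc_29_2 lc_d_rc_18_3 lc_d_rc_29_2 lc_d_rc_24_0) (@D3.rec (fun _ => (Cert rels S Gen.d)) lc_d_rc_29_2 lc_d_rc_11_1 lc_d_rc_24_0 lc_d_rc_29_2 lc_d_rc_18_3 lc_d_rc_29_2 lc_d_rc_24_0 lc_d_Cert_tree lc_d_rc_24_0 lc_d_rc_29_2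 lc_d_rc_29_2 lc_d_rc_24_0 lc_d_rc_29_2 lc_d_rc_29_2 lc_d_rc_27_2 lc_d_rc_11_1 lc_d_Cert_tree lc_d_rc_24_0) (@D3.rec (fun _ => (Cert rels S Gen.d)) lc_d_rc_29_2 lc_d_rc_24_0 lc_d_rc_28_2 lc_d_Cert_tree lc_d_rc_46_31 lc_d_rc_24_0 lc_d_rc_29_2 lc_d_rc_3_1 lc_d_rc_29_2 lc_d_rc_3_1 lc_d_rc_46_38 lc_d_rc_24_0 lc_d_rc_29_2 lc_d_rc_3_1 lc_d_rc_28_2 lc_d_Cert_tree lc_d_rc_11_1 lc_d_Cert_tree) (@D3.rec (fun _ => (Cert rels S Gen.d)) lc_d_rc_24_0 lc_d_rc_29_2 lc_d_rc_24_0 lc_d_rc_29_2 lc_d_rc_25_2 lc_d_rc_29_2 lc_d_rc_27_2 lc_d_rc_25_2 lc_d_rc_26_2 lc_d_Cert_tree lc_d_rc_24_0 lc_d_rc_29_2 lc_d_rc_18_3 lc_d_rc_29_2 lc_d_rc_24_0 lc_d_rc_29_2 lc_d_rc_18_3 lc_d_rc_29_2)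
def ce_d_9 : D2 → D3 → (Cert rels S Gen.d) := @D2.rec (fun _ => D3 → (Cert rels S Gen.d)) (@D3.rec (fun _ => (Cert rels S Gen.d)) lc_d_rc_11_1 lc_d_rc_18_3 lc_d_rc_26_2 lc_d_Cert_tree lc_d_rc_24_0 lc_d_rc_29_2 lc_d_rc_25_2 lc_d_rc_29_2 lc_d_rc_46_31 lc_d_rc_3_1 lc_d_rc_3_1 lc_d_Cert_tree lc_d_rc_24_0 lc_d_rc_29_2 lc_d_rc_29_2 lc_d_rc_25_2 lc_d_Cert_tree lc_d_rc_24_0) (@D3.rec (fun _ => (Cert rels S Gen.d)) lc_d_rc_29_2 lc_d_rc_25_2 lc_d_rc_29_2 lc_d_rc_27_2 lc_d_rc_25_2 lc_d_rc_26_2 lc_d_rc_24_0 lc_d_rc_47_16 lc_d_Cert_tree lc_d_rc_28_2 lc_d_rc_27_2 lc_d_Cert_tree lc_d_Cert_tree lc_d_rc_24_0 lc_d_rc_29_2 lc_d_rc_24_0 lc_d_rc_29_2 lc_d_rc_25_2) (@D3.rec (fun _ => (Cert rels S Gen.d)) lc_d_rc_29_2 lc_d_rc_3_1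 lc_d_rc_27_0 lc_d_rc_18_3 lc_d_rc_29_2 lc_d_rc_24_0 lc_d_rc_29_2 lc_d_Cert_tree lc_d_rc_24_0 lc_d_rc_29_2 lc_d_rc_18_3 lc_d_rc_25_2 lc_d_rc_29_2 lc_d_rc_25_2 lc_d_rc_29_2 lc_d_rc_27_2 lc_d_rc_25_2 lc_d_rc_26_2) (@D3.rec (fun _ => (Cert rels S Gen.d)) lc_d_rc_28_2 lc_d_rc_27_2 lc_d_rc_26_2 lc_d_rc_29_2 lc_d_rc_29_2 lc_d_rc_11_1 lc_d_rc_18_3 lc_d_rc_11_1 lc_d_rc_18_3 lc_d_rc_3_1 lc_d_rc_11_1 lc_d_rc_27_0 lc_d_rc_3_1 lc_d_rc_24_0 lc_d_rc_29_2 lc_d_rc_18_3 lc_d_rc_29_2 lc_d_Cert_tree) (@D3.rec (fun _ => (Cert rels S Gen.d)) lc_d_Cert_tree lc_d_rc_24_0 lc_d_rc_29_2 lc_d_rc_3_1 lc_d_rc_24_0 lc_d_rc_29_2 lc_d_rc_18_3 lc_d_rc_29_2 lc_d_rc_29_2 lc_d_rc_11_1 lc_d_rc_29_2 lc_d_rc_26_2 lc_d_Cert_tree lc_d_rc_11_3 lc_d_Cert_tree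 lc_d_rc_27_2 lc_d_Cert_tree lc_d_rc_24_0) (@D3.rec (fun _ => (Cert rels S Gen.d)) lc_d_rc_29_2 lc_d_rc_29_2 lc_d_rc_25_2 lc_d_rc_29_2 lc_d_rc_27_2 lc_d_rc_24_0 lc_d_rc_29_2 lc_d_rc_18_3 lc_d_rc_29_2 lc_d_rc_24_0 lc_d_rc_29_2 lc_d_Cert_tree lc_d_rc_24_0 lc_d_rc_29_2 lc_d_rc_18_3 lc_d_rc_25_2 lc_d_rc_29_2 lc_d_rc_29_2) (@D3.rec (fun _ => (Cert rels S Gen.d)) lc_d_rc_27_2 lc_d_rc_25_2 lc_d_rc_28_2 lc_d_rc_27_2 lc_d_rc_11_1 lc_d_rc_18_3 lc_d_rc_29_2 lc_d_rc_11_1 lc_d_rc_18_3 lc_d_rc_26_2 lc_d_rc_26_2 lc_d_rc_3_1 lc_d_rc_11_1 lc_d_rc_18_3 lc_d_rc_24_0 lc_d_rc_29_2 lc_d_rc_24_0 lc_d_rc_29_2) (@D3.rec (fun _ => (Cert rels S Gen.d)) lc_d_rc_24_0 lc_d_rc_29_2 lc_d_rc_18_3 lc_d_rc_25_2 lc_d_rc_29_2 lc_d_rc_29_2 lc_d_rc_25_2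 lc_d_rc_18_3 lc_d_rc_18_3 lc_d_rc_29_2 lc_d_rc_11_1 lc_d_rc_18_3 lc_d_rc_26_2 lc_d_rc_25_2 lc_d_rc_29_2 lc_d_rc_25_2 lc_d_rc_29_2 lc_d_rc_11_1) (@D3.rec (fun _ => (Cert rels S Gen.d)) lc_d_rc_18_3 lc_d_rc_18_3 lc_d_rc_27_2 lc_d_rc_25_2 lc_d_rc_26_2 lc_d_rc_27_2 lc_d_rc_25_2 lc_d_rc_25_4 lc_d_rc_27_2 lc_d_rc_28_2 lc_d_rc_11_1 lc_d_rc_3_1 lc_d_rc_27_2 lc_d_rc_11_1 lc_d_rc_29_2 lc_d_rc_3_1 lc_d_rc_29_2 lc_d_rc_11_1) (@D3.rec (fun _ => (Cert rels S Gen.d)) lc_d_rc_18_3 lc_d_rc_3_1 lc_d_rc_11_1 lc_d_rc_27_2 lc_d_rc_25_2 lc_d_rc_26_2 lc_d_rc_11_1 lc_d_rc_11_1 lc_d_rc_18_3 lc_d_rc_18_3 lc_d_rc_28_2 lc_d_rc_27_2 lc_d_rc_26_2 lc_d_rc_27_2 lc_d_rc_26_2 lc_d_rc_25_2 lc_d_rc_24_0 lc_d_rc_29_2) (@D3.rec (fun _ => (Cert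 rels S Gen.d)) lc_d_rc_24_0 lc_d_rc_29_2 lc_d_rc_25_2 lc_d_rc_29_2 lc_d_rc_24_0 lc_d_rc_29_2 lc_d_rc_3_1 lc_d_rc_47_30 lc_d_rc_29_2 lc_d_rc_18_3 lc_d_rc_18_3 lc_d_rc_26_2 lc_d_rc_18_3 lc_d_rc_29_2 lc_d_rc_18_3 lc_d_rc_29_2 lc_d_rc_25_2 lc_d_rc_18_3) (@D3.rec (fun _ => (Cert rels S Gen.d)) lc_d_rc_26_2 lc_d_Cert_tree lc_d_rc_24_0 lc_d_rc_29_2 lc_d_rc_25_2 lc_d_rc_29_2 lc_d_rc_26_2 lc_d_rc_18_3 lc_d_rc_29_2 lc_d_rc_26_2 lc_d_rc_18_1 lc_d_Cert_tree lc_d_rc_18_1 lc_d_rc_24_0 lc_d_rc_29_2 lc_d_rc_18_3 lc_d_rc_29_2 lc_d_rc_28_2) (@D3.rec (fun _ => (Cert rels S Gen.d)) lc_d_Cert_tree lc_d_rc_27_2 lc_d_Cert_tree lc_d_rc_24_0 lc_d_rc_29_2 lc_d_rc_29_2 lc_d_rc_25_2 lc_d_rc_29_2 lc_d_rc_3_1 lc_d_rc_3_1 lc_d_rc_26_2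 lc_d_rc_3_3 lc_d_rc_29_2 lc_d_rc_18_3 lc_d_rc_29_2 lc_d_Cert_tree lc_d_rc_24_0 lc_d_rc_29_2) (@D3.rec (fun _ => (Cert rels S Gen.d)) lc_d_Cert_tree lc_d_rc_24_0 lc_d_rc_29_2 lc_d_rc_18_3 lc_d_rc_25_2 lc_d_rc_29_2 lc_d_rc_29_2 lc_d_rc_27_2 lc_d_rc_25_2 lc_d_rc_26_2 lc_d_rc_28_2 lc_d_rc_27_2 lc_d_rc_26_2 lc_d_rc_24_0 lc_d_rc_29_2 lc_d_rc_29_2 lc_d_rc_11_1 lc_d_rc_18_3) (@D3.rec (fun _ => (Cert rels S Gen.d)) lc_d_rc_26_2 lc_d_rc_25_2 lc_d_rc_29_2 lc_d_rc_11_1 lc_d_rc_18_3 lc_d_rc_18_1 lc_d_rc_3_1 lc_d_rc_11_1 lc_d_rc_45_45 lc_d_rc_24_0 lc_d_rc_29_2 lc_d_rc_29_2 lc_d_rc_27_2 lc_d_rc_25_2 lc_d_rc_26_2 lc_d_Cert_tree lc_d_rc_3_1 lc_d_rc_24_0)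
def ce_d_10 : D2 → D3 → (Cert rels S Gen.d) := @D2.rec (fun _ => D3 → (Cert rels S Gen.d)) (@D3.rec (fun _ => (Cert rels S Gen.d)) lc_d_rc_29_2 lc_d_rc_25_2 lc_d_rc_29_2 lc_d_rc_3_1 lc_d_rc_24_0 lc_d_rc_29_2 lc_d_rc_25_2 lc_d_rc_29_2 lc_d_rc_27_2 lc_d_rc_25_2 lc_d_rc_26_2 lc_d_rc_28_2 lc_d_rc_27_2 lc_d_rc_25_4 lc_d_Cert_tree lc_d_Cert_tree lc_d_rc_24_0 lc_d_rc_29_2) (@D3.rec (fun _ => (Cert rels S Gen.d)) lc_d_rc_28_2 lc_d_rc_24_0 lc_d_rc_29_2 lc_d_rc_24_0 lc_d_rc_29_2 lc_d_rc_18_3 lc_d_rc_25_2 lc_d_rc_29_2 lc_d_rc_25_2 lc_d_rc_29_2 lc_d_rc_25_2 lc_d_rc_3_1 lc_d_rc_18_3 lc_d_rc_25_2 lc_d_rc_29_2 lc_d_rc_24_0 lc_d_rc_29_2 lc_d_rc_25_2) (@D3.rec (fun _ => (Cert rels S Gen.d)) lc_d_rc_29_2 lc_d_rc_11_1 lc_d_rc_18_3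 lc_d_rc_18_3 lc_d_rc_27_2 lc_d_rc_25_2 lc_d_rc_26_2 lc_d_rc_27_2 lc_d_rc_25_2 lc_d_rc_28_2 lc_d_rc_28_2 lc_d_rc_27_2 lc_d_Cert_tree lc_d_rc_28_2 lc_d_rc_26_2 lc_d_rc_3_1 lc_d_rc_11_1 lc_d_rc_11_1) (@D3.rec (fun _ => (Cert rels S Gen.d)) lc_d_rc_3_1 lc_d_rc_29_2 lc_d_rc_11_1 lc_d_rc_18_3 lc_d_rc_26_2 lc_d_rc_24_0 lc_d_rc_29_2 lc_d_rc_24_0 lc_d_rc_29_2 lc_d_rc_18_3 lc_d_rc_29_2 lc_d_rc_29_2 lc_d_rc_11_1 lc_d_rc_18_3 lc_d_rc_26_2 lc_d_rc_26_2 lc_d_rc_27_0 lc_d_rc_11_1) (@D3.rec (fun _ => (Cert rels S Gen.d)) lc_d_rc_45_33 lc_d_rc_24_0 lc_d_rc_29_2 lc_d_rc_24_0 lc_d_rc_29_2 lc_d_Cert_tree lc_d_rc_24_0 lc_d_rc_29_2 lc_d_rc_18_3 lc_d_rc_25_2 lc_d_rc_29_2 lc_d_rc_25_2 lc_d_rc_29_2 lc_d_rc_18_3 lc_d_rc_29_2 lc_d_rc_18_3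 lc_d_rc_26_2 lc_d_rc_26_2) (@D3.rec (fun _ => (Cert rels S Gen.d)) lc_d_rc_29_2 lc_d_rc_24_0 lc_d_rc_29_2 lc_d_rc_18_3 lc_d_rc_29_2 lc_d_rc_11_1 lc_d_rc_18_3 lc_d_rc_18_3 lc_d_rc_27_2 lc_d_rc_25_2 lc_d_rc_26_2 lc_d_rc_28_2 lc_d_rc_27_2 lc_d_rc_28_2 lc_d_rc_18_3 lc_d_rc_26_2 lc_d_rc_3_1 lc_d_rc_11_1) (@D3.rec (fun _ => (Cert rels S Gen.d)) lc_d_Cert_tree lc_d_rc_3_1 lc_d_rc_26_2 lc_d_rc_29_2 lc_d_rc_29_2 lc_d_rc_29_2 lc_d_rc_18_3 lc_d_rc_18_3 lc_d_rc_25_2 lc_d_rc_26_2 lc_d_rc_11_1 lc_d_rc_18_3 lc_d_rc_3_1 lc_d_rc_11_1 lc_d_rc_11_1 lc_d_rc_25_2 lc_d_rc_29_2 lc_d_rc_26_2) (@D3.rec (fun _ => (Cert rels S Gen.d)) lc_d_rc_25_2 lc_d_rc_29_2 lc_d_rc_27_2 lc_d_rc_25_2 lc_d_rc_26_2 lc_d_rc_25_2 lc_d_rc_11_1 lc_d_rc_11_1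 lc_d_rc_18_3 lc_d_rc_18_3 lc_d_rc_45_63 lc_d_rc_27_2 lc_d_rc_26_2 lc_d_rc_27_2 lc_d_rc_29_2 lc_d_rc_3_1 lc_d_rc_11_1 lc_d_rc_3_1) (@D3.rec (fun _ => (Cert rels S Gen.d)) lc_d_rc_11_1 lc_d_rc_28_2 lc_d_rc_27_2 lc_d_rc_26_2 lc_d_rc_11_1 lc_d_rc_11_1 lc_d_rc_11_1 lc_d_rc_18_3 lc_d_Cert_tree lc_d_rc_26_2 lc_d_rc_27_2 lc_d_rc_18_3 lc_d_rc_11_1 lc_d_rc_29_2 lc_d_rc_29_2 lc_d_rc_27_2 lc_d_rc_25_2 lc_d_rc_3_1) (@D3.rec (fun _ => (Cert rels S Gen.d)) lc_d_rc_29_2 lc_d_rc_3_1 lc_d_rc_29_2 lc_d_rc_26_2 lc_d_rc_18_3 lc_d_rc_18_3 lc_d_Cert_tree lc_d_rc_11_1 lc_d_rc_29_2 lc_d_rc_26_2 lc_d_rc_25_2 lc_d_rc_18_3 lc_d_rc_26_2 lc_d_rc_3_1 lc_d_rc_25_2 lc_d_Cert_tree lc_d_rc_24_0 lc_d_rc_29_2) (@D3.rec (fun _ => (Cert rels S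 Gen.d)) lc_d_rc_18_3 lc_d_rc_25_2 lc_d_rc_29_2 lc_d_rc_25_2 lc_d_rc_26_2 lc_d_rc_18_3 lc_d_rc_26_2 lc_d_Cert_tree lc_d_rc_24_0 lc_d_rc_29_2 lc_d_rc_29_2 lc_d_rc_25_2 lc_d_rc_29_2 lc_d_rc_18_3 lc_d_rc_26_2 lc_d_Cert_tree lc_d_rc_24_0 lc_d_rc_29_2) (@D3.rec (fun _ => (Cert rels S Gen.d)) lc_d_Cert_tree lc_d_rc_24_0 lc_d_rc_29_2 lc_d_rc_18_3 lc_d_rc_25_2 lc_d_rc_29_2 lc_d_rc_27_2 lc_d_rc_25_2 lc_d_rc_26_2 lc_d_rc_3_1 lc_d_rc_25_2 lc_d_rc_29_2 lc_d_rc_18_3 lc_d_rc_26_2 lc_d_rc_24_0 lc_d_rc_29_2 lc_d_rc_26_2 lc_d_rc_25_2) (@D3.rec (fun _ => (Cert rels S Gen.d)) lc_d_rc_29_2 lc_d_rc_24_0 lc_d_rc_29_2 lc_d_rc_29_2 lc_d_rc_11_1 lc_d_rc_18_3 lc_d_rc_27_2 lc_d_rc_25_2 lc_d_rc_26_2 lc_d_rc_11_1 lc_d_rc_28_2 lc_d_rc_27_2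 lc_d_Cert_tree lc_d_rc_28_2 lc_d_rc_26_2 lc_d_rc_29_2 lc_d_rc_26_2 lc_d_rc_3_1) (@D3.rec (fun _ => (Cert rels S Gen.d)) lc_d_rc_11_1 lc_d_Cert_tree lc_d_rc_25_2 lc_d_rc_3_1 lc_d_rc_11_1 lc_d_rc_3_1 lc_d_rc_3_1 lc_d_rc_11_1 lc_d_rc_29_2 lc_d_rc_3_1 lc_d_rc_27_2 lc_d_Cert_tree lc_d_rc_24_0 lc_d_rc_29_2 lc_d_rc_25_2 lc_d_rc_29_2 lc_d_rc_25_2 lc_d_rc_3_1) (@D3.rec (fun _ => (Cert rels S Gen.d)) lc_d_rc_25_2 lc_d_rc_29_2 lc_d_rc_27_2 lc_d_rc_25_2 lc_d_rc_26_2 lc_d_rc_27_2 lc_d_Cert_tree lc_d_rc_28_2 lc_d_rc_26_2 lc_d_rc_24_0 lc_d_rc_29_2 lc_d_rc_24_0 lc_d_rc_29_2 lc_d_rc_18_3 lc_d_rc_29_2 lc_d_rc_25_2 lc_d_rc_29_2 lc_d_rc_25_2)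
def ce_d_11 : D2 → D3 → (Cert rels S Gen.d) := @D2.rec (fun _ => D3 → (Cert rels S Gen.d)) (@D3.rec (fun _ => (Cert rels S Gen.d)) lc_d_rc_29_2 lc_d_rc_18_3 lc_d_rc_18_3 lc_d_rc_25_2 lc_d_rc_3_1 lc_d_rc_27_2 lc_d_rc_25_2 lc_d_rc_28_2 lc_d_Cert_tree lc_d_rc_26_2 lc_d_rc_25_2 lc_d_rc_29_2 lc_d_rc_25_2 lc_d_rc_29_2 lc_d_rc_27_2 lc_d_rc_25_2 lc_d_rc_47_37 lc_d_rc_3_1) (@D3.rec (fun _ => (Cert rels S Gen.d)) lc_d_rc_25_2 lc_d_rc_11_1 lc_d_rc_18_3 lc_d_rc_18_3 lc_d_rc_3_3 lc_d_rc_28_2 lc_d_rc_27_2 lc_d_Cert_tree lc_d_rc_28_2 lc_d_rc_27_2 lc_d_Cert_tree lc_d_rc_28_2 lc_d_Cert_tree lc_d_rc_24_0 lc_d_rc_18_1 lc_d_rc_3_1 lc_d_rc_26_2 lc_d_rc_11_1) (@D3.rec (fun _ => (Cert rels S Gen.d)) lc_d_Cert_tree lc_d_rc_29_2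 lc_d_rc_29_2 lc_d_rc_11_1 lc_d_rc_18_3 lc_d_rc_26_2 lc_d_rc_26_2 lc_d_rc_11_1 lc_d_Cert_tree lc_d_rc_29_2 lc_d_rc_11_1 lc_d_rc_29_2 lc_d_rc_3_1 lc_d_rc_29_2 lc_d_rc_24_0 lc_d_rc_29_2 lc_d_rc_18_3 lc_d_rc_29_2) (@D3.rec (fun _ => (Cert rels S Gen.d)) lc_d_rc_18_3 lc_d_rc_18_3 lc_d_rc_25_2 lc_d_rc_26_2 lc_d_rc_18_3 lc_d_rc_26_2 lc_d_Cert_tree lc_d_rc_11_1 lc_d_rc_29_2 lc_d_rc_29_2 lc_d_rc_25_2 lc_d_rc_29_2 lc_d_rc_18_3 lc_d_rc_26_2 lc_d_rc_3_1 lc_d_rc_11_1 lc_d_rc_11_1 lc_d_rc_18_3) (@D3.rec (fun _ => (Cert rels S Gen.d)) lc_d_rc_18_3 lc_d_Cert_tree lc_d_rc_28_2 lc_d_rc_27_2 lc_d_rc_26_2 lc_d_rc_28_2 lc_d_Cert_tree lc_d_rc_3_1 lc_d_Cert_tree lc_d_rc_24_0 lc_d_rc_46_17 lc_d_rc_3_1 lc_d_rc_29_2 lc_d_rc_26_2 lc_d_rc_18_3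 lc_d_rc_3_1 lc_d_rc_26_2 lc_d_rc_11_1) (@D3.rec (fun _ => (Cert rels S Gen.d)) lc_d_rc_45_45 lc_d_rc_3_1 lc_d_rc_25_2 lc_d_rc_11_1 lc_d_rc_26_2 lc_d_rc_25_2 lc_d_rc_46_24 lc_d_rc_27_2 lc_d_rc_26_2 lc_d_rc_27_2 lc_d_rc_26_2 lc_d_rc_29_2 lc_d_rc_11_1 lc_d_rc_11_1 lc_d_rc_3_3 lc_d_rc_18_3 lc_d_Cert_tree lc_d_rc_26_2) (@D3.rec (fun _ => (Cert rels S Gen.d)) lc_d_rc_3_1 lc_d_rc_45_57 lc_d_rc_45_27 lc_d_rc_11_1 lc_d_Cert_tree lc_d_Cert_tree lc_d_rc_24_0 lc_d_rc_18_3 lc_d_rc_11_1 lc_d_rc_11_1 lc_d_rc_3_1 lc_d_rc_27_2 lc_d_Cert_tree lc_d_rc_3_1 lc_d_rc_29_2 lc_d_rc_11_1 lc_d_rc_18_3 lc_d_Cert_tree) (@D3.rec (fun _ => (Cert rels S Gen.d)) lc_d_rc_24_0 lc_d_rc_29_2 lc_d_rc_45_72 lc_d_rc_25_2 lc_d_Cert_tree lc_d_rc_3_1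 lc_d_Cert_tree lc_d_rc_24_0 lc_d_rc_26_2 lc_d_rc_25_2 lc_d_rc_29_2 lc_d_rc_25_2 lc_d_rc_18_3 lc_d_rc_25_2 lc_d_rc_26_2 lc_d_Cert_tree lc_d_Cert_tree lc_d_rc_24_0) (@D3.rec (fun _ => (Cert rels S Gen.d)) lc_d_rc_29_2 lc_d_rc_3_1 lc_d_rc_25_2 lc_d_rc_29_2 lc_d_rc_25_2 lc_d_rc_26_2 lc_d_rc_18_3 lc_d_rc_24_0 lc_d_rc_29_2 lc_d_rc_3_1 lc_d_rc_25_2 lc_d_rc_29_2 lc_d_rc_24_0 lc_d_rc_29_2 lc_d_rc_29_2 lc_d_rc_18_3 lc_d_rc_27_2 lc_d_rc_25_2) (@D3.rec (fun _ => (Cert rels S Gen.d)) lc_d_rc_26_2 lc_d_rc_27_2 lc_d_Cert_tree lc_d_rc_26_2 lc_d_Cert_tree lc_d_rc_29_2 lc_d_rc_11_1 lc_d_rc_29_2 lc_d_rc_26_2 lc_d_rc_25_2 lc_d_rc_29_2 lc_d_rc_25_2 lc_d_rc_29_2 lc_d_rc_11_1 lc_d_rc_3_1 lc_d_rc_11_1 lc_d_Cert_tree lc_d_rc_28_2)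 (@D3.rec (fun _ => (Cert rels S Gen.d)) lc_d_rc_27_2 lc_d_Cert_tree lc_d_rc_28_2 lc_d_Cert_tree lc_d_rc_24_0 lc_d_rc_11_1 lc_d_rc_11_1 lc_d_rc_3_1 lc_d_Cert_tree lc_d_rc_24_0 lc_d_rc_25_2 lc_d_rc_45_57 lc_d_rc_45_69 lc_d_rc_11_1 lc_d_Cert_tree lc_d_rc_24_0 lc_d_rc_29_2 lc_d_rc_25_2) (@D3.rec (fun _ => (Cert rels S Gen.d)) lc_d_rc_3_1 lc_d_Cert_tree lc_d_rc_25_2 lc_d_rc_29_2 lc_d_rc_27_2 lc_d_Cert_tree lc_d_Cert_tree lc_d_rc_24_0 lc_d_rc_11_1 lc_d_rc_29_2 lc_d_rc_29_2 lc_d_rc_18_3 lc_d_rc_11_1 lc_d_rc_25_2 lc_d_rc_11_3 lc_d_rc_27_2 lc_d_rc_25_2 lc_d_rc_3_1) (@D3.rec (fun _ => (Cert rels S Gen.d)) lc_d_rc_18_3 lc_d_rc_18_1 lc_d_Cert_tree lc_d_rc_27_2 lc_d_Cert_tree lc_d_rc_24_0 lc_d_rc_26_2 lc_d_rc_27_2 lc_d_Cert_tree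 lc_d_rc_25_2 lc_d_rc_18_1 lc_d_rc_28_2 lc_d_rc_27_2 lc_d_Cert_tree lc_d_rc_3_1 lc_d_rc_25_2 lc_d_rc_25_2 lc_d_rc_24_1) (@D3.rec (fun _ => (Cert rels S Gen.d)) lc_d_rc_18_3 lc_d_rc_18_3 lc_d_Cert_tree lc_d_rc_28_2 lc_d_Cert_tree lc_d_rc_24_0 lc_d_rc_28_2 lc_d_Cert_tree lc_d_rc_24_0 lc_d_rc_25_2 lc_d_rc_24_0 lc_d_rc_18_3 lc_d_Cert_tree lc_d_rc_24_0 lc_d_rc_29_2 lc_d_rc_26_2 lc_d_rc_11_1 lc_d_Cert_tree) (@D3.rec (fun _ => (Cert rels S Gen.d)) lc_d_Cert_tree lc_d_rc_24_0 lc_d_rc_45_24 lc_d_rc_26_2 lc_d_rc_3_1 lc_d_rc_26_2 lc_d_rc_29_2 lc_d_rc_18_3 lc_d_rc_26_2 lc_d_rc_18_3 lc_d_Cert_tree lc_d_rc_26_2 lc_d_rc_18_3 lc_d_rc_24_0 lc_d_rc_11_1 lc_d_Cert_tree lc_d_rc_25_2 lc_d_rc_26_2)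
def ce_d_12 : D2 → D3 → (Cert rels S Gen.d) := @D2.rec (fun _ => D3 → (Cert rels S Gen.d)) (@D3.rec (fun _ => (Cert rels S Gen.d)) lc_d_Cert_tree lc_d_rc_3_1 lc_d_rc_11_1 lc_d_Cert_tree lc_d_rc_18_3 lc_d_Cert_tree lc_d_rc_24_0 lc_d_rc_28_2 lc_d_rc_26_2 lc_d_rc_24_0 lc_d_rc_18_3 lc_d_rc_24_0 lc_d_rc_25_2 lc_d_Cert_tree lc_d_rc_28_2 lc_d_rc_3_1 lc_d_rc_25_2 lc_d_rc_24_1) (@D3.rec (fun _ => (Cert rels S Gen.d)) lc_d_rc_27_2 lc_d_Cert_tree lc_d_rc_26_2 lc_d_rc_26_2 lc_d_rc_18_1 lc_d_rc_11_1 lc_d_Cert_tree lc_d_Cert_tree lc_d_rc_24_0 lc_d_Cert_tree lc_d_rc_24_0 lc_d_rc_24_0 lc_d_Cert_tree lc_d_Cert_tree lc_d_Cert_tree lc_d_rc_24_0 lc_d_rc_11_1 lc_d_Cert_tree) (@D3.rec (fun _ => (Cert rels S Gen.d)) lc_d_rc_24_0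 lc_d_rc_18_3 lc_d_rc_24_0 lc_d_rc_25_4 lc_d_rc_24_0 lc_d_rc_25_2 lc_d_rc_24_0 lc_d_rc_25_2 lc_d_rc_29_2 lc_d_rc_25_2 lc_d_rc_29_2 lc_d_rc_25_2 lc_d_Cert_tree lc_d_Cert_tree lc_d_rc_24_0 lc_d_rc_24_0 lc_d_rc_29_2 lc_d_rc_3_1) (@D3.rec (fun _ => (Cert rels S Gen.d)) lc_d_rc_25_2 lc_d_rc_26_2 lc_d_Cert_tree lc_d_rc_29_2 lc_d_rc_3_1 lc_d_rc_25_2 lc_d_rc_26_2 lc_d_rc_29_2 lc_d_rc_45_27 lc_d_Cert_tree lc_d_rc_27_2 lc_d_Cert_tree lc_d_Cert_tree lc_d_rc_24_0 lc_d_rc_24_0 lc_d_rc_45_30 lc_d_rc_11_1 lc_d_Cert_tree) (@D3.rec (fun _ => (Cert rels S Gen.d)) lc_d_rc_27_2 lc_d_Cert_tree lc_d_rc_25_2 lc_d_rc_45_30 lc_d_rc_3_1 lc_d_Cert_tree lc_d_rc_24_0 lc_d_rc_28_2 lc_d_Cert_tree lc_d_rc_24_0 lc_d_Cert_tree lc_d_rc_24_0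 lc_d_rc_45_27 lc_d_rc_11_3 lc_d_rc_24_0 lc_d_rc_25_2 lc_d_rc_24_0 lc_d_rc_11_1) (@D3.rec (fun _ => (Cert rels S Gen.d)) lc_d_Cert_tree lc_d_rc_24_0 lc_d_Cert_tree lc_d_Cert_tree lc_d_rc_24_0 lc_d_rc_24_0 lc_d_rc_3_1 lc_d_rc_26_2 lc_d_rc_28_2 lc_d_Cert_tree lc_d_Cert_tree lc_d_rc_27_2 lc_d_Cert_tree lc_d_Cert_tree lc_d_rc_24_0 lc_d_rc_26_4 lc_d_rc_24_0 lc_d_rc_18_3) (@D3.rec (fun _ => (Cert rels S Gen.d)) lc_d_rc_28_2 lc_d_Cert_tree lc_d_rc_24_0 lc_d_Cert_tree lc_d_rc_28_2 lc_d_Cert_tree lc_d_rc_24_0 lc_d_rc_3_1 lc_d_rc_25_2 lc_d_Cert_tree lc_d_rc_18_3 lc_d_Cert_tree lc_d_rc_24_0 lc_d_rc_24_1 lc_d_rc_24_0 lc_d_rc_18_3 lc_d_rc_27_2 lc_d_rc_24_0) (@D3.rec (fun _ => (Cert rels S Gen.d)) lc_d_rc_18_3 lc_d_rc_18_3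 lc_d_rc_11_1 lc_d_rc_24_0 lc_d_Cert_tree lc_d_rc_24_0 lc_d_rc_24_0 lc_d_Cert_tree lc_d_rc_26_2 lc_d_rc_46_31 lc_d_Cert_tree lc_d_rc_24_0 lc_d_Cert_tree lc_d_rc_24_0 lc_d_Cert_tree lc_d_rc_24_0 lc_d_rc_18_3 lc_d_Cert_tree) (@D3.rec (fun _ => (Cert rels S Gen.d)) lc_d_rc_24_0 lc_d_Cert_tree lc_d_rc_24_0 lc_d_rc_25_2 lc_d_rc_26_2 lc_d_rc_24_0 lc_d_rc_3_1 lc_d_Cert_tree lc_d_Cert_tree lc_d_rc_24_0 lc_d_Cert_tree lc_d_rc_24_0 lc_d_rc_24_0 lc_d_rc_24_0 lc_d_rc_18_3 lc_d_rc_24_0 lc_d_rc_24_0 lc_d_rc_24_0) (@D3.rec (fun _ => (Cert rels S Gen.d)) lc_d_rc_24_0 lc_d_rc_26_2 lc_d_rc_25_2 lc_d_Cert_tree lc_d_Cert_tree lc_d_Cert_tree lc_d_rc_24_0 lc_d_rc_24_0 lc_d_rc_18_3 lc_d_rc_25_2 lc_d_rc_26_2 lc_d_Cert_tree lc_d_Cert_tree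 lc_d_rc_24_0 lc_d_rc_24_0 lc_d_Cert_tree lc_d_Cert_tree lc_d_rc_24_0) (@D3.rec (fun _ => (Cert rels S Gen.d)) lc_d_rc_24_0 lc_d_Cert_tree lc_d_rc_24_0 lc_d_rc_24_0 lc_d_Cert_tree lc_d_rc_24_0 lc_d_Cert_tree lc_d_rc_24_0 lc_d_Cert_tree lc_d_Cert_tree lc_d_rc_24_0 lc_d_rc_45_66 lc_d_rc_11_1 lc_d_rc_24_0 lc_d_rc_45_27 lc_d_rc_24_0 lc_d_rc_45_36 lc_d_rc_26_2) (@D3.rec (fun _ => (Cert rels S Gen.d)) lc_d_rc_27_2 lc_d_rc_24_0 lc_d_rc_24_0 lc_d_rc_24_0 lc_d_rc_3_1 lc_d_rc_24_0 lc_d_rc_24_0 lc_d_rc_11_1 lc_d_rc_24_0 lc_d_rc_24_0 lc_d_rc_18_3 lc_d_rc_24_1 lc_d_rc_24_0 lc_d_rc_25_2 lc_d_rc_24_0 lc_d_rc_27_2 lc_d_rc_24_0 lc_d_rc_27_0) (@D3.rec (fun _ => (Cert rels S Gen.d)) lc_d_rc_24_1 lc_d_rc_24_0 lc_d_Cert_tree lc_d_rc_24_0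 lc_d_rc_18_3 lc_d_rc_27_2 lc_d_rc_24_1 lc_d_rc_18_3 lc_d_rc_25_2 lc_d_rc_24_0 lc_d_rc_24_0 lc_d_rc_24_0 lc_d_rc_24_0 lc_d_rc_24_0 lc_d_rc_24_0 lc_d_rc_24_0 lc_d_rc_24_0 lc_d_rc_24_0) (@D3.rec (fun _ => (Cert rels S Gen.d)) lc_d_rc_24_0 lc_d_rc_26_4 lc_d_rc_24_0 lc_d_rc_24_0 lc_d_rc_24_0 lc_d_rc_25_2 lc_d_rc_18_3 lc_d_rc_11_1 lc_d_rc_24_0 lc_d_rc_24_0 lc_d_rc_24_0 lc_d_rc_24_0 lc_d_rc_24_0 lc_d_rc_24_0 lc_d_rc_45_66 lc_d_rc_24_0 lc_d_rc_45_27 lc_d_rc_24_0) (@D3.rec (fun _ => (Cert rels S Gen.d)) lc_d_rc_24_0 lc_d_rc_18_3 lc_d_rc_27_2 lc_d_rc_24_0 lc_d_rc_27_0 lc_d_rc_18_3 lc_d_rc_11_1 lc_d_rc_27_2 lc_d_rc_18_3 lc_d_rc_25_2 lc_d_rc_24_0 lc_d_rc_25_2 lc_d_rc_27_2 lc_d_rc_25_2 lc_d_rc_18_3 lc_d_rc_18_3 lc_d_rc_25_2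 lc_d_rc_27_2)
def ce_d : Pt → (Cert rels S Gen.d) := @Pt.rec (fun _ => (Cert rels S Gen.d)) (@D1.rec (fun _ => D2 → D3 → (Cert rels S Gen.d)) ce_d_0 ce_d_1 ce_d_2 ce_d_3 ce_d_4 ce_d_5 ce_d_6 ce_d_7 ce_d_8 ce_d_9 ce_d_10 ce_d_11 ce_d_12)

end

end Cfsg.Agent.Helper28.S1687
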