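import Cfsg.Agent.Lib.Helper28.S1687.Tree

set_option autoImplicit false
set_option maxRecDepth 100000

namespace Cfsg.Agent.Helper28.S1687

open Cfsg.Agent.Helper28
open Cfsg.Spor.Fi22 (Gen)

noncomputable section

def lv_e_0 : D2 → D3 → Nat := @D2.rec (fun _ => D3 → Nat) (@D3.rec (fun _ => Nat) 1 2 3 3 4 0 5 0 1 2 0 1 2 5 2 3 0 1) (@D3.rec (fun _ => Nat) 2 6 2 3 6 6 5 3 1 2 7 2 3 7 7 6 3 7) (@D3.rec (fun _ => Nat) 0 7 6 6 5 8 2 7 3 8 8 7 3 8 0 8 7 7) (@D3.rec (fun _ => Nat) 0 8 0 1 2 7 7 7 0 9 9 3 8 9 0 9 8 0) (@D3.rec (fun _ => Nat) 9 0 1 2 8 8 0 1 2 0 1 2 2 3 8 8 1 2) (@D3.rec (fun _ => Nat) 10 10 9 0 10 1 2 9 0 1 2 1 2 2 3 9 0 1) (@D3.rec (fun _ => Nat) 2 9 2 3 1 2 8 2 3 3 9 0 2 11 1 2 2 3) (@D3.rec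 (fun _ => Nat) 1 2 10 2 3 9 2 3 3 0 1 2 9 10 2 3 10 3) (@D3.rec (fun _ => Nat) 9 2 3 9 9 3 0 9 0 1 11 11 2 3 3 10 11 2) (@D3.rec (fun _ => Nat) 3 11 3 10 10 3 0 10 1 10 11 2 3 0 10 10 11 3) (@D3.rec (fun _ => Nat) 0 11 10 10 10 10 3 0 10 10 0 1 10 0 1 9 12 3) (@D3.rec (fun _ => Nat) 11 0 11 11 12 3 0 12 11 11 11 0 1 11 9 11 0 11) (@D3.rec (fun _ => Nat) 11 12 3 0 1 2 2 11 11 12 0 1 0 11 11 11 11 11) (@D3.rec (fun _ => Nat) 0 0 1 11 0 0 1 8 11 1 9 9 13 12 12 1 2 2) (@D3.rec (fun _ => Nat) 12 12 13 0 1 0 12 12 0 0 1 8 12 9 0 12 12 1)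
def lv_e_1 : D2 → D3 → Nat := @D2.rec (fun _ => D3 → Nat) (@D3.rec (fun _ => Nat) 2 2 12 12 13 0 0 1 2 2 3 3 12 0 0 0 1 13) (@D3.rec (fun _ => Nat) 0 1 12 0 12 12 12 0 0 1 1 10 0 0 1 0 1 11) (@D3.rec (fun _ => Nat) 10 12 11 11 11 0 13 13 2 2 3 3 13 0 0 0 1 14) (@D3.rec (fun _ => Nat) 0 1 13 0 0 1 0 1 12 10 13 1 2 2 0 13 13 2) (@D3.rec (fun _ => Nat) 2 3 3 13 0 0 0 1 1 14 12 3 3 4 0 0 0 1) (@D3.rec (fun _ => Nat) 0 1 0 1 5 14 0 1 13 1 2 13 0 0 0 1 0 1) (@D3.rec (fun _ => Nat) 12 12 10 10 0 1 0 1 12 0 1 12 12 24 12 11 0 1) (@D3.rec (fun _ => Nat) 14 14 13 3 3 4 0 0 0 1 0 1 0 1 5 15 0 1) (@D3.rec (fun _ => Nat) 14 0 1 0 1 13 0 1 13 13 13 2 2 12 3 3 1 2) (@D3.rec (fun _ => Nat) 14 0 13 3 3 4 0 0 0 1 0 1 0 1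 5 13 15 15) (@D3.rec (fun _ => Nat) 13 13 4 0 0 0 1 0 1 0 1 5 0 1 5 0 1 6) (@D3.rec (fun _ => Nat) 6 0 1 7 13 2 23 0 0 1 0 1 0 1 13 0 1 13) (@D3.rec (fun _ => Nat) 13 13 22 13 12 0 1 13 0 1 12 13 13 1 13 13 24 0) (@D3.rec (fun _ => Nat) 1 15 14 14 4 0 0 0 1 0 1 0 1 5 0 1 5 0) (@D3.rec (fun _ => Nat) 1 6 6 0 1 7 0 1 14 0 1 13 14 14 1 14 14 14)
def lv_e_2 : D2 → D3 → Nat := @D2.rec (fun _ => D3 → Nat) (@D3.rec (fun _ => Nat) 3 3 13 4 0 2 25 0 0 1 14 4 0 0 0 1 0 1) (@D3.rec (fun _ => Nat) 0 1 5 0 1 5 0 1 14 6 6 0 14 16 14 14 0 0) (@D3.rec (fun _ => Nat) 1 0 1 0 1 5 0 1 7 0 1 13 6 6 0 1 7 6) (@D3.rec (fun _ => Nat) 6 1 7 7 1 8 8 21 0 1 0 1 14 0 1 14 0 1) (@D3.rec (fun _ => Nat) 5 14 14 1 14 14 22 14 14 22 0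 1 13 14 14 1 13 14) (@D3.rec (fun _ => Nat) 19 14 14 14 0 1 15 15 15 15 0 0 1 0 1 0 1 5) (@D3.rec (fun _ => Nat) 0 1 7 0 1 14 6 6 0 1 7 6 6 1 7 7 1 8) (@D3.rec (fun _ => Nat) 8 21 1 14 15 15 1 15 15 15 15 4 0 14 0 0 1 23) (@D3.rec (fun _ => Nat) 0 1 0 1 5 15 0 0 1 0 1 0 1 5 0 1 7 0) (@D3.rec (fun _ => Nat) 1 5 6 6 0 1 15 6 6 1 15 7 0 15 7 1 2 2) (@D3.rec (fun _ => Nat) 15 15 0 0 1 0 1 14 0 1 6 0 1 14 6 6 0 1) (@D3.rec (fun _ => Nat) 14 7 7 1 14 7 0 7 1 8 7 14 8 7 8 8 9 9) (@D3.rec (fun _ => Nat) 9 9 21 0 1 0 1 5 15 0 1 6 15 15 1 6 15 22) (@D3.rec (fun _ => Nat) 6 15 15 15 20 15 15 22 1 14 15 15 14 15 22 15 1 16) (@D3.rec (fun _ => Nat) 16 0 0 1 0 1 15 0 1 6 0 1 15 6 6 20 1 15)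
def lv_e_3 : D2 → D3 → Nat := @D2.rec (fun _ => D3 → Nat) (@D3.rec (fun _ => Nat) 7 7 1 15 7 0 7 1 8 7 15 8 7 8 8 9 16 0) (@D3.rec (fun _ => Nat) 0 0 1 0 0 1 0 1 5 23 0 1 7 0 1 5 6 6) (@D3.rec (fun _ => Nat) 0 0 1 0 1 15 0 1 6 0 1 6 6 6 0 1 6 7) (@D3.rec (fun _ => Nat) 7 1 6 7 0 6 7 1 16 7 0 16 7 16 8 0 16 8) (@D3.rec (fun _ => Nat) 1 2 2 16 2 2 1 0 1 15 0 1 15 15 15 0 1 15) (@D3.rec (fun _ => Nat) 8 8 1 15 7 0 15 7 1 15 9 0 9 15 8 15 0 8) (@D3.rec (fun _ => Nat) 1 2 9 8 9 15 9 8 15 15 9 9 10 10 21 0 1 6) (@D3.rec (fun _ => Nat) 1 6 16 0 6 1 7 16 24 23 16 7 16 7 24 7 16 24) (@D3.rec (fun _ => Nat) 21 16 16 22 1 1 16 1 16 16 16 0 1 16 8 8 1 16) (@D3.rec (fun _ => Nat) 7 0 16 7 9 19 9 8 1 9 8 16 8 16 16 9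 0 1) (@D3.rec (fun _ => Nat) 0 1 0 1 16 0 1 0 1 6 0 1 6 6 6 21 0 1) (@D3.rec (fun _ => Nat) 6 7 1 6 7 0 6 7 0 1 0 1 16 0 1 7 16 16) (@D3.rec (fun _ => Nat) 0 1 8 8 8 1 7 7 0 7 7 1 7 9 0 23 9 7) (@D3.rec (fun _ => Nat) 8 7 0 7 8 1 2 2 7 17 8 17 0 17 8 1 2 2) (@D3.rec (fun _ => Nat) 17 0 17 9 1 2 2 17 2 2 16 16 1 16 16 16 1 16)
def lv_e_4 : D2 → D3 → Nat := @D2.rec (fun _ => D3 → Nat) (@D3.rec (fun _ => Nat) 16 0 16 16 1 16 8 0 16 8 16 8 16 0 16 8 1 2) (@D3.rec (fun _ => Nat) 2 16 9 16 23 9 1 16 0 1 2 10 16 9 16 10 16 16) (@D3.rec (fun _ => Nat) 16 16 0 19 1 7 7 17 7 0 7 1 23 8 8 22 23 24) (@D3.rec (fun _ => Nat) 8 27 24 20 17 17 17 17 17 17 0 17 17 1 17 8 0 17) (@D3.rec (fun _ => Nat) 8 17 8 27 20 1 22 2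 17 9 17 17 0 1 17 0 1 17) (@D3.rec (fun _ => Nat) 0 1 7 17 17 0 1 0 1 8 8 1 7 7 0 7 7 22) (@D3.rec (fun _ => Nat) 1 7 9 0 7 8 7 0 7 8 1 2 2 7 1 17 1 9) (@D3.rec (fun _ => Nat) 17 17 1 8 17 0 8 17 1 9 8 0 9 8 8 8 8 0) (@D3.rec (fun _ => Nat) 8 8 1 2 2 8 8 9 8 0 25 9 1 2 2 25 8 0) (@D3.rec (fun _ => Nat) 8 9 0 8 1 2 2 8 2 2 18 0 18 9 0 18 1 2) (@D3.rec (fun _ => Nat) 2 18 2 2 4 3 1 2 2 18 2 2 8 17 17 17 17 0) (@D3.rec (fun _ => Nat) 17 17 17 17 0 17 17 1 2 2 17 17 10 17 0 17 10 1) (@D3.rec (fun _ => Nat) 26 27 17 17 25 22 0 17 1 31 2 2 2 29 28 1 17 17) (@D3.rec (fun _ => Nat) 17 17 0 17 17 1 8 8 23 26 8 1 18 0 18 18 0 18) (@D3.rec (fun _ => Nat) 18 1 22 23 18 29 1 28 26 29 2 25 18 0 1 17 18 18)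
def lv_e_5 : D2 → D3 → Nat := @D2.rec (fun _ => D3 → Nat) (@D3.rec (fun _ => Nat) 1 9 18 1 8 18 0 8 18 0 1 17 1 9 8 0 9 8) (@D3.rec (fun _ => Nat) 8 8 0 8 8 1 2 2 8 8 9 8 0 1 8 0 8 9) (@D3.rec (fun _ => Nat) 0 8 1 2 2 8 2 2 4 31 17 18 18 10 18 0 10 18) (@D3.rec (fun _ => Nat) 9 18 9 0 9 18 1 2 2 9 10 10 10 0 10 10 1 2) (@D3.rec (fun _ => Nat) 2 10 9 0 9 9 0 9 1 2 2 9 2 2 4 3 0 0) (@D3.rec (fun _ => Nat) 1 2 2 2 2 1 2 1 2 2 2 8 0 19 1 2 2 19) (@D3.rec (fun _ => Nat) 1 2 2 0 19 2 2 4 3 4 9 3 5 2 2 9 9 18) (@D3.rec (fun _ => Nat) 18 0 18 1 27 18 0 18 18 0 18 1 24 27 18 2 2 26) (@D3.rec (fun _ => Nat) 29 18 26 0 18 1 28 26 29 1 27 2 0 2 28 11 18 18) (@D3.rec (fun _ => Nat) 0 1 20 1 28 26 1 22 21 1 18 19 0 18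 19 10 19 0) (@D3.rec (fun _ => Nat) 10 9 19 9 0 9 19 1 2 2 9 1 18 18 10 10 10 0) (@D3.rec (fun _ => Nat) 10 1 2 10 9 0 9 9 0 9 1 2 2 9 2 2 4 3) (@D3.rec (fun _ => Nat) 0 0 1 0 1 2 2 1 2 2 29 30 4 18 0 18 19 11) (@D3.rec (fun _ => Nat) 0 11 19 1 2 2 11 10 0 10 19 0 10 1 2 2 10 2) (@D3.rec (fun _ => Nat) 2 4 3 11 0 11 0 11 1 2 2 11 2 2 4 3 10 0)
def lv_e_6 : D2 → D3 → Nat := @D2.rec (fun _ => D3 → Nat) (@D3.rec (fun _ => Nat) 10 1 2 2 10 1 2 2 0 10 2 2 4 3 18 4 9 3) (@D3.rec (fun _ => Nat) 5 1 1 2 2 2 11 2 9 9 1 2 2 20 2 2 4 3) (@D3.rec (fun _ => Nat) 2 2 4 0 3 1 2 4 10 3 5 5 10 10 10 10 10 19) (@D3.rec (fun _ => Nat) 0 1 27 19 0 19 1 26 25 1 26 27 0 30 32 1 26 31) (@D3.rec (fun _ => Nat) 12 2 26 0 1 12 0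 1 5 19 20 19 0 19 20 1 2 2) (@D3.rec (fun _ => Nat) 19 11 0 11 1 2 11 10 0 10 20 0 10 1 2 2 10 2) (@D3.rec (fun _ => Nat) 2 4 3 19 19 19 19 11 0 11 0 11 1 2 11 2 3 10) (@D3.rec (fun _ => Nat) 0 10 1 2 2 10 1 2 2 0 10 2 2 4 3 19 4 19) (@D3.rec (fun _ => Nat) 3 5 1 1 1 2 2 18 30 19 19 19 1 2 2 19 0 12) (@D3.rec (fun _ => Nat) 1 2 2 12 2 2 4 3 11 0 11 1 2 2 11 1 2 2) (@D3.rec (fun _ => Nat) 0 11 2 2 4 3 19 4 19 3 5 12 0 12 1 2 12 1) (@D3.rec (fun _ => Nat) 2 2 28 12 2 2 4 3 4 19 3 5 0 1 29 2 11 2) (@D3.rec (fun _ => Nat) 2 4 3 12 2 2 4 0 3 1 2 19 4 10 3 5 5 10) (@D3.rec (fun _ => Nat) 10 10 12 18 10 10 2 2 4 3 4 11 3 5 4 0 3 0) (@D3.rec (fun _ => Nat) 5 1 2 5 2 5 11 11 11 11 11 11 11 1 30 25 1 28)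
def lv_e_7 : D2 → D3 → Nat := @D2.rec (fun _ => D3 → Nat) (@D3.rec (fun _ => Nat) 29 13 0 1 13 0 0 1 5 13 1 4 20 0 20 21 27 20) (@D3.rec (fun _ => Nat) 1 28 2 20 2 2 4 3 0 12 1 2 12 2 3 11 0 11) (@D3.rec (fun _ => Nat) 1 2 2 11 1 2 2 0 11 2 2 4 3 20 4 8 3 5) (@D3.rec (fun _ => Nat) 20 20 20 20 12 0 12 1 2 12 1 2 0 12 2 3 3 0) (@D3.rec (fun _ => Nat) 29 1 2 2 27 11 2 2 4 3 19 2 2 4 0 3 1 2) (@D3.rec (fun _ => Nat) 20 4 20 3 5 20 20 5 20 20 19 19 20 19 20 20 20 2) (@D3.rec (fun _ => Nat) 2 4 3 1 2 2 13 2 2 4 3 4 8 3 5 0 12 1) (@D3.rec (fun _ => Nat) 2 2 28 12 2 2 4 3 13 2 2 4 0 3 1 2 20 4) (@D3.rec (fun _ => Nat) 20 3 5 20 20 5 20 20 32 1 2 13 2 3 28 2 2 4) (@D3.rec (fun _ => Nat) 0 3 30 4 20 3 5 5 20 1 29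 2 29 3 4 11 3 5) (@D3.rec (fun _ => Nat) 13 20 4 0 3 0 5 1 2 5 2 5 11 11 11 11 11 19) (@D3.rec (fun _ => Nat) 13 19 11 11 4 27 3 5 5 12 12 0 5 0 1 2 1 2) (@D3.rec (fun _ => Nat) 4 2 30 5 12 12 12 12 12 14 14 1 5 0 14 1 1 4) (@D3.rec (fun _ => Nat) 20 21 31 21 1 28 2 21 30 0 21 2 31 3 4 8 3 5) (@D3.rec (fun _ => Nat) 1 2 28 13 2 3 30 3 0 12 1 2 2 0 12 2 2 4)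
def lv_e_8 : D2 → D3 → Nat := @D2.rec (fun _ => D3 → Nat) (@D3.rec (fun _ => Nat) 3 20 2 2 4 0 3 1 2 21 4 9 3 5 21 9 5 9) (@D3.rec (fun _ => Nat) 9 21 21 21 0 21 0 27 1 2 32 13 2 3 20 2 0 3) (@D3.rec (fun _ => Nat) 1 2 3 1 2 2 29 20 2 2 4 0 3 29 4 21 3 5) (@D3.rec (fun _ => Nat) 20 20 21 4 0 3 0 5 1 2 5 2 3 21 21 5 21 21) (@D3.rec (fun _ => Nat) 21 21 21 21 21 20 20 21 21 21 4 8 3 5 30 2 2 4) (@D3.rec (fun _ => Nat) 3 4 29 3 5 9 5 9 9 1 2 13 14 2 2 4 0 3) (@D3.rec (fun _ => Nat) 30 21 4 21 3 5 31 14 21 4 0 3 28 5 1 2 5 2) (@D3.rec (fun _ => Nat) 21 21 5 21 21 21 21 21 21 21 2 3 3 30 4 0 3 32) (@D3.rec (fun _ => Nat) 5 1 2 5 21 21 33 3 31 5 12 12 0 14 0 5 0 1) (@D3.rec (fun _ => Nat) 2 1 2 4 2 5 5 12 12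 29 12 12 20 20 20 12 28 5) (@D3.rec (fun _ => Nat) 30 30 13 13 1 2 0 1 2 21 2 3 21 2 6 32 13 13) (@D3.rec (fun _ => Nat) 15 4 1 2 20 21 22 32 0 22 2 31 3 0 32 1 2 9) (@D3.rec (fun _ => Nat) 3 33 9 5 9 9 21 2 0 3 28 29 3 31 1 2 2 31) (@D3.rec (fun _ => Nat) 13 21 2 2 4 0 3 1 2 22 4 10 3 5 21 21 22 4) (@D3.rec (fun _ => Nat) 0 3 33 5 1 2 5 2 3 22 34 5 10 10 0 22 10 10)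
def lv_e_9 : D2 → D3 → Nat := @D2.rec (fun _ => D3 → Nat) (@D3.rec (fun _ => Nat) 10 10 10 22 32 22 1 2 1 2 31 2 0 3 32 3 21 0) (@D3.rec (fun _ => Nat) 3 1 2 5 2 3 21 2 2 4 3 21 4 0 3 0 5 1) (@D3.rec (fun _ => Nat) 2 29 5 22 22 0 21 22 0 5 0 1 2 1 2 4 2 3) (@D3.rec (fun _ => Nat) 5 5 3 22 22 22 22 22 22 22 22 21 22 9 5 9 9 30) (@D3.rec (fun _ => Nat) 4 32 3 5 28 5 28 28 10 10 10 10 2 3 27 22 4 0) (@D3.rec (fun _ => Nat) 3 5 1 2 22 22 5 22 22 31 15 22 30 5 0 1 2 28) (@D3.rec (fun _ => Nat) 4 2 5 5 22 22 22 22 22 22 22 22 22 22 34 3 36 30) (@D3.rec (fun _ => Nat) 33 5 0 1 2 31 2 22 33 33 13 13 0 1 2 1 2 0) (@D3.rec (fun _ => Nat) 1 2 12 2 3 22 2 6 6 7 13 31 13 21 21 21 29 29) (@D3.rec (fun _ => Nat) 29 29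 14 35 2 3 1 2 22 2 3 22 3 22 21 2 0 23) (@D3.rec (fun _ => Nat) 33 32 1 2 10 3 31 1 2 5 2 3 10 10 10 10 10 10) (@D3.rec (fun _ => Nat) 10 22 0 3 1 2 30 30 30 32 2 2 4 0 3 33 33 22) (@D3.rec (fun _ => Nat) 22 23 4 0 3 5 1 2 5 2 3 23 5 35 11 22 0 22) (@D3.rec (fun _ => Nat) 23 36 5 33 1 2 39 4 2 3 5 5 3 35 23 34 11 11) (@D3.rec (fun _ => Nat) 11 1 2 11 11 11 11 11 11 33 23 34 36 2 3 2 3 0)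
def lv_e_10 : D2 → D3 → Nat := @D2.rec (fun _ => D3 → Nat) (@D3.rec (fun _ => Nat) 3 1 2 31 0 22 1 2 4 2 3 34 5 3 22 4 35 3) (@D3.rec (fun _ => Nat) 5 0 22 0 5 0 1 2 1 2 2 3 23 1 2 0 23 1) (@D3.rec (fun _ => Nat) 2 0 1 2 12 2 3 23 2 3 6 6 3 7 7 23 23 23) (@D3.rec (fun _ => Nat) 23 10 10 10 10 34 33 35 5 34 34 29 31 31 31 11 36 11) (@D3.rec (fun _ => Nat) 11 33 3 31 29 23 30 5 0 1 2 2 23 23 23 23 23 31) (@D3.rec (fun _ => Nat) 31 0 23 32 32 0 1 2 13 2 3 6 6 7 23 23 23 23) (@D3.rec (fun _ => Nat) 23 23 23 34 36 35 1 2 2 3 35 35 35 14 0 1 2 13) (@D3.rec (fun _ => Nat) 2 3 30 2 3 35 1 2 13 2 3 13 3 23 6 22 22 30) (@D3.rec (fun _ => Nat) 32 32 38 3 23 2 3 23 3 23 22 34 1 2 35 34 2 3) (@D3.rec (fun _ => Nat)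 11 4 2 3 35 5 3 11 11 11 11 11 11 11 11 11 0 23) (@D3.rec (fun _ => Nat) 0 1 2 2 3 31 31 4 0 3 5 1 2 33 32 23 0 23) (@D3.rec (fun _ => Nat) 24 34 5 34 1 2 4 2 3 5 3 24 38 12 35 23 35 1) (@D3.rec (fun _ => Nat) 2 0 24 36 34 35 13 2 3 43 6 6 3 7 7 35 40 35) (@D3.rec (fun _ => Nat) 12 12 2 3 12 12 12 12 35 34 37 3 34 3 1 2 2 3) (@D3.rec (fun _ => Nat) 1 2 36 2 3 6 3 36 7 29 23 42 5 31 37 1 2 1)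
def lv_e_11 : D2 → D3 → Nat := @D2.rec (fun _ => D3 → Nat) (@D3.rec (fun _ => Nat) 2 1 2 2 3 24 2 3 3 13 2 3 1 2 35 2 3 35) (@D3.rec (fun _ => Nat) 1 2 13 2 3 34 13 3 24 24 3 6 6 12 7 24 11 11) (@D3.rec (fun _ => Nat) 11 34 37 34 34 34 30 30 30 36 12 35 31 31 32 24 30 32) (@D3.rec (fun _ => Nat) 1 2 2 3 24 24 24 25 33 33 1 2 32 32 33 1 2 33) (@D3.rec (fun _ => Nat) 2 3 14 14 3 6 24 24 24 0 24 36 38 35 2 3 3 35) (@D3.rec (fun _ => Nat) 35 35 1 2 34 2 3 14 3 38 3 35 14 2 3 14 3 14) (@D3.rec (fun _ => Nat) 23 31 38 24 3 24 40 34 2 3 41 36 3 12 6 3 37 7) (@D3.rec (fun _ => Nat) 24 12 12 12 12 12 12 0 36 1 2 1 2 2 3 3 32 33) (@D3.rec (fun _ => Nat) 5 30 1 2 2 3 35 34 24 37 1 2 32 25 34 37 35 2) (@D3.rec (fun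 _ => Nat) 3 6 3 7 42 34 36 36 31 2 3 1 2 38 41 40 35 14) (@D3.rec (fun _ => Nat) 14 3 6 6 12 7 38 35 13 0 3 13 13 36 39 23 36 2) (@D3.rec (fun _ => Nat) 3 3 2 3 36 3 6 12 41 31 42 37 37 2 3 33 2 3) (@D3.rec (fun _ => Nat) 2 3 3 25 3 13 36 14 3 2 3 23 37 3 37 14 2 3) (@D3.rec (fun _ => Nat) 32 14 3 36 14 13 25 25 41 8 31 13 12 39 36 37 36 36) (@D3.rec (fun _ => Nat) 33 40 42 35 33 33 32 32 32 2 3 3 25 42 24 33 2 3)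
def lv_e_12 : D2 → D3 → Nat := @D2.rec (fun _ => D3 → Nat) (@D3.rec (fun _ => Nat) 34 33 2 3 33 3 0 15 15 43 25 40 1 3 37 37 2 3) (@D3.rec (fun _ => Nat) 34 3 15 41 44 15 3 15 39 25 42 43 35 3 37 25 6 43) (@D3.rec (fun _ => Nat) 0 36 13 13 38 13 41 1 38 2 3 2 3 3 12 0 39 30) (@D3.rec (fun _ => Nat) 2 3 3 35 35 2 3 34 36 37 35 3 6 32 41 38 36 37) (@D3.rec (fun _ => Nat) 33 3 2 3 43 37 0 15 15 13 8 33 13 44 40 1 42 36) (@D3.rec (fun _ => Nat) 3 13 3 38 13 36 13 40 38 43 3 33 3 3 14 26 39 39) (@D3.rec (fun _ => Nat) 36 15 14 3 26 39 38 39 15 3 34 15 45 40 33 14 26 0) (@D3.rec (fun _ => Nat) 41 41 43 38 36 39 41 33 34 34 3 42 27 44 3 42 41 3) (@D3.rec (fun _ => Nat) 41 35 38 1 16 38 44 3 40 43 16 39 40 46 42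 39 26 35) (@D3.rec (fun _ => Nat) 41 37 1 38 3 3 0 13 13 1 36 40 3 32 36 39 3 34) (@D3.rec (fun _ => Nat) 38 37 34 37 44 0 33 14 3 45 0 1 16 35 14 41 41 14) (@D3.rec (fun _ => Nat) 44 14 14 36 14 41 39 39 39 42 39 43 35 39 38 25 0 43) (@D3.rec (fun _ => Nat) 16 42 43 0 39 39 45 45 1 46 41 40 44 40 41 34 45 44) (@D3.rec (fun _ => Nat) 44 39 0 14 0 1 14 14 43 34 42 34 35 38 1 40 15 41) (@D3.rec (fun _ => Nat) 41 1 42 42 41 42 43 45 45 1 42 1 45 1 15 43 1 46)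
def lv_e : Pt → Nat := @Pt.rec (fun _ => Nat) (@D1.rec (fun _ => D2 → D3 → Nat) lv_e_0 lv_e_1 lv_e_2 lv_e_3 lv_e_4 lv_e_5 lv_e_6 lv_e_7 lv_e_8 lv_e_9 lv_e_10 lv_e_11 lv_e_12)
abbrev lc_e_Cert_tree : Cert rels S Gen.e := Cert.tree
abbrev lc_e_rc_4_1 : Cert rels S Gen.e := rc_4_1
abbrev lc_e_rc_4_3 : Cert rels S Gen.e := rc_4_3
abbrev lc_e_rc_12_1 : Cert rels S Gen.e := rc_12_1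
abbrev lc_e_rc_12_3 : Cert rels S Gen.e := rc_12_3
abbrev lc_e_rc_19_1 : Cert rels S Gen.e := rc_19_1
abbrev lc_e_rc_19_3 : Cert rels S Gen.e := rc_19_3
abbrev lc_e_rc_25_1 : Cert rels S Gen.e := rc_25_1
abbrev lc_e_rc_25_3 : Cert rels S Gen.e := rc_25_3
abbrev lc_e_rc_30_0 : Cert rels S Gen.e := rc_30_0
abbrev lc_e_rc_30_1 : Cert rels S Gen.e := rc_30_1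
abbrev lc_e_rc_31_0 : Cert rels S Gen.e := rc_31_0
abbrev lc_e_rc_31_2 : Cert rels S Gen.e := rc_31_2
abbrev lc_e_rc_32_0 : Cert rels S Gen.e := rc_32_0
abbrev lc_e_rc_32_2 : Cert rels S Gen.e := rc_32_2
abbrev lc_e_rc_32_4 : Cert rels S Gen.e := rc_32_4
abbrev lc_e_rc_33_0 : Cert rels S Gen.e := rc_33_0
abbrev lc_e_rc_33_2 : Cert rels S Gen.e := rc_33_2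
abbrev lc_e_rc_34_2 : Cert rels S Gen.e := rc_34_2
abbrev lc_e_rc_45_31 : Cert rels S Gen.e := rc_45_31
abbrev lc_e_rc_45_49 : Cert rels S Gen.e := rc_45_49
abbrev lc_e_rc_45_58 : Cert rels S Gen.e := rc_45_58
abbrev lc_e_rc_45_67 : Cert rels S Gen.e := rc_45_67
abbrev lc_e_rc_46_32 : Cert rels S Gen.e := rc_46_32
abbrev lc_e_rc_46_53 : Cert rels S Gen.e := rc_46_53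
abbrev lc_e_rc_47_24 : Cert rels S Gen.e := rc_47_24
abbrev lc_e_rc_47_31 : Cert rels S Gen.e := rc_47_31
abbrev lc_e_rc_47_38 : Cert rels S Gen.e := rc_47_38
abbrev lc_e_rc_47_52 : Cert rels S Gen.e := rc_47_52
abbrev lc_e_sc_3_0 : Cert rels S Gen.e := sc_3_0
def ce_e_0 : D2 → D3 → (Cert rels S Gen.e) := @D2.rec (fun _ => D3 → (Cert rels S Gen.e)) (@D3.rec (fun _ => (Cert rels S Gen.e)) lc_e_sc_3_0 lc_e_rc_12_1 lc_e_rc_4_1 lc_e_rc_19_1 lc_e_rc_4_1 lc_e_Cert_tree lc_e_rc_12_1 lc_e_Cert_tree lc_e_rc_30_0 lc_e_rc_31_2 lc_e_Cert_tree lc_e_rc_30_0 lc_e_rc_31_2 lc_e_rc_32_2 lc_e_rc_31_2 lc_e_rc_34_2 lc_e_Cert_tree lc_e_rc_30_0) (@D3.rec (fun _ => (Cert rels S Gen.e)) lc_e_rc_31_2 lc_e_rc_32_2 lc_e_rc_31_2 lc_e_rc_34_2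 lc_e_rc_33_2 lc_e_rc_32_2 lc_e_rc_25_3 lc_e_rc_34_2 lc_e_rc_30_0 lc_e_rc_31_2 lc_e_rc_32_2 lc_e_rc_31_2 lc_e_rc_34_2 lc_e_rc_33_2 lc_e_rc_32_2 lc_e_rc_25_3 lc_e_rc_34_2 lc_e_rc_33_2) (@D3.rec (fun _ => (Cert rels S Gen.e)) lc_e_Cert_tree lc_e_rc_34_2 lc_e_rc_19_1 lc_e_rc_25_3 lc_e_rc_25_3 lc_e_rc_32_2 lc_e_rc_31_2 lc_e_rc_25_1 lc_e_rc_34_2 lc_e_rc_33_2 lc_e_rc_32_2 lc_e_rc_25_3 lc_e_rc_34_2 lc_e_rc_33_2 lc_e_Cert_tree lc_e_rc_34_2 lc_e_rc_19_1 lc_e_rc_25_3) (@D3.rec (fun _ => (Cert rels S Gen.e)) lc_e_Cert_tree lc_e_rc_34_2 lc_e_Cert_tree lc_e_rc_30_0 lc_e_rc_34_2 lc_e_rc_12_1 lc_e_rc_19_1 lc_e_rc_31_2 lc_e_Cert_tree lc_e_rc_33_2 lc_e_rc_32_2 lc_e_rc_34_2 lc_e_rc_34_2 lc_e_rc_33_2 lc_e_Cert_tree lc_e_rc_34_2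 lc_e_rc_25_3 lc_e_Cert_tree) (@D3.rec (fun _ => (Cert rels S Gen.e)) lc_e_rc_34_2 lc_e_Cert_tree lc_e_rc_30_0 lc_e_rc_34_2 lc_e_rc_19_1 lc_e_rc_31_2 lc_e_Cert_tree lc_e_rc_30_0 lc_e_rc_34_2 lc_e_Cert_tree lc_e_rc_30_0 lc_e_rc_34_2 lc_e_rc_34_2 lc_e_rc_31_2 lc_e_rc_12_1 lc_e_rc_19_1 lc_e_rc_30_0 lc_e_rc_33_2) (@D3.rec (fun _ => (Cert rels S Gen.e)) lc_e_rc_33_2 lc_e_rc_34_2 lc_e_rc_31_2 lc_e_Cert_tree lc_e_rc_34_2 lc_e_rc_30_0 lc_e_rc_34_2 lc_e_rc_31_2 lc_e_Cert_tree lc_e_rc_30_0 lc_e_rc_34_2 lc_e_rc_30_0 lc_e_rc_34_2 lc_e_rc_34_2 lc_e_rc_31_2 lc_e_rc_19_1 lc_e_Cert_tree lc_e_rc_30_0) (@D3.rec (fun _ => (Cert rels S Gen.e)) lc_e_rc_34_2 lc_e_rc_32_2 lc_e_rc_34_2 lc_e_rc_31_2 lc_e_rc_30_0 lc_e_rc_34_2 lc_e_rc_25_3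 lc_e_rc_34_2 lc_e_rc_31_2 lc_e_rc_31_2 lc_e_rc_12_1 lc_e_Cert_tree lc_e_rc_33_2 lc_e_rc_34_2 lc_e_rc_30_0 lc_e_rc_34_2 lc_e_rc_34_2 lc_e_rc_31_2) (@D3.rec (fun _ => (Cert rels S Gen.e)) lc_e_rc_30_0 lc_e_rc_34_2 lc_e_rc_32_2 lc_e_rc_34_2 lc_e_rc_31_2 lc_e_rc_25_3 lc_e_rc_34_2 lc_e_rc_31_2 lc_e_rc_31_2 lc_e_Cert_tree lc_e_rc_30_0 lc_e_rc_34_2 lc_e_rc_25_3 lc_e_rc_32_2 lc_e_rc_34_2 lc_e_rc_31_2 lc_e_rc_32_2 lc_e_rc_31_2) (@D3.rec (fun _ => (Cert rels S Gen.e)) lc_e_rc_12_1 lc_e_rc_34_2 lc_e_rc_31_2 lc_e_rc_31_2 lc_e_rc_25_3 lc_e_rc_31_2 lc_e_Cert_tree lc_e_rc_25_3 lc_e_Cert_tree lc_e_rc_30_0 lc_e_rc_32_2 lc_e_rc_32_2 lc_e_rc_34_2 lc_e_rc_31_2 lc_e_rc_31_2 lc_e_rc_25_3 lc_e_rc_32_2 lc_e_rc_34_2) (@D3.rec (fun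 _ => (Cert rels S Gen.e)) lc_e_rc_31_2 lc_e_rc_32_2 lc_e_rc_31_2 lc_e_rc_31_2 lc_e_rc_25_3 lc_e_rc_31_2 lc_e_Cert_tree lc_e_rc_25_3 lc_e_rc_30_0 lc_e_rc_12_1 lc_e_rc_12_1 lc_e_rc_34_2 lc_e_rc_31_2 lc_e_Cert_tree lc_e_rc_31_2 lc_e_rc_25_3 lc_e_rc_32_2 lc_e_rc_31_2) (@D3.rec (fun _ => (Cert rels S Gen.e)) lc_e_Cert_tree lc_e_rc_31_2 lc_e_rc_25_3 lc_e_rc_19_1 lc_e_rc_12_1 lc_e_rc_12_1 lc_e_rc_31_2 lc_e_Cert_tree lc_e_rc_34_2 lc_e_rc_31_2 lc_e_Cert_tree lc_e_rc_30_0 lc_e_rc_19_1 lc_e_Cert_tree lc_e_rc_30_0 lc_e_rc_32_2 lc_e_rc_32_2 lc_e_rc_31_2) (@D3.rec (fun _ => (Cert rels S Gen.e)) lc_e_rc_25_3 lc_e_Cert_tree lc_e_rc_31_2 lc_e_rc_25_3 lc_e_rc_32_2 lc_e_rc_31_2 lc_e_Cert_tree lc_e_rc_31_2 lc_e_rc_25_3 lc_e_rc_34_2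 lc_e_rc_31_2 lc_e_Cert_tree lc_e_rc_30_0 lc_e_rc_19_1 lc_e_rc_32_2 lc_e_rc_19_1 lc_e_Cert_tree lc_e_rc_12_1) (@D3.rec (fun _ => (Cert rels S Gen.e)) lc_e_rc_12_1 lc_e_rc_12_1 lc_e_rc_31_2 lc_e_Cert_tree lc_e_rc_30_0 lc_e_rc_31_2 lc_e_rc_34_2 lc_e_rc_34_2 lc_e_rc_31_2 lc_e_rc_31_2 lc_e_Cert_tree lc_e_rc_30_0 lc_e_Cert_tree lc_e_rc_19_1 lc_e_rc_19_1 lc_e_rc_19_1 lc_e_rc_12_1 lc_e_rc_12_1) (@D3.rec (fun _ => (Cert rels S Gen.e)) lc_e_Cert_tree lc_e_Cert_tree lc_e_rc_30_0 lc_e_rc_34_2 lc_e_Cert_tree lc_e_Cert_tree lc_e_rc_30_0 lc_e_rc_32_2 lc_e_rc_12_1 lc_e_rc_30_0 lc_e_rc_32_2 lc_e_rc_33_2 lc_e_rc_31_2 lc_e_rc_25_3 lc_e_rc_19_1 lc_e_rc_30_0 lc_e_rc_31_2 lc_e_rc_34_2) (@D3.rec (fun _ => (Cert rels S Gen.e))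 lc_e_rc_34_2 lc_e_rc_31_2 lc_e_rc_31_2 lc_e_Cert_tree lc_e_rc_30_0 lc_e_Cert_tree lc_e_rc_19_1 lc_e_rc_34_2 lc_e_Cert_tree lc_e_Cert_tree lc_e_rc_30_0 lc_e_rc_32_2 lc_e_rc_12_1 lc_e_rc_33_2 lc_e_Cert_tree lc_e_rc_19_1 lc_e_rc_19_1 lc_e_rc_30_0)
def ce_e_1 : D2 → D3 → (Cert rels S Gen.e) := @D2.rec (fun _ => D3 → (Cert rels S Gen.e)) (@D3.rec (fun _ => (Cert rels S Gen.e)) lc_e_rc_31_2 lc_e_rc_34_2 lc_e_rc_12_1 lc_e_rc_12_1 lc_e_rc_31_2 lc_e_Cert_tree lc_e_Cert_tree lc_e_rc_30_0 lc_e_rc_31_2 lc_e_rc_34_2 lc_e_rc_34_2 lc_e_rc_31_2 lc_e_rc_34_2 lc_e_Cert_tree lc_e_Cert_tree lc_e_Cert_tree lc_e_rc_30_0 lc_e_rc_32_2) (@D3.rec (fun _ => (Cert rels S Gen.e)) lc_e_Cert_tree lc_e_rc_30_0 lc_e_rc_12_1 lc_e_Cert_tree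 lc_e_rc_19_1 lc_e_rc_19_1 lc_e_rc_12_1 lc_e_Cert_tree lc_e_Cert_tree lc_e_rc_30_0 lc_e_rc_30_0 lc_e_rc_32_2 lc_e_Cert_tree lc_e_Cert_tree lc_e_rc_30_0 lc_e_Cert_tree lc_e_rc_30_0 lc_e_rc_32_2) (@D3.rec (fun _ => (Cert rels S Gen.e)) lc_e_rc_33_2 lc_e_rc_4_1 lc_e_rc_25_3 lc_e_rc_19_1 lc_e_rc_33_2 lc_e_Cert_tree lc_e_rc_19_1 lc_e_rc_12_1 lc_e_rc_31_2 lc_e_rc_34_2 lc_e_rc_34_2 lc_e_rc_31_2 lc_e_rc_34_2 lc_e_Cert_tree lc_e_Cert_tree lc_e_Cert_tree lc_e_rc_30_0 lc_e_rc_32_2) (@D3.rec (fun _ => (Cert rels S Gen.e)) lc_e_Cert_tree lc_e_rc_30_0 lc_e_rc_12_1 lc_e_Cert_tree lc_e_Cert_tree lc_e_rc_30_0 lc_e_Cert_tree lc_e_rc_30_0 lc_e_rc_32_2 lc_e_rc_33_2 lc_e_rc_4_1 lc_e_rc_30_0 lc_e_rc_31_2 lc_e_rc_34_2 lc_e_Cert_tree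 lc_e_rc_19_1 lc_e_rc_19_1 lc_e_rc_31_2) (@D3.rec (fun _ => (Cert rels S Gen.e)) lc_e_rc_34_2 lc_e_rc_34_2 lc_e_rc_31_2 lc_e_rc_12_1 lc_e_Cert_tree lc_e_Cert_tree lc_e_Cert_tree lc_e_rc_30_0 lc_e_rc_30_0 lc_e_rc_32_2 lc_e_rc_25_3 lc_e_rc_34_2 lc_e_rc_31_2 lc_e_rc_31_2 lc_e_Cert_tree lc_e_Cert_tree lc_e_Cert_tree lc_e_rc_30_0) (@D3.rec (fun _ => (Cert rels S Gen.e)) lc_e_Cert_tree lc_e_rc_30_0 lc_e_Cert_tree lc_e_rc_30_0 lc_e_rc_32_2 lc_e_rc_33_2 lc_e_Cert_tree lc_e_rc_30_0 lc_e_rc_4_1 lc_e_rc_30_0 lc_e_rc_34_2 lc_e_rc_19_1 lc_e_Cert_tree lc_e_Cert_tree lc_e_Cert_tree lc_e_rc_30_0 lc_e_Cert_tree lc_e_rc_30_0) (@D3.rec (fun _ => (Cert rels S Gen.e)) lc_e_rc_12_1 lc_e_rc_25_3 lc_e_rc_19_1 lc_e_rc_33_2 lc_e_Cert_tree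 lc_e_rc_30_0 lc_e_Cert_tree lc_e_rc_30_0 lc_e_rc_31_2 lc_e_Cert_tree lc_e_rc_30_0 lc_e_rc_19_1 lc_e_rc_33_2 lc_e_rc_4_3 lc_e_rc_31_2 lc_e_rc_19_1 lc_e_Cert_tree lc_e_rc_30_0) (@D3.rec (fun _ => (Cert rels S Gen.e)) lc_e_rc_12_1 lc_e_rc_4_1 lc_e_rc_25_3 lc_e_rc_34_2 lc_e_rc_31_2 lc_e_rc_31_2 lc_e_Cert_tree lc_e_Cert_tree lc_e_Cert_tree lc_e_rc_30_0 lc_e_Cert_tree lc_e_rc_30_0 lc_e_Cert_tree lc_e_rc_30_0 lc_e_rc_32_2 lc_e_rc_33_2 lc_e_Cert_tree lc_e_rc_30_0) (@D3.rec (fun _ => (Cert rels S Gen.e)) lc_e_rc_4_1 lc_e_Cert_tree lc_e_rc_30_0 lc_e_Cert_tree lc_e_rc_30_0 lc_e_rc_31_2 lc_e_Cert_tree lc_e_rc_30_0 lc_e_rc_19_1 lc_e_rc_33_2 lc_e_rc_25_3 lc_e_rc_31_2 lc_e_rc_34_2 lc_e_rc_47_38 lc_e_rc_34_2 lc_e_rc_31_2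 lc_e_rc_30_0 lc_e_rc_34_2) (@D3.rec (fun _ => (Cert rels S Gen.e)) lc_e_rc_19_1 lc_e_Cert_tree lc_e_rc_25_3 lc_e_rc_34_2 lc_e_rc_31_2 lc_e_rc_31_2 lc_e_Cert_tree lc_e_Cert_tree lc_e_Cert_tree lc_e_rc_30_0 lc_e_Cert_tree lc_e_rc_30_0 lc_e_Cert_tree lc_e_rc_30_0 lc_e_rc_32_2 lc_e_rc_25_3 lc_e_rc_19_1 lc_e_rc_33_2) (@D3.rec (fun _ => (Cert rels S Gen.e)) lc_e_rc_19_1 lc_e_rc_25_3 lc_e_rc_31_2 lc_e_Cert_tree lc_e_Cert_tree lc_e_Cert_tree lc_e_rc_30_0 lc_e_Cert_tree lc_e_rc_30_0 lc_e_Cert_tree lc_e_rc_30_0 lc_e_rc_32_2 lc_e_Cert_tree lc_e_rc_30_0 lc_e_rc_32_2 lc_e_Cert_tree lc_e_rc_30_0 lc_e_rc_19_1) (@D3.rec (fun _ => (Cert rels S Gen.e)) lc_e_rc_33_2 lc_e_Cert_tree lc_e_rc_30_0 lc_e_rc_25_3 lc_e_rc_32_2 lc_e_rc_34_2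 lc_e_rc_46_32 lc_e_Cert_tree lc_e_Cert_tree lc_e_rc_30_0 lc_e_Cert_tree lc_e_rc_30_0 lc_e_Cert_tree lc_e_rc_30_0 lc_e_rc_31_2 lc_e_Cert_tree lc_e_rc_30_0 lc_e_rc_25_3) (@D3.rec (fun _ => (Cert rels S Gen.e)) lc_e_rc_19_1 lc_e_rc_12_1 lc_e_rc_4_3 lc_e_rc_31_2 lc_e_rc_19_1 lc_e_Cert_tree lc_e_rc_30_0 lc_e_rc_32_2 lc_e_Cert_tree lc_e_rc_30_0 lc_e_rc_25_3 lc_e_rc_31_2 lc_e_rc_31_2 lc_e_rc_30_0 lc_e_rc_12_1 lc_e_rc_19_1 lc_e_rc_33_2 lc_e_Cert_tree) (@D3.rec (fun _ => (Cert rels S Gen.e)) lc_e_rc_30_0 lc_e_rc_4_1 lc_e_rc_19_1 lc_e_rc_25_3 lc_e_rc_31_2 lc_e_Cert_tree lc_e_Cert_tree lc_e_Cert_tree lc_e_rc_30_0 lc_e_Cert_tree lc_e_rc_30_0 lc_e_Cert_tree lc_e_rc_30_0 lc_e_rc_32_2 lc_e_Cert_tree lc_e_rc_30_0 lc_e_rc_32_2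 lc_e_Cert_tree) (@D3.rec (fun _ => (Cert rels S Gen.e)) lc_e_rc_30_0 lc_e_rc_19_1 lc_e_rc_33_2 lc_e_Cert_tree lc_e_rc_30_0 lc_e_rc_25_3 lc_e_Cert_tree lc_e_rc_30_0 lc_e_rc_32_2 lc_e_Cert_tree lc_e_rc_30_0 lc_e_rc_25_3 lc_e_rc_31_2 lc_e_rc_31_2 lc_e_rc_30_0 lc_e_rc_12_1 lc_e_rc_19_1 lc_e_rc_25_3)
def ce_e_2 : D2 → D3 → (Cert rels S Gen.e) := @D2.rec (fun _ => D3 → (Cert rels S Gen.e)) (@D3.rec (fun _ => (Cert rels S Gen.e)) lc_e_rc_34_2 lc_e_rc_31_2 lc_e_rc_34_2 lc_e_rc_31_2 lc_e_Cert_tree lc_e_rc_34_2 lc_e_rc_33_2 lc_e_Cert_tree lc_e_Cert_tree lc_e_rc_30_0 lc_e_rc_25_3 lc_e_rc_31_2 lc_e_Cert_tree lc_e_Cert_tree lc_e_Cert_tree lc_e_rc_30_0 lc_e_Cert_tree lc_e_rc_30_0) (@D3.rec (fun _ => (Cert rels S Gen.e))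 lc_e_Cert_tree lc_e_rc_30_0 lc_e_rc_32_2 lc_e_Cert_tree lc_e_rc_30_0 lc_e_rc_32_2 lc_e_Cert_tree lc_e_rc_30_0 lc_e_rc_25_3 lc_e_rc_19_1 lc_e_rc_33_2 lc_e_Cert_tree lc_e_rc_31_2 lc_e_rc_19_1 lc_e_rc_19_1 lc_e_rc_31_2 lc_e_Cert_tree lc_e_Cert_tree) (@D3.rec (fun _ => (Cert rels S Gen.e)) lc_e_rc_30_0 lc_e_Cert_tree lc_e_rc_30_0 lc_e_Cert_tree lc_e_rc_30_0 lc_e_rc_32_2 lc_e_Cert_tree lc_e_rc_30_0 lc_e_rc_32_2 lc_e_Cert_tree lc_e_rc_30_0 lc_e_rc_25_3 lc_e_rc_19_1 lc_e_rc_33_2 lc_e_Cert_tree lc_e_rc_30_0 lc_e_rc_25_3 lc_e_rc_19_1) (@D3.rec (fun _ => (Cert rels S Gen.e)) lc_e_rc_33_2 lc_e_rc_30_0 lc_e_rc_12_1 lc_e_rc_19_1 lc_e_rc_30_0 lc_e_rc_12_1 lc_e_rc_31_2 lc_e_rc_46_32 lc_e_Cert_tree lc_e_rc_30_0 lc_e_Cert_tree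 lc_e_rc_30_0 lc_e_rc_32_2 lc_e_Cert_tree lc_e_rc_30_0 lc_e_rc_32_2 lc_e_Cert_tree lc_e_rc_30_0) (@D3.rec (fun _ => (Cert rels S Gen.e)) lc_e_rc_25_3 lc_e_rc_31_2 lc_e_rc_31_2 lc_e_rc_30_0 lc_e_rc_12_1 lc_e_rc_12_1 lc_e_rc_19_1 lc_e_rc_31_2 lc_e_rc_19_1 lc_e_rc_33_2 lc_e_Cert_tree lc_e_rc_30_0 lc_e_rc_25_3 lc_e_rc_32_2 lc_e_rc_33_2 lc_e_rc_30_0 lc_e_rc_25_3 lc_e_rc_12_1) (@D3.rec (fun _ => (Cert rels S Gen.e)) lc_e_rc_4_1 lc_e_rc_31_2 lc_e_rc_4_1 lc_e_rc_12_1 lc_e_Cert_tree lc_e_rc_30_0 lc_e_rc_25_3 lc_e_rc_12_1 lc_e_rc_19_1 lc_e_rc_31_2 lc_e_Cert_tree lc_e_Cert_tree lc_e_rc_30_0 lc_e_Cert_tree lc_e_rc_30_0 lc_e_Cert_tree lc_e_rc_30_0 lc_e_rc_32_2) (@D3.rec (fun _ => (Cert rels S Gen.e)) lc_e_Cert_tree lc_e_rc_30_0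 lc_e_rc_32_2 lc_e_Cert_tree lc_e_rc_30_0 lc_e_rc_25_3 lc_e_rc_19_1 lc_e_rc_33_2 lc_e_Cert_tree lc_e_rc_30_0 lc_e_rc_25_3 lc_e_rc_19_1 lc_e_rc_33_2 lc_e_rc_30_0 lc_e_rc_12_1 lc_e_rc_19_1 lc_e_rc_30_0 lc_e_rc_12_1) (@D3.rec (fun _ => (Cert rels S Gen.e)) lc_e_rc_31_2 lc_e_rc_12_3 lc_e_rc_30_0 lc_e_rc_25_3 lc_e_rc_32_2 lc_e_rc_33_2 lc_e_rc_30_0 lc_e_rc_31_2 lc_e_rc_4_1 lc_e_rc_12_1 lc_e_rc_31_2 lc_e_rc_31_2 lc_e_Cert_tree lc_e_rc_31_2 lc_e_Cert_tree lc_e_Cert_tree lc_e_rc_30_0 lc_e_rc_33_2) (@D3.rec (fun _ => (Cert rels S Gen.e)) lc_e_Cert_tree lc_e_rc_30_0 lc_e_Cert_tree lc_e_rc_30_0 lc_e_rc_32_2 lc_e_rc_31_2 lc_e_Cert_tree lc_e_Cert_tree lc_e_rc_30_0 lc_e_Cert_tree lc_e_rc_30_0 lc_e_Cert_tree lc_e_rc_30_0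 lc_e_rc_32_2 lc_e_Cert_tree lc_e_rc_30_0 lc_e_rc_32_2 lc_e_Cert_tree) (@D3.rec (fun _ => (Cert rels S Gen.e)) lc_e_rc_30_0 lc_e_rc_25_3 lc_e_rc_19_1 lc_e_rc_33_2 lc_e_Cert_tree lc_e_rc_30_0 lc_e_rc_25_3 lc_e_rc_19_1 lc_e_rc_33_2 lc_e_rc_30_0 lc_e_rc_12_1 lc_e_rc_12_1 lc_e_Cert_tree lc_e_rc_31_2 lc_e_rc_19_1 lc_e_rc_30_0 lc_e_rc_33_2 lc_e_rc_31_2) (@D3.rec (fun _ => (Cert rels S Gen.e)) lc_e_rc_34_2 lc_e_rc_19_1 lc_e_Cert_tree lc_e_Cert_tree lc_e_rc_30_0 lc_e_Cert_tree lc_e_rc_30_0 lc_e_rc_32_2 lc_e_Cert_tree lc_e_rc_30_0 lc_e_rc_32_2 lc_e_Cert_tree lc_e_rc_30_0 lc_e_rc_25_3 lc_e_rc_19_1 lc_e_rc_33_2 lc_e_Cert_tree lc_e_rc_30_0) (@D3.rec (fun _ => (Cert rels S Gen.e)) lc_e_rc_25_3 lc_e_rc_19_1 lc_e_rc_33_2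 lc_e_rc_30_0 lc_e_rc_25_3 lc_e_rc_12_1 lc_e_Cert_tree lc_e_rc_19_1 lc_e_rc_30_0 lc_e_rc_12_1 lc_e_rc_12_1 lc_e_rc_25_3 lc_e_rc_31_2 lc_e_rc_19_1 lc_e_rc_4_1 lc_e_rc_12_1 lc_e_rc_4_1 lc_e_rc_19_1) (@D3.rec (fun _ => (Cert rels S Gen.e)) lc_e_rc_12_1 lc_e_rc_34_2 lc_e_rc_12_3 lc_e_Cert_tree lc_e_rc_30_0 lc_e_Cert_tree lc_e_rc_30_0 lc_e_rc_25_3 lc_e_rc_32_2 lc_e_Cert_tree lc_e_rc_30_0 lc_e_rc_25_3 lc_e_rc_32_2 lc_e_rc_33_2 lc_e_rc_30_0 lc_e_rc_12_1 lc_e_rc_12_1 lc_e_rc_32_4) (@D3.rec (fun _ => (Cert rels S Gen.e)) lc_e_rc_31_2 lc_e_rc_31_2 lc_e_rc_4_1 lc_e_rc_4_1 lc_e_rc_4_3 lc_e_rc_12_1 lc_e_rc_12_1 lc_e_rc_33_2 lc_e_rc_30_0 lc_e_rc_25_3 lc_e_rc_12_1 lc_e_rc_33_2 lc_e_rc_19_1 lc_e_rc_12_1 lc_e_rc_33_2 lc_e_rc_4_1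 lc_e_rc_30_0 lc_e_rc_12_1) (@D3.rec (fun _ => (Cert rels S Gen.e)) lc_e_rc_31_2 lc_e_Cert_tree lc_e_Cert_tree lc_e_rc_30_0 lc_e_Cert_tree lc_e_rc_30_0 lc_e_rc_32_2 lc_e_Cert_tree lc_e_rc_30_0 lc_e_rc_32_2 lc_e_Cert_tree lc_e_rc_30_0 lc_e_rc_25_3 lc_e_rc_19_1 lc_e_rc_33_2 lc_e_rc_33_2 lc_e_rc_30_0 lc_e_rc_25_3)
def ce_e_3 : D2 → D3 → (Cert rels S Gen.e) := @D2.rec (fun _ => D3 → (Cert rels S Gen.e)) (@D3.rec (fun _ => (Cert rels S Gen.e)) lc_e_rc_19_1 lc_e_rc_33_2 lc_e_rc_30_0 lc_e_rc_25_3 lc_e_rc_12_1 lc_e_Cert_tree lc_e_rc_19_1 lc_e_rc_30_0 lc_e_rc_12_1 lc_e_rc_12_1 lc_e_rc_25_3 lc_e_rc_31_2 lc_e_rc_19_1 lc_e_rc_4_1 lc_e_rc_12_1 lc_e_rc_4_1 lc_e_rc_4_1 lc_e_Cert_tree) (@D3.rec (fun _ => (Cert rels S Gen.e))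 lc_e_Cert_tree lc_e_Cert_tree lc_e_rc_30_0 lc_e_Cert_tree lc_e_Cert_tree lc_e_rc_30_0 lc_e_Cert_tree lc_e_rc_30_0 lc_e_rc_32_2 lc_e_rc_33_2 lc_e_Cert_tree lc_e_rc_30_0 lc_e_rc_32_2 lc_e_Cert_tree lc_e_rc_30_0 lc_e_rc_25_3 lc_e_rc_19_1 lc_e_rc_33_2) (@D3.rec (fun _ => (Cert rels S Gen.e)) lc_e_Cert_tree lc_e_Cert_tree lc_e_rc_30_0 lc_e_Cert_tree lc_e_rc_30_0 lc_e_rc_32_2 lc_e_Cert_tree lc_e_rc_30_0 lc_e_rc_32_2 lc_e_Cert_tree lc_e_rc_30_0 lc_e_rc_25_3 lc_e_rc_19_1 lc_e_rc_33_2 lc_e_Cert_tree lc_e_rc_30_0 lc_e_rc_25_3 lc_e_rc_19_1) (@D3.rec (fun _ => (Cert rels S Gen.e)) lc_e_rc_33_2 lc_e_rc_30_0 lc_e_rc_12_1 lc_e_rc_12_1 lc_e_Cert_tree lc_e_rc_31_2 lc_e_rc_19_1 lc_e_rc_30_0 lc_e_rc_12_1 lc_e_rc_12_1 lc_e_Cert_tree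 lc_e_rc_31_2 lc_e_rc_19_1 lc_e_rc_4_1 lc_e_rc_4_1 lc_e_Cert_tree lc_e_rc_12_1 lc_e_rc_12_1) (@D3.rec (fun _ => (Cert rels S Gen.e)) lc_e_rc_30_0 lc_e_rc_33_2 lc_e_rc_31_2 lc_e_rc_34_2 lc_e_rc_33_2 lc_e_rc_31_2 lc_e_rc_30_0 lc_e_Cert_tree lc_e_rc_30_0 lc_e_rc_32_2 lc_e_Cert_tree lc_e_rc_30_0 lc_e_rc_25_3 lc_e_rc_19_1 lc_e_rc_33_2 lc_e_Cert_tree lc_e_rc_30_0 lc_e_rc_25_3) (@D3.rec (fun _ => (Cert rels S Gen.e)) lc_e_rc_19_1 lc_e_rc_33_2 lc_e_rc_30_0 lc_e_rc_12_1 lc_e_rc_12_1 lc_e_Cert_tree lc_e_rc_31_2 lc_e_rc_19_1 lc_e_rc_30_0 lc_e_rc_25_3 lc_e_rc_12_1 lc_e_Cert_tree lc_e_rc_19_1 lc_e_rc_4_1 lc_e_rc_4_1 lc_e_rc_19_1 lc_e_Cert_tree lc_e_rc_12_1) (@D3.rec (fun _ => (Cert rels S Gen.e)) lc_e_rc_30_0 lc_e_rc_33_2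 lc_e_rc_4_1 lc_e_rc_4_1 lc_e_rc_19_1 lc_e_rc_12_1 lc_e_rc_12_1 lc_e_rc_12_1 lc_e_rc_25_3 lc_e_rc_31_2 lc_e_rc_34_2 lc_e_rc_4_1 lc_e_rc_4_1 lc_e_rc_19_1 lc_e_rc_19_1 lc_e_Cert_tree lc_e_rc_30_0 lc_e_rc_25_3) (@D3.rec (fun _ => (Cert rels S Gen.e)) lc_e_rc_30_0 lc_e_rc_12_1 lc_e_rc_12_1 lc_e_Cert_tree lc_e_rc_31_2 lc_e_rc_30_0 lc_e_rc_12_1 lc_e_rc_12_1 lc_e_rc_12_3 lc_e_rc_32_2 lc_e_rc_33_2 lc_e_rc_4_1 lc_e_rc_4_1 lc_e_rc_19_1 lc_e_rc_32_4 lc_e_rc_12_1 lc_e_rc_12_1 lc_e_rc_33_2) (@D3.rec (fun _ => (Cert rels S Gen.e)) lc_e_rc_12_3 lc_e_rc_4_1 lc_e_rc_4_1 lc_e_rc_33_2 lc_e_rc_30_0 lc_e_rc_30_0 lc_e_rc_32_2 lc_e_rc_30_0 lc_e_rc_25_3 lc_e_rc_19_1 lc_e_rc_33_2 lc_e_Cert_tree lc_e_rc_30_0 lc_e_rc_25_3 lc_e_rc_19_1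 lc_e_rc_33_2 lc_e_rc_30_0 lc_e_rc_12_1) (@D3.rec (fun _ => (Cert rels S Gen.e)) lc_e_rc_12_1 lc_e_Cert_tree lc_e_rc_31_2 lc_e_rc_19_1 lc_e_rc_12_1 lc_e_rc_31_2 lc_e_rc_19_1 lc_e_rc_4_1 lc_e_rc_30_0 lc_e_rc_4_1 lc_e_rc_4_1 lc_e_rc_12_1 lc_e_rc_12_1 lc_e_rc_25_3 lc_e_rc_31_2 lc_e_rc_4_1 lc_e_Cert_tree lc_e_rc_30_0) (@D3.rec (fun _ => (Cert rels S Gen.e)) lc_e_Cert_tree lc_e_rc_30_0 lc_e_Cert_tree lc_e_rc_30_0 lc_e_rc_32_2 lc_e_Cert_tree lc_e_rc_30_0 lc_e_Cert_tree lc_e_rc_30_0 lc_e_rc_32_2 lc_e_Cert_tree lc_e_rc_30_0 lc_e_rc_25_3 lc_e_rc_19_1 lc_e_rc_33_2 lc_e_rc_33_2 lc_e_Cert_tree lc_e_rc_30_0) (@D3.rec (fun _ => (Cert rels S Gen.e)) lc_e_rc_25_3 lc_e_rc_19_1 lc_e_rc_30_0 lc_e_rc_12_1 lc_e_rc_12_1 lc_e_Cert_tree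 lc_e_rc_31_2 lc_e_rc_19_1 lc_e_Cert_tree lc_e_rc_30_0 lc_e_Cert_tree lc_e_rc_30_0 lc_e_rc_32_2 lc_e_Cert_tree lc_e_rc_30_0 lc_e_rc_25_3 lc_e_rc_19_1 lc_e_rc_33_2) (@D3.rec (fun _ => (Cert rels S Gen.e)) lc_e_Cert_tree lc_e_rc_30_0 lc_e_rc_25_3 lc_e_rc_19_1 lc_e_rc_33_2 lc_e_rc_30_0 lc_e_rc_12_1 lc_e_rc_12_1 lc_e_Cert_tree lc_e_rc_31_2 lc_e_rc_19_1 lc_e_rc_30_0 lc_e_rc_12_1 lc_e_rc_12_1 lc_e_Cert_tree lc_e_rc_33_2 lc_e_rc_19_1 lc_e_rc_4_1) (@D3.rec (fun _ => (Cert rels S Gen.e)) lc_e_rc_4_1 lc_e_rc_19_1 lc_e_Cert_tree lc_e_rc_12_1 lc_e_rc_12_1 lc_e_rc_30_0 lc_e_rc_33_2 lc_e_rc_31_2 lc_e_rc_34_2 lc_e_rc_4_1 lc_e_rc_4_1 lc_e_rc_19_1 lc_e_Cert_tree lc_e_rc_12_1 lc_e_rc_12_1 lc_e_rc_30_0 lc_e_rc_33_2 lc_e_rc_31_2)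 (@D3.rec (fun _ => (Cert rels S Gen.e)) lc_e_rc_34_2 lc_e_Cert_tree lc_e_rc_4_1 lc_e_rc_4_1 lc_e_rc_30_0 lc_e_rc_33_2 lc_e_rc_31_2 lc_e_rc_12_1 lc_e_rc_33_2 lc_e_rc_31_2 lc_e_rc_25_3 lc_e_rc_31_2 lc_e_rc_30_0 lc_e_rc_25_3 lc_e_rc_19_1 lc_e_rc_33_2 lc_e_rc_30_0 lc_e_rc_12_1)
def ce_e_4 : D2 → D3 → (Cert rels S Gen.e) := @D2.rec (fun _ => D3 → (Cert rels S Gen.e)) (@D3.rec (fun _ => (Cert rels S Gen.e)) lc_e_rc_12_1 lc_e_Cert_tree lc_e_rc_31_2 lc_e_rc_19_1 lc_e_rc_30_0 lc_e_rc_12_1 lc_e_rc_12_1 lc_e_Cert_tree lc_e_rc_31_2 lc_e_rc_19_1 lc_e_rc_4_1 lc_e_rc_4_1 lc_e_rc_19_1 lc_e_Cert_tree lc_e_rc_12_1 lc_e_rc_12_1 lc_e_rc_30_0 lc_e_rc_33_2) (@D3.rec (fun _ => (Cert rels S Gen.e)) lc_e_rc_31_2 lc_e_rc_34_2 lc_e_rc_4_1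 lc_e_rc_19_1 lc_e_rc_31_2 lc_e_rc_12_1 lc_e_rc_30_0 lc_e_rc_19_1 lc_e_Cert_tree lc_e_rc_30_0 lc_e_rc_33_2 lc_e_rc_4_1 lc_e_rc_4_1 lc_e_rc_4_1 lc_e_rc_19_1 lc_e_rc_19_1 lc_e_rc_12_1 lc_e_rc_12_1) (@D3.rec (fun _ => (Cert rels S Gen.e)) lc_e_rc_31_2 lc_e_rc_34_2 lc_e_Cert_tree lc_e_rc_46_53 lc_e_rc_30_0 lc_e_rc_12_1 lc_e_rc_4_1 lc_e_rc_4_1 lc_e_rc_19_1 lc_e_Cert_tree lc_e_rc_12_1 lc_e_rc_30_0 lc_e_rc_12_3 lc_e_rc_4_1 lc_e_rc_19_1 lc_e_rc_4_1 lc_e_rc_32_2 lc_e_rc_34_2) (@D3.rec (fun _ => (Cert rels S Gen.e)) lc_e_rc_4_1 lc_e_rc_33_2 lc_e_rc_33_2 lc_e_rc_33_2 lc_e_rc_31_2 lc_e_rc_25_3 lc_e_rc_19_1 lc_e_rc_33_2 lc_e_rc_12_1 lc_e_rc_12_1 lc_e_Cert_tree lc_e_rc_31_2 lc_e_rc_19_1 lc_e_rc_30_0 lc_e_rc_12_1 lc_e_rc_12_1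 lc_e_Cert_tree lc_e_rc_31_2) (@D3.rec (fun _ => (Cert rels S Gen.e)) lc_e_rc_19_1 lc_e_rc_4_1 lc_e_rc_4_1 lc_e_rc_12_3 lc_e_rc_31_0 lc_e_rc_30_0 lc_e_rc_45_49 lc_e_rc_31_2 lc_e_rc_4_1 lc_e_rc_4_1 lc_e_rc_12_1 lc_e_rc_31_2 lc_e_Cert_tree lc_e_rc_30_0 lc_e_rc_31_2 lc_e_Cert_tree lc_e_rc_30_0 lc_e_rc_32_2) (@D3.rec (fun _ => (Cert rels S Gen.e)) lc_e_Cert_tree lc_e_rc_30_0 lc_e_rc_25_3 lc_e_rc_19_1 lc_e_rc_33_2 lc_e_Cert_tree lc_e_rc_30_0 lc_e_Cert_tree lc_e_rc_30_0 lc_e_rc_25_3 lc_e_rc_19_1 lc_e_rc_30_0 lc_e_rc_12_1 lc_e_rc_12_1 lc_e_Cert_tree lc_e_rc_31_2 lc_e_rc_19_1 lc_e_rc_33_2) (@D3.rec (fun _ => (Cert rels S Gen.e)) lc_e_rc_30_0 lc_e_rc_12_1 lc_e_rc_12_1 lc_e_Cert_tree lc_e_rc_4_1 lc_e_rc_4_1 lc_e_rc_19_1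 lc_e_Cert_tree lc_e_rc_12_1 lc_e_rc_12_1 lc_e_rc_30_0 lc_e_rc_33_2 lc_e_rc_31_2 lc_e_rc_34_2 lc_e_rc_30_0 lc_e_rc_31_2 lc_e_rc_30_0 lc_e_rc_25_3) (@D3.rec (fun _ => (Cert rels S Gen.e)) lc_e_rc_19_1 lc_e_rc_33_2 lc_e_rc_30_0 lc_e_rc_12_1 lc_e_rc_12_1 lc_e_Cert_tree lc_e_rc_31_2 lc_e_rc_19_1 lc_e_rc_30_0 lc_e_rc_12_1 lc_e_rc_12_1 lc_e_Cert_tree lc_e_rc_31_2 lc_e_rc_19_1 lc_e_rc_4_1 lc_e_rc_4_1 lc_e_rc_19_1 lc_e_Cert_tree) (@D3.rec (fun _ => (Cert rels S Gen.e)) lc_e_rc_12_1 lc_e_rc_12_1 lc_e_rc_30_0 lc_e_rc_33_2 lc_e_rc_31_2 lc_e_rc_34_2 lc_e_rc_4_1 lc_e_rc_4_1 lc_e_rc_19_1 lc_e_Cert_tree lc_e_rc_33_2 lc_e_rc_12_1 lc_e_rc_30_0 lc_e_rc_33_2 lc_e_rc_31_2 lc_e_rc_34_2 lc_e_rc_4_1 lc_e_Cert_tree) (@D3.rec (fun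 _ => (Cert rels S Gen.e)) lc_e_rc_4_1 lc_e_rc_4_1 lc_e_Cert_tree lc_e_rc_19_1 lc_e_rc_30_0 lc_e_rc_33_2 lc_e_rc_31_2 lc_e_rc_12_1 lc_e_rc_33_2 lc_e_rc_31_2 lc_e_rc_4_1 lc_e_Cert_tree lc_e_rc_4_1 lc_e_rc_4_1 lc_e_Cert_tree lc_e_rc_19_1 lc_e_rc_30_0 lc_e_rc_33_2) (@D3.rec (fun _ => (Cert rels S Gen.e)) lc_e_rc_31_2 lc_e_rc_12_1 lc_e_rc_33_2 lc_e_rc_31_2 lc_e_rc_33_2 lc_e_rc_34_2 lc_e_rc_30_0 lc_e_rc_33_2 lc_e_rc_31_2 lc_e_rc_4_1 lc_e_rc_33_2 lc_e_rc_31_2 lc_e_rc_25_3 lc_e_rc_19_1 lc_e_rc_31_2 lc_e_rc_12_1 lc_e_rc_12_1 lc_e_Cert_tree) (@D3.rec (fun _ => (Cert rels S Gen.e)) lc_e_rc_19_1 lc_e_rc_4_1 lc_e_rc_4_1 lc_e_rc_19_1 lc_e_Cert_tree lc_e_rc_12_1 lc_e_rc_12_1 lc_e_rc_30_0 lc_e_rc_33_2 lc_e_rc_31_2 lc_e_rc_34_2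 lc_e_rc_4_1 lc_e_rc_4_1 lc_e_rc_19_1 lc_e_Cert_tree lc_e_rc_12_1 lc_e_rc_12_1 lc_e_rc_30_0) (@D3.rec (fun _ => (Cert rels S Gen.e)) lc_e_rc_12_3 lc_e_rc_19_1 lc_e_rc_34_2 lc_e_rc_4_1 lc_e_rc_47_24 lc_e_rc_31_0 lc_e_Cert_tree lc_e_rc_19_1 lc_e_rc_30_0 lc_e_rc_12_3 lc_e_rc_31_2 lc_e_rc_33_2 lc_e_rc_31_2 lc_e_rc_4_3 lc_e_rc_4_3 lc_e_rc_30_0 lc_e_rc_4_1 lc_e_rc_4_1) (@D3.rec (fun _ => (Cert rels S Gen.e)) lc_e_rc_19_1 lc_e_rc_19_1 lc_e_Cert_tree lc_e_rc_12_1 lc_e_rc_34_2 lc_e_rc_30_0 lc_e_rc_4_1 lc_e_rc_19_1 lc_e_rc_4_1 lc_e_rc_33_0 lc_e_rc_4_1 lc_e_rc_30_0 lc_e_rc_31_2 lc_e_Cert_tree lc_e_rc_19_1 lc_e_rc_19_1 lc_e_Cert_tree lc_e_rc_12_1) (@D3.rec (fun _ => (Cert rels S Gen.e)) lc_e_rc_12_1 lc_e_rc_30_0 lc_e_rc_25_3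 lc_e_rc_25_1 lc_e_rc_4_1 lc_e_rc_4_1 lc_e_rc_30_0 lc_e_rc_12_1 lc_e_rc_45_67 lc_e_rc_12_3 lc_e_rc_31_2 lc_e_rc_33_2 lc_e_rc_4_1 lc_e_Cert_tree lc_e_rc_30_0 lc_e_rc_25_3 lc_e_rc_31_2 lc_e_rc_31_2)
def ce_e_5 : D2 → D3 → (Cert rels S Gen.e) := @D2.rec (fun _ => D3 → (Cert rels S Gen.e)) (@D3.rec (fun _ => (Cert rels S Gen.e)) lc_e_rc_30_0 lc_e_rc_25_3 lc_e_rc_19_1 lc_e_rc_30_0 lc_e_rc_12_1 lc_e_rc_12_1 lc_e_Cert_tree lc_e_rc_31_2 lc_e_rc_19_1 lc_e_Cert_tree lc_e_rc_30_0 lc_e_rc_25_3 lc_e_rc_30_0 lc_e_rc_12_1 lc_e_rc_12_1 lc_e_Cert_tree lc_e_rc_31_2 lc_e_rc_4_1) (@D3.rec (fun _ => (Cert rels S Gen.e)) lc_e_rc_4_1 lc_e_rc_19_1 lc_e_Cert_tree lc_e_rc_12_1 lc_e_rc_12_1 lc_e_rc_30_0 lc_e_rc_33_2 lc_e_rc_31_2 lc_e_rc_34_2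 lc_e_rc_4_1 lc_e_rc_4_1 lc_e_rc_19_1 lc_e_Cert_tree lc_e_rc_30_0 lc_e_rc_4_1 lc_e_Cert_tree lc_e_rc_4_1 lc_e_rc_4_1) (@D3.rec (fun _ => (Cert rels S Gen.e)) lc_e_Cert_tree lc_e_rc_19_1 lc_e_rc_30_0 lc_e_rc_33_2 lc_e_rc_31_2 lc_e_rc_12_1 lc_e_rc_33_2 lc_e_rc_31_2 lc_e_rc_33_2 lc_e_rc_32_2 lc_e_rc_25_3 lc_e_rc_31_2 lc_e_rc_31_2 lc_e_rc_12_1 lc_e_rc_12_1 lc_e_Cert_tree lc_e_rc_31_2 lc_e_rc_19_1) (@D3.rec (fun _ => (Cert rels S Gen.e)) lc_e_rc_4_1 lc_e_rc_4_1 lc_e_rc_19_1 lc_e_Cert_tree lc_e_rc_12_1 lc_e_rc_12_1 lc_e_rc_30_0 lc_e_rc_33_2 lc_e_rc_31_2 lc_e_rc_34_2 lc_e_rc_4_1 lc_e_rc_4_1 lc_e_rc_19_1 lc_e_Cert_tree lc_e_rc_12_1 lc_e_rc_12_1 lc_e_rc_30_0 lc_e_rc_33_2) (@D3.rec (fun _ => (Cert rels S Gen.e)) lc_e_rc_31_2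 lc_e_rc_34_2 lc_e_rc_4_1 lc_e_Cert_tree lc_e_rc_4_1 lc_e_rc_4_1 lc_e_Cert_tree lc_e_rc_19_1 lc_e_rc_30_0 lc_e_rc_33_2 lc_e_rc_31_2 lc_e_rc_12_1 lc_e_rc_33_2 lc_e_rc_31_2 lc_e_rc_33_2 lc_e_rc_34_2 lc_e_Cert_tree lc_e_Cert_tree) (@D3.rec (fun _ => (Cert rels S Gen.e)) lc_e_rc_30_0 lc_e_rc_33_2 lc_e_rc_31_2 lc_e_rc_33_2 lc_e_rc_31_2 lc_e_rc_30_0 lc_e_rc_31_2 lc_e_rc_30_0 lc_e_rc_31_2 lc_e_rc_33_2 lc_e_rc_31_2 lc_e_rc_25_3 lc_e_Cert_tree lc_e_rc_4_1 lc_e_rc_30_0 lc_e_rc_33_2 lc_e_rc_31_2 lc_e_rc_4_1) (@D3.rec (fun _ => (Cert rels S Gen.e)) lc_e_rc_30_0 lc_e_rc_33_2 lc_e_rc_31_2 lc_e_Cert_tree lc_e_rc_19_1 lc_e_rc_33_2 lc_e_rc_31_2 lc_e_rc_33_2 lc_e_rc_34_2 lc_e_rc_33_2 lc_e_rc_25_3 lc_e_rc_34_2 lc_e_rc_34_2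 lc_e_rc_33_2 lc_e_rc_31_2 lc_e_rc_25_3 lc_e_rc_19_1 lc_e_rc_12_1) (@D3.rec (fun _ => (Cert rels S Gen.e)) lc_e_rc_19_1 lc_e_Cert_tree lc_e_rc_12_1 lc_e_rc_30_0 lc_e_rc_4_1 lc_e_rc_4_1 lc_e_Cert_tree lc_e_rc_4_1 lc_e_rc_4_1 lc_e_Cert_tree lc_e_rc_19_1 lc_e_rc_30_0 lc_e_rc_12_3 lc_e_rc_12_3 lc_e_rc_12_1 lc_e_rc_33_2 lc_e_rc_31_2 lc_e_rc_4_1) (@D3.rec (fun _ => (Cert rels S Gen.e)) lc_e_rc_4_1 lc_e_rc_4_1 lc_e_rc_4_3 lc_e_Cert_tree lc_e_rc_19_1 lc_e_rc_30_0 lc_e_rc_4_1 lc_e_rc_47_31 lc_e_rc_4_3 lc_e_rc_30_0 lc_e_rc_4_1 lc_e_rc_31_2 lc_e_Cert_tree lc_e_rc_31_2 lc_e_rc_4_1 lc_e_rc_25_3 lc_e_rc_4_1 lc_e_rc_19_1) (@D3.rec (fun _ => (Cert rels S Gen.e)) lc_e_Cert_tree lc_e_rc_30_0 lc_e_rc_32_2 lc_e_rc_30_0 lc_e_rc_12_3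 lc_e_rc_33_2 lc_e_rc_30_0 lc_e_rc_12_3 lc_e_rc_47_31 lc_e_rc_30_0 lc_e_rc_25_3 lc_e_rc_12_1 lc_e_Cert_tree lc_e_rc_25_3 lc_e_rc_31_2 lc_e_rc_12_1 lc_e_rc_12_1 lc_e_Cert_tree) (@D3.rec (fun _ => (Cert rels S Gen.e)) lc_e_rc_31_2 lc_e_rc_4_1 lc_e_rc_4_1 lc_e_rc_19_1 lc_e_Cert_tree lc_e_rc_12_1 lc_e_rc_12_1 lc_e_rc_30_0 lc_e_rc_33_2 lc_e_rc_31_2 lc_e_rc_34_2 lc_e_rc_30_0 lc_e_rc_25_3 lc_e_rc_25_3 lc_e_rc_4_1 lc_e_rc_4_1 lc_e_rc_19_1 lc_e_Cert_tree) (@D3.rec (fun _ => (Cert rels S Gen.e)) lc_e_rc_12_1 lc_e_rc_30_0 lc_e_rc_31_2 lc_e_rc_34_2 lc_e_rc_4_1 lc_e_Cert_tree lc_e_rc_4_1 lc_e_rc_4_1 lc_e_Cert_tree lc_e_rc_19_1 lc_e_rc_30_0 lc_e_rc_33_2 lc_e_rc_31_2 lc_e_rc_12_1 lc_e_rc_33_2 lc_e_rc_31_2 lc_e_rc_33_2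 lc_e_rc_34_2) (@D3.rec (fun _ => (Cert rels S Gen.e)) lc_e_Cert_tree lc_e_Cert_tree lc_e_rc_30_0 lc_e_Cert_tree lc_e_rc_30_0 lc_e_rc_33_2 lc_e_rc_31_2 lc_e_rc_30_0 lc_e_rc_33_2 lc_e_rc_31_2 lc_e_rc_32_2 lc_e_rc_32_2 lc_e_rc_33_2 lc_e_rc_32_2 lc_e_Cert_tree lc_e_rc_31_2 lc_e_rc_31_2 lc_e_rc_19_1) (@D3.rec (fun _ => (Cert rels S Gen.e)) lc_e_Cert_tree lc_e_rc_12_1 lc_e_rc_12_1 lc_e_rc_30_0 lc_e_rc_33_2 lc_e_rc_31_2 lc_e_rc_34_2 lc_e_rc_4_1 lc_e_Cert_tree lc_e_rc_4_1 lc_e_rc_4_1 lc_e_Cert_tree lc_e_rc_19_1 lc_e_rc_30_0 lc_e_rc_33_2 lc_e_rc_31_2 lc_e_rc_12_1 lc_e_rc_33_2) (@D3.rec (fun _ => (Cert rels S Gen.e)) lc_e_rc_31_2 lc_e_rc_33_2 lc_e_rc_34_2 lc_e_rc_4_1 lc_e_Cert_tree lc_e_rc_4_1 lc_e_Cert_tree lc_e_rc_19_1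 lc_e_rc_30_0 lc_e_rc_33_2 lc_e_rc_31_2 lc_e_rc_12_1 lc_e_rc_33_2 lc_e_rc_31_2 lc_e_rc_33_2 lc_e_rc_34_2 lc_e_rc_12_1 lc_e_Cert_tree)
def ce_e_6 : D2 → D3 → (Cert rels S Gen.e) := @D2.rec (fun _ => D3 → (Cert rels S Gen.e)) (@D3.rec (fun _ => (Cert rels S Gen.e)) lc_e_rc_4_1 lc_e_rc_30_0 lc_e_rc_33_2 lc_e_rc_31_2 lc_e_rc_4_1 lc_e_rc_30_0 lc_e_rc_33_2 lc_e_rc_31_2 lc_e_Cert_tree lc_e_rc_19_1 lc_e_rc_33_2 lc_e_rc_31_2 lc_e_rc_33_2 lc_e_rc_34_2 lc_e_rc_32_2 lc_e_rc_33_2 lc_e_rc_25_3 lc_e_rc_34_2) (@D3.rec (fun _ => (Cert rels S Gen.e)) lc_e_rc_34_2 lc_e_rc_30_0 lc_e_rc_30_0 lc_e_rc_33_2 lc_e_rc_31_2 lc_e_rc_31_2 lc_e_rc_25_3 lc_e_rc_31_2 lc_e_rc_25_3 lc_e_rc_19_1 lc_e_rc_30_0 lc_e_rc_33_2 lc_e_rc_31_2 lc_e_rc_4_1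 lc_e_rc_33_2 lc_e_rc_31_2 lc_e_rc_33_2 lc_e_rc_34_2) (@D3.rec (fun _ => (Cert rels S Gen.e)) lc_e_rc_33_2 lc_e_rc_31_2 lc_e_rc_33_2 lc_e_Cert_tree lc_e_rc_34_2 lc_e_rc_30_0 lc_e_rc_34_2 lc_e_rc_33_2 lc_e_rc_25_3 lc_e_rc_34_2 lc_e_rc_34_2 lc_e_rc_34_2 lc_e_rc_19_1 lc_e_rc_25_3 lc_e_rc_4_1 lc_e_rc_19_1 lc_e_rc_12_1 lc_e_rc_4_1) (@D3.rec (fun _ => (Cert rels S Gen.e)) lc_e_Cert_tree lc_e_rc_30_0 lc_e_rc_25_3 lc_e_rc_12_1 lc_e_Cert_tree lc_e_rc_4_1 lc_e_rc_30_0 lc_e_rc_12_1 lc_e_rc_12_1 lc_e_rc_30_0 lc_e_rc_19_1 lc_e_rc_12_3 lc_e_Cert_tree lc_e_rc_12_1 lc_e_rc_19_1 lc_e_rc_30_0 lc_e_rc_19_1 lc_e_rc_30_1) (@D3.rec (fun _ => (Cert rels S Gen.e)) lc_e_rc_25_3 lc_e_rc_31_2 lc_e_rc_12_1 lc_e_Cert_tree lc_e_rc_30_0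 lc_e_rc_31_2 lc_e_Cert_tree lc_e_rc_30_0 lc_e_rc_32_2 lc_e_rc_4_1 lc_e_rc_4_1 lc_e_rc_19_1 lc_e_Cert_tree lc_e_rc_25_3 lc_e_rc_12_1 lc_e_rc_30_0 lc_e_rc_33_2 lc_e_rc_31_2) (@D3.rec (fun _ => (Cert rels S Gen.e)) lc_e_rc_25_3 lc_e_rc_19_1 lc_e_Cert_tree lc_e_rc_12_1 lc_e_rc_30_0 lc_e_rc_31_2 lc_e_rc_34_2 lc_e_rc_4_1 lc_e_Cert_tree lc_e_rc_4_1 lc_e_rc_4_1 lc_e_Cert_tree lc_e_rc_19_1 lc_e_rc_30_0 lc_e_rc_33_2 lc_e_rc_31_2 lc_e_rc_12_1 lc_e_rc_33_2) (@D3.rec (fun _ => (Cert rels S Gen.e)) lc_e_rc_31_2 lc_e_rc_33_2 lc_e_rc_34_2 lc_e_rc_4_1 lc_e_rc_19_1 lc_e_rc_25_3 lc_e_rc_25_3 lc_e_rc_4_1 lc_e_Cert_tree lc_e_rc_4_1 lc_e_Cert_tree lc_e_rc_19_1 lc_e_rc_30_0 lc_e_rc_31_2 lc_e_rc_12_1 lc_e_rc_31_2 lc_e_rc_34_2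 lc_e_rc_12_1) (@D3.rec (fun _ => (Cert rels S Gen.e)) lc_e_Cert_tree lc_e_rc_4_1 lc_e_rc_30_0 lc_e_rc_33_2 lc_e_rc_31_2 lc_e_rc_4_1 lc_e_rc_30_0 lc_e_rc_33_2 lc_e_rc_31_2 lc_e_Cert_tree lc_e_rc_19_1 lc_e_rc_33_2 lc_e_rc_31_2 lc_e_rc_33_2 lc_e_rc_34_2 lc_e_rc_32_2 lc_e_rc_33_2 lc_e_rc_25_3) (@D3.rec (fun _ => (Cert rels S Gen.e)) lc_e_rc_34_2 lc_e_rc_34_2 lc_e_rc_30_0 lc_e_rc_30_0 lc_e_rc_30_0 lc_e_rc_33_2 lc_e_rc_31_2 lc_e_rc_25_3 lc_e_rc_32_2 lc_e_rc_32_2 lc_e_rc_33_2 lc_e_rc_19_1 lc_e_rc_30_0 lc_e_rc_33_2 lc_e_rc_31_2 lc_e_rc_34_2 lc_e_Cert_tree lc_e_rc_19_1) (@D3.rec (fun _ => (Cert rels S Gen.e)) lc_e_rc_30_0 lc_e_rc_33_2 lc_e_rc_31_2 lc_e_rc_12_1 lc_e_rc_33_2 lc_e_rc_31_2 lc_e_rc_33_2 lc_e_rc_34_2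 lc_e_rc_12_1 lc_e_Cert_tree lc_e_rc_4_1 lc_e_rc_30_0 lc_e_rc_33_2 lc_e_rc_31_2 lc_e_rc_4_1 lc_e_rc_30_0 lc_e_rc_33_2 lc_e_rc_31_2) (@D3.rec (fun _ => (Cert rels S Gen.e)) lc_e_Cert_tree lc_e_rc_19_1 lc_e_rc_33_2 lc_e_rc_31_2 lc_e_rc_33_2 lc_e_rc_34_2 lc_e_rc_32_2 lc_e_rc_33_2 lc_e_rc_25_3 lc_e_rc_34_2 lc_e_rc_34_2 lc_e_rc_12_1 lc_e_Cert_tree lc_e_rc_4_1 lc_e_rc_30_0 lc_e_rc_31_2 lc_e_rc_4_1 lc_e_rc_30_0) (@D3.rec (fun _ => (Cert rels S Gen.e)) lc_e_rc_33_2 lc_e_rc_31_2 lc_e_rc_12_1 lc_e_rc_19_1 lc_e_rc_33_2 lc_e_rc_31_2 lc_e_rc_33_2 lc_e_rc_34_2 lc_e_rc_33_2 lc_e_rc_25_3 lc_e_rc_34_2 lc_e_rc_34_2 lc_e_Cert_tree lc_e_rc_30_0 lc_e_rc_25_3 lc_e_rc_31_2 lc_e_rc_4_1 lc_e_rc_33_2) (@D3.rec (fun _ => (Cert rels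 S Gen.e)) lc_e_rc_31_2 lc_e_rc_33_2 lc_e_rc_34_2 lc_e_rc_25_3 lc_e_rc_33_2 lc_e_rc_31_2 lc_e_rc_33_2 lc_e_Cert_tree lc_e_rc_34_2 lc_e_rc_30_0 lc_e_rc_34_2 lc_e_rc_32_2 lc_e_rc_33_2 lc_e_rc_25_3 lc_e_rc_34_2 lc_e_rc_34_2 lc_e_rc_34_2 lc_e_rc_19_1) (@D3.rec (fun _ => (Cert rels S Gen.e)) lc_e_rc_25_3 lc_e_rc_4_1 lc_e_rc_31_2 lc_e_rc_25_3 lc_e_rc_19_1 lc_e_rc_12_1 lc_e_rc_33_2 lc_e_rc_31_2 lc_e_rc_33_2 lc_e_rc_34_2 lc_e_rc_33_2 lc_e_rc_4_1 lc_e_rc_34_2 lc_e_rc_34_2 lc_e_rc_33_2 lc_e_Cert_tree lc_e_rc_34_2 lc_e_Cert_tree) (@D3.rec (fun _ => (Cert rels S Gen.e)) lc_e_rc_34_2 lc_e_rc_30_0 lc_e_rc_34_2 lc_e_rc_32_2 lc_e_rc_34_2 lc_e_rc_34_2 lc_e_rc_19_1 lc_e_rc_25_3 lc_e_rc_12_1 lc_e_rc_19_1 lc_e_rc_19_1 lc_e_rc_12_1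 lc_e_rc_4_1 lc_e_rc_30_0 lc_e_rc_12_1 lc_e_rc_12_3 lc_e_rc_30_0 lc_e_rc_12_1)
def ce_e_7 : D2 → D3 → (Cert rels S Gen.e) := @D2.rec (fun _ => D3 → (Cert rels S Gen.e)) (@D3.rec (fun _ => (Cert rels S Gen.e)) lc_e_rc_12_1 lc_e_rc_25_3 lc_e_Cert_tree lc_e_rc_30_0 lc_e_rc_31_2 lc_e_Cert_tree lc_e_Cert_tree lc_e_rc_30_0 lc_e_rc_32_2 lc_e_rc_34_2 lc_e_rc_30_0 lc_e_rc_32_2 lc_e_rc_19_1 lc_e_Cert_tree lc_e_rc_4_1 lc_e_rc_4_1 lc_e_rc_47_31 lc_e_rc_19_1) (@D3.rec (fun _ => (Cert rels S Gen.e)) lc_e_rc_30_0 lc_e_rc_4_1 lc_e_rc_31_2 lc_e_rc_25_3 lc_e_rc_33_2 lc_e_rc_31_2 lc_e_rc_33_2 lc_e_rc_34_2 lc_e_Cert_tree lc_e_rc_19_1 lc_e_rc_30_0 lc_e_rc_31_2 lc_e_rc_12_1 lc_e_rc_31_2 lc_e_rc_34_2 lc_e_rc_12_1 lc_e_Cert_tree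 lc_e_rc_4_1) (@D3.rec (fun _ => (Cert rels S Gen.e)) lc_e_rc_30_0 lc_e_rc_33_2 lc_e_rc_31_2 lc_e_rc_4_1 lc_e_rc_30_0 lc_e_rc_33_2 lc_e_rc_31_2 lc_e_Cert_tree lc_e_rc_19_1 lc_e_rc_33_2 lc_e_rc_31_2 lc_e_rc_33_2 lc_e_rc_34_2 lc_e_rc_32_2 lc_e_rc_33_2 lc_e_rc_25_3 lc_e_rc_34_2 lc_e_rc_34_2) (@D3.rec (fun _ => (Cert rels S Gen.e)) lc_e_rc_19_1 lc_e_rc_4_1 lc_e_rc_19_1 lc_e_rc_25_3 lc_e_rc_12_1 lc_e_Cert_tree lc_e_rc_4_1 lc_e_rc_30_0 lc_e_rc_31_2 lc_e_rc_4_1 lc_e_rc_30_0 lc_e_rc_31_2 lc_e_Cert_tree lc_e_rc_19_1 lc_e_rc_31_2 lc_e_rc_34_2 lc_e_rc_34_2 lc_e_Cert_tree) (@D3.rec (fun _ => (Cert rels S Gen.e)) lc_e_rc_12_1 lc_e_rc_30_0 lc_e_rc_33_2 lc_e_rc_31_2 lc_e_rc_25_3 lc_e_rc_4_1 lc_e_rc_33_2 lc_e_rc_31_2 lc_e_rc_33_2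 lc_e_rc_34_2 lc_e_rc_25_3 lc_e_rc_33_2 lc_e_rc_31_2 lc_e_rc_33_2 lc_e_Cert_tree lc_e_rc_34_2 lc_e_rc_30_0 lc_e_rc_34_2) (@D3.rec (fun _ => (Cert rels S Gen.e)) lc_e_rc_32_2 lc_e_rc_33_2 lc_e_rc_25_3 lc_e_rc_34_2 lc_e_rc_34_2 lc_e_rc_31_2 lc_e_rc_25_3 lc_e_rc_34_2 lc_e_rc_31_2 lc_e_rc_25_3 lc_e_rc_25_3 lc_e_rc_25_3 lc_e_rc_4_1 lc_e_rc_31_2 lc_e_rc_19_1 lc_e_rc_19_1 lc_e_rc_12_1 lc_e_rc_33_2) (@D3.rec (fun _ => (Cert rels S Gen.e)) lc_e_rc_31_2 lc_e_rc_33_2 lc_e_rc_34_2 lc_e_rc_30_0 lc_e_rc_33_2 lc_e_rc_31_2 lc_e_rc_19_1 lc_e_rc_33_2 lc_e_rc_31_2 lc_e_rc_33_2 lc_e_rc_34_2 lc_e_rc_33_2 lc_e_rc_25_3 lc_e_rc_34_2 lc_e_rc_34_2 lc_e_Cert_tree lc_e_rc_12_1 lc_e_rc_30_0) (@D3.rec (fun _ => (Cert rels S Gen.e)) lc_e_rc_33_2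 lc_e_rc_31_2 lc_e_rc_32_0 lc_e_rc_4_1 lc_e_rc_33_2 lc_e_rc_31_2 lc_e_rc_33_2 lc_e_rc_34_2 lc_e_rc_25_3 lc_e_rc_33_2 lc_e_rc_31_2 lc_e_rc_33_2 lc_e_Cert_tree lc_e_rc_34_2 lc_e_rc_30_0 lc_e_rc_34_2 lc_e_rc_12_1 lc_e_rc_33_2) (@D3.rec (fun _ => (Cert rels S Gen.e)) lc_e_rc_25_3 lc_e_rc_34_2 lc_e_rc_34_2 lc_e_rc_31_2 lc_e_rc_25_3 lc_e_rc_34_2 lc_e_rc_19_1 lc_e_rc_25_3 lc_e_rc_25_3 lc_e_rc_30_0 lc_e_rc_31_2 lc_e_rc_4_1 lc_e_rc_31_2 lc_e_rc_34_2 lc_e_rc_25_3 lc_e_rc_33_2 lc_e_rc_31_2 lc_e_rc_33_2) (@D3.rec (fun _ => (Cert rels S Gen.e)) lc_e_Cert_tree lc_e_rc_34_2 lc_e_rc_12_1 lc_e_rc_33_2 lc_e_rc_25_3 lc_e_rc_34_2 lc_e_rc_34_2 lc_e_rc_34_2 lc_e_rc_25_3 lc_e_rc_30_0 lc_e_rc_25_3 lc_e_rc_31_2 lc_e_rc_31_2 lc_e_rc_34_2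 lc_e_rc_33_2 lc_e_rc_4_1 lc_e_rc_34_2 lc_e_rc_34_2) (@D3.rec (fun _ => (Cert rels S Gen.e)) lc_e_rc_31_2 lc_e_rc_32_2 lc_e_rc_33_2 lc_e_Cert_tree lc_e_rc_34_2 lc_e_Cert_tree lc_e_rc_34_2 lc_e_rc_30_0 lc_e_rc_34_2 lc_e_rc_32_2 lc_e_rc_34_2 lc_e_rc_34_2 lc_e_rc_19_1 lc_e_rc_25_3 lc_e_rc_12_1 lc_e_rc_19_1 lc_e_rc_19_1 lc_e_rc_31_2) (@D3.rec (fun _ => (Cert rels S Gen.e)) lc_e_rc_34_2 lc_e_rc_25_3 lc_e_rc_12_1 lc_e_rc_4_1 lc_e_rc_33_2 lc_e_rc_4_3 lc_e_rc_34_2 lc_e_rc_34_2 lc_e_rc_34_2 lc_e_rc_19_1 lc_e_rc_4_1 lc_e_Cert_tree lc_e_rc_34_2 lc_e_Cert_tree lc_e_rc_30_0 lc_e_rc_34_2 lc_e_rc_30_0 lc_e_rc_34_2) (@D3.rec (fun _ => (Cert rels S Gen.e)) lc_e_rc_32_2 lc_e_rc_34_2 lc_e_rc_31_2 lc_e_rc_34_2 lc_e_rc_12_1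 lc_e_rc_19_1 lc_e_rc_12_1 lc_e_rc_12_1 lc_e_rc_4_1 lc_e_rc_4_1 lc_e_rc_31_2 lc_e_rc_30_0 lc_e_rc_32_2 lc_e_Cert_tree lc_e_rc_34_2 lc_e_rc_30_0 lc_e_rc_30_0 lc_e_rc_32_2) (@D3.rec (fun _ => (Cert rels S Gen.e)) lc_e_rc_32_2 lc_e_rc_12_1 lc_e_rc_19_3 lc_e_rc_19_1 lc_e_rc_30_0 lc_e_rc_12_1 lc_e_rc_31_2 lc_e_rc_4_1 lc_e_rc_47_31 lc_e_Cert_tree lc_e_rc_19_1 lc_e_rc_31_2 lc_e_rc_4_1 lc_e_rc_34_2 lc_e_rc_33_2 lc_e_rc_25_3 lc_e_rc_34_2 lc_e_rc_34_2) (@D3.rec (fun _ => (Cert rels S Gen.e)) lc_e_rc_30_0 lc_e_rc_31_2 lc_e_rc_25_1 lc_e_rc_19_1 lc_e_rc_31_2 lc_e_rc_34_2 lc_e_rc_12_3 lc_e_rc_34_2 lc_e_Cert_tree lc_e_rc_12_1 lc_e_rc_30_0 lc_e_rc_33_2 lc_e_rc_31_2 lc_e_Cert_tree lc_e_rc_4_1 lc_e_rc_33_2 lc_e_rc_31_2 lc_e_rc_33_2)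
def ce_e_8 : D2 → D3 → (Cert rels S Gen.e) := @D2.rec (fun _ => D3 → (Cert rels S Gen.e)) (@D3.rec (fun _ => (Cert rels S Gen.e)) lc_e_rc_34_2 lc_e_rc_25_3 lc_e_rc_33_2 lc_e_rc_31_2 lc_e_rc_33_2 lc_e_Cert_tree lc_e_rc_34_2 lc_e_rc_30_0 lc_e_rc_34_2 lc_e_rc_12_1 lc_e_rc_33_2 lc_e_rc_25_3 lc_e_rc_34_2 lc_e_rc_34_2 lc_e_rc_31_2 lc_e_rc_25_3 lc_e_rc_34_2 lc_e_rc_19_1) (@D3.rec (fun _ => (Cert rels S Gen.e)) lc_e_rc_25_3 lc_e_rc_12_1 lc_e_rc_19_1 lc_e_rc_4_1 lc_e_Cert_tree lc_e_rc_19_1 lc_e_Cert_tree lc_e_rc_32_0 lc_e_rc_30_0 lc_e_rc_31_2 lc_e_rc_4_3 lc_e_rc_4_1 lc_e_rc_31_2 lc_e_rc_34_2 lc_e_rc_25_3 lc_e_rc_31_2 lc_e_Cert_tree lc_e_rc_34_2) (@D3.rec (fun _ => (Cert rels S Gen.e)) lc_e_rc_30_0 lc_e_rc_34_2 lc_e_rc_34_2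 lc_e_rc_30_0 lc_e_rc_33_2 lc_e_rc_31_2 lc_e_rc_12_1 lc_e_rc_4_1 lc_e_rc_33_2 lc_e_rc_31_2 lc_e_rc_33_2 lc_e_Cert_tree lc_e_rc_34_2 lc_e_rc_25_3 lc_e_rc_33_2 lc_e_rc_4_1 lc_e_rc_34_2 lc_e_rc_34_2) (@D3.rec (fun _ => (Cert rels S Gen.e)) lc_e_rc_25_3 lc_e_rc_31_2 lc_e_rc_32_2 lc_e_rc_33_2 lc_e_Cert_tree lc_e_rc_34_2 lc_e_Cert_tree lc_e_rc_34_2 lc_e_rc_30_0 lc_e_rc_34_2 lc_e_rc_32_2 lc_e_rc_34_2 lc_e_rc_31_2 lc_e_rc_31_2 lc_e_rc_25_3 lc_e_rc_34_2 lc_e_rc_31_2 lc_e_rc_25_3) (@D3.rec (fun _ => (Cert rels S Gen.e)) lc_e_rc_32_2 lc_e_rc_31_2 lc_e_rc_25_3 lc_e_rc_12_1 lc_e_rc_32_2 lc_e_rc_31_2 lc_e_rc_34_2 lc_e_rc_12_1 lc_e_rc_12_1 lc_e_rc_4_1 lc_e_rc_33_2 lc_e_rc_25_3 lc_e_rc_34_2 lc_e_rc_34_2 lc_e_rc_25_3 lc_e_rc_33_2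 lc_e_rc_31_2 lc_e_rc_33_2) (@D3.rec (fun _ => (Cert rels S Gen.e)) lc_e_rc_34_2 lc_e_rc_33_2 lc_e_rc_4_1 lc_e_rc_34_2 lc_e_rc_34_2 lc_e_rc_25_3 lc_e_rc_34_2 lc_e_rc_19_1 lc_e_rc_25_3 lc_e_rc_30_0 lc_e_rc_31_2 lc_e_rc_12_1 lc_e_rc_4_1 lc_e_rc_33_2 lc_e_rc_31_2 lc_e_rc_33_2 lc_e_Cert_tree lc_e_rc_34_2) (@D3.rec (fun _ => (Cert rels S Gen.e)) lc_e_rc_31_2 lc_e_rc_4_1 lc_e_rc_33_2 lc_e_rc_4_1 lc_e_rc_34_2 lc_e_rc_34_2 lc_e_rc_25_3 lc_e_rc_31_2 lc_e_rc_12_1 lc_e_rc_33_2 lc_e_Cert_tree lc_e_rc_34_2 lc_e_rc_31_2 lc_e_rc_34_2 lc_e_rc_30_0 lc_e_rc_34_2 lc_e_rc_32_2 lc_e_rc_34_2) (@D3.rec (fun _ => (Cert rels S Gen.e)) lc_e_rc_31_2 lc_e_rc_25_3 lc_e_rc_34_2 lc_e_rc_19_1 lc_e_rc_25_3 lc_e_rc_32_2 lc_e_rc_25_3 lc_e_rc_25_3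 lc_e_rc_19_1 lc_e_rc_31_2 lc_e_rc_31_2 lc_e_rc_34_2 lc_e_rc_34_2 lc_e_rc_31_2 lc_e_rc_33_2 lc_e_Cert_tree lc_e_rc_34_2 lc_e_rc_31_2) (@D3.rec (fun _ => (Cert rels S Gen.e)) lc_e_rc_34_2 lc_e_rc_30_0 lc_e_rc_34_2 lc_e_rc_34_2 lc_e_rc_19_1 lc_e_rc_25_3 lc_e_rc_4_3 lc_e_rc_34_2 lc_e_rc_34_2 lc_e_rc_34_2 lc_e_rc_19_1 lc_e_rc_4_1 lc_e_Cert_tree lc_e_rc_34_2 lc_e_Cert_tree lc_e_rc_34_2 lc_e_Cert_tree lc_e_rc_30_0) (@D3.rec (fun _ => (Cert rels S Gen.e)) lc_e_rc_34_2 lc_e_rc_30_0 lc_e_rc_34_2 lc_e_rc_32_2 lc_e_rc_34_2 lc_e_rc_33_2 lc_e_rc_34_2 lc_e_rc_12_1 lc_e_rc_19_1 lc_e_rc_31_2 lc_e_rc_12_1 lc_e_rc_12_1 lc_e_rc_31_2 lc_e_rc_34_2 lc_e_rc_12_1 lc_e_rc_4_1 lc_e_rc_4_3 lc_e_rc_34_2) (@D3.rec (fun _ => (Cert rels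 S Gen.e)) lc_e_rc_19_1 lc_e_rc_4_3 lc_e_rc_12_1 lc_e_rc_19_1 lc_e_rc_30_0 lc_e_rc_34_2 lc_e_Cert_tree lc_e_rc_30_0 lc_e_rc_34_2 lc_e_rc_32_2 lc_e_rc_34_2 lc_e_rc_31_2 lc_e_rc_32_2 lc_e_rc_34_2 lc_e_rc_34_2 lc_e_rc_33_2 lc_e_rc_12_1 lc_e_rc_4_1) (@D3.rec (fun _ => (Cert rels S Gen.e)) lc_e_rc_34_2 lc_e_rc_32_2 lc_e_rc_30_0 lc_e_rc_34_2 lc_e_rc_32_2 lc_e_rc_19_1 lc_e_rc_12_1 lc_e_rc_12_1 lc_e_Cert_tree lc_e_rc_19_1 lc_e_rc_31_2 lc_e_rc_12_1 lc_e_rc_34_2 lc_e_Cert_tree lc_e_rc_34_2 lc_e_rc_30_0 lc_e_rc_34_2 lc_e_rc_25_3) (@D3.rec (fun _ => (Cert rels S Gen.e)) lc_e_rc_34_2 lc_e_rc_34_2 lc_e_rc_25_3 lc_e_rc_34_2 lc_e_rc_19_1 lc_e_rc_25_3 lc_e_rc_25_3 lc_e_rc_31_2 lc_e_Cert_tree lc_e_rc_34_2 lc_e_rc_25_1 lc_e_rc_4_1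 lc_e_rc_34_2 lc_e_rc_12_3 lc_e_rc_30_0 lc_e_rc_33_2 lc_e_rc_31_2 lc_e_rc_4_1) (@D3.rec (fun _ => (Cert rels S Gen.e)) lc_e_rc_12_1 lc_e_rc_4_1 lc_e_rc_33_2 lc_e_rc_31_2 lc_e_rc_33_2 lc_e_Cert_tree lc_e_rc_34_2 lc_e_rc_30_0 lc_e_rc_34_2 lc_e_rc_4_1 lc_e_rc_33_2 lc_e_rc_4_1 lc_e_rc_34_2 lc_e_rc_34_2 lc_e_rc_25_3 lc_e_rc_31_2 lc_e_rc_12_1 lc_e_rc_33_2) (@D3.rec (fun _ => (Cert rels S Gen.e)) lc_e_Cert_tree lc_e_rc_34_2 lc_e_rc_4_3 lc_e_rc_34_2 lc_e_rc_30_0 lc_e_rc_34_2 lc_e_rc_32_2 lc_e_rc_34_2 lc_e_rc_31_2 lc_e_rc_31_2 lc_e_rc_4_1 lc_e_rc_34_2 lc_e_rc_19_1 lc_e_rc_25_3 lc_e_Cert_tree lc_e_rc_32_2 lc_e_rc_19_1 lc_e_rc_25_3)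
def ce_e_9 : D2 → D3 → (Cert rels S Gen.e) := @D2.rec (fun _ => D3 → (Cert rels S Gen.e)) (@D3.rec (fun _ => (Cert rels S Gen.e)) lc_e_rc_12_1 lc_e_rc_19_1 lc_e_rc_31_2 lc_e_rc_12_1 lc_e_rc_19_1 lc_e_rc_19_1 lc_e_rc_30_0 lc_e_rc_34_2 lc_e_rc_30_0 lc_e_rc_31_2 lc_e_rc_31_2 lc_e_rc_31_2 lc_e_Cert_tree lc_e_rc_34_2 lc_e_rc_4_3 lc_e_rc_34_2 lc_e_rc_31_2 lc_e_Cert_tree) (@D3.rec (fun _ => (Cert rels S Gen.e)) lc_e_rc_34_2 lc_e_rc_30_0 lc_e_rc_34_2 lc_e_rc_32_2 lc_e_rc_34_2 lc_e_rc_31_2 lc_e_rc_12_1 lc_e_rc_33_2 lc_e_rc_31_2 lc_e_rc_33_2 lc_e_rc_34_2 lc_e_rc_4_1 lc_e_rc_33_2 lc_e_Cert_tree lc_e_rc_34_2 lc_e_Cert_tree lc_e_rc_34_2 lc_e_rc_30_0) (@D3.rec (fun _ => (Cert rels S Gen.e)) lc_e_rc_34_2 lc_e_rc_31_2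 lc_e_rc_34_2 lc_e_rc_4_1 lc_e_rc_4_1 lc_e_Cert_tree lc_e_rc_34_2 lc_e_rc_31_2 lc_e_Cert_tree lc_e_rc_34_2 lc_e_Cert_tree lc_e_rc_30_0 lc_e_rc_34_2 lc_e_rc_30_0 lc_e_rc_34_2 lc_e_rc_32_2 lc_e_rc_34_2 lc_e_rc_31_2) (@D3.rec (fun _ => (Cert rels S Gen.e)) lc_e_rc_33_2 lc_e_rc_34_2 lc_e_rc_31_2 lc_e_rc_32_2 lc_e_rc_25_3 lc_e_rc_12_1 lc_e_rc_32_2 lc_e_rc_12_1 lc_e_rc_33_2 lc_e_rc_4_1 lc_e_rc_12_1 lc_e_rc_34_2 lc_e_rc_4_1 lc_e_rc_25_3 lc_e_rc_34_2 lc_e_rc_19_1 lc_e_rc_25_3 lc_e_rc_31_2) (@D3.rec (fun _ => (Cert rels S Gen.e)) lc_e_rc_33_2 lc_e_rc_4_1 lc_e_rc_34_2 lc_e_rc_34_2 lc_e_rc_4_1 lc_e_rc_34_2 lc_e_rc_19_1 lc_e_rc_4_1 lc_e_rc_25_3 lc_e_rc_12_1 lc_e_rc_19_1 lc_e_rc_31_2 lc_e_rc_31_2 lc_e_rc_34_2 lc_e_rc_31_2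 lc_e_rc_4_1 lc_e_rc_33_2 lc_e_Cert_tree) (@D3.rec (fun _ => (Cert rels S Gen.e)) lc_e_rc_34_2 lc_e_rc_34_2 lc_e_rc_30_0 lc_e_rc_34_2 lc_e_rc_4_1 lc_e_rc_4_1 lc_e_rc_34_2 lc_e_rc_19_1 lc_e_rc_4_1 lc_e_rc_31_2 lc_e_rc_34_2 lc_e_rc_31_2 lc_e_rc_33_2 lc_e_rc_34_2 lc_e_Cert_tree lc_e_rc_30_0 lc_e_rc_34_2 lc_e_rc_34_2) (@D3.rec (fun _ => (Cert rels S Gen.e)) lc_e_rc_32_2 lc_e_rc_34_2 lc_e_rc_33_2 lc_e_rc_34_2 lc_e_rc_32_2 lc_e_rc_19_1 lc_e_rc_25_3 lc_e_rc_12_1 lc_e_rc_19_1 lc_e_rc_31_2 lc_e_rc_31_2 lc_e_rc_4_1 lc_e_rc_25_3 lc_e_rc_19_1 lc_e_rc_12_1 lc_e_rc_34_2 lc_e_rc_31_2 lc_e_rc_34_2) (@D3.rec (fun _ => (Cert rels S Gen.e)) lc_e_rc_31_2 lc_e_rc_34_2 lc_e_Cert_tree lc_e_rc_30_0 lc_e_rc_34_2 lc_e_rc_34_2 lc_e_rc_34_2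 lc_e_rc_19_1 lc_e_rc_19_1 lc_e_rc_4_3 lc_e_rc_12_1 lc_e_rc_19_1 lc_e_Cert_tree lc_e_rc_30_0 lc_e_rc_34_2 lc_e_rc_30_0 lc_e_rc_34_2 lc_e_Cert_tree) (@D3.rec (fun _ => (Cert rels S Gen.e)) lc_e_rc_30_0 lc_e_rc_34_2 lc_e_rc_32_2 lc_e_rc_34_2 lc_e_rc_31_2 lc_e_rc_19_1 lc_e_rc_34_2 lc_e_rc_33_2 lc_e_rc_34_2 lc_e_rc_34_2 lc_e_rc_12_1 lc_e_rc_33_2 lc_e_rc_4_1 lc_e_rc_12_1 lc_e_rc_34_2 lc_e_rc_4_1 lc_e_rc_4_3 lc_e_rc_12_1) (@D3.rec (fun _ => (Cert rels S Gen.e)) lc_e_rc_19_1 lc_e_rc_31_2 lc_e_rc_12_1 lc_e_rc_19_1 lc_e_rc_34_2 lc_e_rc_31_2 lc_e_rc_30_0 lc_e_rc_34_2 lc_e_rc_32_2 lc_e_rc_34_2 lc_e_rc_31_2 lc_e_rc_32_2 lc_e_rc_31_2 lc_e_rc_32_2 lc_e_rc_31_2 lc_e_rc_34_2 lc_e_Cert_tree lc_e_rc_12_1) (@D3.rec (fun _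 => (Cert rels S Gen.e)) lc_e_rc_4_3 lc_e_rc_34_2 lc_e_rc_30_0 lc_e_rc_34_2 lc_e_rc_4_1 lc_e_rc_34_2 lc_e_rc_34_2 lc_e_rc_30_0 lc_e_rc_34_2 lc_e_rc_32_2 lc_e_rc_34_2 lc_e_rc_31_2 lc_e_rc_19_1 lc_e_rc_25_3 lc_e_rc_19_1 lc_e_rc_25_3 lc_e_rc_12_1 lc_e_rc_19_1) (@D3.rec (fun _ => (Cert rels S Gen.e)) lc_e_rc_31_2 lc_e_rc_31_2 lc_e_Cert_tree lc_e_rc_34_2 lc_e_rc_30_0 lc_e_rc_34_2 lc_e_rc_31_2 lc_e_rc_19_1 lc_e_rc_4_1 lc_e_rc_31_2 lc_e_rc_33_2 lc_e_rc_31_2 lc_e_rc_33_2 lc_e_Cert_tree lc_e_rc_34_2 lc_e_rc_19_1 lc_e_rc_4_1 lc_e_rc_4_1) (@D3.rec (fun _ => (Cert rels S Gen.e)) lc_e_rc_4_1 lc_e_rc_4_1 lc_e_rc_33_2 lc_e_Cert_tree lc_e_rc_34_2 lc_e_rc_34_2 lc_e_rc_30_0 lc_e_rc_34_2 lc_e_rc_32_2 lc_e_rc_34_2 lc_e_rc_31_2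 lc_e_rc_4_1 lc_e_rc_34_2 lc_e_rc_19_1 lc_e_rc_4_1 lc_e_rc_31_2 lc_e_Cert_tree lc_e_rc_34_2) (@D3.rec (fun _ => (Cert rels S Gen.e)) lc_e_rc_31_2 lc_e_rc_25_3 lc_e_rc_34_2 lc_e_rc_19_3 lc_e_rc_30_0 lc_e_rc_34_2 lc_e_rc_33_2 lc_e_rc_32_2 lc_e_rc_34_2 lc_e_rc_31_2 lc_e_rc_33_2 lc_e_rc_34_2 lc_e_rc_31_2 lc_e_rc_4_1 lc_e_rc_32_2 lc_e_rc_34_2 lc_e_rc_12_1 lc_e_rc_19_1) (@D3.rec (fun _ => (Cert rels S Gen.e)) lc_e_rc_31_2 lc_e_rc_30_0 lc_e_rc_34_2 lc_e_rc_12_1 lc_e_rc_19_1 lc_e_rc_31_2 lc_e_rc_4_1 lc_e_rc_12_1 lc_e_rc_19_1 lc_e_rc_32_2 lc_e_rc_12_1 lc_e_rc_19_1 lc_e_rc_19_3 lc_e_rc_34_2 lc_e_rc_31_2 lc_e_rc_31_2 lc_e_rc_34_2 lc_e_Cert_tree)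
def ce_e_10 : D2 → D3 → (Cert rels S Gen.e) := @D2.rec (fun _ => D3 → (Cert rels S Gen.e)) (@D3.rec (fun _ => (Cert rels S Gen.e)) lc_e_rc_34_2 lc_e_rc_30_0 lc_e_rc_34_2 lc_e_rc_25_3 lc_e_Cert_tree lc_e_rc_34_2 lc_e_rc_30_0 lc_e_rc_34_2 lc_e_rc_32_2 lc_e_rc_34_2 lc_e_rc_31_2 lc_e_rc_33_2 lc_e_rc_34_2 lc_e_rc_31_2 lc_e_rc_12_1 lc_e_rc_33_2 lc_e_rc_32_2 lc_e_rc_34_2) (@D3.rec (fun _ => (Cert rels S Gen.e)) lc_e_rc_34_2 lc_e_Cert_tree lc_e_rc_4_1 lc_e_Cert_tree lc_e_rc_34_2 lc_e_Cert_tree lc_e_rc_30_0 lc_e_rc_34_2 lc_e_rc_30_0 lc_e_rc_34_2 lc_e_rc_34_2 lc_e_rc_31_2 lc_e_rc_4_1 lc_e_rc_30_0 lc_e_rc_34_2 lc_e_Cert_tree lc_e_rc_32_2 lc_e_rc_30_0) (@D3.rec (fun _ => (Cert rels S Gen.e)) lc_e_rc_34_2 lc_e_Cert_tree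 lc_e_rc_30_0 lc_e_rc_34_2 lc_e_rc_32_2 lc_e_rc_34_2 lc_e_rc_31_2 lc_e_rc_32_2 lc_e_rc_34_2 lc_e_rc_31_2 lc_e_rc_33_2 lc_e_rc_34_2 lc_e_rc_31_2 lc_e_rc_34_2 lc_e_rc_31_2 lc_e_rc_4_1 lc_e_rc_12_1 lc_e_rc_12_1) (@D3.rec (fun _ => (Cert rels S Gen.e)) lc_e_rc_4_1 lc_e_rc_25_3 lc_e_rc_12_1 lc_e_rc_19_1 lc_e_rc_31_2 lc_e_rc_31_2 lc_e_rc_34_2 lc_e_rc_4_1 lc_e_rc_34_2 lc_e_rc_19_1 lc_e_rc_4_1 lc_e_rc_4_1 lc_e_rc_12_1 lc_e_rc_19_1 lc_e_rc_31_2 lc_e_rc_31_2 lc_e_rc_33_2 lc_e_rc_12_1) (@D3.rec (fun _ => (Cert rels S Gen.e)) lc_e_rc_19_1 lc_e_rc_12_3 lc_e_rc_34_2 lc_e_rc_33_0 lc_e_rc_34_2 lc_e_rc_4_1 lc_e_rc_31_0 lc_e_rc_34_2 lc_e_Cert_tree lc_e_rc_30_0 lc_e_rc_34_2 lc_e_rc_34_2 lc_e_rc_4_1 lc_e_rc_19_1 lc_e_rc_4_1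 lc_e_rc_19_1 lc_e_rc_4_1 lc_e_rc_12_3) (@D3.rec (fun _ => (Cert rels S Gen.e)) lc_e_rc_34_2 lc_e_Cert_tree lc_e_rc_32_2 lc_e_rc_19_1 lc_e_rc_34_2 lc_e_Cert_tree lc_e_rc_30_0 lc_e_rc_34_2 lc_e_rc_32_2 lc_e_rc_34_2 lc_e_rc_31_2 lc_e_rc_33_2 lc_e_rc_34_2 lc_e_rc_34_2 lc_e_rc_19_1 lc_e_rc_31_2 lc_e_rc_19_1 lc_e_rc_12_1) (@D3.rec (fun _ => (Cert rels S Gen.e)) lc_e_rc_19_1 lc_e_rc_4_1 lc_e_rc_31_2 lc_e_rc_12_1 lc_e_rc_4_3 lc_e_rc_34_2 lc_e_rc_30_0 lc_e_rc_34_2 lc_e_rc_34_2 lc_e_rc_31_2 lc_e_rc_12_1 lc_e_rc_19_1 lc_e_rc_31_2 lc_e_rc_12_1 lc_e_Cert_tree lc_e_rc_30_0 lc_e_rc_34_2 lc_e_rc_31_2) (@D3.rec (fun _ => (Cert rels S Gen.e)) lc_e_rc_34_2 lc_e_rc_31_2 lc_e_rc_12_3 lc_e_rc_34_2 lc_e_rc_31_2 lc_e_rc_4_3 lc_e_rc_30_0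 lc_e_rc_34_2 lc_e_rc_19_1 lc_e_rc_34_2 lc_e_rc_31_2 lc_e_rc_32_2 lc_e_rc_31_2 lc_e_rc_19_1 lc_e_rc_34_2 lc_e_rc_4_1 lc_e_rc_12_1 lc_e_rc_31_2) (@D3.rec (fun _ => (Cert rels S Gen.e)) lc_e_rc_12_1 lc_e_rc_31_2 lc_e_rc_32_2 lc_e_rc_31_2 lc_e_rc_12_1 lc_e_rc_34_2 lc_e_rc_31_2 lc_e_rc_32_2 lc_e_rc_31_2 lc_e_rc_31_2 lc_e_rc_32_2 lc_e_rc_32_2 lc_e_rc_30_0 lc_e_rc_34_2 lc_e_rc_34_2 lc_e_rc_4_3 lc_e_rc_34_2 lc_e_rc_31_2) (@D3.rec (fun _ => (Cert rels S Gen.e)) lc_e_rc_4_1 lc_e_rc_32_2 lc_e_rc_34_2 lc_e_rc_31_2 lc_e_rc_33_2 lc_e_rc_34_2 lc_e_rc_31_2 lc_e_rc_12_1 lc_e_rc_19_1 lc_e_rc_31_2 lc_e_rc_12_1 lc_e_rc_19_1 lc_e_rc_31_2 lc_e_rc_4_1 lc_e_rc_12_1 lc_e_rc_19_1 lc_e_Cert_tree lc_e_rc_34_2) (@D3.rec (fun _ => (Cert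 rels S Gen.e)) lc_e_Cert_tree lc_e_rc_30_0 lc_e_rc_34_2 lc_e_rc_34_2 lc_e_rc_31_2 lc_e_rc_19_1 lc_e_rc_31_2 lc_e_rc_33_2 lc_e_Cert_tree lc_e_rc_34_2 lc_e_rc_34_2 lc_e_rc_30_0 lc_e_rc_34_2 lc_e_rc_19_1 lc_e_rc_25_3 lc_e_rc_4_1 lc_e_Cert_tree lc_e_rc_4_1) (@D3.rec (fun _ => (Cert rels S Gen.e)) lc_e_rc_4_1 lc_e_rc_19_1 lc_e_rc_34_2 lc_e_rc_25_1 lc_e_rc_30_0 lc_e_rc_34_2 lc_e_rc_32_2 lc_e_rc_34_2 lc_e_rc_31_2 lc_e_rc_34_2 lc_e_rc_31_2 lc_e_rc_4_1 lc_e_rc_33_0 lc_e_rc_4_1 lc_e_rc_31_2 lc_e_rc_34_2 lc_e_rc_31_2 lc_e_rc_30_0) (@D3.rec (fun _ => (Cert rels S Gen.e)) lc_e_rc_34_2 lc_e_Cert_tree lc_e_rc_32_2 lc_e_rc_32_0 lc_e_rc_25_3 lc_e_rc_32_4 lc_e_rc_32_2 lc_e_rc_34_2 lc_e_rc_31_2 lc_e_rc_12_3 lc_e_rc_33_2 lc_e_rc_34_2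 lc_e_rc_31_2 lc_e_rc_34_2 lc_e_rc_31_2 lc_e_rc_34_2 lc_e_rc_47_52 lc_e_rc_33_2) (@D3.rec (fun _ => (Cert rels S Gen.e)) lc_e_rc_12_1 lc_e_rc_19_1 lc_e_rc_34_2 lc_e_rc_31_2 lc_e_rc_12_1 lc_e_rc_19_1 lc_e_rc_4_1 lc_e_rc_12_1 lc_e_rc_34_2 lc_e_rc_31_2 lc_e_rc_32_2 lc_e_rc_31_2 lc_e_rc_32_2 lc_e_rc_34_2 lc_e_rc_30_0 lc_e_rc_34_2 lc_e_rc_34_2 lc_e_rc_31_2) (@D3.rec (fun _ => (Cert rels S Gen.e)) lc_e_rc_30_0 lc_e_rc_34_2 lc_e_rc_32_2 lc_e_rc_34_2 lc_e_rc_31_2 lc_e_rc_34_2 lc_e_rc_31_2 lc_e_rc_34_2 lc_e_rc_31_2 lc_e_rc_12_3 lc_e_rc_12_1 lc_e_rc_32_4 lc_e_rc_34_2 lc_e_rc_12_1 lc_e_rc_32_2 lc_e_rc_30_0 lc_e_rc_34_2 lc_e_rc_30_0)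
def ce_e_11 : D2 → D3 → (Cert rels S Gen.e) := @D2.rec (fun _ => D3 → (Cert rels S Gen.e)) (@D3.rec (fun _ => (Cert rels S Gen.e)) lc_e_rc_34_2 lc_e_rc_30_0 lc_e_rc_34_2 lc_e_rc_34_2 lc_e_rc_31_2 lc_e_rc_32_2 lc_e_rc_34_2 lc_e_rc_31_2 lc_e_rc_31_2 lc_e_rc_31_2 lc_e_rc_34_2 lc_e_rc_31_2 lc_e_rc_30_0 lc_e_rc_34_2 lc_e_rc_12_3 lc_e_rc_34_2 lc_e_rc_31_2 lc_e_rc_31_2) (@D3.rec (fun _ => (Cert rels S Gen.e)) lc_e_rc_30_0 lc_e_rc_34_2 lc_e_rc_19_1 lc_e_rc_34_2 lc_e_rc_31_2 lc_e_rc_4_1 lc_e_rc_32_2 lc_e_rc_31_2 lc_e_rc_32_2 lc_e_rc_32_2 lc_e_rc_31_2 lc_e_rc_34_2 lc_e_rc_31_2 lc_e_rc_25_3 lc_e_rc_31_2 lc_e_rc_4_1 lc_e_rc_31_2 lc_e_rc_12_1) (@D3.rec (fun _ => (Cert rels S Gen.e)) lc_e_rc_19_1 lc_e_rc_34_2 lc_e_rc_34_2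 lc_e_rc_12_1 lc_e_rc_19_1 lc_e_rc_31_2 lc_e_rc_31_2 lc_e_rc_12_1 lc_e_rc_31_2 lc_e_rc_34_2 lc_e_rc_12_1 lc_e_rc_12_3 lc_e_rc_19_1 lc_e_rc_34_2 lc_e_rc_32_2 lc_e_rc_4_1 lc_e_rc_12_3 lc_e_rc_34_2) (@D3.rec (fun _ => (Cert rels S Gen.e)) lc_e_rc_30_0 lc_e_rc_34_2 lc_e_rc_34_2 lc_e_rc_31_2 lc_e_rc_19_1 lc_e_rc_4_1 lc_e_rc_19_1 lc_e_rc_31_2 lc_e_rc_19_1 lc_e_rc_31_2 lc_e_rc_30_0 lc_e_rc_34_2 lc_e_rc_19_1 lc_e_rc_31_2 lc_e_rc_4_3 lc_e_rc_30_0 lc_e_rc_34_2 lc_e_rc_33_0) (@D3.rec (fun _ => (Cert rels S Gen.e)) lc_e_rc_34_2 lc_e_rc_31_2 lc_e_rc_33_2 lc_e_rc_32_2 lc_e_rc_31_2 lc_e_rc_34_2 lc_e_rc_19_1 lc_e_rc_19_1 lc_e_rc_12_1 lc_e_Cert_tree lc_e_rc_4_1 lc_e_rc_31_2 lc_e_rc_31_2 lc_e_rc_31_2 lc_e_rc_34_2 lc_e_rc_31_2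 lc_e_rc_31_2 lc_e_rc_12_1) (@D3.rec (fun _ => (Cert rels S Gen.e)) lc_e_rc_31_2 lc_e_rc_31_2 lc_e_rc_30_0 lc_e_rc_34_2 lc_e_rc_12_1 lc_e_rc_34_2 lc_e_rc_31_2 lc_e_rc_32_2 lc_e_rc_31_2 lc_e_rc_32_2 lc_e_rc_31_2 lc_e_rc_34_2 lc_e_rc_12_1 lc_e_rc_34_2 lc_e_rc_31_2 lc_e_rc_19_1 lc_e_rc_31_2 lc_e_rc_31_2) (@D3.rec (fun _ => (Cert rels S Gen.e)) lc_e_rc_4_1 lc_e_rc_12_1 lc_e_rc_32_2 lc_e_rc_12_1 lc_e_rc_31_2 lc_e_rc_31_2 lc_e_rc_33_2 lc_e_rc_34_2 lc_e_rc_34_2 lc_e_rc_31_2 lc_e_rc_30_0 lc_e_rc_34_2 lc_e_rc_31_2 lc_e_rc_4_1 lc_e_rc_34_2 lc_e_rc_31_2 lc_e_rc_34_2 lc_e_rc_31_2) (@D3.rec (fun _ => (Cert rels S Gen.e)) lc_e_rc_25_3 lc_e_rc_12_1 lc_e_rc_19_1 lc_e_rc_12_1 lc_e_rc_19_1 lc_e_rc_4_1 lc_e_rc_12_1 lc_e_Cert_tree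 lc_e_rc_12_1 lc_e_rc_30_0 lc_e_rc_34_2 lc_e_rc_30_0 lc_e_rc_34_2 lc_e_rc_34_2 lc_e_rc_31_2 lc_e_rc_31_2 lc_e_rc_31_2 lc_e_rc_25_3) (@D3.rec (fun _ => (Cert rels S Gen.e)) lc_e_rc_34_2 lc_e_rc_12_1 lc_e_rc_30_0 lc_e_rc_34_2 lc_e_rc_34_2 lc_e_rc_31_2 lc_e_rc_31_2 lc_e_rc_31_2 lc_e_rc_4_1 lc_e_rc_31_2 lc_e_rc_30_0 lc_e_rc_34_2 lc_e_rc_33_2 lc_e_rc_4_1 lc_e_rc_32_0 lc_e_rc_32_0 lc_e_rc_32_2 lc_e_rc_34_2) (@D3.rec (fun _ => (Cert rels S Gen.e)) lc_e_rc_31_2 lc_e_rc_34_2 lc_e_rc_31_2 lc_e_rc_31_2 lc_e_rc_12_1 lc_e_rc_33_2 lc_e_rc_31_2 lc_e_rc_32_4 lc_e_rc_32_2 lc_e_rc_34_2 lc_e_rc_31_2 lc_e_rc_30_0 lc_e_rc_34_2 lc_e_rc_32_0 lc_e_rc_32_0 lc_e_rc_33_0 lc_e_rc_32_4 lc_e_rc_33_2) (@D3.rec (fun _ => (Cert rels S Gen.e))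 lc_e_rc_32_2 lc_e_rc_31_2 lc_e_rc_34_2 lc_e_rc_31_2 lc_e_rc_25_3 lc_e_rc_31_2 lc_e_rc_12_3 lc_e_rc_34_2 lc_e_rc_12_1 lc_e_Cert_tree lc_e_rc_31_2 lc_e_rc_12_1 lc_e_rc_4_1 lc_e_rc_12_1 lc_e_rc_32_2 lc_e_rc_25_3 lc_e_rc_32_2 lc_e_rc_34_2) (@D3.rec (fun _ => (Cert rels S Gen.e)) lc_e_rc_31_2 lc_e_rc_31_2 lc_e_rc_34_2 lc_e_rc_31_2 lc_e_rc_32_2 lc_e_rc_31_2 lc_e_rc_31_2 lc_e_rc_25_3 lc_e_rc_4_1 lc_e_rc_34_2 lc_e_rc_34_2 lc_e_rc_32_2 lc_e_rc_32_2 lc_e_rc_34_2 lc_e_rc_31_2 lc_e_rc_12_3 lc_e_rc_34_2 lc_e_rc_31_2) (@D3.rec (fun _ => (Cert rels S Gen.e)) lc_e_rc_34_2 lc_e_rc_31_2 lc_e_rc_31_2 lc_e_rc_32_2 lc_e_rc_31_2 lc_e_rc_25_3 lc_e_rc_31_2 lc_e_rc_32_2 lc_e_rc_31_2 lc_e_rc_34_2 lc_e_rc_31_2 lc_e_rc_31_0 lc_e_rc_32_2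 lc_e_rc_31_2 lc_e_rc_34_2 lc_e_rc_12_1 lc_e_rc_34_2 lc_e_rc_31_2) (@D3.rec (fun _ => (Cert rels S Gen.e)) lc_e_rc_4_1 lc_e_rc_19_1 lc_e_rc_31_2 lc_e_rc_34_2 lc_e_rc_31_2 lc_e_rc_25_3 lc_e_rc_32_2 lc_e_rc_31_2 lc_e_rc_33_2 lc_e_rc_31_2 lc_e_rc_25_3 lc_e_rc_19_1 lc_e_rc_12_1 lc_e_rc_25_3 lc_e_rc_31_2 lc_e_rc_31_2 lc_e_rc_12_1 lc_e_rc_31_2) (@D3.rec (fun _ => (Cert rels S Gen.e)) lc_e_rc_12_1 lc_e_rc_33_2 lc_e_rc_25_3 lc_e_rc_31_2 lc_e_rc_19_1 lc_e_rc_31_2 lc_e_rc_34_2 lc_e_rc_19_1 lc_e_rc_31_2 lc_e_rc_34_2 lc_e_rc_31_2 lc_e_rc_31_2 lc_e_rc_19_1 lc_e_rc_19_1 lc_e_rc_34_2 lc_e_rc_31_2 lc_e_rc_34_2 lc_e_rc_31_2)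
def ce_e_12 : D2 → D3 → (Cert rels S Gen.e) := @D2.rec (fun _ => D3 → (Cert rels S Gen.e)) (@D3.rec (fun _ => (Cert rels S Gen.e)) lc_e_rc_31_2 lc_e_rc_34_2 lc_e_rc_34_2 lc_e_rc_31_2 lc_e_rc_34_2 lc_e_rc_31_2 lc_e_Cert_tree lc_e_rc_33_2 lc_e_rc_31_2 lc_e_rc_12_3 lc_e_rc_19_1 lc_e_rc_19_1 lc_e_rc_30_0 lc_e_rc_31_2 lc_e_rc_12_1 lc_e_rc_34_2 lc_e_rc_34_2 lc_e_rc_31_2) (@D3.rec (fun _ => (Cert rels S Gen.e)) lc_e_rc_32_2 lc_e_rc_31_2 lc_e_rc_32_2 lc_e_rc_4_3 lc_e_rc_19_3 lc_e_rc_12_1 lc_e_rc_31_2 lc_e_rc_31_2 lc_e_rc_25_3 lc_e_rc_31_2 lc_e_rc_12_1 lc_e_rc_19_1 lc_e_rc_12_1 lc_e_rc_31_2 lc_e_rc_12_1 lc_e_rc_25_3 lc_e_rc_31_2 lc_e_rc_30_0) (@D3.rec (fun _ => (Cert rels S Gen.e)) lc_e_Cert_tree lc_e_rc_4_1 lc_e_rc_12_1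 lc_e_rc_12_1 lc_e_rc_25_3 lc_e_rc_4_1 lc_e_rc_25_3 lc_e_rc_30_0 lc_e_rc_32_2 lc_e_rc_34_2 lc_e_rc_31_2 lc_e_rc_34_2 lc_e_rc_31_2 lc_e_rc_31_2 lc_e_rc_25_3 lc_e_Cert_tree lc_e_rc_33_2 lc_e_rc_34_2) (@D3.rec (fun _ => (Cert rels S Gen.e)) lc_e_rc_34_2 lc_e_rc_31_2 lc_e_rc_31_2 lc_e_rc_32_0 lc_e_rc_33_0 lc_e_rc_34_2 lc_e_rc_31_2 lc_e_rc_34_2 lc_e_rc_32_0 lc_e_rc_32_0 lc_e_rc_32_2 lc_e_rc_31_2 lc_e_rc_31_2 lc_e_rc_25_3 lc_e_rc_12_1 lc_e_rc_34_2 lc_e_rc_34_2 lc_e_rc_34_2) (@D3.rec (fun _ => (Cert rels S Gen.e)) lc_e_rc_34_2 lc_e_rc_31_2 lc_e_rc_34_2 lc_e_rc_31_2 lc_e_rc_34_2 lc_e_rc_47_24 lc_e_Cert_tree lc_e_rc_33_2 lc_e_rc_31_2 lc_e_rc_25_3 lc_e_rc_31_2 lc_e_rc_25_3 lc_e_rc_19_1 lc_e_rc_12_1 lc_e_rc_25_3 lc_e_rc_30_0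 lc_e_rc_30_1 lc_e_rc_32_2) (@D3.rec (fun _ => (Cert rels S Gen.e)) lc_e_rc_31_2 lc_e_rc_25_3 lc_e_rc_31_2 lc_e_rc_32_2 lc_e_rc_25_3 lc_e_rc_31_0 lc_e_rc_19_1 lc_e_rc_12_3 lc_e_rc_4_1 lc_e_rc_12_1 lc_e_rc_31_2 lc_e_rc_32_2 lc_e_rc_31_2 lc_e_rc_31_2 lc_e_rc_25_3 lc_e_rc_31_2 lc_e_rc_33_2 lc_e_rc_4_1) (@D3.rec (fun _ => (Cert rels S Gen.e)) lc_e_rc_34_2 lc_e_rc_32_2 lc_e_rc_25_3 lc_e_rc_31_2 lc_e_rc_34_2 lc_e_rc_32_2 lc_e_rc_25_3 lc_e_rc_45_49 lc_e_rc_12_1 lc_e_rc_31_2 lc_e_rc_34_2 lc_e_rc_31_2 lc_e_rc_19_3 lc_e_rc_12_3 lc_e_rc_4_1 lc_e_rc_19_1 lc_e_rc_31_2 lc_e_Cert_tree) (@D3.rec (fun _ => (Cert rels S Gen.e)) lc_e_rc_19_1 lc_e_rc_4_1 lc_e_rc_32_2 lc_e_rc_30_1 lc_e_rc_12_1 lc_e_rc_25_3 lc_e_rc_12_1 lc_e_rc_31_2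 lc_e_rc_31_2 lc_e_rc_31_2 lc_e_rc_31_2 lc_e_rc_31_2 lc_e_rc_31_2 lc_e_rc_12_3 lc_e_rc_31_2 lc_e_rc_4_1 lc_e_rc_12_3 lc_e_rc_31_2) (@D3.rec (fun _ => (Cert rels S Gen.e)) lc_e_rc_19_1 lc_e_rc_31_2 lc_e_rc_19_1 lc_e_rc_30_0 lc_e_rc_31_2 lc_e_rc_25_3 lc_e_rc_12_1 lc_e_rc_31_2 lc_e_rc_4_1 lc_e_rc_19_3 lc_e_rc_12_1 lc_e_rc_25_3 lc_e_rc_30_1 lc_e_rc_31_0 lc_e_rc_19_1 lc_e_rc_12_1 lc_e_rc_25_3 lc_e_rc_45_58) (@D3.rec (fun _ => (Cert rels S Gen.e)) lc_e_rc_19_1 lc_e_rc_45_58 lc_e_rc_30_0 lc_e_rc_32_2 lc_e_rc_31_2 lc_e_rc_31_2 lc_e_Cert_tree lc_e_rc_25_3 lc_e_rc_19_1 lc_e_rc_30_0 lc_e_rc_12_1 lc_e_rc_47_31 lc_e_rc_31_2 lc_e_rc_25_3 lc_e_rc_34_2 lc_e_rc_34_2 lc_e_rc_31_2 lc_e_rc_31_2) (@D3.rec (fun _ => (Cert rels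 S Gen.e)) lc_e_rc_45_67 lc_e_rc_32_2 lc_e_rc_4_1 lc_e_rc_31_0 lc_e_rc_12_1 lc_e_Cert_tree lc_e_rc_31_2 lc_e_rc_25_3 lc_e_rc_31_2 lc_e_rc_19_1 lc_e_Cert_tree lc_e_rc_30_0 lc_e_rc_31_2 lc_e_rc_12_1 lc_e_rc_19_1 lc_e_rc_25_3 lc_e_rc_12_1 lc_e_rc_12_1) (@D3.rec (fun _ => (Cert rels S Gen.e)) lc_e_rc_32_2 lc_e_rc_25_3 lc_e_rc_25_3 lc_e_rc_12_1 lc_e_rc_19_1 lc_e_rc_12_3 lc_e_rc_4_1 lc_e_rc_4_1 lc_e_rc_25_3 lc_e_rc_19_3 lc_e_rc_4_1 lc_e_rc_19_3 lc_e_rc_4_1 lc_e_rc_19_1 lc_e_rc_25_3 lc_e_rc_31_2 lc_e_Cert_tree lc_e_rc_31_2) (@D3.rec (fun _ => (Cert rels S Gen.e)) lc_e_rc_12_1 lc_e_rc_19_1 lc_e_rc_4_1 lc_e_Cert_tree lc_e_rc_25_1 lc_e_rc_4_1 lc_e_rc_32_2 lc_e_rc_31_0 lc_e_rc_30_0 lc_e_rc_25_3 lc_e_rc_12_3 lc_e_rc_19_1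 lc_e_rc_30_1 lc_e_rc_12_1 lc_e_rc_32_2 lc_e_rc_45_58 lc_e_rc_19_3 lc_e_rc_12_3) (@D3.rec (fun _ => (Cert rels S Gen.e)) lc_e_rc_25_3 lc_e_rc_19_1 lc_e_Cert_tree lc_e_rc_25_3 lc_e_Cert_tree lc_e_rc_30_0 lc_e_rc_19_1 lc_e_rc_12_1 lc_e_rc_19_3 lc_e_rc_12_1 lc_e_rc_25_3 lc_e_rc_4_1 lc_e_rc_12_1 lc_e_rc_12_3 lc_e_rc_30_0 lc_e_rc_12_1 lc_e_rc_19_1 lc_e_rc_19_1) (@D3.rec (fun _ => (Cert rels S Gen.e)) lc_e_rc_19_1 lc_e_rc_30_0 lc_e_rc_32_2 lc_e_rc_32_2 lc_e_rc_30_0 lc_e_rc_12_1 lc_e_rc_4_1 lc_e_rc_32_2 lc_e_rc_25_1 lc_e_rc_30_0 lc_e_rc_25_3 lc_e_rc_30_0 lc_e_rc_30_0 lc_e_rc_30_0 lc_e_rc_19_1 lc_e_rc_45_31 lc_e_rc_30_0 lc_e_rc_32_2)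
def ce_e : Pt → (Cert rels S Gen.e) := @Pt.rec (fun _ => (Cert rels S Gen.e)) (@D1.rec (fun _ => D2 → D3 → (Cert rels S Gen.e)) ce_e_0 ce_e_1 ce_e_2 ce_e_3 ce_e_4 ce_e_5 ce_e_6 ce_e_7 ce_e_8 ce_e_9 ce_e_10 ce_e_11 ce_e_12)

end

end Cfsg.Agent.Helper28.S1687
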