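import Cfsg.Agent.Lib.Helper28.S1687.Tree

set_option autoImplicit false
set_option maxRecDepth 100000

namespace Cfsg.Agent.Helper28.S1687

open Cfsg.Agent.Helper28
open Cfsg.Spor.Fi22 (Gen)

noncomputable section

def lv_f_0 : D2 → D3 → Nat := @D2.rec (fun _ => D3 → Nat) (@D3.rec (fun _ => Nat) 1 2 3 3 4 4 5 5 0 5 6 0 6 1 3 6 7 0) (@D3.rec (fun _ => Nat) 7 1 3 7 6 2 3 3 0 8 1 3 8 7 2 3 3 7) (@D3.rec (fun _ => Nat) 4 4 5 5 0 1 3 9 9 8 2 3 3 8 4 4 5 5) (@D3.rec (fun _ => Nat) 8 8 4 6 4 5 5 5 1 9 2 3 10 9 4 4 5 9) (@D3.rec (fun _ => Nat) 9 4 7 4 5 5 9 0 9 6 7 6 7 6 7 7 6 10) (@D3.rec (fun _ => Nat) 10 4 11 10 10 8 4 5 10 0 10 8 6 8 6 7 10 0) (@D3.rec (fun _ => Nat) 10 1 2 10 8 6 8 8 6 8 7 7 0 11 0 11 9 6)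 (@D3.rec (fun _ => Nat) 0 11 1 2 11 9 9 6 9 7 0 11 0 1 2 11 2 3) (@D3.rec (fun _ => Nat) 9 9 8 9 9 9 8 9 9 0 1 1 2 12 10 0 1 2) (@D3.rec (fun _ => Nat) 12 2 3 10 10 10 8 10 0 0 1 2 12 1 3 2 2 3) (@D3.rec (fun _ => Nat) 12 3 4 10 10 10 10 8 10 10 10 0 10 9 0 1 2 3) (@D3.rec (fun _ => Nat) 11 1 3 2 2 3 13 3 4 11 11 11 0 11 1 0 1 3) (@D3.rec (fun _ => Nat) 2 2 3 13 10 2 2 3 3 3 4 0 4 5 11 11 11 11) (@D3.rec (fun _ => Nat) 11 10 0 11 11 11 0 1 11 0 1 13 3 4 12 11 2 2) (@D3.rec (fun _ => Nat) 3 3 3 4 0 4 5 12 12 12 0 1 12 14 1 3 2 11)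
def lv_f_1 : D2 → D3 → Nat := @D2.rec (fun _ => D3 → Nat) (@D3.rec (fun _ => Nat) 2 2 3 3 3 4 14 0 11 11 4 3 5 4 4 5 0 1) (@D3.rec (fun _ => Nat) 5 11 6 12 12 12 12 12 12 0 0 1 12 12 0 12 0 1) (@D3.rec (fun _ => Nat) 9 12 0 1 14 4 5 13 12 12 4 3 5 4 4 5 0 1) (@D3.rec (fun _ => Nat) 5 12 6 13 13 0 13 0 1 9 13 12 2 2 3 3 3 12) (@D3.rec (fun _ => Nat) 12 4 3 5 4 4 5 0 0 1 12 12 12 4 4 5 5 0) (@D3.rec (fun _ => Nat) 5 0 6 0 1 10 6 12 7 0 13 13 13 13 13 0 13 0) (@D3.rec (fun _ => Nat) 1 0 1 11 13 0 13 0 1 13 0 1 11 1 22 15 5 13) (@D3.rec (fun _ => Nat) 6 14 13 13 13 4 4 5 5 0 5 0 6 0 1 10 6 13) (@D3.rec (fun _ => Nat) 7 14 0 14 0 1 14 0 1 11 13 13 13 4 4 3 13 5) (@D3.rec (fun _ => Nat) 5 4 13 13 13 4 4 5 5 0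 5 0 6 0 1 0 1 10) (@D3.rec (fun _ => Nat) 13 13 13 13 6 5 0 7 0 6 0 1 6 0 1 7 0 1) (@D3.rec (fun _ => Nat) 10 7 13 13 1 23 14 14 14 0 14 0 14 0 1 14 0 0) (@D3.rec (fun _ => Nat) 1 11 1 23 11 14 0 1 14 0 0 1 11 0 1 11 16 6) (@D3.rec (fun _ => Nat) 14 7 14 14 14 14 6 5 0 7 0 6 0 1 6 0 1 7) (@D3.rec (fun _ => Nat) 0 1 10 7 14 14 15 0 1 15 16 19 1 11 0 1 11 14)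
def lv_f_2 : D2 → D3 → Nat := @D2.rec (fun _ => D3 → Nat) (@D3.rec (fun _ => Nat) 14 14 4 4 4 14 5 5 5 0 14 14 14 6 5 0 7 0) (@D3.rec (fun _ => Nat) 6 0 1 6 0 1 7 0 0 1 12 1 3 12 14 14 14 14) (@D3.rec (fun _ => Nat) 0 6 0 6 0 1 7 0 1 7 0 0 1 12 7 0 0 1) (@D3.rec (fun _ => Nat) 13 0 1 12 14 14 16 15 15 24 15 0 1 15 0 1 15 0) (@D3.rec (fun _ => Nat) 0 1 13 0 0 1 1 20 13 13 15 0 21 1 13 20 21 1) (@D3.rec (fun _ => Nat) 1 13 1 13 7 15 15 15 15 15 15 15 0 6 0 6 0 1) (@D3.rec (fun _ => Nat) 7 0 1 7 0 0 1 12 7 0 0 1 14 0 1 12 15 15) (@D3.rec (fun _ => Nat) 17 16 20 17 1 13 20 13 1 13 15 15 15 6 6 5 0 7) (@D3.rec (fun _ => Nat) 7 0 6 0 1 15 15 15 0 6 0 6 0 1 7 0 1 7) (@D3.rec (fun _ => Nat) 0 0 1 12 7 0 0 1 14 0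 0 1 1 3 12 14 12 2) (@D3.rec (fun _ => Nat) 27 15 15 15 0 15 0 1 8 0 1 7 0 0 1 14 9 0) (@D3.rec (fun _ => Nat) 0 1 12 0 0 1 1 12 0 0 1 1 3 14 1 12 15 15) (@D3.rec (fun _ => Nat) 17 17 16 16 24 16 0 0 1 16 0 0 1 13 0 0 1 1) (@D3.rec (fun _ => Nat) 25 13 0 1 1 20 13 13 21 19 1 13 22 13 13 13 16 16) (@D3.rec (fun _ => Nat) 16 16 16 0 16 0 1 8 0 1 7 0 0 1 15 9 0 0)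
def lv_f_3 : D2 → D3 → Nat := @D2.rec (fun _ => D3 → Nat) (@D3.rec (fun _ => Nat) 1 12 0 23 1 1 12 0 0 1 1 3 15 1 12 16 13 16) (@D3.rec (fun _ => Nat) 16 16 0 6 6 0 6 0 1 7 7 0 1 7 0 0 1 26) (@D3.rec (fun _ => Nat) 16 16 0 16 0 1 8 0 1 7 0 0 1 15 9 0 0 1) (@D3.rec (fun _ => Nat) 14 0 0 1 1 3 14 0 0 1 1 3 15 0 1 1 3 14) (@D3.rec (fun _ => Nat) 15 14 2 31 29 15 0 16 0 1 16 0 0 1 15 8 0 0) (@D3.rec (fun _ => Nat) 1 15 0 0 1 1 3 15 0 0 1 1 14 22 1 0 1 14) (@D3.rec (fun _ => Nat) 14 14 0 1 0 1 3 15 15 2 3 14 16 18 17 17 19 21) (@D3.rec (fun _ => Nat) 0 0 1 1 3 22 0 1 1 21 15 22 1 23 1 20 15 15) (@D3.rec (fun _ => Nat) 1 18 15 15 0 0 1 0 0 1 16 8 0 0 1 16 0 0) (@D3.rec (fun _ => Nat) 1 1 3 16 1 1 22 1 15 0 1 1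 16 16 2 14 17 0) (@D3.rec (fun _ => Nat) 17 0 17 0 1 8 32 8 0 1 7 0 0 1 16 9 9 0) (@D3.rec (fun _ => Nat) 0 1 0 0 1 1 3 30 17 0 17 0 1 17 0 0 1 16) (@D3.rec (fun _ => Nat) 8 0 0 1 16 0 0 1 1 3 16 0 0 1 1 3 14 0) (@D3.rec (fun _ => Nat) 1 0 1 3 14 6 14 2 29 0 1 0 1 3 16 16 16 2) (@D3.rec (fun _ => Nat) 3 1 3 14 16 14 2 29 31 16 16 1 0 0 1 16 0 0)
def lv_f_4 : D2 → D3 → Nat := @D2.rec (fun _ => D3 → Nat) (@D3.rec (fun _ => Nat) 1 1 3 16 0 0 1 1 3 16 0 1 0 1 3 16 15 16) (@D3.rec (fun _ => Nat) 2 3 1 21 1 23 15 23 1 15 21 0 1 16 1 3 16 2) (@D3.rec (fun _ => Nat) 16 4 19 18 21 21 0 1 25 1 23 22 2 21 21 1 23 15) (@D3.rec (fun _ => Nat) 22 23 15 15 1 0 1 17 0 1 1 3 17 23 0 1 1 3) (@D3.rec (fun _ => Nat) 17 0 1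 1 17 16 17 2 1 17 17 17 18 0 1 18 0 1) (@D3.rec (fun _ => Nat) 18 0 0 1 17 8 28 8 0 0 1 0 0 1 1 3 17 9) (@D3.rec (fun _ => Nat) 0 0 1 1 0 1 0 1 3 30 6 30 2 3 0 1 0 0) (@D3.rec (fun _ => Nat) 1 17 0 0 1 1 3 17 0 0 1 1 3 17 0 1 0 1) (@D3.rec (fun _ => Nat) 3 17 7 17 2 3 0 1 0 1 3 22 7 16 2 28 23 1) (@D3.rec (fun _ => Nat) 3 22 1 3 7 16 2 29 24 7 0 1 3 17 1 3 17 17) (@D3.rec (fun _ => Nat) 2 3 29 17 17 4 17 16 2 24 27 17 17 17 17 0 1 1) (@D3.rec (fun _ => Nat) 17 0 1 0 1 3 17 16 17 2 3 0 1 0 1 3 17 16) (@D3.rec (fun _ => Nat) 17 2 30 0 1 17 1 3 16 17 2 26 16 17 4 16 1 17) (@D3.rec (fun _ => Nat) 17 2 3 17 17 0 19 28 24 1 26 22 18 1 18 0 1 3) (@D3.rec (fun _ => Nat) 18 17 18 2 29 1 17 18 2 1 17 18 18 19 0 0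 1 18)
def lv_f_5 : D2 → D3 → Nat := @D2.rec (fun _ => D3 → Nat) (@D3.rec (fun _ => Nat) 0 0 1 0 0 1 1 3 18 10 30 32 0 0 1 1 3 0) (@D3.rec (fun _ => Nat) 1 0 1 3 18 7 18 2 3 0 1 0 1 7 0 1 3 21) (@D3.rec (fun _ => Nat) 1 27 7 28 2 3 0 7 29 4 0 1 18 0 1 1 3 18) (@D3.rec (fun _ => Nat) 0 1 0 1 3 18 8 18 2 3 0 1 0 1 3 18 9 18) (@D3.rec (fun _ => Nat) 2 3 0 1 3 18 1 3 8 18 2 3 0 8 18 4 1 1) (@D3.rec (fun _ => Nat) 8 24 2 30 25 8 2 8 2 26 8 8 1 3 18 18 2 3) (@D3.rec (fun _ => Nat) 18 18 2 3 3 31 18 18 4 33 18 18 18 31 18 18 18 18) (@D3.rec (fun _ => Nat) 0 1 18 17 18 0 1 3 18 1 3 17 18 2 3 29 17 18) (@D3.rec (fun _ => Nat) 4 0 1 1 3 17 18 2 1 17 18 2 3 17 18 17 18 18) (@D3.rec (fun _ => Nat) 4 0 1 18 19 1 18 19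 2 0 0 1 1 3 19 0 1 1) (@D3.rec (fun _ => Nat) 3 0 1 0 1 3 19 8 19 2 3 26 28 30 0 1 0 1) (@D3.rec (fun _ => Nat) 3 9 2 3 0 1 3 19 1 3 8 19 2 3 0 8 19 4) (@D3.rec (fun _ => Nat) 1 1 8 1 8 26 2 8 0 8 4 1 29 8 1 3 19 0) (@D3.rec (fun _ => Nat) 1 3 19 10 19 2 3 0 1 3 19 1 3 9 19 2 3 0) (@D3.rec (fun _ => Nat) 9 19 4 0 1 3 1 3 10 19 2 3 30 10 19 4 0 1)
def lv_f_6 : D2 → D3 → Nat := @D2.rec (fun _ => D3 → Nat) (@D3.rec (fun _ => Nat) 3 9 19 2 3 9 19 2 3 3 0 9 19 4 1 29 9 9) (@D3.rec (fun _ => Nat) 19 9 9 24 25 9 9 27 9 9 19 19 2 3 27 19 19 4) (@D3.rec (fun _ => Nat) 29 19 19 4 4 0 5 29 19 19 19 31 19 19 19 19 19 19) (@D3.rec (fun _ => Nat) 1 18 19 0 1 3 18 19 2 18 19 2 3 4 1 18 19 2) (@D3.rec (fun _ => Nat) 18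 18 19 4 0 20 19 0 1 0 1 0 1 3 20 18 20 2) (@D3.rec (fun _ => Nat) 3 0 1 3 10 2 3 0 1 3 20 1 3 9 20 2 3 0) (@D3.rec (fun _ => Nat) 9 20 4 32 32 32 34 0 1 3 1 3 10 2 3 10 4 0) (@D3.rec (fun _ => Nat) 1 3 9 20 2 3 9 20 2 3 3 0 9 20 4 1 3 9) (@D3.rec (fun _ => Nat) 9 20 9 9 25 28 9 9 1 9 29 9 18 20 2 3 1 3) (@D3.rec (fun _ => Nat) 11 20 2 3 32 11 20 4 0 1 3 10 20 2 3 10 20 2) (@D3.rec (fun _ => Nat) 3 3 0 10 20 4 1 3 10 10 20 0 1 3 11 2 3 11) (@D3.rec (fun _ => Nat) 20 2 3 3 25 11 20 4 28 30 11 20 1 10 20 2 3 24) (@D3.rec (fun _ => Nat) 10 20 4 10 0 10 20 4 4 0 5 1 29 10 10 20 31 10) (@D3.rec (fun _ => Nat) 10 10 10 30 10 10 30 20 20 4 33 20 20 20 33 20 20 20) (@D3.rec (fun _ => Nat) 20 0 4 1 2 33 20 20 20 20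 20 20 20 19 20 1 19 20)
def lv_f_7 : D2 → D3 → Nat := @D2.rec (fun _ => D3 → Nat) (@D3.rec (fun _ => Nat) 2 19 4 0 21 19 20 0 1 21 0 1 0 1 3 21 1 3) (@D3.rec (fun _ => Nat) 19 21 2 3 30 19 21 4 1 3 11 2 3 11 4 0 1 3) (@D3.rec (fun _ => Nat) 10 21 2 3 10 21 2 3 3 0 10 21 4 1 3 10 10 21) (@D3.rec (fun _ => Nat) 28 28 30 30 0 1 3 11 2 3 11 2 3 3 11 4 11 1) (@D3.rec (fun _ => Nat) 3 10 21 2 3 3 31 10 21 4 10 0 10 21 4 4 0 5) (@D3.rec (fun _ => Nat) 1 3 10 10 21 2 29 3 10 10 25 28 10 10 10 31 10 30) (@D3.rec (fun _ => Nat) 19 21 4 12 21 2 3 28 12 21 4 30 12 12 21 1 3 11) (@D3.rec (fun _ => Nat) 21 2 3 3 0 11 21 4 11 0 11 21 4 4 0 5 1 3) (@D3.rec (fun _ => Nat) 11 11 21 2 31 3 11 11 1 12 2 3 12 4 12 29 12 21)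 (@D3.rec (fun _ => Nat) 4 4 5 28 28 12 21 30 30 11 21 11 21 4 26 11 11 21) (@D3.rec (fun _ => Nat) 11 1 31 11 11 21 21 0 4 1 2 29 11 11 11 11 37 30) (@D3.rec (fun _ => Nat) 11 37 11 11 30 21 21 21 29 21 21 36 31 21 0 21 0 21) (@D3.rec (fun _ => Nat) 1 2 23 2 21 21 21 21 21 20 22 0 1 20 22 0 0 1) (@D3.rec (fun _ => Nat) 1 29 1 3 20 22 2 3 2 3 3 20 22 4 29 20 20 22) (@D3.rec (fun _ => Nat) 12 2 3 3 12 4 12 12 1 3 11 22 2 3 3 0 11 22)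
def lv_f_8 : D2 → D3 → Nat := @D2.rec (fun _ => D3 → Nat) (@D3.rec (fun _ => Nat) 4 11 0 11 22 4 4 0 5 1 3 11 11 22 2 3 3 11) (@D3.rec (fun _ => Nat) 11 29 34 34 35 34 1 3 12 2 3 3 12 4 12 12 4 4) (@D3.rec (fun _ => Nat) 0 5 12 11 22 2 3 31 38 11 22 4 4 5 29 11 11 22) (@D3.rec (fun _ => Nat) 36 11 1 3 11 11 22 22 0 4 1 2 5 2 27 3 11 11) (@D3.rec (fun _ => Nat) 4 31 29 11 11 25 11 11 29 11 30 32 20 22 13 32 13 22) (@D3.rec (fun _ => Nat) 4 33 13 13 22 30 32 30 13 12 2 3 12 0 12 22 4 4) (@D3.rec (fun _ => Nat) 5 1 3 12 12 22 33 12 1 3 12 12 22 22 0 4 1 2) (@D3.rec (fun _ => Nat) 2 33 3 12 12 4 31 12 12 12 13 4 13 13 32 13 13 22) (@D3.rec (fun _ => Nat) 22 28 4 28 30 30 12 12 22 27 12 12 12 12 29 31 12 0) (@D3.rec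 (fun _ => Nat) 12 0 22 1 2 22 2 12 12 12 12 37 39 30 39 12 33 35) (@D3.rec (fun _ => Nat) 22 22 22 22 0 36 22 0 22 1 2 22 1 2 2 24 22 22) (@D3.rec (fun _ => Nat) 23 1 0 21 1 1 28 2 3 3 21 23 4 4 4 0 5 21) (@D3.rec (fun _ => Nat) 21 23 29 29 21 21 13 13 4 4 5 13 13 13 12 23 2 3) (@D3.rec (fun _ => Nat) 3 12 0 12 23 4 4 0 5 1 3 12 12 23 38 12 1 3) (@D3.rec (fun _ => Nat) 12 12 23 23 0 4 1 2 5 2 3 3 12 12 4 4 29 5)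
def lv_f_9 : D2 → D3 → Nat := @D2.rec (fun _ => D3 → Nat) (@D3.rec (fun _ => Nat) 12 12 12 29 35 30 0 37 32 2 3 13 4 4 5 13 13 13) (@D3.rec (fun _ => Nat) 13 0 4 1 2 5 33 38 33 23 4 33 38 12 12 23 23 31) (@D3.rec (fun _ => Nat) 4 5 31 12 12 12 12 2 3 3 12 0 12 0 23 1 2 6) (@D3.rec (fun _ => Nat) 23 2 3 4 29 12 12 27 31 12 12 30 12 30 30 33 33 14) (@D3.rec (fun _ => Nat) 34 14 14 23 30 32 14 14 30 32 32 14 13 4 13 1 3 13) (@D3.rec (fun _ => Nat) 13 23 26 4 2 33 3 13 13 13 13 2 3 3 13 0 13 23) (@D3.rec (fun _ => Nat) 1 2 23 2 4 32 33 13 13 13 33 13 13 13 14 14 14 14) (@D3.rec (fun _ => Nat) 35 34 34 34 14 23 34 32 13 13 39 13 36 0 13 0 33 13) (@D3.rec (fun _ => Nat) 0 13 1 2 13 1 2 36 2 23 13 13 35 39 32 35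 36 23) (@D3.rec (fun _ => Nat) 23 23 23 1 2 38 0 23 1 2 23 2 3 2 1 2 28 30) (@D3.rec (fun _ => Nat) 4 4 0 5 22 22 24 0 4 1 2 5 22 22 33 29 22 22) (@D3.rec (fun _ => Nat) 22 14 14 14 32 4 5 14 14 14 34 13 24 4 4 34 5 36) (@D3.rec (fun _ => Nat) 13 1 3 13 13 24 0 4 1 2 5 2 3 13 13 38 13 13) (@D3.rec (fun _ => Nat) 2 3 3 13 0 13 24 1 2 6 24 2 3 4 4 5 13 13) (@D3.rec (fun _ => Nat) 13 33 4 33 31 5 13 13 13 32 31 35 1 2 37 27 4 14)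
def lv_f_10 : D2 → D3 → Nat := @D2.rec (fun _ => D3 → Nat) (@D3.rec (fun _ => Nat) 14 34 4 5 14 14 0 14 1 2 6 24 2 3 33 40 35 29) (@D3.rec (fun _ => Nat) 24 33 33 37 31 13 31 13 0 24 33 6 13 0 13 4 4 0) (@D3.rec (fun _ => Nat) 5 13 0 13 1 2 13 1 2 24 5 2 3 24 3 37 13 33) (@D3.rec (fun _ => Nat) 13 33 34 34 34 15 15 34 34 15 15 32 33 15 15 32 32 32) (@D3.rec (fun _ => Nat) 32 14 14 14 14 2 3 3 14 33 14 35 4 30 33 14 14 14) (@D3.rec (fun _ => Nat) 14 4 4 31 5 14 0 14 1 2 14 30 2 24 33 33 14 14) (@D3.rec (fun _ => Nat) 14 14 14 15 15 34 36 30 36 15 36 14 14 40 41 0 32 1) (@D3.rec (fun _ => Nat) 2 14 1 2 31 14 0 14 1 2 14 2 3 2 34 39 41 36) (@D3.rec (fun _ => Nat) 24 24 2 3 1 2 24 2 3 3 2 32 32 30 4 1 2 5) (@D3.rec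 (fun _ => Nat) 23 1 2 6 25 2 3 23 23 23 33 33 42 23 23 23 15 15) (@D3.rec (fun _ => Nat) 15 30 15 32 6 15 15 38 14 14 25 35 4 37 5 29 14 14) (@D3.rec (fun _ => Nat) 2 3 3 14 0 14 1 2 6 2 3 4 14 14 38 40 14 0) (@D3.rec (fun _ => Nat) 14 4 4 5 14 14 1 2 14 25 29 2 3 25 3 4 5 14) (@D3.rec (fun _ => Nat) 14 14 33 6 31 31 14 14 31 37 2 3 34 36 34 15 36 6) (@D3.rec (fun _ => Nat) 37 15 1 2 15 2 3 25 3 36 35 40 40 35 35 31 36 0)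
def lv_f_11 : D2 → D3 → Nat := @D2.rec (fun _ => D3 → Nat) (@D3.rec (fun _ => Nat) 33 31 14 31 14 1 2 25 31 1 2 14 36 4 1 2 5 14) (@D3.rec (fun _ => Nat) 0 14 1 2 14 5 2 3 6 2 3 7 3 4 25 33 38 35) (@D3.rec (fun _ => Nat) 35 16 37 33 16 16 32 34 16 34 34 15 15 15 4 4 30 5) (@D3.rec (fun _ => Nat) 35 15 35 15 36 35 15 15 15 15 34 4 35 5 15 25 15 1) (@D3.rec (fun _ => Nat) 2 15 30 2 3 30 35 15 15 15 15 16 16 30 36 34 36 39) (@D3.rec (fun _ => Nat) 15 37 24 41 1 2 34 2 3 2 3 15 1 2 15 2 3 3) (@D3.rec (fun _ => Nat) 35 25 3 2 3 3 4 34 34 34 6 2 3 24 2 3 26 3) (@D3.rec (fun _ => Nat) 4 24 24 36 38 24 24 24 36 32 16 32 16 32 16 30 16 38) (@D3.rec (fun _ => Nat) 36 37 35 15 35 6 37 31 31 15 33 15 4 4 5 15 1 2) (@D3.rec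 (fun _ => Nat) 15 2 3 3 15 39 15 15 1 2 15 34 4 5 15 15 15 31) (@D3.rec (fun _ => Nat) 2 3 35 3 4 26 6 15 15 15 41 33 15 37 3 4 34 36) (@D3.rec (fun _ => Nat) 16 36 38 16 2 3 3 4 26 35 42 37 37 33 33 1 2 33) (@D3.rec (fun _ => Nat) 33 15 33 2 3 35 23 2 3 37 6 6 2 3 15 1 2 15) (@D3.rec (fun _ => Nat) 25 2 3 7 3 4 6 3 4 7 4 5 36 36 17 38 34 17) (@D3.rec (fun _ => Nat) 34 17 39 16 16 16 4 34 5 35 16 35 36 16 16 16 34 6)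
def lv_f_12 : D2 → D3 → Nat := @D2.rec (fun _ => D3 → Nat) (@D3.rec (fun _ => Nat) 35 16 24 16 2 3 16 32 3 37 16 16 42 38 40 39 26 35) (@D3.rec (fun _ => Nat) 2 3 3 3 16 2 3 3 4 3 4 4 39 42 3 4 3 27) (@D3.rec (fun _ => Nat) 4 5 25 38 40 25 25 38 36 32 17 32 17 32 34 17 38 38) (@D3.rec (fun _ => Nat) 35 16 37 31 16 35 16 4 5 16 2 3 3 4 16 40 16 16) (@D3.rec (fun _ => Nat) 2 3 36 6 16 16 16 35 3 4 37 4 5 16 16 0 4 36) (@D3.rec (fun _ => Nat) 36 38 34 3 4 4 39 38 36 37 33 2 3 33 33 3 41 35) (@D3.rec (fun _ => Nat) 26 3 4 37 6 3 4 16 2 3 25 3 4 7 4 5 8 4) (@D3.rec (fun _ => Nat) 5 5 43 37 36 18 38 17 6 36 37 17 17 17 36 37 17 24) (@D3.rec (fun _ => Nat) 17 3 4 44 32 38 37 26 3 4 3 4 4 4 44 39 37 4) (@D3.rec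 (fun _ => Nat) 28 5 25 38 34 34 18 34 36 40 36 35 37 37 33 17 35 6) (@D3.rec (fun _ => Nat) 17 3 4 4 17 17 3 4 36 17 17 0 35 4 39 40 5 40) (@D3.rec (fun _ => Nat) 1 36 40 4 42 39 35 3 41 35 35 26 4 5 39 8 4 5) (@D3.rec (fun _ => Nat) 3 42 27 4 41 5 41 5 43 36 18 37 18 36 36 4 28 4) (@D3.rec (fun _ => Nat) 4 41 38 34 34 0 34 39 40 37 18 37 4 18 38 4 41 38) (@D3.rec (fun _ => Nat) 42 41 1 45 35 35 5 40 5 40 27 39 43 46 36 36 42 1)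
def lv_f : Pt → Nat := @Pt.rec (fun _ => Nat) (@D1.rec (fun _ => D2 → D3 → Nat) lv_f_0 lv_f_1 lv_f_2 lv_f_3 lv_f_4 lv_f_5 lv_f_6 lv_f_7 lv_f_8 lv_f_9 lv_f_10 lv_f_11 lv_f_12)
abbrev lc_f_Cert_tree : Cert rels S Gen.f := Cert.tree
abbrev lc_f_rc_6_1 : Cert rels S Gen.f := rc_6_1
abbrev lc_f_rc_6_3 : Cert rels S Gen.f := rc_6_3
abbrev lc_f_rc_14_1 : Cert rels S Gen.f := rc_14_1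
abbrev lc_f_rc_14_3 : Cert rels S Gen.f := rc_14_3
abbrev lc_f_rc_21_1 : Cert rels S Gen.f := rc_21_1
abbrev lc_f_rc_21_3 : Cert rels S Gen.f := rc_21_3
abbrev lc_f_rc_27_1 : Cert rels S Gen.f := rc_27_1
abbrev lc_f_rc_27_3 : Cert rels S Gen.f := rc_27_3
abbrev lc_f_rc_32_1 : Cert rels S Gen.f := rc_32_1
abbrev lc_f_rc_32_3 : Cert rels S Gen.f := rc_32_3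
abbrev lc_f_rc_32_5 : Cert rels S Gen.f := rc_32_5
abbrev lc_f_rc_37_0 : Cert rels S Gen.f := rc_37_0
abbrev lc_f_rc_37_2 : Cert rels S Gen.f := rc_37_2
abbrev lc_f_rc_38_0 : Cert rels S Gen.f := rc_38_0
abbrev lc_f_rc_38_1 : Cert rels S Gen.f := rc_38_1
abbrev lc_f_rc_39_2 : Cert rels S Gen.f := rc_39_2
abbrev lc_f_rc_39_4 : Cert rels S Gen.f := rc_39_4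
abbrev lc_f_rc_40_0 : Cert rels S Gen.f := rc_40_0
abbrev lc_f_rc_40_2 : Cert rels S Gen.f := rc_40_2
abbrev lc_f_rc_46_12 : Cert rels S Gen.f := rc_46_12
abbrev lc_f_rc_46_26 : Cert rels S Gen.f := rc_46_26
abbrev lc_f_rc_46_33 : Cert rels S Gen.f := rc_46_33
abbrev lc_f_rc_46_40 : Cert rels S Gen.f := rc_46_40
abbrev lc_f_rc_46_54 : Cert rels S Gen.f := rc_46_54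
abbrev lc_f_rc_47_32 : Cert rels S Gen.f := rc_47_32
abbrev lc_f_rc_47_46 : Cert rels S Gen.f := rc_47_46
abbrev lc_f_sc_4_0 : Cert rels S Gen.f := sc_4_0
def ce_f_0 : D2 → D3 → (Cert rels S Gen.f) := @D2.rec (fun _ => D3 → (Cert rels S Gen.f)) (@D3.rec (fun _ => (Cert rels S Gen.f)) lc_f_sc_4_0 lc_f_rc_14_1 lc_f_rc_6_1 lc_f_rc_21_1 lc_f_rc_6_1 lc_f_rc_27_1 lc_f_rc_14_1 lc_f_rc_6_1 lc_f_Cert_tree lc_f_rc_37_2 lc_f_rc_14_1 lc_f_Cert_tree lc_f_rc_6_1 lc_f_rc_38_0 lc_f_rc_38_1 lc_f_rc_40_2 lc_f_rc_21_1 lc_f_Cert_tree) (@D3.rec (fun _ => (Cert rels S Gen.f)) lc_f_rc_14_1 lc_f_rc_38_0 lc_f_rc_38_1 lc_f_rc_40_2 lc_f_rc_39_2 lc_f_rc_37_2 lc_f_rc_27_1 lc_f_rc_40_2 lc_f_Cert_tree lc_f_rc_21_1 lc_f_rc_38_0 lc_f_rc_38_1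 lc_f_rc_40_2 lc_f_rc_39_2 lc_f_rc_37_2 lc_f_rc_27_1 lc_f_rc_40_2 lc_f_rc_39_2) (@D3.rec (fun _ => (Cert rels S Gen.f)) lc_f_rc_27_1 lc_f_rc_40_2 lc_f_rc_21_1 lc_f_rc_40_2 lc_f_Cert_tree lc_f_rc_38_0 lc_f_rc_38_1 lc_f_rc_27_1 lc_f_rc_40_2 lc_f_rc_39_2 lc_f_rc_37_2 lc_f_rc_27_1 lc_f_rc_40_2 lc_f_rc_39_2 lc_f_rc_27_1 lc_f_rc_40_2 lc_f_rc_21_1 lc_f_rc_40_2) (@D3.rec (fun _ => (Cert rels S Gen.f)) lc_f_rc_39_2 lc_f_rc_40_2 lc_f_rc_21_1 lc_f_rc_32_3 lc_f_rc_40_2 lc_f_rc_14_1 lc_f_rc_21_1 lc_f_rc_37_2 lc_f_rc_38_0 lc_f_rc_39_2 lc_f_rc_37_2 lc_f_rc_40_2 lc_f_rc_40_2 lc_f_rc_39_2 lc_f_rc_27_1 lc_f_rc_40_2 lc_f_rc_40_2 lc_f_rc_39_2) (@D3.rec (fun _ => (Cert rels S Gen.f)) lc_f_rc_40_2 lc_f_rc_21_1 lc_f_rc_32_3 lc_f_rc_40_2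 lc_f_rc_21_1 lc_f_rc_37_2 lc_f_rc_21_1 lc_f_Cert_tree lc_f_rc_40_2 lc_f_rc_14_1 lc_f_rc_21_1 lc_f_rc_21_1 lc_f_rc_32_3 lc_f_rc_37_2 lc_f_rc_14_1 lc_f_rc_37_2 lc_f_rc_32_3 lc_f_rc_39_2) (@D3.rec (fun _ => (Cert rels S Gen.f)) lc_f_rc_39_2 lc_f_rc_40_2 lc_f_rc_37_2 lc_f_rc_39_2 lc_f_rc_40_2 lc_f_rc_32_3 lc_f_rc_40_2 lc_f_rc_37_2 lc_f_rc_21_1 lc_f_Cert_tree lc_f_rc_40_2 lc_f_rc_21_1 lc_f_rc_21_1 lc_f_rc_32_3 lc_f_rc_37_2 lc_f_rc_37_2 lc_f_rc_14_1 lc_f_Cert_tree) (@D3.rec (fun _ => (Cert rels S Gen.f)) lc_f_rc_21_1 lc_f_rc_38_0 lc_f_rc_40_2 lc_f_rc_37_2 lc_f_rc_14_1 lc_f_rc_14_1 lc_f_rc_27_1 lc_f_rc_21_1 lc_f_rc_37_2 lc_f_rc_37_2 lc_f_rc_14_1 lc_f_rc_27_1 lc_f_Cert_tree lc_f_rc_40_2 lc_f_Cert_tree lc_f_rc_40_2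 lc_f_rc_32_3 lc_f_rc_37_2) (@D3.rec (fun _ => (Cert rels S Gen.f)) lc_f_Cert_tree lc_f_rc_21_1 lc_f_rc_38_0 lc_f_rc_40_2 lc_f_rc_37_2 lc_f_rc_27_1 lc_f_rc_21_1 lc_f_rc_37_2 lc_f_rc_37_2 lc_f_rc_27_1 lc_f_Cert_tree lc_f_rc_14_1 lc_f_Cert_tree lc_f_rc_38_0 lc_f_rc_40_2 lc_f_rc_37_2 lc_f_rc_40_2 lc_f_rc_37_2) (@D3.rec (fun _ => (Cert rels S Gen.f)) lc_f_rc_14_1 lc_f_rc_14_1 lc_f_rc_14_1 lc_f_rc_37_2 lc_f_rc_27_1 lc_f_rc_21_1 lc_f_rc_27_1 lc_f_rc_27_1 lc_f_rc_27_1 lc_f_Cert_tree lc_f_rc_38_0 lc_f_rc_38_0 lc_f_rc_40_2 lc_f_rc_37_2 lc_f_rc_37_2 lc_f_Cert_tree lc_f_rc_38_0 lc_f_rc_40_2) (@D3.rec (fun _ => (Cert rels S Gen.f)) lc_f_rc_37_2 lc_f_rc_40_2 lc_f_rc_37_2 lc_f_rc_37_2 lc_f_rc_27_1 lc_f_rc_21_1 lc_f_rc_27_1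 lc_f_rc_27_1 lc_f_Cert_tree lc_f_Cert_tree lc_f_rc_38_0 lc_f_rc_40_2 lc_f_rc_14_1 lc_f_rc_38_0 lc_f_rc_38_1 lc_f_rc_40_2 lc_f_rc_40_2 lc_f_rc_37_2) (@D3.rec (fun _ => (Cert rels S Gen.f)) lc_f_rc_27_1 lc_f_rc_37_2 lc_f_rc_27_1 lc_f_rc_21_1 lc_f_rc_14_1 lc_f_rc_14_1 lc_f_rc_14_1 lc_f_rc_27_1 lc_f_rc_40_2 lc_f_rc_37_2 lc_f_rc_27_1 lc_f_Cert_tree lc_f_rc_21_1 lc_f_rc_21_1 lc_f_Cert_tree lc_f_rc_38_0 lc_f_rc_40_2 lc_f_rc_37_2) (@D3.rec (fun _ => (Cert rels S Gen.f)) lc_f_rc_27_1 lc_f_rc_38_0 lc_f_rc_38_1 lc_f_rc_40_2 lc_f_rc_40_2 lc_f_rc_37_2 lc_f_rc_27_1 lc_f_rc_37_2 lc_f_rc_27_1 lc_f_rc_40_2 lc_f_rc_37_2 lc_f_rc_27_1 lc_f_Cert_tree lc_f_rc_21_1 lc_f_rc_38_0 lc_f_Cert_tree lc_f_rc_38_0 lc_f_rc_38_1) (@D3.rec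 (fun _ => (Cert rels S Gen.f)) lc_f_rc_40_2 lc_f_rc_40_2 lc_f_rc_37_2 lc_f_rc_27_1 lc_f_rc_32_3 lc_f_rc_37_2 lc_f_rc_40_2 lc_f_rc_40_2 lc_f_rc_37_2 lc_f_rc_37_2 lc_f_rc_27_1 lc_f_Cert_tree lc_f_rc_27_1 lc_f_rc_21_1 lc_f_rc_21_1 lc_f_rc_21_1 lc_f_rc_14_1 lc_f_rc_14_1) (@D3.rec (fun _ => (Cert rels S Gen.f)) lc_f_rc_14_1 lc_f_rc_21_1 lc_f_Cert_tree lc_f_rc_40_2 lc_f_rc_37_2 lc_f_rc_21_1 lc_f_Cert_tree lc_f_rc_38_0 lc_f_rc_14_1 lc_f_Cert_tree lc_f_rc_38_0 lc_f_rc_39_2 lc_f_rc_37_2 lc_f_rc_27_1 lc_f_rc_21_1 lc_f_rc_32_3 lc_f_rc_37_2 lc_f_rc_40_2) (@D3.rec (fun _ => (Cert rels S Gen.f)) lc_f_rc_40_2 lc_f_rc_37_2 lc_f_rc_37_2 lc_f_rc_27_1 lc_f_Cert_tree lc_f_rc_27_1 lc_f_rc_21_1 lc_f_rc_40_2 lc_f_rc_37_2 lc_f_rc_21_1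 lc_f_Cert_tree lc_f_rc_38_0 lc_f_rc_14_1 lc_f_rc_39_2 lc_f_rc_38_0 lc_f_rc_38_1 lc_f_rc_40_2 lc_f_rc_14_1)
def ce_f_1 : D2 → D3 → (Cert rels S Gen.f) := @D2.rec (fun _ => D3 → (Cert rels S Gen.f)) (@D3.rec (fun _ => (Cert rels S Gen.f)) lc_f_rc_37_2 lc_f_rc_40_2 lc_f_rc_40_2 lc_f_rc_37_2 lc_f_rc_37_2 lc_f_rc_27_1 lc_f_rc_21_1 lc_f_Cert_tree lc_f_rc_32_3 lc_f_rc_32_3 lc_f_rc_40_2 lc_f_rc_37_2 lc_f_rc_37_2 lc_f_rc_27_1 lc_f_rc_27_1 lc_f_rc_21_1 lc_f_Cert_tree lc_f_rc_38_0) (@D3.rec (fun _ => (Cert rels S Gen.f)) lc_f_rc_21_1 lc_f_rc_32_3 lc_f_rc_14_1 lc_f_rc_27_1 lc_f_rc_21_1 lc_f_rc_21_1 lc_f_rc_14_1 lc_f_rc_14_1 lc_f_rc_21_1 lc_f_Cert_tree lc_f_Cert_tree lc_f_rc_38_0 lc_f_rc_40_2 lc_f_rc_21_1 lc_f_Cert_tree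 lc_f_rc_14_1 lc_f_Cert_tree lc_f_rc_38_0) (@D3.rec (fun _ => (Cert rels S Gen.f)) lc_f_rc_39_2 lc_f_rc_6_1 lc_f_Cert_tree lc_f_rc_38_0 lc_f_rc_39_2 lc_f_rc_27_1 lc_f_rc_21_1 lc_f_rc_14_1 lc_f_rc_32_3 lc_f_rc_32_3 lc_f_rc_40_2 lc_f_rc_37_2 lc_f_rc_37_2 lc_f_rc_27_1 lc_f_rc_27_1 lc_f_rc_21_1 lc_f_Cert_tree lc_f_rc_38_0) (@D3.rec (fun _ => (Cert rels S Gen.f)) lc_f_rc_21_1 lc_f_rc_32_3 lc_f_rc_14_1 lc_f_rc_40_2 lc_f_rc_21_1 lc_f_Cert_tree lc_f_rc_14_1 lc_f_Cert_tree lc_f_rc_38_0 lc_f_rc_39_2 lc_f_rc_6_1 lc_f_rc_21_1 lc_f_rc_37_2 lc_f_rc_40_2 lc_f_rc_27_1 lc_f_rc_40_2 lc_f_rc_37_2 lc_f_rc_14_1) (@D3.rec (fun _ => (Cert rels S Gen.f)) lc_f_rc_14_1 lc_f_rc_40_2 lc_f_rc_37_2 lc_f_rc_37_2 lc_f_rc_27_1 lc_f_rc_27_1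 lc_f_rc_21_1 lc_f_Cert_tree lc_f_Cert_tree lc_f_rc_38_0 lc_f_rc_27_1 lc_f_rc_40_2 lc_f_rc_37_2 lc_f_rc_37_2 lc_f_rc_27_1 lc_f_rc_27_1 lc_f_rc_21_1 lc_f_Cert_tree) (@D3.rec (fun _ => (Cert rels S Gen.f)) lc_f_rc_21_1 lc_f_Cert_tree lc_f_rc_14_1 lc_f_Cert_tree lc_f_rc_38_0 lc_f_rc_39_2 lc_f_rc_14_1 lc_f_rc_21_1 lc_f_rc_6_1 lc_f_Cert_tree lc_f_rc_27_1 lc_f_rc_21_1 lc_f_rc_27_1 lc_f_rc_14_1 lc_f_rc_21_1 lc_f_Cert_tree lc_f_rc_14_1 lc_f_Cert_tree) (@D3.rec (fun _ => (Cert rels S Gen.f)) lc_f_rc_38_0 lc_f_Cert_tree lc_f_rc_38_0 lc_f_rc_39_2 lc_f_rc_21_1 lc_f_Cert_tree lc_f_rc_14_1 lc_f_Cert_tree lc_f_rc_38_0 lc_f_rc_6_1 lc_f_Cert_tree lc_f_rc_38_0 lc_f_rc_39_2 lc_f_rc_38_0 lc_f_rc_46_40 lc_f_rc_21_1 lc_f_rc_21_1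 lc_f_rc_32_3) (@D3.rec (fun _ => (Cert rels S Gen.f)) lc_f_rc_14_1 lc_f_rc_6_1 lc_f_rc_27_1 lc_f_rc_40_2 lc_f_rc_37_2 lc_f_rc_37_2 lc_f_rc_27_1 lc_f_rc_27_1 lc_f_rc_21_1 lc_f_Cert_tree lc_f_rc_21_1 lc_f_Cert_tree lc_f_rc_14_1 lc_f_Cert_tree lc_f_rc_38_0 lc_f_rc_39_2 lc_f_rc_14_1 lc_f_rc_21_1) (@D3.rec (fun _ => (Cert rels S Gen.f)) lc_f_rc_6_1 lc_f_rc_21_1 lc_f_Cert_tree lc_f_rc_14_1 lc_f_Cert_tree lc_f_rc_38_0 lc_f_rc_6_1 lc_f_Cert_tree lc_f_rc_38_0 lc_f_rc_39_2 lc_f_rc_27_1 lc_f_rc_21_1 lc_f_rc_21_1 lc_f_rc_27_1 lc_f_rc_40_2 lc_f_rc_37_2 lc_f_rc_47_32 lc_f_rc_40_2) (@D3.rec (fun _ => (Cert rels S Gen.f)) lc_f_rc_37_2 lc_f_rc_27_1 lc_f_rc_27_1 lc_f_rc_14_1 lc_f_rc_14_1 lc_f_rc_37_2 lc_f_rc_27_1 lc_f_rc_27_1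 lc_f_rc_21_1 lc_f_Cert_tree lc_f_rc_21_1 lc_f_Cert_tree lc_f_rc_14_1 lc_f_Cert_tree lc_f_rc_38_0 lc_f_Cert_tree lc_f_rc_38_0 lc_f_rc_39_2) (@D3.rec (fun _ => (Cert rels S Gen.f)) lc_f_rc_21_1 lc_f_rc_27_1 lc_f_rc_40_2 lc_f_rc_27_1 lc_f_rc_27_1 lc_f_rc_21_1 lc_f_Cert_tree lc_f_rc_21_1 lc_f_Cert_tree lc_f_rc_14_1 lc_f_Cert_tree lc_f_rc_38_0 lc_f_rc_14_1 lc_f_Cert_tree lc_f_rc_38_0 lc_f_rc_6_1 lc_f_Cert_tree lc_f_rc_38_0) (@D3.rec (fun _ => (Cert rels S Gen.f)) lc_f_rc_39_2 lc_f_rc_6_1 lc_f_rc_14_1 lc_f_rc_27_1 lc_f_rc_38_0 lc_f_rc_6_1 lc_f_rc_37_2 lc_f_rc_27_1 lc_f_rc_27_1 lc_f_Cert_tree lc_f_rc_21_1 lc_f_Cert_tree lc_f_rc_14_1 lc_f_Cert_tree lc_f_rc_38_0 lc_f_rc_6_1 lc_f_Cert_tree lc_f_Cert_tree) (@D3.rec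 (fun _ => (Cert rels S Gen.f)) lc_f_rc_38_0 lc_f_rc_39_2 lc_f_rc_38_0 lc_f_rc_46_12 lc_f_rc_21_1 lc_f_rc_14_1 lc_f_Cert_tree lc_f_rc_38_0 lc_f_rc_6_1 lc_f_Cert_tree lc_f_Cert_tree lc_f_rc_38_0 lc_f_rc_39_2 lc_f_Cert_tree lc_f_rc_38_0 lc_f_rc_21_1 lc_f_rc_27_1 lc_f_rc_14_1) (@D3.rec (fun _ => (Cert rels S Gen.f)) lc_f_rc_21_1 lc_f_rc_6_1 lc_f_rc_21_1 lc_f_rc_27_1 lc_f_rc_40_2 lc_f_rc_27_1 lc_f_rc_27_1 lc_f_rc_21_1 lc_f_Cert_tree lc_f_rc_21_1 lc_f_Cert_tree lc_f_rc_14_1 lc_f_Cert_tree lc_f_rc_38_0 lc_f_rc_14_1 lc_f_Cert_tree lc_f_rc_38_0 lc_f_rc_6_1) (@D3.rec (fun _ => (Cert rels S Gen.f)) lc_f_Cert_tree lc_f_rc_38_0 lc_f_rc_39_2 lc_f_rc_6_1 lc_f_rc_14_1 lc_f_rc_27_1 lc_f_rc_14_1 lc_f_Cert_tree lc_f_rc_38_0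 lc_f_rc_6_1 lc_f_rc_14_3 lc_f_rc_6_3 lc_f_rc_38_0 lc_f_rc_39_2 lc_f_Cert_tree lc_f_rc_38_0 lc_f_rc_21_1 lc_f_rc_27_1)
def ce_f_2 : D2 → D3 → (Cert rels S Gen.f) := @D2.rec (fun _ => D3 → (Cert rels S Gen.f)) (@D3.rec (fun _ => (Cert rels S Gen.f)) lc_f_rc_21_1 lc_f_rc_21_1 lc_f_rc_40_2 lc_f_rc_37_2 lc_f_rc_27_1 lc_f_rc_40_2 lc_f_rc_37_2 lc_f_rc_27_1 lc_f_rc_21_1 lc_f_Cert_tree lc_f_rc_27_1 lc_f_rc_14_1 lc_f_rc_27_1 lc_f_rc_27_1 lc_f_rc_21_1 lc_f_Cert_tree lc_f_rc_21_1 lc_f_Cert_tree) (@D3.rec (fun _ => (Cert rels S Gen.f)) lc_f_rc_14_1 lc_f_Cert_tree lc_f_rc_38_0 lc_f_rc_14_1 lc_f_Cert_tree lc_f_rc_38_0 lc_f_rc_6_1 lc_f_Cert_tree lc_f_Cert_tree lc_f_rc_38_0 lc_f_rc_39_2 lc_f_rc_38_0 lc_f_rc_38_1 lc_f_rc_21_1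 lc_f_rc_21_1 lc_f_rc_37_2 lc_f_rc_27_1 lc_f_rc_21_1) (@D3.rec (fun _ => (Cert rels S Gen.f)) lc_f_Cert_tree lc_f_rc_21_1 lc_f_Cert_tree lc_f_rc_14_1 lc_f_Cert_tree lc_f_rc_38_0 lc_f_rc_14_1 lc_f_Cert_tree lc_f_rc_38_0 lc_f_rc_6_1 lc_f_Cert_tree lc_f_Cert_tree lc_f_rc_38_0 lc_f_rc_39_2 lc_f_rc_6_1 lc_f_Cert_tree lc_f_Cert_tree lc_f_rc_38_0) (@D3.rec (fun _ => (Cert rels S Gen.f)) lc_f_rc_39_2 lc_f_Cert_tree lc_f_rc_38_0 lc_f_rc_21_1 lc_f_rc_6_1 lc_f_rc_14_1 lc_f_rc_32_5 lc_f_rc_37_2 lc_f_rc_27_1 lc_f_rc_6_1 lc_f_rc_14_1 lc_f_Cert_tree lc_f_rc_38_0 lc_f_rc_14_1 lc_f_Cert_tree lc_f_rc_38_0 lc_f_rc_6_1 lc_f_Cert_tree) (@D3.rec (fun _ => (Cert rels S Gen.f)) lc_f_Cert_tree lc_f_rc_38_0 lc_f_rc_39_2 lc_f_Cert_tree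 lc_f_Cert_tree lc_f_rc_38_0 lc_f_rc_38_0 lc_f_rc_14_3 lc_f_rc_21_1 lc_f_rc_27_1 lc_f_rc_6_1 lc_f_Cert_tree lc_f_rc_14_3 lc_f_rc_38_0 lc_f_rc_39_2 lc_f_rc_6_3 lc_f_rc_14_3 lc_f_rc_38_0) (@D3.rec (fun _ => (Cert rels S Gen.f)) lc_f_rc_38_0 lc_f_rc_21_1 lc_f_rc_38_0 lc_f_rc_14_1 lc_f_rc_6_1 lc_f_rc_14_1 lc_f_rc_27_1 lc_f_rc_14_1 lc_f_rc_21_1 lc_f_rc_37_2 lc_f_rc_27_1 lc_f_rc_21_1 lc_f_Cert_tree lc_f_rc_21_1 lc_f_Cert_tree lc_f_rc_14_1 lc_f_Cert_tree lc_f_rc_38_0) (@D3.rec (fun _ => (Cert rels S Gen.f)) lc_f_rc_14_1 lc_f_Cert_tree lc_f_rc_38_0 lc_f_rc_6_1 lc_f_Cert_tree lc_f_Cert_tree lc_f_rc_38_0 lc_f_rc_39_2 lc_f_rc_6_1 lc_f_Cert_tree lc_f_Cert_tree lc_f_rc_38_0 lc_f_rc_39_2 lc_f_Cert_tree lc_f_rc_38_0 lc_f_rc_21_1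 lc_f_rc_6_1 lc_f_rc_14_1) (@D3.rec (fun _ => (Cert rels S Gen.f)) lc_f_rc_32_5 lc_f_rc_6_1 lc_f_rc_6_1 lc_f_rc_14_1 lc_f_rc_38_0 lc_f_rc_39_2 lc_f_rc_14_3 lc_f_rc_21_1 lc_f_rc_38_0 lc_f_rc_14_1 lc_f_rc_37_2 lc_f_rc_21_1 lc_f_rc_27_1 lc_f_rc_37_2 lc_f_rc_27_1 lc_f_rc_21_1 lc_f_Cert_tree lc_f_rc_27_1) (@D3.rec (fun _ => (Cert rels S Gen.f)) lc_f_rc_21_1 lc_f_Cert_tree lc_f_rc_14_1 lc_f_Cert_tree lc_f_rc_38_0 lc_f_rc_37_2 lc_f_rc_27_1 lc_f_rc_21_1 lc_f_Cert_tree lc_f_rc_21_1 lc_f_Cert_tree lc_f_rc_14_1 lc_f_Cert_tree lc_f_rc_38_0 lc_f_rc_14_1 lc_f_Cert_tree lc_f_rc_38_0 lc_f_rc_6_1) (@D3.rec (fun _ => (Cert rels S Gen.f)) lc_f_Cert_tree lc_f_Cert_tree lc_f_rc_38_0 lc_f_rc_39_2 lc_f_rc_6_1 lc_f_Cert_tree lc_f_Cert_tree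 lc_f_rc_38_0 lc_f_rc_14_1 lc_f_Cert_tree lc_f_Cert_tree lc_f_rc_38_0 lc_f_rc_38_0 lc_f_rc_38_1 lc_f_rc_21_1 lc_f_rc_32_3 lc_f_rc_27_1 lc_f_rc_37_2) (@D3.rec (fun _ => (Cert rels S Gen.f)) lc_f_rc_39_2 lc_f_rc_21_1 lc_f_rc_37_2 lc_f_rc_21_1 lc_f_Cert_tree lc_f_rc_14_1 lc_f_Cert_tree lc_f_rc_38_0 lc_f_rc_14_1 lc_f_Cert_tree lc_f_rc_38_0 lc_f_rc_6_1 lc_f_Cert_tree lc_f_Cert_tree lc_f_rc_38_0 lc_f_rc_32_3 lc_f_rc_6_1 lc_f_Cert_tree) (@D3.rec (fun _ => (Cert rels S Gen.f)) lc_f_Cert_tree lc_f_rc_38_0 lc_f_rc_39_2 lc_f_Cert_tree lc_f_Cert_tree lc_f_rc_38_0 lc_f_rc_38_0 lc_f_rc_21_1 lc_f_Cert_tree lc_f_Cert_tree lc_f_rc_38_0 lc_f_rc_38_0 lc_f_rc_38_1 lc_f_rc_21_1 lc_f_rc_38_0 lc_f_rc_14_1 lc_f_rc_6_1 lc_f_rc_21_1)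 (@D3.rec (fun _ => (Cert rels S Gen.f)) lc_f_rc_14_1 lc_f_rc_40_2 lc_f_rc_37_2 lc_f_rc_14_1 lc_f_rc_21_1 lc_f_rc_6_1 lc_f_Cert_tree lc_f_Cert_tree lc_f_rc_38_0 lc_f_rc_6_1 lc_f_Cert_tree lc_f_Cert_tree lc_f_rc_38_0 lc_f_rc_39_2 lc_f_Cert_tree lc_f_Cert_tree lc_f_rc_38_0 lc_f_rc_38_0) (@D3.rec (fun _ => (Cert rels S Gen.f)) lc_f_rc_27_1 lc_f_rc_21_1 lc_f_Cert_tree lc_f_rc_38_0 lc_f_rc_38_0 lc_f_rc_21_3 lc_f_rc_14_1 lc_f_rc_27_1 lc_f_rc_14_1 lc_f_rc_6_1 lc_f_rc_38_0 lc_f_rc_21_1 lc_f_rc_21_1 lc_f_rc_14_1 lc_f_rc_27_1 lc_f_rc_6_1 lc_f_rc_6_1 lc_f_rc_14_1) (@D3.rec (fun _ => (Cert rels S Gen.f)) lc_f_rc_37_2 lc_f_rc_37_2 lc_f_rc_21_1 lc_f_Cert_tree lc_f_rc_14_1 lc_f_Cert_tree lc_f_rc_38_0 lc_f_rc_14_1 lc_f_Cert_tree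 lc_f_rc_38_0 lc_f_rc_6_1 lc_f_Cert_tree lc_f_Cert_tree lc_f_rc_38_0 lc_f_rc_32_3 lc_f_rc_6_1 lc_f_Cert_tree lc_f_Cert_tree)
def ce_f_3 : D2 → D3 → (Cert rels S Gen.f) := @D2.rec (fun _ => D3 → (Cert rels S Gen.f)) (@D3.rec (fun _ => (Cert rels S Gen.f)) lc_f_rc_38_0 lc_f_rc_39_2 lc_f_Cert_tree lc_f_rc_39_2 lc_f_rc_38_0 lc_f_rc_38_0 lc_f_rc_21_1 lc_f_Cert_tree lc_f_Cert_tree lc_f_rc_38_0 lc_f_rc_38_0 lc_f_rc_38_1 lc_f_rc_21_1 lc_f_rc_38_0 lc_f_rc_14_1 lc_f_rc_6_1 lc_f_rc_6_1 lc_f_rc_37_2) (@D3.rec (fun _ => (Cert rels S Gen.f)) lc_f_rc_27_1 lc_f_rc_21_1 lc_f_Cert_tree lc_f_rc_27_1 lc_f_rc_21_1 lc_f_Cert_tree lc_f_rc_14_1 lc_f_Cert_tree lc_f_rc_38_0 lc_f_rc_21_1 lc_f_rc_14_1 lc_f_Cert_tree lc_f_rc_38_0 lc_f_rc_6_1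 lc_f_Cert_tree lc_f_Cert_tree lc_f_rc_38_0 lc_f_rc_39_2) (@D3.rec (fun _ => (Cert rels S Gen.f)) lc_f_rc_37_2 lc_f_rc_21_1 lc_f_Cert_tree lc_f_rc_14_1 lc_f_Cert_tree lc_f_rc_38_0 lc_f_rc_14_1 lc_f_Cert_tree lc_f_rc_38_0 lc_f_rc_6_1 lc_f_Cert_tree lc_f_Cert_tree lc_f_rc_38_0 lc_f_rc_32_3 lc_f_rc_6_1 lc_f_Cert_tree lc_f_Cert_tree lc_f_rc_38_0) (@D3.rec (fun _ => (Cert rels S Gen.f)) lc_f_rc_39_2 lc_f_Cert_tree lc_f_Cert_tree lc_f_rc_38_0 lc_f_rc_38_0 lc_f_rc_38_1 lc_f_rc_21_1 lc_f_Cert_tree lc_f_Cert_tree lc_f_rc_38_0 lc_f_rc_38_0 lc_f_rc_38_1 lc_f_rc_21_1 lc_f_Cert_tree lc_f_rc_38_0 lc_f_rc_38_0 lc_f_rc_38_1 lc_f_rc_14_1) (@D3.rec (fun _ => (Cert rels S Gen.f)) lc_f_rc_32_3 lc_f_rc_27_1 lc_f_rc_37_2 lc_f_rc_27_3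 lc_f_rc_21_3 lc_f_rc_32_3 lc_f_Cert_tree lc_f_rc_14_1 lc_f_Cert_tree lc_f_rc_38_0 lc_f_rc_6_1 lc_f_Cert_tree lc_f_Cert_tree lc_f_rc_38_0 lc_f_rc_39_2 lc_f_rc_6_1 lc_f_Cert_tree lc_f_Cert_tree) (@D3.rec (fun _ => (Cert rels S Gen.f)) lc_f_rc_38_0 lc_f_rc_39_2 lc_f_Cert_tree lc_f_Cert_tree lc_f_rc_38_0 lc_f_rc_38_0 lc_f_rc_38_1 lc_f_rc_32_3 lc_f_Cert_tree lc_f_Cert_tree lc_f_rc_38_0 lc_f_rc_38_0 lc_f_rc_21_1 lc_f_rc_39_2 lc_f_rc_38_0 lc_f_Cert_tree lc_f_rc_38_0 lc_f_rc_14_1) (@D3.rec (fun _ => (Cert rels S Gen.f)) lc_f_rc_32_3 lc_f_rc_27_1 lc_f_Cert_tree lc_f_rc_38_0 lc_f_Cert_tree lc_f_rc_38_0 lc_f_rc_38_1 lc_f_rc_14_1 lc_f_rc_27_1 lc_f_rc_37_2 lc_f_rc_40_2 lc_f_rc_6_1 lc_f_rc_6_1 lc_f_rc_21_1 lc_f_rc_14_1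 lc_f_rc_6_1 lc_f_rc_6_3 lc_f_rc_27_1) (@D3.rec (fun _ => (Cert rels S Gen.f)) lc_f_Cert_tree lc_f_Cert_tree lc_f_rc_38_0 lc_f_rc_38_0 lc_f_rc_38_1 lc_f_rc_21_1 lc_f_Cert_tree lc_f_rc_38_0 lc_f_rc_38_0 lc_f_rc_46_33 lc_f_rc_21_1 lc_f_rc_27_3 lc_f_rc_38_0 lc_f_rc_27_1 lc_f_rc_38_0 lc_f_rc_27_1 lc_f_rc_14_1 lc_f_rc_27_1) (@D3.rec (fun _ => (Cert rels S Gen.f)) lc_f_rc_38_0 lc_f_rc_46_40 lc_f_rc_6_1 lc_f_rc_14_1 lc_f_Cert_tree lc_f_Cert_tree lc_f_rc_38_0 lc_f_Cert_tree lc_f_Cert_tree lc_f_rc_38_0 lc_f_rc_39_2 lc_f_rc_6_1 lc_f_Cert_tree lc_f_Cert_tree lc_f_rc_38_0 lc_f_rc_39_2 lc_f_Cert_tree lc_f_Cert_tree) (@D3.rec (fun _ => (Cert rels S Gen.f)) lc_f_rc_38_0 lc_f_rc_38_0 lc_f_rc_38_1 lc_f_rc_32_3 lc_f_rc_38_0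 lc_f_rc_38_0 lc_f_rc_39_2 lc_f_rc_38_0 lc_f_rc_32_3 lc_f_Cert_tree lc_f_rc_38_0 lc_f_rc_38_0 lc_f_rc_14_1 lc_f_rc_27_1 lc_f_rc_37_2 lc_f_rc_6_1 lc_f_rc_21_1 lc_f_Cert_tree) (@D3.rec (fun _ => (Cert rels S Gen.f)) lc_f_rc_21_1 lc_f_Cert_tree lc_f_rc_14_1 lc_f_Cert_tree lc_f_rc_38_0 lc_f_rc_21_1 lc_f_rc_21_3 lc_f_rc_14_1 lc_f_Cert_tree lc_f_rc_38_0 lc_f_rc_6_1 lc_f_Cert_tree lc_f_Cert_tree lc_f_rc_38_0 lc_f_rc_39_2 lc_f_rc_14_1 lc_f_rc_6_1 lc_f_Cert_tree) (@D3.rec (fun _ => (Cert rels S Gen.f)) lc_f_Cert_tree lc_f_rc_38_0 lc_f_Cert_tree lc_f_Cert_tree lc_f_rc_38_0 lc_f_rc_38_0 lc_f_rc_38_1 lc_f_rc_27_3 lc_f_rc_21_1 lc_f_Cert_tree lc_f_rc_14_1 lc_f_Cert_tree lc_f_rc_38_0 lc_f_rc_6_1 lc_f_Cert_tree lc_f_Cert_tree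 lc_f_rc_38_0 lc_f_rc_39_2) (@D3.rec (fun _ => (Cert rels S Gen.f)) lc_f_rc_6_1 lc_f_Cert_tree lc_f_Cert_tree lc_f_rc_38_0 lc_f_rc_39_2 lc_f_Cert_tree lc_f_Cert_tree lc_f_rc_38_0 lc_f_rc_38_0 lc_f_rc_38_1 lc_f_rc_32_3 lc_f_Cert_tree lc_f_Cert_tree lc_f_rc_38_0 lc_f_rc_38_0 lc_f_rc_38_1 lc_f_rc_21_1 lc_f_Cert_tree) (@D3.rec (fun _ => (Cert rels S Gen.f)) lc_f_rc_38_0 lc_f_Cert_tree lc_f_rc_38_0 lc_f_rc_38_1 lc_f_rc_14_1 lc_f_rc_32_3 lc_f_rc_27_1 lc_f_rc_37_2 lc_f_rc_14_3 lc_f_Cert_tree lc_f_rc_38_0 lc_f_Cert_tree lc_f_rc_38_0 lc_f_rc_38_1 lc_f_rc_14_1 lc_f_rc_27_1 lc_f_rc_27_1 lc_f_rc_37_2) (@D3.rec (fun _ => (Cert rels S Gen.f)) lc_f_rc_40_2 lc_f_rc_38_0 lc_f_rc_38_1 lc_f_rc_6_1 lc_f_rc_14_1 lc_f_rc_14_1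 lc_f_rc_37_2 lc_f_rc_27_3 lc_f_rc_14_3 lc_f_rc_32_3 lc_f_rc_27_1 lc_f_rc_38_0 lc_f_Cert_tree lc_f_Cert_tree lc_f_rc_38_0 lc_f_rc_39_2 lc_f_Cert_tree lc_f_Cert_tree)
def ce_f_4 : D2 → D3 → (Cert rels S Gen.f) := @D2.rec (fun _ => D3 → (Cert rels S Gen.f)) (@D3.rec (fun _ => (Cert rels S Gen.f)) lc_f_rc_38_0 lc_f_rc_38_0 lc_f_rc_38_1 lc_f_rc_21_1 lc_f_Cert_tree lc_f_Cert_tree lc_f_rc_38_0 lc_f_rc_38_0 lc_f_rc_38_1 lc_f_rc_39_2 lc_f_Cert_tree lc_f_rc_38_0 lc_f_Cert_tree lc_f_rc_38_0 lc_f_rc_38_1 lc_f_rc_14_1 lc_f_rc_32_3 lc_f_rc_39_2) (@D3.rec (fun _ => (Cert rels S Gen.f)) lc_f_rc_37_2 lc_f_rc_40_2 lc_f_rc_38_0 lc_f_rc_39_2 lc_f_rc_38_0 lc_f_rc_39_2 lc_f_rc_32_3 lc_f_rc_40_2 lc_f_rc_38_0 lc_f_rc_32_3 lc_f_rc_32_3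 lc_f_Cert_tree lc_f_rc_38_0 lc_f_rc_6_1 lc_f_rc_38_0 lc_f_rc_38_1 lc_f_rc_14_1 lc_f_rc_37_2) (@D3.rec (fun _ => (Cert rels S Gen.f)) lc_f_rc_37_2 lc_f_rc_40_2 lc_f_rc_27_1 lc_f_rc_6_1 lc_f_rc_14_1 lc_f_rc_27_1 lc_f_Cert_tree lc_f_rc_38_0 lc_f_rc_21_3 lc_f_rc_38_0 lc_f_rc_14_3 lc_f_rc_6_1 lc_f_rc_37_2 lc_f_rc_21_1 lc_f_rc_27_1 lc_f_rc_38_0 lc_f_rc_14_1 lc_f_rc_27_1) (@D3.rec (fun _ => (Cert rels S Gen.f)) lc_f_rc_27_1 lc_f_rc_46_33 lc_f_rc_14_1 lc_f_rc_6_1 lc_f_rc_38_0 lc_f_Cert_tree lc_f_rc_38_0 lc_f_rc_39_2 lc_f_Cert_tree lc_f_rc_38_0 lc_f_rc_38_0 lc_f_rc_38_1 lc_f_rc_21_1 lc_f_rc_32_3 lc_f_Cert_tree lc_f_rc_38_0 lc_f_rc_38_0 lc_f_rc_38_1) (@D3.rec (fun _ => (Cert rels S Gen.f)) lc_f_rc_39_2 lc_f_Cert_tree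 lc_f_rc_38_0 lc_f_rc_38_0 lc_f_rc_14_1 lc_f_rc_32_3 lc_f_rc_39_2 lc_f_rc_37_2 lc_f_rc_38_0 lc_f_rc_6_1 lc_f_rc_14_1 lc_f_rc_37_2 lc_f_rc_14_1 lc_f_Cert_tree lc_f_rc_38_0 lc_f_rc_14_1 lc_f_Cert_tree lc_f_rc_38_0) (@D3.rec (fun _ => (Cert rels S Gen.f)) lc_f_rc_6_1 lc_f_Cert_tree lc_f_Cert_tree lc_f_rc_38_0 lc_f_rc_39_2 lc_f_rc_14_1 lc_f_rc_14_3 lc_f_rc_6_1 lc_f_Cert_tree lc_f_Cert_tree lc_f_rc_38_0 lc_f_Cert_tree lc_f_Cert_tree lc_f_rc_38_0 lc_f_rc_38_0 lc_f_rc_38_1 lc_f_rc_39_2 lc_f_rc_6_1) (@D3.rec (fun _ => (Cert rels S Gen.f)) lc_f_Cert_tree lc_f_Cert_tree lc_f_rc_38_0 lc_f_rc_38_0 lc_f_Cert_tree lc_f_rc_38_0 lc_f_Cert_tree lc_f_rc_38_0 lc_f_rc_38_1 lc_f_rc_27_3 lc_f_rc_32_3 lc_f_rc_14_3 lc_f_rc_37_2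 lc_f_rc_40_2 lc_f_Cert_tree lc_f_rc_38_0 lc_f_Cert_tree lc_f_Cert_tree) (@D3.rec (fun _ => (Cert rels S Gen.f)) lc_f_rc_38_0 lc_f_rc_39_2 lc_f_Cert_tree lc_f_Cert_tree lc_f_rc_38_0 lc_f_rc_38_0 lc_f_rc_38_1 lc_f_rc_21_1 lc_f_Cert_tree lc_f_Cert_tree lc_f_rc_38_0 lc_f_rc_38_0 lc_f_rc_38_1 lc_f_rc_39_2 lc_f_Cert_tree lc_f_rc_38_0 lc_f_Cert_tree lc_f_rc_38_0) (@D3.rec (fun _ => (Cert rels S Gen.f)) lc_f_rc_38_1 lc_f_rc_14_1 lc_f_rc_32_3 lc_f_rc_39_2 lc_f_rc_37_2 lc_f_rc_40_2 lc_f_Cert_tree lc_f_rc_38_0 lc_f_Cert_tree lc_f_rc_38_0 lc_f_rc_38_1 lc_f_rc_40_2 lc_f_rc_32_3 lc_f_rc_27_1 lc_f_rc_37_2 lc_f_rc_14_3 lc_f_rc_40_2 lc_f_rc_38_0) (@D3.rec (fun _ => (Cert rels S Gen.f)) lc_f_rc_38_1 lc_f_rc_39_2 lc_f_rc_38_0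 lc_f_rc_38_1 lc_f_rc_14_1 lc_f_rc_14_1 lc_f_rc_37_2 lc_f_rc_6_3 lc_f_rc_32_3 lc_f_rc_32_3 lc_f_Cert_tree lc_f_rc_38_0 lc_f_rc_38_1 lc_f_rc_6_1 lc_f_rc_38_0 lc_f_rc_38_1 lc_f_rc_14_1 lc_f_rc_14_1) (@D3.rec (fun _ => (Cert rels S Gen.f)) lc_f_rc_37_2 lc_f_rc_40_2 lc_f_rc_27_1 lc_f_rc_32_3 lc_f_rc_37_2 lc_f_rc_40_2 lc_f_rc_6_1 lc_f_rc_6_1 lc_f_rc_37_2 lc_f_rc_39_2 lc_f_rc_6_3 lc_f_rc_14_1 lc_f_rc_27_1 lc_f_rc_21_1 lc_f_rc_37_2 lc_f_Cert_tree lc_f_rc_38_0 lc_f_rc_38_0) (@D3.rec (fun _ => (Cert rels S Gen.f)) lc_f_rc_21_1 lc_f_Cert_tree lc_f_rc_38_0 lc_f_Cert_tree lc_f_rc_38_0 lc_f_rc_38_1 lc_f_rc_14_1 lc_f_rc_32_3 lc_f_rc_21_1 lc_f_rc_37_2 lc_f_rc_40_2 lc_f_Cert_tree lc_f_rc_38_0 lc_f_Cert_tree lc_f_rc_38_0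 lc_f_rc_38_1 lc_f_rc_14_1 lc_f_rc_32_3) (@D3.rec (fun _ => (Cert rels S Gen.f)) lc_f_rc_39_2 lc_f_rc_37_2 lc_f_rc_6_3 lc_f_Cert_tree lc_f_rc_38_0 lc_f_rc_6_1 lc_f_rc_38_0 lc_f_rc_38_1 lc_f_rc_14_1 lc_f_rc_14_1 lc_f_rc_37_2 lc_f_rc_6_1 lc_f_rc_32_3 lc_f_rc_27_1 lc_f_rc_40_2 lc_f_rc_21_1 lc_f_rc_38_0 lc_f_rc_6_1) (@D3.rec (fun _ => (Cert rels S Gen.f)) lc_f_rc_21_1 lc_f_rc_37_2 lc_f_rc_27_1 lc_f_rc_14_1 lc_f_rc_40_2 lc_f_Cert_tree lc_f_rc_27_1 lc_f_rc_6_3 lc_f_rc_14_1 lc_f_rc_38_0 lc_f_rc_21_1 lc_f_rc_14_1 lc_f_rc_37_2 lc_f_rc_38_0 lc_f_rc_21_1 lc_f_Cert_tree lc_f_rc_38_0 lc_f_rc_38_1) (@D3.rec (fun _ => (Cert rels S Gen.f)) lc_f_rc_14_1 lc_f_rc_32_3 lc_f_rc_21_1 lc_f_rc_37_2 lc_f_rc_6_3 lc_f_rc_38_0 lc_f_rc_32_3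 lc_f_rc_39_2 lc_f_rc_37_2 lc_f_rc_38_0 lc_f_rc_32_3 lc_f_rc_27_1 lc_f_rc_6_1 lc_f_rc_6_1 lc_f_Cert_tree lc_f_Cert_tree lc_f_rc_38_0 lc_f_rc_37_2)
def ce_f_5 : D2 → D3 → (Cert rels S Gen.f) := @D2.rec (fun _ => D3 → (Cert rels S Gen.f)) (@D3.rec (fun _ => (Cert rels S Gen.f)) lc_f_Cert_tree lc_f_Cert_tree lc_f_rc_38_0 lc_f_Cert_tree lc_f_Cert_tree lc_f_rc_38_0 lc_f_rc_38_0 lc_f_rc_38_1 lc_f_rc_21_1 lc_f_rc_6_1 lc_f_rc_46_33 lc_f_rc_27_1 lc_f_Cert_tree lc_f_Cert_tree lc_f_rc_38_0 lc_f_rc_38_0 lc_f_rc_38_1 lc_f_Cert_tree) (@D3.rec (fun _ => (Cert rels S Gen.f)) lc_f_rc_38_0 lc_f_Cert_tree lc_f_rc_38_0 lc_f_rc_38_1 lc_f_rc_14_1 lc_f_rc_32_3 lc_f_rc_39_2 lc_f_rc_37_2 lc_f_rc_40_2 lc_f_Cert_tree lc_f_rc_38_0 lc_f_Cert_tree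 lc_f_rc_38_0 lc_f_rc_32_3 lc_f_Cert_tree lc_f_rc_38_0 lc_f_rc_38_1 lc_f_rc_39_2) (@D3.rec (fun _ => (Cert rels S Gen.f)) lc_f_rc_38_0 lc_f_rc_39_2 lc_f_rc_14_1 lc_f_rc_6_1 lc_f_rc_37_2 lc_f_rc_40_2 lc_f_Cert_tree lc_f_rc_32_3 lc_f_rc_14_1 lc_f_rc_40_2 lc_f_Cert_tree lc_f_rc_38_0 lc_f_rc_37_2 lc_f_Cert_tree lc_f_rc_38_0 lc_f_rc_38_0 lc_f_rc_38_1 lc_f_rc_21_1) (@D3.rec (fun _ => (Cert rels S Gen.f)) lc_f_Cert_tree lc_f_rc_38_0 lc_f_Cert_tree lc_f_rc_38_0 lc_f_rc_38_1 lc_f_rc_14_1 lc_f_rc_32_3 lc_f_rc_21_1 lc_f_rc_37_2 lc_f_rc_40_2 lc_f_Cert_tree lc_f_rc_38_0 lc_f_Cert_tree lc_f_rc_38_0 lc_f_rc_38_1 lc_f_rc_14_1 lc_f_rc_32_3 lc_f_rc_39_2) (@D3.rec (fun _ => (Cert rels S Gen.f)) lc_f_rc_37_2 lc_f_rc_40_2 lc_f_Cert_tree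 lc_f_rc_38_0 lc_f_rc_38_1 lc_f_rc_6_1 lc_f_rc_38_0 lc_f_rc_38_1 lc_f_rc_14_1 lc_f_rc_14_1 lc_f_rc_37_2 lc_f_rc_40_2 lc_f_Cert_tree lc_f_rc_32_3 lc_f_rc_27_1 lc_f_rc_40_2 lc_f_rc_38_0 lc_f_rc_38_0) (@D3.rec (fun _ => (Cert rels S Gen.f)) lc_f_rc_14_1 lc_f_rc_40_0 lc_f_rc_37_2 lc_f_rc_32_3 lc_f_rc_32_3 lc_f_rc_6_1 lc_f_rc_37_2 lc_f_rc_21_1 lc_f_rc_37_2 lc_f_rc_32_3 lc_f_rc_14_1 lc_f_rc_27_1 lc_f_rc_38_0 lc_f_rc_38_1 lc_f_rc_6_1 lc_f_rc_6_1 lc_f_rc_37_2 lc_f_rc_40_2) (@D3.rec (fun _ => (Cert rels S Gen.f)) lc_f_rc_21_1 lc_f_rc_21_1 lc_f_rc_37_2 lc_f_rc_27_1 lc_f_rc_40_2 lc_f_rc_27_1 lc_f_rc_14_1 lc_f_rc_14_1 lc_f_rc_40_2 lc_f_rc_37_2 lc_f_rc_37_2 lc_f_rc_40_2 lc_f_rc_40_2 lc_f_rc_6_1 lc_f_rc_6_1 lc_f_rc_27_1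 lc_f_rc_21_1 lc_f_rc_14_1) (@D3.rec (fun _ => (Cert rels S Gen.f)) lc_f_Cert_tree lc_f_rc_38_0 lc_f_rc_14_1 lc_f_rc_32_3 lc_f_rc_21_1 lc_f_Cert_tree lc_f_rc_38_0 lc_f_rc_38_1 lc_f_rc_6_1 lc_f_rc_38_0 lc_f_rc_38_1 lc_f_rc_14_1 lc_f_rc_14_1 lc_f_rc_37_2 lc_f_rc_40_2 lc_f_rc_6_1 lc_f_rc_32_3 lc_f_rc_37_2) (@D3.rec (fun _ => (Cert rels S Gen.f)) lc_f_rc_40_2 lc_f_Cert_tree lc_f_rc_38_0 lc_f_rc_38_0 lc_f_rc_38_1 lc_f_rc_14_1 lc_f_rc_14_1 lc_f_rc_37_2 lc_f_rc_38_0 lc_f_rc_21_1 lc_f_rc_21_1 lc_f_rc_37_2 lc_f_rc_27_1 lc_f_rc_14_1 lc_f_rc_27_1 lc_f_rc_27_1 lc_f_rc_6_1 lc_f_rc_21_1) (@D3.rec (fun _ => (Cert rels S Gen.f)) lc_f_rc_27_1 lc_f_Cert_tree lc_f_rc_38_0 lc_f_rc_32_3 lc_f_rc_21_1 lc_f_rc_38_0 lc_f_rc_14_1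 lc_f_rc_14_1 lc_f_rc_37_2 lc_f_Cert_tree lc_f_Cert_tree lc_f_rc_38_0 lc_f_rc_38_0 lc_f_rc_38_1 lc_f_rc_37_2 lc_f_Cert_tree lc_f_rc_38_0 lc_f_rc_38_0) (@D3.rec (fun _ => (Cert rels S Gen.f)) lc_f_rc_38_1 lc_f_Cert_tree lc_f_rc_38_0 lc_f_Cert_tree lc_f_rc_38_0 lc_f_rc_38_1 lc_f_rc_14_1 lc_f_rc_32_3 lc_f_rc_21_1 lc_f_rc_37_2 lc_f_rc_40_2 lc_f_rc_46_33 lc_f_rc_27_1 lc_f_rc_37_2 lc_f_Cert_tree lc_f_rc_38_0 lc_f_Cert_tree lc_f_rc_38_0) (@D3.rec (fun _ => (Cert rels S Gen.f)) lc_f_rc_38_1 lc_f_rc_32_3 lc_f_rc_37_2 lc_f_rc_40_2 lc_f_Cert_tree lc_f_rc_38_0 lc_f_rc_38_1 lc_f_rc_6_1 lc_f_rc_38_0 lc_f_rc_38_1 lc_f_rc_14_1 lc_f_rc_14_1 lc_f_rc_37_2 lc_f_rc_40_2 lc_f_Cert_tree lc_f_rc_32_3 lc_f_rc_37_2 lc_f_rc_40_2) (@D3.rec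 (fun _ => (Cert rels S Gen.f)) lc_f_rc_38_0 lc_f_rc_38_0 lc_f_rc_14_1 lc_f_rc_38_0 lc_f_rc_6_1 lc_f_rc_39_2 lc_f_rc_37_2 lc_f_rc_21_1 lc_f_Cert_tree lc_f_rc_14_1 lc_f_rc_40_2 lc_f_rc_38_0 lc_f_rc_32_1 lc_f_rc_27_1 lc_f_rc_38_0 lc_f_rc_38_1 lc_f_rc_37_2 lc_f_Cert_tree) (@D3.rec (fun _ => (Cert rels S Gen.f)) lc_f_rc_38_0 lc_f_rc_38_1 lc_f_rc_14_1 lc_f_rc_32_3 lc_f_rc_21_1 lc_f_rc_37_2 lc_f_rc_40_2 lc_f_Cert_tree lc_f_rc_38_0 lc_f_rc_38_1 lc_f_rc_6_1 lc_f_rc_38_0 lc_f_rc_38_1 lc_f_rc_14_1 lc_f_rc_14_1 lc_f_rc_37_2 lc_f_rc_40_2 lc_f_Cert_tree) (@D3.rec (fun _ => (Cert rels S Gen.f)) lc_f_rc_32_3 lc_f_rc_37_2 lc_f_rc_40_2 lc_f_Cert_tree lc_f_rc_38_0 lc_f_rc_38_1 lc_f_rc_38_0 lc_f_rc_38_1 lc_f_rc_14_1 lc_f_rc_14_1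 lc_f_rc_37_2 lc_f_rc_40_2 lc_f_rc_37_0 lc_f_rc_32_3 lc_f_rc_37_2 lc_f_rc_40_2 lc_f_Cert_tree lc_f_rc_38_0)
def ce_f_6 : D2 → D3 → (Cert rels S Gen.f) := @D2.rec (fun _ => D3 → (Cert rels S Gen.f)) (@D3.rec (fun _ => (Cert rels S Gen.f)) lc_f_rc_38_1 lc_f_rc_6_1 lc_f_rc_6_1 lc_f_rc_37_2 lc_f_rc_40_2 lc_f_rc_21_1 lc_f_rc_21_1 lc_f_rc_37_2 lc_f_rc_27_1 lc_f_rc_40_2 lc_f_Cert_tree lc_f_rc_14_1 lc_f_rc_27_1 lc_f_rc_40_2 lc_f_rc_38_0 lc_f_rc_39_4 lc_f_rc_27_1 lc_f_rc_40_2) (@D3.rec (fun _ => (Cert rels S Gen.f)) lc_f_rc_27_1 lc_f_rc_6_1 lc_f_rc_21_1 lc_f_rc_32_3 lc_f_rc_32_3 lc_f_rc_6_1 lc_f_rc_27_1 lc_f_rc_32_3 lc_f_rc_27_1 lc_f_rc_21_1 lc_f_rc_6_1 lc_f_rc_6_1 lc_f_rc_37_2 lc_f_rc_40_2 lc_f_rc_27_1 lc_f_rc_6_1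 lc_f_rc_6_1 lc_f_rc_40_2) (@D3.rec (fun _ => (Cert rels S Gen.f)) lc_f_rc_21_1 lc_f_rc_21_1 lc_f_rc_21_1 lc_f_rc_27_1 lc_f_rc_40_2 lc_f_Cert_tree lc_f_rc_40_2 lc_f_rc_37_2 lc_f_rc_14_1 lc_f_rc_14_1 lc_f_rc_14_1 lc_f_rc_40_2 lc_f_rc_21_1 lc_f_rc_40_2 lc_f_rc_6_1 lc_f_rc_21_1 lc_f_rc_14_1 lc_f_rc_6_1) (@D3.rec (fun _ => (Cert rels S Gen.f)) lc_f_rc_38_0 lc_f_rc_14_1 lc_f_rc_14_1 lc_f_Cert_tree lc_f_rc_38_0 lc_f_rc_38_1 lc_f_rc_6_1 lc_f_rc_6_1 lc_f_rc_37_2 lc_f_rc_21_1 lc_f_rc_14_1 lc_f_rc_37_2 lc_f_rc_27_1 lc_f_rc_40_2 lc_f_rc_38_0 lc_f_rc_21_1 lc_f_rc_21_1 lc_f_rc_37_2) (@D3.rec (fun _ => (Cert rels S Gen.f)) lc_f_rc_27_1 lc_f_rc_21_1 lc_f_rc_37_2 lc_f_rc_27_1 lc_f_Cert_tree lc_f_rc_32_5 lc_f_rc_27_1 lc_f_Cert_tree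 lc_f_rc_38_0 lc_f_Cert_tree lc_f_rc_38_0 lc_f_Cert_tree lc_f_rc_38_0 lc_f_rc_38_1 lc_f_rc_14_1 lc_f_rc_32_3 lc_f_rc_39_2 lc_f_rc_37_2) (@D3.rec (fun _ => (Cert rels S Gen.f)) lc_f_rc_40_2 lc_f_Cert_tree lc_f_rc_38_0 lc_f_rc_38_1 lc_f_rc_32_3 lc_f_rc_37_2 lc_f_rc_40_2 lc_f_Cert_tree lc_f_rc_38_0 lc_f_rc_38_1 lc_f_rc_6_1 lc_f_rc_38_0 lc_f_rc_38_1 lc_f_rc_14_1 lc_f_rc_14_1 lc_f_rc_37_2 lc_f_rc_40_2 lc_f_Cert_tree) (@D3.rec (fun _ => (Cert rels S Gen.f)) lc_f_rc_32_3 lc_f_rc_37_2 lc_f_rc_40_2 lc_f_rc_27_1 lc_f_rc_21_1 lc_f_rc_37_2 lc_f_rc_40_2 lc_f_Cert_tree lc_f_rc_38_0 lc_f_rc_38_1 lc_f_rc_38_0 lc_f_rc_38_1 lc_f_rc_14_1 lc_f_rc_37_2 lc_f_rc_40_2 lc_f_rc_32_3 lc_f_rc_40_2 lc_f_Cert_tree) (@D3.rec (fun _ =>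 (Cert rels S Gen.f)) lc_f_rc_38_0 lc_f_rc_38_1 lc_f_rc_6_1 lc_f_rc_6_1 lc_f_rc_37_2 lc_f_rc_40_2 lc_f_rc_21_1 lc_f_rc_21_1 lc_f_rc_37_2 lc_f_rc_27_1 lc_f_rc_40_2 lc_f_Cert_tree lc_f_rc_14_1 lc_f_rc_37_2 lc_f_rc_40_2 lc_f_rc_38_0 lc_f_rc_38_1 lc_f_rc_27_1) (@D3.rec (fun _ => (Cert rels S Gen.f)) lc_f_rc_40_2 lc_f_rc_39_2 lc_f_rc_6_1 lc_f_rc_21_1 lc_f_rc_32_3 lc_f_rc_32_3 lc_f_rc_6_1 lc_f_rc_27_1 lc_f_rc_38_0 lc_f_rc_27_1 lc_f_rc_37_0 lc_f_rc_21_1 lc_f_rc_32_3 lc_f_rc_39_2 lc_f_rc_37_2 lc_f_rc_40_2 lc_f_rc_38_0 lc_f_rc_38_1) (@D3.rec (fun _ => (Cert rels S Gen.f)) lc_f_rc_14_1 lc_f_rc_14_1 lc_f_rc_37_2 lc_f_rc_40_2 lc_f_rc_37_0 lc_f_rc_32_3 lc_f_rc_37_2 lc_f_rc_40_2 lc_f_Cert_tree lc_f_rc_38_0 lc_f_rc_38_1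 lc_f_rc_6_1 lc_f_rc_6_1 lc_f_rc_37_2 lc_f_rc_40_2 lc_f_rc_21_1 lc_f_rc_14_1 lc_f_rc_37_2) (@D3.rec (fun _ => (Cert rels S Gen.f)) lc_f_rc_27_1 lc_f_rc_40_2 lc_f_Cert_tree lc_f_rc_14_1 lc_f_rc_14_1 lc_f_rc_40_2 lc_f_rc_38_0 lc_f_rc_38_1 lc_f_rc_27_1 lc_f_rc_40_2 lc_f_rc_39_2 lc_f_Cert_tree lc_f_rc_38_0 lc_f_rc_38_1 lc_f_rc_6_1 lc_f_rc_37_2 lc_f_rc_40_2 lc_f_rc_21_1) (@D3.rec (fun _ => (Cert rels S Gen.f)) lc_f_rc_21_1 lc_f_rc_37_2 lc_f_rc_27_1 lc_f_rc_40_2 lc_f_rc_6_1 lc_f_rc_14_1 lc_f_rc_37_2 lc_f_rc_40_2 lc_f_rc_27_1 lc_f_rc_39_2 lc_f_rc_40_2 lc_f_rc_37_2 lc_f_rc_38_0 lc_f_rc_6_1 lc_f_rc_6_1 lc_f_rc_37_2 lc_f_rc_40_2 lc_f_rc_27_1) (@D3.rec (fun _ => (Cert rels S Gen.f)) lc_f_rc_6_1 lc_f_rc_6_1 lc_f_rc_40_2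 lc_f_rc_27_1 lc_f_Cert_tree lc_f_rc_21_1 lc_f_rc_37_2 lc_f_rc_27_1 lc_f_rc_40_2 lc_f_Cert_tree lc_f_rc_40_2 lc_f_rc_38_0 lc_f_rc_39_4 lc_f_rc_27_1 lc_f_rc_14_1 lc_f_rc_27_1 lc_f_rc_40_2 lc_f_rc_21_1) (@D3.rec (fun _ => (Cert rels S Gen.f)) lc_f_rc_27_1 lc_f_rc_6_1 lc_f_rc_37_2 lc_f_rc_6_1 lc_f_rc_21_1 lc_f_rc_14_1 lc_f_rc_14_3 lc_f_rc_6_1 lc_f_rc_6_1 lc_f_rc_40_2 lc_f_rc_37_2 lc_f_rc_6_1 lc_f_rc_6_1 lc_f_rc_6_1 lc_f_rc_21_1 lc_f_rc_27_1 lc_f_rc_21_1 lc_f_rc_27_1) (@D3.rec (fun _ => (Cert rels S Gen.f)) lc_f_rc_21_1 lc_f_Cert_tree lc_f_rc_40_2 lc_f_rc_38_0 lc_f_rc_40_2 lc_f_rc_40_2 lc_f_rc_21_1 lc_f_rc_14_1 lc_f_rc_14_1 lc_f_rc_21_1 lc_f_rc_21_1 lc_f_rc_14_1 lc_f_rc_6_1 lc_f_rc_21_1 lc_f_rc_14_1 lc_f_rc_38_0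 lc_f_rc_6_1 lc_f_rc_6_1)
def ce_f_7 : D2 → D3 → (Cert rels S Gen.f) := @D2.rec (fun _ => D3 → (Cert rels S Gen.f)) (@D3.rec (fun _ => (Cert rels S Gen.f)) lc_f_rc_37_2 lc_f_rc_27_1 lc_f_rc_27_1 lc_f_Cert_tree lc_f_rc_32_5 lc_f_rc_27_1 lc_f_rc_39_2 lc_f_Cert_tree lc_f_rc_38_0 lc_f_rc_40_2 lc_f_Cert_tree lc_f_rc_38_0 lc_f_Cert_tree lc_f_rc_38_0 lc_f_rc_38_1 lc_f_rc_6_1 lc_f_rc_38_0 lc_f_rc_38_1) (@D3.rec (fun _ => (Cert rels S Gen.f)) lc_f_rc_32_3 lc_f_rc_14_1 lc_f_rc_37_2 lc_f_rc_40_2 lc_f_rc_6_3 lc_f_rc_32_3 lc_f_rc_39_2 lc_f_rc_40_2 lc_f_rc_38_0 lc_f_rc_38_1 lc_f_rc_14_1 lc_f_rc_37_2 lc_f_rc_40_2 lc_f_rc_32_3 lc_f_rc_40_2 lc_f_Cert_tree lc_f_rc_38_0 lc_f_rc_38_1) (@D3.rec (fun _ => (Cert rels S Gen.f))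 lc_f_rc_6_1 lc_f_rc_6_1 lc_f_rc_37_2 lc_f_rc_40_2 lc_f_rc_21_1 lc_f_rc_14_1 lc_f_rc_37_2 lc_f_rc_27_1 lc_f_rc_40_2 lc_f_Cert_tree lc_f_rc_14_1 lc_f_rc_14_1 lc_f_rc_40_2 lc_f_rc_38_0 lc_f_rc_38_1 lc_f_rc_27_1 lc_f_rc_40_2 lc_f_rc_39_2) (@D3.rec (fun _ => (Cert rels S Gen.f)) lc_f_rc_21_1 lc_f_rc_37_2 lc_f_rc_21_1 lc_f_rc_40_2 lc_f_Cert_tree lc_f_rc_38_0 lc_f_rc_38_1 lc_f_rc_6_1 lc_f_rc_37_2 lc_f_rc_40_2 lc_f_rc_21_1 lc_f_rc_37_2 lc_f_rc_27_1 lc_f_rc_40_2 lc_f_rc_14_1 lc_f_rc_40_2 lc_f_rc_40_2 lc_f_rc_38_0) (@D3.rec (fun _ => (Cert rels S Gen.f)) lc_f_rc_38_1 lc_f_rc_6_1 lc_f_rc_6_1 lc_f_rc_37_2 lc_f_rc_27_1 lc_f_rc_40_2 lc_f_rc_6_3 lc_f_rc_6_1 lc_f_rc_6_1 lc_f_rc_40_2 lc_f_rc_27_1 lc_f_Cert_tree lc_f_rc_21_1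 lc_f_rc_37_2 lc_f_rc_27_1 lc_f_rc_40_2 lc_f_Cert_tree lc_f_rc_40_2) (@D3.rec (fun _ => (Cert rels S Gen.f)) lc_f_rc_38_0 lc_f_rc_38_1 lc_f_rc_27_1 lc_f_rc_14_1 lc_f_rc_39_2 lc_f_rc_37_2 lc_f_rc_27_1 lc_f_rc_40_2 lc_f_rc_21_1 lc_f_rc_27_1 lc_f_rc_27_1 lc_f_rc_6_1 lc_f_rc_6_1 lc_f_rc_37_2 lc_f_rc_21_1 lc_f_rc_37_0 lc_f_rc_14_1 lc_f_rc_21_3) (@D3.rec (fun _ => (Cert rels S Gen.f)) lc_f_rc_32_3 lc_f_rc_39_2 lc_f_rc_40_2 lc_f_rc_21_1 lc_f_rc_14_1 lc_f_rc_37_2 lc_f_rc_40_2 lc_f_rc_39_4 lc_f_rc_14_1 lc_f_rc_14_1 lc_f_rc_40_2 lc_f_rc_27_3 lc_f_rc_27_1 lc_f_rc_40_2 lc_f_rc_39_2 lc_f_rc_38_0 lc_f_rc_38_1 lc_f_rc_6_1) (@D3.rec (fun _ => (Cert rels S Gen.f)) lc_f_rc_6_1 lc_f_rc_37_2 lc_f_rc_27_1 lc_f_rc_40_2 lc_f_Cert_tree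 lc_f_rc_6_1 lc_f_rc_6_1 lc_f_rc_40_2 lc_f_rc_27_1 lc_f_Cert_tree lc_f_rc_21_1 lc_f_rc_14_1 lc_f_rc_27_1 lc_f_rc_40_2 lc_f_Cert_tree lc_f_rc_40_2 lc_f_rc_38_0 lc_f_rc_38_1) (@D3.rec (fun _ => (Cert rels S Gen.f)) lc_f_rc_27_1 lc_f_rc_14_1 lc_f_rc_14_1 lc_f_rc_37_2 lc_f_rc_39_4 lc_f_rc_40_2 lc_f_rc_21_1 lc_f_rc_27_1 lc_f_rc_38_0 lc_f_rc_6_1 lc_f_rc_37_2 lc_f_rc_40_2 lc_f_rc_6_1 lc_f_rc_40_2 lc_f_rc_27_1 lc_f_rc_21_1 lc_f_rc_21_1 lc_f_rc_37_2) (@D3.rec (fun _ => (Cert rels S Gen.f)) lc_f_rc_27_1 lc_f_rc_40_2 lc_f_rc_40_2 lc_f_rc_27_1 lc_f_rc_39_2 lc_f_rc_14_1 lc_f_rc_37_2 lc_f_rc_40_2 lc_f_rc_40_2 lc_f_rc_14_1 lc_f_rc_14_1 lc_f_rc_6_1 lc_f_rc_6_1 lc_f_rc_40_2 lc_f_rc_37_2 lc_f_rc_6_1 lc_f_rc_6_1 lc_f_rc_6_1)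 (@D3.rec (fun _ => (Cert rels S Gen.f)) lc_f_rc_37_2 lc_f_rc_38_0 lc_f_rc_39_4 lc_f_rc_27_1 lc_f_rc_21_1 lc_f_rc_39_2 lc_f_rc_39_2 lc_f_Cert_tree lc_f_rc_40_2 lc_f_rc_38_0 lc_f_rc_40_2 lc_f_rc_40_2 lc_f_rc_21_1 lc_f_rc_27_1 lc_f_rc_14_1 lc_f_rc_21_1 lc_f_rc_27_1 lc_f_rc_6_1) (@D3.rec (fun _ => (Cert rels S Gen.f)) lc_f_rc_40_2 lc_f_rc_6_1 lc_f_rc_14_1 lc_f_rc_6_1 lc_f_rc_14_3 lc_f_rc_6_1 lc_f_rc_6_1 lc_f_rc_6_1 lc_f_rc_40_2 lc_f_rc_6_1 lc_f_rc_6_1 lc_f_rc_21_1 lc_f_rc_21_1 lc_f_rc_27_1 lc_f_Cert_tree lc_f_rc_27_1 lc_f_Cert_tree lc_f_rc_27_1) (@D3.rec (fun _ => (Cert rels S Gen.f)) lc_f_rc_38_0 lc_f_rc_40_2 lc_f_rc_39_2 lc_f_rc_40_2 lc_f_rc_14_1 lc_f_rc_21_1 lc_f_rc_14_1 lc_f_rc_14_1 lc_f_rc_6_1 lc_f_rc_6_1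 lc_f_rc_32_5 lc_f_Cert_tree lc_f_rc_38_0 lc_f_rc_37_2 lc_f_rc_40_2 lc_f_Cert_tree lc_f_Cert_tree lc_f_rc_38_0) (@D3.rec (fun _ => (Cert rels S Gen.f)) lc_f_rc_38_0 lc_f_rc_46_26 lc_f_rc_38_0 lc_f_rc_38_1 lc_f_rc_6_1 lc_f_rc_6_1 lc_f_rc_37_2 lc_f_rc_40_2 lc_f_rc_37_2 lc_f_rc_27_1 lc_f_rc_40_2 lc_f_rc_32_3 lc_f_rc_14_1 lc_f_rc_40_2 lc_f_rc_6_3 lc_f_rc_32_3 lc_f_rc_32_3 lc_f_rc_39_2) (@D3.rec (fun _ => (Cert rels S Gen.f)) lc_f_rc_21_1 lc_f_rc_37_2 lc_f_rc_27_1 lc_f_rc_40_2 lc_f_rc_14_1 lc_f_rc_40_2 lc_f_rc_27_1 lc_f_rc_40_2 lc_f_rc_38_0 lc_f_rc_38_1 lc_f_rc_6_1 lc_f_rc_6_1 lc_f_rc_37_2 lc_f_rc_27_1 lc_f_rc_40_2 lc_f_Cert_tree lc_f_rc_6_1 lc_f_rc_6_1)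
def ce_f_8 : D2 → D3 → (Cert rels S Gen.f) := @D2.rec (fun _ => D3 → (Cert rels S Gen.f)) (@D3.rec (fun _ => (Cert rels S Gen.f)) lc_f_rc_40_2 lc_f_rc_27_1 lc_f_Cert_tree lc_f_rc_21_1 lc_f_rc_14_1 lc_f_rc_27_1 lc_f_rc_40_2 lc_f_Cert_tree lc_f_rc_40_2 lc_f_rc_38_0 lc_f_rc_38_1 lc_f_rc_27_1 lc_f_rc_14_1 lc_f_rc_14_1 lc_f_rc_37_2 lc_f_rc_27_1 lc_f_rc_40_2 lc_f_rc_21_1) (@D3.rec (fun _ => (Cert rels S Gen.f)) lc_f_rc_27_1 lc_f_rc_47_32 lc_f_rc_21_1 lc_f_rc_40_2 lc_f_rc_21_3 lc_f_rc_21_1 lc_f_rc_38_0 lc_f_rc_38_1 lc_f_rc_6_1 lc_f_rc_37_2 lc_f_rc_27_1 lc_f_rc_40_2 lc_f_rc_6_1 lc_f_rc_40_2 lc_f_rc_27_1 lc_f_rc_21_1 lc_f_rc_27_1 lc_f_rc_40_2) (@D3.rec (fun _ => (Cert rels S Gen.f)) lc_f_Cert_tree lc_f_rc_40_2 lc_f_rc_14_1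 lc_f_rc_14_1 lc_f_rc_14_1 lc_f_rc_37_2 lc_f_rc_40_2 lc_f_rc_6_1 lc_f_rc_6_3 lc_f_rc_6_1 lc_f_rc_6_1 lc_f_rc_27_1 lc_f_rc_40_2 lc_f_rc_40_2 lc_f_rc_6_3 lc_f_rc_6_1 lc_f_rc_6_1 lc_f_rc_6_1) (@D3.rec (fun _ => (Cert rels S Gen.f)) lc_f_rc_27_3 lc_f_rc_37_2 lc_f_rc_38_0 lc_f_rc_38_1 lc_f_rc_27_1 lc_f_rc_21_1 lc_f_rc_39_2 lc_f_rc_39_2 lc_f_Cert_tree lc_f_rc_40_2 lc_f_rc_38_0 lc_f_rc_40_2 lc_f_rc_37_2 lc_f_rc_37_2 lc_f_rc_27_1 lc_f_rc_40_2 lc_f_rc_21_1 lc_f_rc_27_1) (@D3.rec (fun _ => (Cert rels S Gen.f)) lc_f_rc_40_2 lc_f_rc_27_3 lc_f_rc_40_2 lc_f_rc_14_1 lc_f_rc_21_1 lc_f_rc_37_2 lc_f_rc_40_2 lc_f_rc_14_1 lc_f_rc_39_2 lc_f_rc_6_1 lc_f_rc_21_3 lc_f_rc_14_1 lc_f_rc_40_2 lc_f_rc_39_2 lc_f_rc_27_1 lc_f_rc_14_1 lc_f_rc_21_1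 lc_f_rc_14_1) (@D3.rec (fun _ => (Cert rels S Gen.f)) lc_f_rc_40_2 lc_f_rc_6_3 lc_f_rc_27_1 lc_f_rc_14_1 lc_f_rc_14_1 lc_f_rc_21_1 lc_f_rc_40_2 lc_f_rc_39_2 lc_f_rc_27_1 lc_f_rc_14_1 lc_f_rc_37_2 lc_f_rc_40_2 lc_f_rc_6_1 lc_f_Cert_tree lc_f_rc_6_1 lc_f_rc_6_1 lc_f_rc_27_1 lc_f_rc_40_2) (@D3.rec (fun _ => (Cert rels S Gen.f)) lc_f_rc_40_2 lc_f_rc_38_0 lc_f_rc_38_1 lc_f_rc_6_1 lc_f_rc_6_1 lc_f_rc_6_1 lc_f_rc_32_3 lc_f_rc_37_2 lc_f_rc_38_0 lc_f_rc_38_1 lc_f_rc_27_1 lc_f_rc_21_1 lc_f_rc_14_1 lc_f_rc_14_1 lc_f_Cert_tree lc_f_rc_40_2 lc_f_rc_38_0 lc_f_rc_40_2) (@D3.rec (fun _ => (Cert rels S Gen.f)) lc_f_rc_37_2 lc_f_rc_6_3 lc_f_rc_40_2 lc_f_rc_21_1 lc_f_rc_27_1 lc_f_rc_40_2 lc_f_rc_40_2 lc_f_rc_14_1 lc_f_rc_21_1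 lc_f_rc_37_2 lc_f_rc_6_1 lc_f_rc_40_2 lc_f_rc_6_1 lc_f_rc_37_2 lc_f_rc_6_1 lc_f_rc_27_1 lc_f_rc_21_1 lc_f_rc_39_2) (@D3.rec (fun _ => (Cert rels S Gen.f)) lc_f_rc_39_2 lc_f_rc_14_1 lc_f_rc_40_2 lc_f_rc_40_2 lc_f_rc_39_2 lc_f_rc_40_2 lc_f_rc_6_1 lc_f_rc_6_1 lc_f_rc_6_1 lc_f_rc_37_2 lc_f_rc_21_1 lc_f_rc_6_1 lc_f_rc_37_2 lc_f_rc_40_2 lc_f_rc_39_4 lc_f_rc_40_2 lc_f_rc_21_1 lc_f_Cert_tree) (@D3.rec (fun _ => (Cert rels S Gen.f)) lc_f_rc_27_1 lc_f_Cert_tree lc_f_rc_39_2 lc_f_rc_38_0 lc_f_rc_40_2 lc_f_rc_39_2 lc_f_rc_40_2 lc_f_rc_14_1 lc_f_rc_21_1 lc_f_rc_6_1 lc_f_rc_14_1 lc_f_rc_27_1 lc_f_rc_6_1 lc_f_rc_6_1 lc_f_rc_14_1 lc_f_rc_6_1 lc_f_rc_14_3 lc_f_rc_21_1) (@D3.rec (fun _ => (Cert rels S Gen.f)) lc_f_rc_6_1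 lc_f_rc_6_1 lc_f_rc_14_1 lc_f_rc_6_1 lc_f_Cert_tree lc_f_rc_21_1 lc_f_rc_14_1 lc_f_Cert_tree lc_f_rc_27_1 lc_f_rc_38_0 lc_f_rc_40_2 lc_f_rc_37_2 lc_f_rc_38_0 lc_f_rc_40_2 lc_f_rc_40_2 lc_f_rc_39_2 lc_f_rc_14_1 lc_f_rc_6_1) (@D3.rec (fun _ => (Cert rels S Gen.f)) lc_f_rc_40_2 lc_f_rc_38_0 lc_f_Cert_tree lc_f_rc_40_2 lc_f_rc_38_0 lc_f_rc_38_0 lc_f_rc_47_32 lc_f_rc_37_2 lc_f_rc_27_1 lc_f_rc_40_2 lc_f_rc_6_1 lc_f_rc_6_1 lc_f_rc_40_2 lc_f_rc_27_1 lc_f_rc_40_2 lc_f_Cert_tree lc_f_rc_40_2 lc_f_rc_32_3) (@D3.rec (fun _ => (Cert rels S Gen.f)) lc_f_rc_32_3 lc_f_rc_14_1 lc_f_rc_6_3 lc_f_rc_40_2 lc_f_rc_21_1 lc_f_rc_32_3 lc_f_rc_27_1 lc_f_rc_21_1 lc_f_rc_27_1 lc_f_rc_40_2 lc_f_rc_40_2 lc_f_rc_27_1 lc_f_rc_14_1 lc_f_rc_27_1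 lc_f_rc_14_1 lc_f_rc_6_1 lc_f_rc_37_2 lc_f_rc_27_1) (@D3.rec (fun _ => (Cert rels S Gen.f)) lc_f_rc_40_2 lc_f_rc_6_1 lc_f_Cert_tree lc_f_rc_6_1 lc_f_rc_6_1 lc_f_rc_27_1 lc_f_rc_40_2 lc_f_Cert_tree lc_f_rc_40_2 lc_f_rc_38_0 lc_f_rc_38_1 lc_f_rc_6_1 lc_f_rc_6_1 lc_f_rc_6_1 lc_f_rc_27_3 lc_f_rc_37_2 lc_f_rc_38_0 lc_f_rc_38_1) (@D3.rec (fun _ => (Cert rels S Gen.f)) lc_f_rc_27_1 lc_f_rc_21_1 lc_f_rc_14_1 lc_f_rc_14_1 lc_f_Cert_tree lc_f_rc_40_2 lc_f_rc_38_0 lc_f_rc_40_2 lc_f_rc_37_2 lc_f_rc_37_2 lc_f_rc_27_1 lc_f_rc_40_2 lc_f_rc_21_1 lc_f_rc_27_1 lc_f_rc_27_1 lc_f_rc_40_2 lc_f_rc_21_1 lc_f_rc_40_2)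
def ce_f_9 : D2 → D3 → (Cert rels S Gen.f) := @D2.rec (fun _ => D3 → (Cert rels S Gen.f)) (@D3.rec (fun _ => (Cert rels S Gen.f)) lc_f_rc_14_1 lc_f_rc_21_1 lc_f_rc_37_2 lc_f_rc_47_32 lc_f_rc_21_3 lc_f_rc_21_1 lc_f_Cert_tree lc_f_rc_21_3 lc_f_rc_32_3 lc_f_rc_37_2 lc_f_rc_40_2 lc_f_rc_6_1 lc_f_rc_27_1 lc_f_rc_40_2 lc_f_rc_40_2 lc_f_rc_6_1 lc_f_rc_37_2 lc_f_rc_27_1) (@D3.rec (fun _ => (Cert rels S Gen.f)) lc_f_rc_21_1 lc_f_Cert_tree lc_f_rc_40_2 lc_f_rc_38_0 lc_f_rc_40_2 lc_f_rc_37_2 lc_f_rc_32_1 lc_f_rc_14_1 lc_f_rc_14_1 lc_f_rc_14_1 lc_f_rc_40_2 lc_f_rc_32_1 lc_f_rc_6_3 lc_f_rc_6_1 lc_f_rc_6_1 lc_f_rc_6_1 lc_f_rc_6_1 lc_f_rc_27_3) (@D3.rec (fun _ => (Cert rels S Gen.f)) lc_f_rc_40_2 lc_f_rc_37_2 lc_f_rc_6_3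 lc_f_rc_21_1 lc_f_rc_6_1 lc_f_rc_37_2 lc_f_rc_40_2 lc_f_rc_37_2 lc_f_rc_27_1 lc_f_rc_40_2 lc_f_rc_21_1 lc_f_Cert_tree lc_f_rc_27_1 lc_f_Cert_tree lc_f_rc_39_2 lc_f_rc_38_0 lc_f_rc_40_2 lc_f_rc_37_2) (@D3.rec (fun _ => (Cert rels S Gen.f)) lc_f_rc_39_2 lc_f_rc_40_2 lc_f_rc_37_2 lc_f_rc_40_2 lc_f_rc_40_2 lc_f_rc_14_1 lc_f_rc_21_1 lc_f_rc_47_32 lc_f_rc_40_2 lc_f_rc_6_1 lc_f_rc_14_1 lc_f_rc_37_2 lc_f_rc_6_1 lc_f_rc_27_1 lc_f_rc_40_2 lc_f_rc_21_1 lc_f_rc_14_1 lc_f_rc_37_2) (@D3.rec (fun _ => (Cert rels S Gen.f)) lc_f_rc_32_3 lc_f_rc_27_1 lc_f_rc_21_1 lc_f_rc_14_1 lc_f_rc_14_1 lc_f_rc_14_1 lc_f_rc_21_1 lc_f_rc_27_1 lc_f_rc_40_2 lc_f_rc_14_1 lc_f_rc_40_2 lc_f_rc_37_2 lc_f_rc_14_1 lc_f_rc_40_2 lc_f_rc_6_1 lc_f_rc_38_0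 lc_f_rc_38_1 lc_f_rc_6_1) (@D3.rec (fun _ => (Cert rels S Gen.f)) lc_f_rc_6_1 lc_f_rc_6_1 lc_f_rc_6_3 lc_f_rc_40_2 lc_f_rc_37_2 lc_f_rc_14_3 lc_f_rc_40_2 lc_f_rc_21_1 lc_f_rc_6_1 lc_f_rc_37_2 lc_f_rc_40_2 lc_f_rc_37_2 lc_f_rc_27_1 lc_f_rc_40_2 lc_f_rc_21_1 lc_f_Cert_tree lc_f_rc_27_1 lc_f_rc_14_1) (@D3.rec (fun _ => (Cert rels S Gen.f)) lc_f_rc_38_0 lc_f_rc_40_2 lc_f_rc_14_1 lc_f_rc_40_2 lc_f_rc_40_2 lc_f_rc_14_1 lc_f_rc_14_1 lc_f_rc_14_1 lc_f_rc_21_1 lc_f_rc_37_2 lc_f_rc_37_2 lc_f_rc_6_1 lc_f_rc_14_1 lc_f_rc_21_1 lc_f_rc_6_1 lc_f_rc_6_1 lc_f_rc_37_2 lc_f_rc_40_2) (@D3.rec (fun _ => (Cert rels S Gen.f)) lc_f_rc_32_5 lc_f_rc_40_2 lc_f_rc_6_1 lc_f_rc_14_1 lc_f_rc_27_1 lc_f_rc_39_2 lc_f_rc_14_1 lc_f_rc_40_2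 lc_f_rc_21_1 lc_f_rc_6_1 lc_f_rc_37_2 lc_f_rc_21_1 lc_f_rc_21_1 lc_f_Cert_tree lc_f_rc_40_2 lc_f_Cert_tree lc_f_rc_27_1 lc_f_rc_14_1) (@D3.rec (fun _ => (Cert rels S Gen.f)) lc_f_Cert_tree lc_f_rc_21_1 lc_f_rc_38_0 lc_f_rc_40_2 lc_f_rc_37_2 lc_f_rc_38_0 lc_f_rc_40_2 lc_f_rc_14_3 lc_f_rc_40_2 lc_f_rc_39_2 lc_f_rc_14_1 lc_f_rc_6_1 lc_f_rc_14_1 lc_f_rc_14_1 lc_f_rc_21_1 lc_f_rc_27_1 lc_f_rc_21_1 lc_f_rc_14_1) (@D3.rec (fun _ => (Cert rels S Gen.f)) lc_f_rc_6_1 lc_f_rc_6_1 lc_f_rc_14_1 lc_f_rc_38_0 lc_f_rc_40_2 lc_f_rc_21_1 lc_f_Cert_tree lc_f_rc_14_1 lc_f_rc_38_0 lc_f_rc_40_2 lc_f_rc_37_2 lc_f_rc_40_2 lc_f_rc_37_2 lc_f_rc_40_2 lc_f_rc_38_0 lc_f_rc_40_2 lc_f_rc_47_32 lc_f_rc_40_2) (@D3.rec (fun _ => (Cert rels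 S Gen.f)) lc_f_rc_27_1 lc_f_rc_40_2 lc_f_Cert_tree lc_f_rc_40_2 lc_f_rc_6_1 lc_f_rc_6_1 lc_f_rc_6_1 lc_f_Cert_tree lc_f_rc_40_2 lc_f_rc_38_0 lc_f_rc_40_2 lc_f_rc_37_2 lc_f_rc_21_1 lc_f_rc_32_3 lc_f_rc_6_3 lc_f_rc_40_2 lc_f_rc_32_3 lc_f_rc_21_1) (@D3.rec (fun _ => (Cert rels S Gen.f)) lc_f_rc_32_3 lc_f_rc_37_2 lc_f_rc_27_1 lc_f_rc_21_1 lc_f_rc_27_3 lc_f_rc_40_2 lc_f_rc_37_2 lc_f_rc_21_1 lc_f_rc_27_1 lc_f_rc_37_2 lc_f_rc_27_1 lc_f_rc_14_1 lc_f_rc_6_1 lc_f_rc_27_1 lc_f_rc_40_2 lc_f_rc_14_1 lc_f_rc_40_2 lc_f_rc_14_1) (@D3.rec (fun _ => (Cert rels S Gen.f)) lc_f_rc_6_1 lc_f_rc_38_0 lc_f_rc_38_1 lc_f_rc_6_1 lc_f_rc_6_1 lc_f_rc_6_1 lc_f_Cert_tree lc_f_rc_40_2 lc_f_rc_38_0 lc_f_rc_40_2 lc_f_rc_37_2 lc_f_rc_37_2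 lc_f_rc_40_2 lc_f_rc_21_1 lc_f_rc_6_1 lc_f_rc_37_2 lc_f_rc_37_2 lc_f_rc_40_2) (@D3.rec (fun _ => (Cert rels S Gen.f)) lc_f_rc_37_2 lc_f_rc_27_1 lc_f_rc_40_2 lc_f_rc_21_1 lc_f_Cert_tree lc_f_rc_27_1 lc_f_rc_14_1 lc_f_rc_38_0 lc_f_rc_40_2 lc_f_rc_37_2 lc_f_rc_14_1 lc_f_rc_40_2 lc_f_rc_37_2 lc_f_rc_27_1 lc_f_rc_40_2 lc_f_rc_40_2 lc_f_rc_14_1 lc_f_rc_21_1) (@D3.rec (fun _ => (Cert rels S Gen.f)) lc_f_rc_37_2 lc_f_rc_14_1 lc_f_rc_40_2 lc_f_rc_47_32 lc_f_rc_40_2 lc_f_rc_37_2 lc_f_rc_6_1 lc_f_rc_14_1 lc_f_rc_21_1 lc_f_rc_47_32 lc_f_rc_40_2 lc_f_rc_21_3 lc_f_rc_38_0 lc_f_rc_40_2 lc_f_rc_21_3 lc_f_rc_6_1 lc_f_rc_40_2 lc_f_rc_6_1)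
def ce_f_10 : D2 → D3 → (Cert rels S Gen.f) := @D2.rec (fun _ => D3 → (Cert rels S Gen.f)) (@D3.rec (fun _ => (Cert rels S Gen.f)) lc_f_rc_6_1 lc_f_rc_6_3 lc_f_rc_40_2 lc_f_rc_37_2 lc_f_rc_37_2 lc_f_rc_40_2 lc_f_Cert_tree lc_f_rc_27_1 lc_f_rc_38_0 lc_f_rc_40_2 lc_f_rc_37_2 lc_f_rc_39_2 lc_f_rc_40_2 lc_f_rc_37_2 lc_f_rc_14_1 lc_f_rc_14_1 lc_f_rc_14_1 lc_f_rc_14_1) (@D3.rec (fun _ => (Cert rels S Gen.f)) lc_f_rc_14_1 lc_f_rc_27_1 lc_f_rc_40_2 lc_f_rc_21_1 lc_f_rc_21_1 lc_f_rc_21_1 lc_f_rc_6_3 lc_f_rc_6_1 lc_f_Cert_tree lc_f_rc_6_1 lc_f_rc_27_3 lc_f_rc_37_2 lc_f_rc_21_1 lc_f_Cert_tree lc_f_rc_40_2 lc_f_rc_27_1 lc_f_rc_40_2 lc_f_Cert_tree) (@D3.rec (fun _ => (Cert rels S Gen.f)) lc_f_rc_40_2 lc_f_rc_14_1 lc_f_Cert_tree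 lc_f_rc_21_1 lc_f_rc_38_0 lc_f_rc_40_2 lc_f_rc_37_2 lc_f_rc_38_0 lc_f_rc_40_2 lc_f_rc_37_2 lc_f_rc_39_2 lc_f_rc_40_2 lc_f_rc_37_2 lc_f_rc_39_2 lc_f_rc_37_2 lc_f_rc_14_3 lc_f_rc_14_1 lc_f_rc_14_1) (@D3.rec (fun _ => (Cert rels S Gen.f)) lc_f_rc_6_1 lc_f_rc_40_2 lc_f_rc_14_1 lc_f_rc_21_1 lc_f_rc_14_1 lc_f_rc_37_2 lc_f_rc_40_2 lc_f_rc_27_1 lc_f_rc_40_2 lc_f_rc_21_1 lc_f_rc_27_1 lc_f_rc_14_1 lc_f_rc_14_1 lc_f_rc_21_1 lc_f_rc_37_2 lc_f_rc_21_1 lc_f_rc_46_26 lc_f_rc_14_1) (@D3.rec (fun _ => (Cert rels S Gen.f)) lc_f_rc_37_2 lc_f_rc_14_1 lc_f_rc_14_1 lc_f_rc_6_1 lc_f_rc_6_1 lc_f_rc_37_2 lc_f_rc_27_1 lc_f_rc_40_2 lc_f_rc_21_1 lc_f_rc_14_1 lc_f_rc_6_1 lc_f_rc_6_3 lc_f_rc_40_2 lc_f_rc_14_1 lc_f_rc_40_2 lc_f_rc_21_1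 lc_f_rc_6_1 lc_f_rc_21_1) (@D3.rec (fun _ => (Cert rels S Gen.f)) lc_f_rc_40_2 lc_f_rc_27_1 lc_f_rc_40_2 lc_f_rc_14_1 lc_f_rc_40_2 lc_f_rc_14_1 lc_f_Cert_tree lc_f_rc_21_1 lc_f_rc_38_0 lc_f_rc_40_2 lc_f_rc_37_2 lc_f_rc_39_2 lc_f_rc_40_2 lc_f_rc_14_1 lc_f_rc_21_1 lc_f_rc_37_2 lc_f_rc_6_1 lc_f_rc_14_1) (@D3.rec (fun _ => (Cert rels S Gen.f)) lc_f_rc_21_1 lc_f_rc_6_1 lc_f_rc_14_1 lc_f_rc_6_1 lc_f_rc_40_2 lc_f_rc_40_2 lc_f_rc_21_1 lc_f_rc_40_2 lc_f_rc_14_1 lc_f_rc_37_2 lc_f_rc_32_3 lc_f_rc_21_1 lc_f_rc_6_1 lc_f_rc_39_2 lc_f_rc_27_1 lc_f_Cert_tree lc_f_rc_27_1 lc_f_rc_38_0) (@D3.rec (fun _ => (Cert rels S Gen.f)) lc_f_rc_40_2 lc_f_rc_40_2 lc_f_rc_38_0 lc_f_rc_40_2 lc_f_rc_37_2 lc_f_rc_6_1 lc_f_Cert_tree lc_f_rc_14_1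 lc_f_rc_38_0 lc_f_rc_40_2 lc_f_rc_21_1 lc_f_rc_40_2 lc_f_rc_37_2 lc_f_rc_40_2 lc_f_rc_37_2 lc_f_rc_27_3 lc_f_rc_40_2 lc_f_rc_21_1) (@D3.rec (fun _ => (Cert rels S Gen.f)) lc_f_rc_14_1 lc_f_rc_6_1 lc_f_rc_40_2 lc_f_rc_37_2 lc_f_rc_38_0 lc_f_rc_40_2 lc_f_rc_14_1 lc_f_rc_40_2 lc_f_rc_37_2 lc_f_rc_37_2 lc_f_rc_40_2 lc_f_rc_47_32 lc_f_rc_14_3 lc_f_rc_40_2 lc_f_rc_40_2 lc_f_rc_38_0 lc_f_rc_40_2 lc_f_rc_37_2) (@D3.rec (fun _ => (Cert rels S Gen.f)) lc_f_rc_6_1 lc_f_rc_38_0 lc_f_rc_40_2 lc_f_rc_37_2 lc_f_rc_21_1 lc_f_rc_40_2 lc_f_rc_37_2 lc_f_rc_14_1 lc_f_rc_21_1 lc_f_rc_32_3 lc_f_rc_14_1 lc_f_rc_40_2 lc_f_rc_14_1 lc_f_rc_6_1 lc_f_rc_32_3 lc_f_rc_21_1 lc_f_rc_37_2 lc_f_rc_40_2) (@D3.rec (fun _ => (Cert rels S Gen.f))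 lc_f_rc_21_1 lc_f_rc_6_1 lc_f_rc_27_1 lc_f_rc_27_3 lc_f_rc_37_2 lc_f_rc_21_1 lc_f_rc_37_2 lc_f_rc_27_3 lc_f_rc_14_1 lc_f_rc_14_1 lc_f_rc_6_1 lc_f_rc_6_1 lc_f_rc_40_2 lc_f_rc_32_3 lc_f_rc_37_2 lc_f_rc_39_2 lc_f_rc_6_1 lc_f_rc_6_1) (@D3.rec (fun _ => (Cert rels S Gen.f)) lc_f_rc_37_2 lc_f_rc_27_1 lc_f_rc_40_2 lc_f_rc_21_1 lc_f_Cert_tree lc_f_rc_6_1 lc_f_rc_38_0 lc_f_rc_40_2 lc_f_rc_37_2 lc_f_rc_40_2 lc_f_rc_37_2 lc_f_rc_40_2 lc_f_rc_21_1 lc_f_rc_6_1 lc_f_rc_32_5 lc_f_rc_39_4 lc_f_rc_21_1 lc_f_Cert_tree) (@D3.rec (fun _ => (Cert rels S Gen.f)) lc_f_rc_40_2 lc_f_rc_27_1 lc_f_rc_40_2 lc_f_rc_40_2 lc_f_rc_14_1 lc_f_rc_21_1 lc_f_rc_38_0 lc_f_rc_40_2 lc_f_rc_37_2 lc_f_rc_37_2 lc_f_rc_14_3 lc_f_rc_40_2 lc_f_rc_37_2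 lc_f_rc_14_1 lc_f_rc_37_2 lc_f_rc_40_2 lc_f_rc_37_2 lc_f_rc_6_1) (@D3.rec (fun _ => (Cert rels S Gen.f)) lc_f_rc_14_1 lc_f_rc_21_1 lc_f_rc_40_2 lc_f_rc_37_2 lc_f_rc_14_1 lc_f_rc_21_1 lc_f_rc_6_1 lc_f_rc_14_1 lc_f_rc_40_2 lc_f_rc_21_3 lc_f_rc_40_2 lc_f_rc_37_2 lc_f_rc_14_1 lc_f_rc_6_1 lc_f_rc_32_3 lc_f_rc_6_1 lc_f_rc_6_3 lc_f_rc_37_2) (@D3.rec (fun _ => (Cert rels S Gen.f)) lc_f_rc_6_3 lc_f_rc_40_2 lc_f_rc_38_0 lc_f_rc_40_2 lc_f_rc_37_2 lc_f_rc_40_2 lc_f_rc_37_2 lc_f_rc_39_2 lc_f_rc_37_2 lc_f_rc_37_2 lc_f_rc_40_2 lc_f_rc_27_1 lc_f_rc_40_2 lc_f_rc_21_1 lc_f_rc_14_1 lc_f_rc_6_3 lc_f_rc_40_2 lc_f_Cert_tree)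
def ce_f_11 : D2 → D3 → (Cert rels S Gen.f) := @D2.rec (fun _ => D3 → (Cert rels S Gen.f)) (@D3.rec (fun _ => (Cert rels S Gen.f)) lc_f_rc_27_1 lc_f_rc_21_1 lc_f_rc_21_1 lc_f_rc_6_3 lc_f_rc_6_1 lc_f_rc_38_0 lc_f_rc_40_2 lc_f_rc_37_2 lc_f_rc_32_3 lc_f_rc_38_0 lc_f_rc_40_2 lc_f_rc_40_2 lc_f_rc_14_3 lc_f_rc_40_2 lc_f_rc_38_0 lc_f_rc_40_2 lc_f_rc_37_2 lc_f_rc_6_1) (@D3.rec (fun _ => (Cert rels S Gen.f)) lc_f_Cert_tree lc_f_rc_14_1 lc_f_rc_38_0 lc_f_rc_40_2 lc_f_rc_21_1 lc_f_rc_39_2 lc_f_rc_40_2 lc_f_rc_37_2 lc_f_rc_39_2 lc_f_rc_40_2 lc_f_rc_37_2 lc_f_rc_40_2 lc_f_rc_37_2 lc_f_rc_27_1 lc_f_rc_37_2 lc_f_rc_37_0 lc_f_rc_14_1 lc_f_rc_14_1) (@D3.rec (fun _ => (Cert rels S Gen.f)) lc_f_rc_21_1 lc_f_rc_40_2 lc_f_rc_40_2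 lc_f_rc_14_1 lc_f_rc_21_1 lc_f_rc_37_2 lc_f_rc_37_2 lc_f_rc_21_1 lc_f_rc_21_1 lc_f_rc_40_2 lc_f_rc_37_2 lc_f_rc_14_1 lc_f_rc_21_1 lc_f_rc_6_1 lc_f_rc_27_1 lc_f_rc_40_2 lc_f_rc_14_1 lc_f_rc_40_2) (@D3.rec (fun _ => (Cert rels S Gen.f)) lc_f_rc_6_3 lc_f_rc_21_1 lc_f_rc_14_1 lc_f_rc_6_1 lc_f_rc_27_3 lc_f_rc_6_1 lc_f_rc_21_1 lc_f_rc_14_1 lc_f_rc_21_1 lc_f_rc_40_2 lc_f_rc_6_1 lc_f_rc_40_2 lc_f_rc_21_1 lc_f_rc_37_2 lc_f_rc_6_1 lc_f_rc_37_0 lc_f_rc_14_1 lc_f_rc_38_0) (@D3.rec (fun _ => (Cert rels S Gen.f)) lc_f_rc_40_2 lc_f_rc_21_1 lc_f_rc_39_2 lc_f_rc_40_2 lc_f_rc_37_2 lc_f_rc_40_2 lc_f_rc_37_2 lc_f_rc_6_1 lc_f_rc_14_1 lc_f_rc_27_1 lc_f_rc_6_1 lc_f_rc_6_1 lc_f_rc_40_2 lc_f_rc_40_2 lc_f_rc_21_1 lc_f_rc_37_2 lc_f_rc_14_1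 lc_f_rc_39_2) (@D3.rec (fun _ => (Cert rels S Gen.f)) lc_f_rc_21_1 lc_f_rc_14_1 lc_f_rc_21_1 lc_f_rc_40_2 lc_f_rc_38_0 lc_f_rc_40_2 lc_f_rc_37_2 lc_f_rc_40_2 lc_f_rc_37_2 lc_f_rc_40_2 lc_f_rc_37_2 lc_f_rc_6_1 lc_f_rc_38_0 lc_f_rc_40_2 lc_f_rc_14_1 lc_f_rc_40_2 lc_f_rc_37_2 lc_f_rc_37_2) (@D3.rec (fun _ => (Cert rels S Gen.f)) lc_f_rc_37_0 lc_f_rc_14_1 lc_f_rc_37_2 lc_f_rc_40_2 lc_f_rc_37_2 lc_f_rc_37_2 lc_f_rc_27_1 lc_f_rc_40_2 lc_f_rc_40_2 lc_f_rc_14_3 lc_f_rc_37_2 lc_f_rc_40_2 lc_f_rc_37_2 lc_f_rc_6_1 lc_f_rc_40_2 lc_f_rc_37_2 lc_f_rc_21_1 lc_f_rc_37_2) (@D3.rec (fun _ => (Cert rels S Gen.f)) lc_f_rc_27_1 lc_f_rc_14_1 lc_f_rc_21_1 lc_f_rc_32_1 lc_f_rc_14_3 lc_f_rc_6_1 lc_f_rc_32_3 lc_f_rc_27_1 lc_f_rc_14_3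 lc_f_rc_6_1 lc_f_rc_40_2 lc_f_rc_21_1 lc_f_rc_21_1 lc_f_rc_6_1 lc_f_rc_37_2 lc_f_rc_32_3 lc_f_rc_21_1 lc_f_rc_14_3) (@D3.rec (fun _ => (Cert rels S Gen.f)) lc_f_rc_37_2 lc_f_rc_6_1 lc_f_rc_32_1 lc_f_rc_14_1 lc_f_rc_6_1 lc_f_rc_37_2 lc_f_rc_37_2 lc_f_rc_39_2 lc_f_rc_40_2 lc_f_rc_21_1 lc_f_rc_6_3 lc_f_rc_6_1 lc_f_rc_27_1 lc_f_rc_40_2 lc_f_rc_40_2 lc_f_rc_21_1 lc_f_rc_38_0 lc_f_rc_40_2) (@D3.rec (fun _ => (Cert rels S Gen.f)) lc_f_rc_6_1 lc_f_rc_40_2 lc_f_rc_37_2 lc_f_rc_37_2 lc_f_rc_21_1 lc_f_rc_39_4 lc_f_rc_14_1 lc_f_rc_21_1 lc_f_rc_38_0 lc_f_rc_40_2 lc_f_rc_40_2 lc_f_rc_6_1 lc_f_rc_40_2 lc_f_rc_37_2 lc_f_rc_6_1 lc_f_rc_14_1 lc_f_rc_21_1 lc_f_rc_14_3) (@D3.rec (fun _ => (Cert rels S Gen.f)) lc_f_rc_40_2 lc_f_rc_37_2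 lc_f_rc_27_3 lc_f_rc_37_2 lc_f_rc_27_1 lc_f_rc_37_2 lc_f_rc_37_2 lc_f_rc_6_1 lc_f_rc_14_1 lc_f_rc_27_1 lc_f_rc_47_46 lc_f_rc_37_2 lc_f_rc_6_1 lc_f_rc_14_1 lc_f_rc_37_2 lc_f_rc_27_1 lc_f_rc_14_1 lc_f_rc_32_3) (@D3.rec (fun _ => (Cert rels S Gen.f)) lc_f_rc_6_1 lc_f_rc_6_3 lc_f_rc_40_2 lc_f_rc_40_2 lc_f_rc_40_2 lc_f_rc_37_2 lc_f_rc_37_2 lc_f_rc_27_1 lc_f_rc_37_2 lc_f_rc_40_2 lc_f_rc_40_2 lc_f_rc_21_1 lc_f_rc_14_1 lc_f_rc_40_2 lc_f_rc_40_2 lc_f_rc_38_0 lc_f_rc_40_2 lc_f_rc_37_2) (@D3.rec (fun _ => (Cert rels S Gen.f)) lc_f_rc_21_1 lc_f_rc_21_1 lc_f_rc_6_3 lc_f_rc_40_2 lc_f_rc_37_2 lc_f_rc_37_0 lc_f_rc_37_2 lc_f_rc_40_2 lc_f_rc_37_2 lc_f_rc_21_1 lc_f_rc_37_2 lc_f_rc_39_2 lc_f_rc_40_2 lc_f_rc_37_2 lc_f_rc_6_1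 lc_f_rc_38_0 lc_f_rc_40_2 lc_f_rc_14_1) (@D3.rec (fun _ => (Cert rels S Gen.f)) lc_f_rc_27_1 lc_f_rc_40_2 lc_f_rc_37_2 lc_f_rc_40_2 lc_f_rc_37_2 lc_f_rc_27_1 lc_f_rc_40_2 lc_f_rc_37_2 lc_f_rc_27_1 lc_f_rc_37_2 lc_f_rc_27_1 lc_f_rc_21_1 lc_f_rc_14_1 lc_f_rc_27_1 lc_f_rc_40_2 lc_f_rc_40_2 lc_f_rc_21_1 lc_f_rc_21_1) (@D3.rec (fun _ => (Cert rels S Gen.f)) lc_f_rc_37_2 lc_f_rc_27_1 lc_f_rc_46_54 lc_f_rc_14_1 lc_f_rc_21_1 lc_f_rc_6_1 lc_f_rc_40_2 lc_f_rc_21_1 lc_f_rc_37_2 lc_f_rc_6_3 lc_f_rc_21_1 lc_f_rc_14_1 lc_f_rc_37_2 lc_f_rc_27_1 lc_f_rc_14_1 lc_f_rc_21_1 lc_f_rc_6_1 lc_f_rc_37_2)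
def ce_f_12 : D2 → D3 → (Cert rels S Gen.f) := @D2.rec (fun _ => D3 → (Cert rels S Gen.f)) (@D3.rec (fun _ => (Cert rels S Gen.f)) lc_f_rc_21_1 lc_f_rc_6_1 lc_f_rc_40_2 lc_f_rc_14_1 lc_f_rc_40_2 lc_f_rc_37_2 lc_f_rc_27_1 lc_f_rc_40_2 lc_f_rc_37_2 lc_f_rc_37_0 lc_f_rc_6_1 lc_f_rc_14_1 lc_f_rc_14_1 lc_f_rc_21_1 lc_f_rc_39_2 lc_f_rc_40_2 lc_f_rc_40_2 lc_f_rc_40_2) (@D3.rec (fun _ => (Cert rels S Gen.f)) lc_f_rc_40_2 lc_f_rc_37_2 lc_f_rc_37_2 lc_f_rc_37_2 lc_f_rc_6_1 lc_f_rc_40_2 lc_f_rc_37_2 lc_f_rc_37_2 lc_f_rc_27_1 lc_f_rc_37_2 lc_f_rc_27_1 lc_f_rc_27_1 lc_f_rc_14_3 lc_f_rc_6_1 lc_f_rc_37_2 lc_f_rc_27_1 lc_f_rc_37_2 lc_f_rc_37_2) (@D3.rec (fun _ => (Cert rels S Gen.f)) lc_f_rc_27_1 lc_f_rc_21_1 lc_f_rc_14_1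 lc_f_rc_37_2 lc_f_rc_27_1 lc_f_rc_6_1 lc_f_rc_14_1 lc_f_rc_14_1 lc_f_rc_21_1 lc_f_rc_40_2 lc_f_rc_40_2 lc_f_rc_21_1 lc_f_rc_21_1 lc_f_rc_6_1 lc_f_rc_37_0 lc_f_rc_27_1 lc_f_rc_40_2 lc_f_rc_40_2) (@D3.rec (fun _ => (Cert rels S Gen.f)) lc_f_rc_32_1 lc_f_rc_14_1 lc_f_rc_6_1 lc_f_rc_40_2 lc_f_rc_21_1 lc_f_rc_6_3 lc_f_rc_6_1 lc_f_rc_40_2 lc_f_rc_37_2 lc_f_rc_21_1 lc_f_rc_40_2 lc_f_rc_37_2 lc_f_rc_37_2 lc_f_rc_27_1 lc_f_rc_27_1 lc_f_rc_39_4 lc_f_rc_14_1 lc_f_rc_21_1) (@D3.rec (fun _ => (Cert rels S Gen.f)) lc_f_rc_40_2 lc_f_rc_37_2 lc_f_rc_6_1 lc_f_rc_37_2 lc_f_rc_6_1 lc_f_rc_14_1 lc_f_rc_27_1 lc_f_rc_21_1 lc_f_rc_37_2 lc_f_rc_27_1 lc_f_rc_37_2 lc_f_rc_27_1 lc_f_rc_21_1 lc_f_rc_6_1 lc_f_rc_14_1 lc_f_Cert_tree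 lc_f_rc_27_1 lc_f_rc_14_1) (@D3.rec (fun _ => (Cert rels S Gen.f)) lc_f_rc_32_3 lc_f_rc_6_3 lc_f_rc_40_2 lc_f_rc_37_2 lc_f_rc_27_1 lc_f_rc_27_1 lc_f_rc_27_1 lc_f_rc_40_2 lc_f_rc_40_2 lc_f_rc_21_1 lc_f_rc_40_2 lc_f_rc_40_2 lc_f_rc_37_2 lc_f_rc_21_1 lc_f_rc_27_1 lc_f_rc_37_2 lc_f_rc_14_1 lc_f_rc_21_1) (@D3.rec (fun _ => (Cert rels S Gen.f)) lc_f_rc_40_2 lc_f_rc_37_2 lc_f_rc_27_1 lc_f_rc_21_1 lc_f_rc_40_2 lc_f_rc_37_2 lc_f_rc_27_1 lc_f_rc_6_1 lc_f_rc_40_2 lc_f_rc_37_2 lc_f_rc_40_2 lc_f_rc_37_2 lc_f_rc_27_1 lc_f_rc_37_2 lc_f_rc_27_1 lc_f_rc_21_1 lc_f_rc_37_2 lc_f_rc_27_1) (@D3.rec (fun _ => (Cert rels S Gen.f)) lc_f_rc_21_1 lc_f_rc_21_1 lc_f_rc_14_1 lc_f_rc_14_1 lc_f_rc_21_1 lc_f_rc_27_1 lc_f_rc_37_0 lc_f_rc_21_1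 lc_f_rc_37_2 lc_f_rc_21_1 lc_f_rc_6_3 lc_f_rc_27_1 lc_f_rc_14_1 lc_f_rc_27_1 lc_f_rc_6_1 lc_f_rc_27_1 lc_f_rc_6_1 lc_f_rc_40_0) (@D3.rec (fun _ => (Cert rels S Gen.f)) lc_f_rc_14_1 lc_f_rc_37_2 lc_f_rc_27_1 lc_f_rc_14_1 lc_f_rc_37_2 lc_f_rc_27_1 lc_f_rc_40_2 lc_f_rc_21_1 lc_f_rc_37_2 lc_f_rc_27_1 lc_f_rc_37_2 lc_f_rc_27_1 lc_f_rc_27_1 lc_f_rc_27_1 lc_f_rc_32_3 lc_f_rc_27_1 lc_f_rc_14_3 lc_f_rc_27_1) (@D3.rec (fun _ => (Cert rels S Gen.f)) lc_f_rc_39_2 lc_f_rc_21_1 lc_f_rc_32_3 lc_f_rc_21_1 lc_f_rc_40_2 lc_f_rc_21_1 lc_f_rc_27_1 lc_f_rc_27_1 lc_f_rc_21_1 lc_f_rc_14_1 lc_f_rc_40_2 lc_f_rc_40_0 lc_f_rc_32_1 lc_f_rc_6_1 lc_f_rc_37_2 lc_f_rc_21_1 lc_f_rc_6_3 lc_f_rc_37_2) (@D3.rec (fun _ => (Cert rels S Gen.f))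 lc_f_rc_27_1 lc_f_rc_37_2 lc_f_rc_27_1 lc_f_rc_27_1 lc_f_rc_14_1 lc_f_rc_27_1 lc_f_rc_37_2 lc_f_rc_27_1 lc_f_rc_6_1 lc_f_rc_6_1 lc_f_rc_14_1 lc_f_Cert_tree lc_f_rc_21_1 lc_f_rc_27_1 lc_f_rc_6_1 lc_f_rc_27_1 lc_f_rc_21_1 lc_f_rc_14_1) (@D3.rec (fun _ => (Cert rels S Gen.f)) lc_f_rc_38_0 lc_f_rc_6_3 lc_f_rc_6_3 lc_f_rc_27_1 lc_f_rc_21_1 lc_f_rc_27_1 lc_f_rc_40_2 lc_f_rc_37_2 lc_f_rc_14_1 lc_f_rc_27_1 lc_f_rc_21_1 lc_f_rc_40_2 lc_f_rc_27_1 lc_f_rc_21_1 lc_f_rc_27_1 lc_f_rc_37_2 lc_f_rc_27_1 lc_f_rc_21_1) (@D3.rec (fun _ => (Cert rels S Gen.f)) lc_f_rc_37_2 lc_f_rc_14_3 lc_f_rc_21_1 lc_f_rc_27_1 lc_f_rc_14_1 lc_f_rc_21_1 lc_f_rc_14_1 lc_f_rc_21_1 lc_f_rc_32_3 lc_f_rc_27_1 lc_f_rc_27_1 lc_f_rc_27_1 lc_f_rc_14_1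 lc_f_rc_27_1 lc_f_rc_14_3 lc_f_rc_27_1 lc_f_rc_27_1 lc_f_rc_27_1) (@D3.rec (fun _ => (Cert rels S Gen.f)) lc_f_rc_27_1 lc_f_rc_32_3 lc_f_rc_27_1 lc_f_rc_40_2 lc_f_rc_27_1 lc_f_Cert_tree lc_f_rc_21_1 lc_f_rc_14_1 lc_f_rc_6_1 lc_f_rc_6_1 lc_f_rc_27_1 lc_f_rc_27_1 lc_f_rc_27_1 lc_f_rc_14_1 lc_f_rc_14_1 lc_f_rc_27_1 lc_f_rc_14_1 lc_f_rc_27_1) (@D3.rec (fun _ => (Cert rels S Gen.f)) lc_f_rc_6_1 lc_f_rc_21_1 lc_f_rc_38_0 lc_f_rc_21_1 lc_f_rc_21_1 lc_f_rc_21_1 lc_f_rc_21_1 lc_f_rc_14_1 lc_f_rc_21_1 lc_f_rc_32_3 lc_f_rc_27_1 lc_f_rc_32_3 lc_f_rc_14_1 lc_f_rc_32_3 lc_f_rc_21_1 lc_f_rc_21_1 lc_f_rc_14_1 lc_f_rc_38_0)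
def ce_f : Pt → (Cert rels S Gen.f) := @Pt.rec (fun _ => (Cert rels S Gen.f)) (@D1.rec (fun _ => D2 → D3 → (Cert rels S Gen.f)) ce_f_0 ce_f_1 ce_f_2 ce_f_3 ce_f_4 ce_f_5 ce_f_6 ce_f_7 ce_f_8 ce_f_9 ce_f_10 ce_f_11 ce_f_12)

end

end Cfsg.Agent.Helper28.S1687
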