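import Cfsg.Agent.Lib.Helper28.S1687.Tree

set_option autoImplicit false
set_option maxRecDepth 100000

namespace Cfsg.Agent.Helper28.S1687

open Cfsg.Agent.Helper28
open Cfsg.Spor.Fi22 (Gen)

noncomputable section

def lv_g_0 : D2 → D3 → Nat := @D2.rec (fun _ => D3 → Nat) (@D3.rec (fun _ => Nat) 1 2 3 3 4 4 5 5 5 5 6 6 6 0 6 6 7 7) (@D3.rec (fun _ => Nat) 7 0 7 7 1 3 7 7 8 8 0 8 8 1 3 8 8 2) (@D3.rec (fun _ => Nat) 3 3 8 8 9 0 9 9 9 1 3 9 9 2 3 3 9 9) (@D3.rec (fun _ => Nat) 4 4 5 5 5 9 9 9 0 1 3 10 10 2 3 3 10 4) (@D3.rec (fun _ => Nat) 4 5 5 5 10 10 4 4 4 5 5 5 5 5 10 10 0 1) (@D3.rec (fun _ => Nat) 2 3 11 4 4 5 5 11 4 4 4 5 5 5 5 11 6 6) (@D3.rec (fun _ => Nat) 6 7 6 6 7 7 7 7 7 7 11 11 1 4 4 4 5 5) (@D3.rec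 (fun _ => Nat) 6 6 8 6 6 7 7 7 7 12 6 6 6 8 6 6 8 6) (@D3.rec (fun _ => Nat) 7 7 7 7 7 7 7 7 12 12 7 9 6 6 7 6 9 6) (@D3.rec (fun _ => Nat) 6 9 6 7 7 7 7 7 13 8 9 8 8 9 8 8 9 8) (@D3.rec (fun _ => Nat) 8 9 8 9 9 9 9 9 9 9 9 9 9 13 13 0 10 6) (@D3.rec (fun _ => Nat) 7 10 8 8 10 8 8 10 8 9 9 9 9 9 0 8 10 8) (@D3.rec (fun _ => Nat) 8 10 8 8 10 10 10 8 8 10 8 8 10 8 9 9 9 9) (@D3.rec (fun _ => Nat) 9 9 9 9 9 9 9 0 9 14 0 1 11 8 9 11 11 11) (@D3.rec (fun _ => Nat) 8 8 11 8 8 11 8 9 9 9 9 0 9 1 11 10 10 11)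
def lv_g_1 : D2 → D3 → Nat := @D2.rec (fun _ => D3 → Nat) (@D3.rec (fun _ => Nat) 11 11 10 10 11 10 10 10 11 11 11 11 10 10 11 10 10 0) (@D3.rec (fun _ => Nat) 11 11 10 11 11 11 11 11 11 11 11 0 11 11 11 11 11 0) (@D3.rec (fun _ => Nat) 1 11 15 0 1 12 8 9 12 12 12 12 10 10 12 10 10 0) (@D3.rec (fun _ => Nat) 12 12 10 11 11 11 11 11 0 1 11 12 12 12 10 10 10 12) (@D3.rec (fun _ => Nat) 12 12 12 10 10 12 10 10 10 0 12 12 12 12 12 10 10 10) (@D3.rec (fun _ => Nat) 12 12 10 10 0 1 12 12 10 11 11 11 11 11 11 11 11 11) (@D3.rec (fun _ => Nat) 0 11 0 1 11 11 11 11 0 11 11 0 1 0 16 1 13 13) (@D3.rec (fun _ => Nat) 10 11 13 13 13 13 13 10 10 10 13 13 10 10 0 1 13 13) (@D3.rec (fun _ => Nat) 10 11 11 11 11 0 11 11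 0 1 13 13 13 13 13 13 12 12) (@D3.rec (fun _ => Nat) 12 12 13 13 13 13 13 12 12 12 13 13 12 12 0 12 0 1) (@D3.rec (fun _ => Nat) 13 13 13 13 13 13 13 12 12 12 12 0 13 13 0 12 12 0) (@D3.rec (fun _ => Nat) 1 13 13 13 14 13 13 13 13 13 13 13 13 13 0 13 13 13) (@D3.rec (fun _ => Nat) 0 1 0 13 1 13 13 0 13 13 13 0 1 13 0 1 1 14) (@D3.rec (fun _ => Nat) 14 10 14 14 14 14 14 14 14 12 12 12 12 0 14 14 0 12) (@D3.rec (fun _ => Nat) 12 0 1 14 14 14 13 13 0 13 13 13 0 1 13 0 1 14)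
def lv_g_2 : D2 → D3 → Nat := @D2.rec (fun _ => D3 → Nat) (@D3.rec (fun _ => Nat) 14 14 14 14 14 12 12 12 12 12 14 14 14 14 14 14 12 12) (@D3.rec (fun _ => Nat) 12 12 0 14 14 0 12 12 12 0 1 0 12 1 14 14 14 14) (@D3.rec (fun _ => Nat) 14 14 14 14 14 0 12 12 0 12 12 12 0 1 14 14 14 0) (@D3.rec (fun _ => Nat) 1 12 0 1 14 14 14 13 13 13 13 13 26 13 13 0 13 13) (@D3.rec (fun _ => Nat) 13 0 1 13 13 0 0 13 1 1 13 13 13 0 1 13 13 0) (@D3.rec (fun _ => Nat) 0 1 0 1 15 15 15 15 15 15 15 15 15 15 15 15 15 0) (@D3.rec (fun _ => Nat) 12 12 0 12 12 12 0 1 15 15 15 0 1 12 0 1 15 15) (@D3.rec (fun _ => Nat) 15 13 13 13 22 1 13 1 0 1 15 15 15 15 15 15 15 14) (@D3.rec (fun _ => Nat) 14 14 14 14 0 15 15 15 15 15 15 15 15 0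 14 14 0 14) (@D3.rec (fun _ => Nat) 14 14 0 1 15 15 15 0 1 14 14 0 0 14 1 0 1 25) (@D3.rec (fun _ => Nat) 25 15 15 15 15 15 15 0 15 15 0 15 15 15 0 1 14 14) (@D3.rec (fun _ => Nat) 14 0 1 14 14 0 0 1 15 15 0 0 17 1 0 1 15 15) (@D3.rec (fun _ => Nat) 15 15 15 15 15 15 15 15 26 15 15 15 0 1 15 15 0 0) (@D3.rec (fun _ => Nat) 15 1 15 0 0 15 1 1 15 15 21 1 15 1 1 1 16 16) (@D3.rec (fun _ => Nat) 16 16 16 16 16 16 0 16 16 0 16 16 16 0 1 14 14 14)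
def lv_g_3 : D2 → D3 → Nat := @D2.rec (fun _ => D3 → Nat) (@D3.rec (fun _ => Nat) 0 1 14 21 18 21 1 16 16 0 0 18 1 0 1 16 1 16) (@D3.rec (fun _ => Nat) 16 16 16 16 16 16 16 16 0 14 14 14 24 14 14 14 0 1) (@D3.rec (fun _ => Nat) 16 16 16 16 16 0 16 16 0 16 16 16 0 1 14 14 14 0) (@D3.rec (fun _ => Nat) 1 14 14 0 0 14 1 16 16 0 0 18 1 14 0 0 14 1) (@D3.rec (fun _ => Nat) 0 1 25 22 1 25 16 16 16 0 16 16 16 0 1 16 16 16) (@D3.rec (fun _ => Nat) 0 1 16 16 0 0 16 1 14 14 0 21 1 22 20 14 22 1) (@D3.rec (fun _ => Nat) 0 1 16 0 16 0 18 1 1 3 18 1 16 16 15 15 15 15) (@D3.rec (fun _ => Nat) 15 15 21 27 15 15 15 22 0 15 1 15 20 15 0 15 1 1) (@D3.rec (fun _ => Nat) 0 15 1 1 17 17 0 17 17 0 1 17 17 17 0 1 17 17) (@D3.rec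 (fun _ => Nat) 0 0 17 1 20 17 1 22 21 17 0 0 1 1 3 1 17 17) (@D3.rec (fun _ => Nat) 17 17 17 17 0 17 17 17 17 28 17 17 17 0 1 16 16 16) (@D3.rec (fun _ => Nat) 16 21 16 16 0 0 16 1 17 17 17 17 0 17 17 17 0 1) (@D3.rec (fun _ => Nat) 17 17 17 0 1 17 17 0 0 17 1 16 16 0 0 16 1 16) (@D3.rec (fun _ => Nat) 0 16 0 16 1 0 1 22 26 17 0 17 0 19 1 0 1 3) (@D3.rec (fun _ => Nat) 19 0 16 1 0 1 20 22 1 22 27 0 17 17 0 1 17 17)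
def lv_g_4 : D2 → D3 → Nat := @D2.rec (fun _ => D3 → Nat) (@D3.rec (fun _ => Nat) 0 0 17 1 17 17 0 0 17 1 17 0 17 0 17 1 0 1) (@D3.rec (fun _ => Nat) 3 17 22 21 21 1 23 23 23 23 1 17 0 1 0 19 1 3) (@D3.rec (fun _ => Nat) 2 3 17 17 17 17 17 23 17 28 17 26 25 17 17 24 17 1) (@D3.rec (fun _ => Nat) 17 17 1 1 0 18 0 1 18 0 0 18 1 18 18 22 0 18) (@D3.rec (fun _ => Nat) 1 18 22 25 1 25 1 3 0 1 1 2 18 18 0 18 18 28) (@D3.rec (fun _ => Nat) 18 18 18 0 1 18 18 18 18 18 26 18 18 0 0 18 1 16) (@D3.rec (fun _ => Nat) 16 16 21 26 16 0 16 0 16 1 0 1 3 27 18 0 18 18) (@D3.rec (fun _ => Nat) 0 1 18 18 0 0 18 1 18 18 0 0 18 1 18 0 18 0) (@D3.rec (fun _ => Nat) 18 1 0 1 3 18 16 23 16 0 16 1 0 1 26 26 23 22) (@D3.rec (fun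 _ => Nat) 16 1 22 16 0 1 22 27 1 27 18 0 20 1 0 20 0 1) (@D3.rec (fun _ => Nat) 3 20 1 3 2 3 0 1 22 20 1 22 36 27 1 18 0 0) (@D3.rec (fun _ => Nat) 1 18 0 18 0 18 1 0 1 3 18 18 23 18 0 18 1 26) (@D3.rec (fun _ => Nat) 1 29 18 18 27 1 0 18 26 1 3 1 29 2 28 24 0 1) (@D3.rec (fun _ => Nat) 1 3 20 2 4 18 17 17 17 26 17 27 1 0 1 19 0 19) (@D3.rec (fun _ => Nat) 1 25 1 24 19 26 24 1 27 25 25 2 1 19 19 19 0 1)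
def lv_g_5 : D2 → D3 → Nat := @D2.rec (fun _ => D3 → Nat) (@D3.rec (fun _ => Nat) 19 19 26 19 19 0 0 19 1 19 19 19 19 19 21 36 19 19) (@D3.rec (fun _ => Nat) 0 19 0 19 1 0 1 3 19 18 19 18 21 23 18 0 18 1) (@D3.rec (fun _ => Nat) 27 25 0 1 25 26 1 3 2 27 19 0 1 19 0 0 19 1) (@D3.rec (fun _ => Nat) 19 0 19 0 19 1 0 1 3 19 19 24 19 0 19 1 0 1) (@D3.rec (fun _ => Nat) 3 19 19 0 19 1 0 19 0 1 3 19 1 3 2 3 24 23) (@D3.rec (fun _ => Nat) 0 1 27 1 31 24 20 25 22 1 22 31 0 21 0 1 3 21) (@D3.rec (fun _ => Nat) 0 1 3 21 21 1 3 2 3 2 29 3 4 1 20 35 27 25) (@D3.rec (fun _ => Nat) 19 0 1 28 1 19 0 19 1 0 19 24 1 24 19 1 26 2) (@D3.rec (fun _ => Nat) 29 19 28 0 19 26 1 29 27 29 1 3 19 30 2 24 1 2) (@D3.rec (fun _ => Nat)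 3 21 26 28 1 24 23 1 20 20 20 0 0 20 1 20 26 28) (@D3.rec (fun _ => Nat) 20 20 0 20 0 20 1 0 1 3 20 20 20 20 20 23 20 35) (@D3.rec (fun _ => Nat) 20 30 30 20 20 0 20 1 0 20 0 1 3 20 1 3 2 3) (@D3.rec (fun _ => Nat) 23 23 23 24 0 1 26 27 1 25 28 32 2 3 0 20 1 20) (@D3.rec (fun _ => Nat) 0 20 1 0 1 3 20 20 0 20 1 0 20 0 1 3 20 1) (@D3.rec (fun _ => Nat) 3 2 3 20 27 20 0 20 0 1 3 20 1 3 2 3 20 0)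
def lv_g_6 : D2 → D3 → Nat := @D2.rec (fun _ => D3 → Nat) (@D3.rec (fun _ => Nat) 20 0 1 3 20 0 1 3 20 20 1 3 2 3 8 2 29 3) (@D3.rec (fun _ => Nat) 4 23 23 1 31 24 28 24 29 33 0 1 3 22 1 3 2 3) (@D3.rec (fun _ => Nat) 1 3 2 3 3 22 22 2 35 3 4 4 29 31 36 29 27 27) (@D3.rec (fun _ => Nat) 0 30 1 20 0 20 25 1 25 31 1 26 20 30 30 28 1 29) (@D3.rec (fun _ => Nat) 31 27 2 3 20 28 4 5 28 21 0 21 0 21 1 0 1 3) (@D3.rec (fun _ => Nat) 21 21 26 21 28 28 21 21 0 21 1 0 21 0 1 3 21 1) (@D3.rec (fun _ => Nat) 3 2 3 21 21 21 21 21 36 21 31 21 30 36 21 30 30 21) (@D3.rec (fun _ => Nat) 0 21 0 1 3 21 0 1 3 21 21 1 3 2 3 8 2 3) (@D3.rec (fun _ => Nat) 3 4 21 23 26 1 28 30 30 29 4 5 0 1 3 21 0 21) (@D3.rec (fun _ => Nat)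 0 1 3 21 1 3 2 3 21 0 21 0 1 3 21 0 1 3) (@D3.rec (fun _ => Nat) 21 21 1 3 2 3 9 2 3 3 4 21 30 21 25 25 21 0) (@D3.rec (fun _ => Nat) 1 3 21 21 1 3 2 3 2 28 3 4 0 31 1 3 21 1) (@D3.rec (fun _ => Nat) 3 2 3 31 1 3 2 3 3 21 21 9 2 29 3 4 4 31) (@D3.rec (fun _ => Nat) 31 31 26 32 32 27 1 3 2 3 2 37 3 4 2 3 3 4) (@D3.rec (fun _ => Nat) 4 5 5 0 23 4 35 38 27 29 37 30 27 28 1 28 25 1)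
def lv_g_7 : D2 → D3 → Nat := @D2.rec (fun _ => D3 → Nat) (@D3.rec (fun _ => Nat) 30 31 26 21 31 29 4 5 31 26 4 28 22 0 22 1 33 22) (@D3.rec (fun _ => Nat) 34 1 3 22 1 3 2 3 30 22 28 28 22 32 30 22 0 22) (@D3.rec (fun _ => Nat) 0 1 3 22 0 1 3 22 22 1 3 2 3 9 2 3 3 4) (@D3.rec (fun _ => Nat) 22 22 22 22 22 30 22 30 37 22 27 34 22 22 28 37 30 0) (@D3.rec (fun _ => Nat) 22 0 1 3 22 22 1 3 2 3 0 1 3 2 3 3 22 22) (@D3.rec (fun _ => Nat) 9 2 3 3 4 29 4 4 5 5 33 30 31 36 31 4 5 1) (@D3.rec (fun _ => Nat) 3 2 3 0 1 3 22 1 3 2 3 2 3 3 4 28 22 0) (@D3.rec (fun _ => Nat) 1 3 22 22 1 3 2 3 0 1 3 2 3 3 22 22 10 2) (@D3.rec (fun _ => Nat) 3 3 4 10 4 4 31 5 32 29 32 22 29 29 28 1 3 2) (@D3.rec (fun _ => Nat) 3 3 22 2 28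 3 4 4 30 31 1 31 2 3 2 29 3 4) (@D3.rec (fun _ => Nat) 30 10 2 3 3 4 4 5 5 0 22 4 30 29 29 33 31 30) (@D3.rec (fun _ => Nat) 30 37 26 29 2 3 3 4 4 36 36 4 4 37 5 5 4 4) (@D3.rec (fun _ => Nat) 30 5 1 2 33 38 29 33 35 27 33 28 34 29 33 29 4 27) (@D3.rec (fun _ => Nat) 30 23 32 23 34 1 3 23 34 23 23 31 2 3 2 3 3 4) (@D3.rec (fun _ => Nat) 33 36 23 23 28 28 30 32 0 23 0 1 3 23 23 1 3 2)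
def lv_g_8 : D2 → D3 → Nat := @D2.rec (fun _ => D3 → Nat) (@D3.rec (fun _ => Nat) 3 0 1 3 2 3 3 23 23 10 2 3 3 4 10 4 4 5) (@D3.rec (fun _ => Nat) 5 23 23 23 23 23 34 23 33 36 23 23 30 37 38 33 38 37) (@D3.rec (fun _ => Nat) 23 23 30 0 1 3 23 35 1 3 2 3 3 23 2 37 3 4) (@D3.rec (fun _ => Nat) 1 38 10 2 3 3 4 4 5 5 0 23 23 27 4 4 31 5) (@D3.rec (fun _ => Nat) 29 4 4 5 5 35 30 34 6 29 2 3 3 4 35 1 3 2) (@D3.rec (fun _ => Nat) 3 2 3 3 4 4 4 30 5 30 30 23 27 1 3 2 32 3) (@D3.rec (fun _ => Nat) 23 11 2 3 3 4 1 33 11 2 3 3 4 4 28 5 0 23) (@D3.rec (fun _ => Nat) 11 4 4 5 5 11 4 30 31 5 32 32 27 30 2 3 3 4) (@D3.rec (fun _ => Nat) 4 31 5 4 30 28 37 31 4 4 31 31 33 33 4 4 33 5) (@D3.rec (fun _ => Nat) 5 4 4 0 5 1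 2 32 31 29 29 33 39 32 31 35 4 4) (@D3.rec (fun _ => Nat) 34 5 34 36 4 4 37 37 36 31 5 5 30 6 30 2 29 32) (@D3.rec (fun _ => Nat) 34 34 31 33 32 35 24 32 24 24 35 2 3 36 36 24 24 33) (@D3.rec (fun _ => Nat) 33 4 4 4 5 5 38 31 36 30 24 32 30 32 0 1 3 24) (@D3.rec (fun _ => Nat) 24 0 1 3 2 33 3 24 24 11 2 34 3 4 1 3 11 2) (@D3.rec (fun _ => Nat) 3 3 4 4 35 5 0 24 24 11 4 4 36 5 29 11 4 4)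
def lv_g_9 : D2 → D3 → Nat := @D2.rec (fun _ => D3 → Nat) (@D3.rec (fun _ => Nat) 5 5 5 24 24 24 24 24 34 35 24 31 35 37 24 30 38 34) (@D3.rec (fun _ => Nat) 30 36 37 0 24 24 33 1 3 2 3 35 2 3 3 4 4 5) (@D3.rec (fun _ => Nat) 5 24 4 37 31 36 32 29 4 4 37 5 5 4 4 0 5 5) (@D3.rec (fun _ => Nat) 1 2 24 29 4 34 36 6 6 31 7 32 35 4 4 30 5 33) (@D3.rec (fun _ => Nat) 2 3 3 4 4 4 36 5 4 30 30 5 30 32 29 12 2 3) (@D3.rec (fun _ => Nat) 3 4 34 34 12 4 4 5 5 35 35 12 4 4 5 30 5 4) (@D3.rec (fun _ => Nat) 0 30 1 2 12 4 4 32 5 5 6 32 33 33 31 31 32 32) (@D3.rec (fun _ => Nat) 4 4 28 35 5 4 34 30 34 33 32 31 33 31 32 4 4 33) (@D3.rec (fun _ => Nat) 35 31 34 5 5 35 6 1 2 2 31 31 28 33 33 33 4 33) (@D3.rec (fun _ => Nat)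 36 5 40 36 6 6 35 31 37 38 38 32 7 32 34 31 25 25) (@D3.rec (fun _ => Nat) 32 32 25 25 35 35 4 33 36 0 25 25 34 33 4 4 5 5) (@D3.rec (fun _ => Nat) 5 40 34 30 36 30 25 33 32 32 1 3 2 35 3 25 25 1) (@D3.rec (fun _ => Nat) 3 12 2 3 3 4 35 35 34 25 25 12 4 36 34 2 3 3) (@D3.rec (fun _ => Nat) 12 4 4 37 32 5 4 0 37 5 1 2 25 31 12 4 35 36) (@D3.rec (fun _ => Nat) 5 31 31 6 6 6 35 7 7 25 25 25 36 25 25 33 40 34)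
def lv_g_10 : D2 → D3 → Nat := @D2.rec (fun _ => D3 → Nat) (@D3.rec (fun _ => Nat) 32 33 35 25 36 33 36 32 34 37 37 1 2 25 36 2 3 3) (@D3.rec (fun _ => Nat) 4 35 35 4 4 37 5 5 4 4 5 5 31 38 32 29 31 4) (@D3.rec (fun _ => Nat) 4 37 39 36 0 5 5 0 6 6 1 2 7 2 3 37 36 6) (@D3.rec (fun _ => Nat) 31 4 33 32 5 34 32 4 4 34 5 4 32 36 5 6 34 32) (@D3.rec (fun _ => Nat) 32 32 32 29 29 13 4 4 5 34 5 34 13 4 4 5 5 35) (@D3.rec (fun _ => Nat) 35 13 13 4 4 31 35 5 0 30 5 1 2 2 6 6 31 33) (@D3.rec (fun _ => Nat) 7 31 33 34 38 4 30 30 35 5 35 33 33 39 35 37 34 36) (@D3.rec (fun _ => Nat) 33 31 38 6 6 37 35 31 34 38 36 34 7 32 2 35 33 6) (@D3.rec (fun _ => Nat) 35 36 32 6 30 31 31 32 38 32 36 26 26 26 34 32 26 26) (@D3.rec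 (fun _ => Nat) 37 35 35 45 1 2 26 34 34 42 6 6 6 37 7 7 35 32) (@D3.rec (fun _ => Nat) 33 34 32 32 32 34 34 2 3 3 4 34 39 26 26 2 3 3) (@D3.rec (fun _ => Nat) 13 4 4 33 38 5 35 37 35 34 26 13 38 42 4 4 38 35) (@D3.rec (fun _ => Nat) 5 13 13 4 35 35 0 37 5 6 1 2 37 2 3 31 6 33) (@D3.rec (fun _ => Nat) 38 38 31 31 6 6 33 7 26 26 39 26 38 39 35 32 37 37) (@D3.rec (fun _ => Nat) 36 34 34 39 34 34 39 2 3 35 37 4 4 37 5 38 38 4)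
def lv_g_11 : D2 → D3 → Nat := @D2.rec (fun _ => D3 → Nat) (@D3.rec (fun _ => Nat) 4 37 33 5 5 36 6 6 7 0 34 34 29 29 0 6 6 37) (@D3.rec (fun _ => Nat) 39 38 0 39 32 1 2 7 1 2 6 2 3 7 3 33 6 33) (@D3.rec (fun _ => Nat) 32 36 4 34 38 5 6 36 38 36 34 32 31 31 14 14 4 4) (@D3.rec (fun _ => Nat) 35 5 36 5 6 6 7 34 37 32 14 14 6 6 35 33 35 27) (@D3.rec (fun _ => Nat) 32 7 1 2 31 2 6 38 35 7 33 36 30 6 30 30 38 38) (@D3.rec (fun _ => Nat) 33 37 35 36 28 35 34 38 30 34 6 35 34 33 33 36 40 36) (@D3.rec (fun _ => Nat) 37 39 34 34 33 36 40 27 27 27 34 34 27 44 35 35 2 3) (@D3.rec (fun _ => Nat) 27 38 36 6 6 38 7 7 36 36 36 32 34 32 32 32 34 4) (@D3.rec (fun _ => Nat) 4 40 36 5 37 39 27 4 4 34 37 5 14 14 4 36 33 36)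 (@D3.rec (fun _ => Nat) 5 33 39 40 38 4 36 36 25 34 5 14 14 6 33 38 37 1) (@D3.rec (fun _ => Nat) 2 37 2 3 39 3 35 35 38 40 33 8 33 27 39 27 38 37) (@D3.rec (fun _ => Nat) 34 37 35 35 34 39 39 39 3 37 4 40 5 37 35 33 6 6) (@D3.rec (fun _ => Nat) 33 33 7 33 6 7 1 2 34 31 31 1 2 6 33 27 41 38) (@D3.rec (fun _ => Nat) 1 2 36 2 3 7 2 3 8 3 41 9 41 42 37 6 39 38) (@D3.rec (fun _ => Nat) 36 38 37 29 31 32 15 6 6 36 7 33 6 40 39 34 15 15)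
def lv_g_12 : D2 → D3 → Nat := @D2.rec (fun _ => D3 → Nat) (@D3.rec (fun _ => Nat) 6 35 35 35 26 33 7 2 3 8 35 43 42 38 39 37 38 33) (@D3.rec (fun _ => Nat) 28 36 36 34 35 34 33 37 40 34 40 40 28 28 40 28 36 3) (@D3.rec (fun _ => Nat) 4 28 40 8 8 40 42 41 38 40 34 36 36 34 41 42 4 40) (@D3.rec (fun _ => Nat) 39 5 39 4 33 37 5 15 6 38 39 36 37 41 40 6 39 37) (@D3.rec (fun _ => Nat) 28 33 15 15 35 40 39 2 3 39 3 4 41 40 40 40 41 39) (@D3.rec (fun _ => Nat) 39 39 36 41 41 42 39 39 6 40 33 35 6 35 7 35 8 41) (@D3.rec (fun _ => Nat) 2 3 41 39 2 3 8 35 27 41 2 3 34 3 37 9 3 41) (@D3.rec (fun _ => Nat) 8 43 45 41 40 40 40 32 16 6 33 42 39 34 16 8 34 37) (@D3.rec (fun _ => Nat) 41 26 33 42 3 40 37 35 28 42 36 42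 40 42 42 29 29 42) (@D3.rec (fun _ => Nat) 4 41 40 40 37 36 41 41 41 44 6 42 39 41 6 34 38 16) (@D3.rec (fun _ => Nat) 38 40 40 39 41 39 28 35 16 40 41 38 3 42 39 4 40 43) (@D3.rec (fun _ => Nat) 42 39 41 41 39 41 37 35 8 42 43 3 36 43 39 3 39 8) (@D3.rec (fun _ => Nat) 29 39 3 4 45 44 41 47 44 41 34 35 42 17 42 29 42 42) (@D3.rec (fun _ => Nat) 42 42 41 43 43 43 43 46 40 40 34 38 40 40 38 27 41 17) (@D3.rec (fun _ => Nat) 42 38 38 41 46 42 39 42 45 42 4 44 44 37 43 43 43 44)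
def lv_g : Pt → Nat := @Pt.rec (fun _ => Nat) (@D1.rec (fun _ => D2 → D3 → Nat) lv_g_0 lv_g_1 lv_g_2 lv_g_3 lv_g_4 lv_g_5 lv_g_6 lv_g_7 lv_g_8 lv_g_9 lv_g_10 lv_g_11 lv_g_12)
abbrev lc_g_Cert_tree : Cert rels S Gen.g := Cert.tree
abbrev lc_g_rc_7_1 : Cert rels S Gen.g := rc_7_1
abbrev lc_g_rc_7_3 : Cert rels S Gen.g := rc_7_3
abbrev lc_g_rc_15_1 : Cert rels S Gen.g := rc_15_1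
abbrev lc_g_rc_15_3 : Cert rels S Gen.g := rc_15_3
abbrev lc_g_rc_22_1 : Cert rels S Gen.g := rc_22_1
abbrev lc_g_rc_22_3 : Cert rels S Gen.g := rc_22_3
abbrev lc_g_rc_28_1 : Cert rels S Gen.g := rc_28_1
abbrev lc_g_rc_28_3 : Cert rels S Gen.g := rc_28_3
abbrev lc_g_rc_33_1 : Cert rels S Gen.g := rc_33_1
abbrev lc_g_rc_33_3 : Cert rels S Gen.g := rc_33_3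
abbrev lc_g_rc_39_1 : Cert rels S Gen.g := rc_39_1
abbrev lc_g_rc_39_3 : Cert rels S Gen.g := rc_39_3
abbrev lc_g_rc_39_5 : Cert rels S Gen.g := rc_39_5
abbrev lc_g_rc_41_0 : Cert rels S Gen.g := rc_41_0
abbrev lc_g_rc_41_2 : Cert rels S Gen.g := rc_41_2
abbrev lc_g_rc_42_0 : Cert rels S Gen.g := rc_42_0
abbrev lc_g_rc_42_1 : Cert rels S Gen.g := rc_42_1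
abbrev lc_g_rc_43_0 : Cert rels S Gen.g := rc_43_0
abbrev lc_g_rc_43_2 : Cert rels S Gen.g := rc_43_2
abbrev lc_g_rc_47_12 : Cert rels S Gen.g := rc_47_12
abbrev lc_g_rc_47_26 : Cert rels S Gen.g := rc_47_26
abbrev lc_g_rc_47_33 : Cert rels S Gen.g := rc_47_33
abbrev lc_g_rc_47_40 : Cert rels S Gen.g := rc_47_40
abbrev lc_g_rc_47_47 : Cert rels S Gen.g := rc_47_47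
abbrev lc_g_sc_5_0 : Cert rels S Gen.g := sc_5_0
def ce_g_0 : D2 → D3 → (Cert rels S Gen.g) := @D2.rec (fun _ => D3 → (Cert rels S Gen.g)) (@D3.rec (fun _ => (Cert rels S Gen.g)) lc_g_sc_5_0 lc_g_rc_15_1 lc_g_rc_7_1 lc_g_rc_22_1 lc_g_rc_7_1 lc_g_rc_28_1 lc_g_rc_15_1 lc_g_rc_7_1 lc_g_rc_33_1 lc_g_rc_41_2 lc_g_rc_15_1 lc_g_rc_7_1 lc_g_rc_7_1 lc_g_Cert_tree lc_g_rc_41_2 lc_g_rc_43_2 lc_g_rc_22_1 lc_g_rc_15_1) (@D3.rec (fun _ => (Cert rels S Gen.g)) lc_g_rc_15_1 lc_g_Cert_tree lc_g_rc_7_1 lc_g_rc_43_2 lc_g_rc_42_0 lc_g_rc_42_1 lc_g_rc_28_1 lc_g_rc_43_2 lc_g_rc_22_1 lc_g_rc_22_1 lc_g_Cert_tree lc_g_rc_15_1 lc_g_rc_43_2 lc_g_rc_42_0 lc_g_rc_42_1 lc_g_rc_28_1 lc_g_rc_43_2 lc_g_rc_41_2) (@D3.rec (fun _ => (Cert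 rels S Gen.g)) lc_g_rc_28_1 lc_g_rc_43_2 lc_g_rc_22_1 lc_g_rc_43_2 lc_g_rc_28_1 lc_g_Cert_tree lc_g_rc_22_1 lc_g_rc_28_1 lc_g_rc_43_2 lc_g_rc_42_0 lc_g_rc_42_1 lc_g_rc_28_1 lc_g_rc_43_2 lc_g_rc_41_2 lc_g_rc_28_1 lc_g_rc_43_2 lc_g_rc_22_1 lc_g_rc_43_2) (@D3.rec (fun _ => (Cert rels S Gen.g)) lc_g_rc_28_1 lc_g_rc_43_2 lc_g_rc_22_1 lc_g_rc_33_1 lc_g_rc_43_2 lc_g_rc_15_1 lc_g_rc_22_1 lc_g_rc_41_2 lc_g_Cert_tree lc_g_rc_42_0 lc_g_rc_42_1 lc_g_rc_43_2 lc_g_rc_43_2 lc_g_rc_41_2 lc_g_rc_28_1 lc_g_rc_43_2 lc_g_rc_43_2 lc_g_rc_28_1) (@D3.rec (fun _ => (Cert rels S Gen.g)) lc_g_rc_43_2 lc_g_rc_22_1 lc_g_rc_33_1 lc_g_rc_43_2 lc_g_rc_22_1 lc_g_rc_41_2 lc_g_rc_22_1 lc_g_rc_33_1 lc_g_rc_43_2 lc_g_rc_15_1 lc_g_rc_22_1 lc_g_rc_22_1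 lc_g_rc_43_2 lc_g_rc_41_2 lc_g_rc_15_1 lc_g_rc_41_2 lc_g_Cert_tree lc_g_rc_42_0) (@D3.rec (fun _ => (Cert rels S Gen.g)) lc_g_rc_41_2 lc_g_rc_43_2 lc_g_rc_41_2 lc_g_rc_28_1 lc_g_rc_43_2 lc_g_rc_33_1 lc_g_rc_43_2 lc_g_rc_41_2 lc_g_rc_22_1 lc_g_rc_33_1 lc_g_rc_43_2 lc_g_rc_22_1 lc_g_rc_22_1 lc_g_rc_43_2 lc_g_rc_41_2 lc_g_rc_41_2 lc_g_rc_15_1 lc_g_rc_22_1) (@D3.rec (fun _ => (Cert rels S Gen.g)) lc_g_rc_22_1 lc_g_rc_39_3 lc_g_rc_43_2 lc_g_rc_41_2 lc_g_rc_15_1 lc_g_rc_15_1 lc_g_rc_28_1 lc_g_rc_22_1 lc_g_rc_41_2 lc_g_rc_41_2 lc_g_rc_15_1 lc_g_rc_28_1 lc_g_rc_42_0 lc_g_rc_43_2 lc_g_rc_33_1 lc_g_rc_43_2 lc_g_rc_43_2 lc_g_rc_41_2) (@D3.rec (fun _ => (Cert rels S Gen.g)) lc_g_rc_22_1 lc_g_rc_22_1 lc_g_rc_39_3 lc_g_rc_43_2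 lc_g_rc_41_2 lc_g_rc_28_1 lc_g_rc_22_1 lc_g_rc_41_2 lc_g_rc_41_2 lc_g_rc_28_1 lc_g_rc_15_1 lc_g_rc_15_1 lc_g_rc_28_1 lc_g_rc_22_1 lc_g_rc_22_1 lc_g_rc_41_2 lc_g_rc_39_3 lc_g_rc_41_2) (@D3.rec (fun _ => (Cert rels S Gen.g)) lc_g_rc_15_1 lc_g_rc_15_1 lc_g_rc_15_1 lc_g_rc_41_2 lc_g_rc_28_1 lc_g_rc_41_2 lc_g_rc_28_1 lc_g_rc_28_1 lc_g_rc_28_1 lc_g_rc_33_1 lc_g_rc_39_3 lc_g_rc_39_3 lc_g_rc_43_2 lc_g_rc_41_2 lc_g_rc_41_2 lc_g_rc_28_1 lc_g_rc_22_1 lc_g_rc_22_1) (@D3.rec (fun _ => (Cert rels S Gen.g)) lc_g_rc_41_2 lc_g_rc_39_3 lc_g_rc_41_2 lc_g_rc_41_2 lc_g_rc_28_1 lc_g_rc_41_2 lc_g_rc_28_1 lc_g_rc_28_1 lc_g_rc_33_1 lc_g_rc_15_1 lc_g_rc_15_1 lc_g_rc_15_1 lc_g_rc_15_1 lc_g_rc_28_1 lc_g_rc_41_2 lc_g_rc_28_1 lc_g_rc_22_1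 lc_g_rc_41_2) (@D3.rec (fun _ => (Cert rels S Gen.g)) lc_g_rc_28_1 lc_g_rc_41_2 lc_g_rc_28_1 lc_g_rc_22_1 lc_g_rc_15_1 lc_g_rc_15_1 lc_g_rc_15_1 lc_g_rc_28_1 lc_g_rc_43_2 lc_g_rc_41_2 lc_g_rc_28_1 lc_g_rc_33_1 lc_g_rc_22_1 lc_g_rc_22_1 lc_g_rc_33_1 lc_g_Cert_tree lc_g_rc_39_3 lc_g_rc_41_2) (@D3.rec (fun _ => (Cert rels S Gen.g)) lc_g_rc_28_1 lc_g_rc_28_1 lc_g_rc_41_2 lc_g_rc_28_1 lc_g_rc_22_1 lc_g_rc_41_2 lc_g_rc_28_1 lc_g_rc_41_2 lc_g_rc_28_1 lc_g_rc_43_2 lc_g_rc_41_2 lc_g_rc_28_1 lc_g_rc_33_1 lc_g_rc_22_1 lc_g_Cert_tree lc_g_rc_22_1 lc_g_rc_15_1 lc_g_rc_15_1) (@D3.rec (fun _ => (Cert rels S Gen.g)) lc_g_rc_15_1 lc_g_rc_15_1 lc_g_rc_15_1 lc_g_rc_28_1 lc_g_rc_33_1 lc_g_rc_39_3 lc_g_rc_28_1 lc_g_rc_43_2 lc_g_rc_41_2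 lc_g_rc_22_1 lc_g_rc_28_1 lc_g_rc_33_1 lc_g_rc_28_1 lc_g_rc_22_1 lc_g_rc_22_1 lc_g_rc_22_1 lc_g_rc_15_1 lc_g_rc_15_1) (@D3.rec (fun _ => (Cert rels S Gen.g)) lc_g_rc_28_1 lc_g_rc_22_1 lc_g_rc_33_1 lc_g_rc_43_2 lc_g_rc_28_1 lc_g_rc_22_1 lc_g_rc_33_1 lc_g_Cert_tree lc_g_rc_15_1 lc_g_rc_22_1 lc_g_Cert_tree lc_g_rc_42_0 lc_g_rc_41_2 lc_g_rc_28_1 lc_g_rc_22_1 lc_g_rc_33_1 lc_g_rc_39_3 lc_g_rc_28_1) (@D3.rec (fun _ => (Cert rels S Gen.g)) lc_g_rc_43_2 lc_g_rc_41_2 lc_g_rc_22_1 lc_g_rc_28_1 lc_g_rc_33_1 lc_g_rc_28_1 lc_g_rc_22_1 lc_g_rc_43_2 lc_g_rc_28_1 lc_g_rc_22_1 lc_g_rc_33_1 lc_g_Cert_tree lc_g_rc_15_1 lc_g_rc_42_0 lc_g_rc_22_1 lc_g_rc_22_1 lc_g_rc_22_1 lc_g_rc_15_1)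
def ce_g_1 : D2 → D3 → (Cert rels S Gen.g) := @D2.rec (fun _ => D3 → (Cert rels S Gen.g)) (@D3.rec (fun _ => (Cert rels S Gen.g)) lc_g_rc_15_1 lc_g_rc_15_1 lc_g_rc_15_1 lc_g_rc_15_1 lc_g_rc_15_1 lc_g_rc_28_1 lc_g_rc_22_1 lc_g_rc_33_1 lc_g_rc_41_2 lc_g_rc_33_1 lc_g_rc_43_2 lc_g_rc_39_3 lc_g_rc_43_2 lc_g_rc_28_1 lc_g_rc_28_1 lc_g_rc_22_1 lc_g_rc_33_1 lc_g_Cert_tree) (@D3.rec (fun _ => (Cert rels S Gen.g)) lc_g_rc_22_1 lc_g_rc_33_1 lc_g_rc_15_1 lc_g_rc_28_1 lc_g_rc_22_1 lc_g_rc_22_1 lc_g_rc_15_1 lc_g_rc_28_1 lc_g_rc_22_1 lc_g_rc_33_1 lc_g_rc_22_1 lc_g_Cert_tree lc_g_rc_28_1 lc_g_rc_22_1 lc_g_rc_33_1 lc_g_rc_15_1 lc_g_rc_22_1 lc_g_Cert_tree) (@D3.rec (fun _ => (Cert rels S Gen.g)) lc_g_rc_42_0 lc_g_rc_7_1 lc_g_rc_28_1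 lc_g_Cert_tree lc_g_rc_42_0 lc_g_rc_28_1 lc_g_rc_22_1 lc_g_rc_15_1 lc_g_rc_41_2 lc_g_rc_33_1 lc_g_rc_43_2 lc_g_rc_39_3 lc_g_rc_43_2 lc_g_rc_28_1 lc_g_rc_28_1 lc_g_rc_22_1 lc_g_rc_33_1 lc_g_Cert_tree) (@D3.rec (fun _ => (Cert rels S Gen.g)) lc_g_rc_22_1 lc_g_rc_33_1 lc_g_rc_15_1 lc_g_rc_28_1 lc_g_rc_22_1 lc_g_rc_33_1 lc_g_rc_15_1 lc_g_rc_22_1 lc_g_Cert_tree lc_g_rc_42_0 lc_g_rc_7_1 lc_g_rc_22_1 lc_g_rc_22_1 lc_g_rc_22_1 lc_g_rc_28_1 lc_g_rc_22_1 lc_g_rc_22_1 lc_g_rc_15_1) (@D3.rec (fun _ => (Cert rels S Gen.g)) lc_g_rc_15_1 lc_g_rc_15_1 lc_g_rc_15_1 lc_g_rc_15_1 lc_g_rc_28_1 lc_g_rc_15_1 lc_g_rc_22_1 lc_g_rc_33_1 lc_g_rc_22_1 lc_g_Cert_tree lc_g_rc_28_1 lc_g_rc_43_2 lc_g_rc_41_2 lc_g_rc_43_2 lc_g_rc_39_3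 lc_g_rc_28_1 lc_g_rc_22_1 lc_g_rc_33_1) (@D3.rec (fun _ => (Cert rels S Gen.g)) lc_g_rc_22_1 lc_g_rc_33_1 lc_g_rc_15_1 lc_g_rc_22_1 lc_g_Cert_tree lc_g_rc_42_0 lc_g_rc_15_1 lc_g_rc_22_1 lc_g_rc_7_1 lc_g_rc_33_1 lc_g_rc_28_1 lc_g_rc_22_1 lc_g_rc_28_1 lc_g_rc_28_1 lc_g_rc_22_1 lc_g_rc_33_1 lc_g_rc_15_1 lc_g_rc_22_1) (@D3.rec (fun _ => (Cert rels S Gen.g)) lc_g_Cert_tree lc_g_rc_28_1 lc_g_Cert_tree lc_g_rc_42_0 lc_g_rc_22_1 lc_g_rc_33_1 lc_g_rc_15_1 lc_g_rc_22_1 lc_g_Cert_tree lc_g_rc_7_1 lc_g_rc_15_1 lc_g_Cert_tree lc_g_rc_42_0 lc_g_Cert_tree lc_g_rc_41_2 lc_g_rc_42_0 lc_g_rc_22_1 lc_g_rc_33_1) (@D3.rec (fun _ => (Cert rels S Gen.g)) lc_g_rc_15_1 lc_g_rc_7_1 lc_g_rc_28_1 lc_g_rc_43_2 lc_g_rc_41_2 lc_g_rc_43_2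 lc_g_rc_39_3 lc_g_rc_28_1 lc_g_rc_22_1 lc_g_rc_33_1 lc_g_rc_22_1 lc_g_rc_33_1 lc_g_rc_15_1 lc_g_rc_22_1 lc_g_Cert_tree lc_g_rc_42_0 lc_g_rc_15_1 lc_g_rc_22_1) (@D3.rec (fun _ => (Cert rels S Gen.g)) lc_g_rc_7_1 lc_g_rc_22_1 lc_g_rc_33_1 lc_g_rc_15_1 lc_g_rc_22_1 lc_g_Cert_tree lc_g_rc_7_1 lc_g_rc_15_1 lc_g_Cert_tree lc_g_rc_42_0 lc_g_rc_28_1 lc_g_rc_22_1 lc_g_rc_22_1 lc_g_rc_28_1 lc_g_rc_22_1 lc_g_rc_22_1 lc_g_rc_33_1 lc_g_rc_28_1) (@D3.rec (fun _ => (Cert rels S Gen.g)) lc_g_rc_22_1 lc_g_rc_28_1 lc_g_rc_28_1 lc_g_rc_15_1 lc_g_rc_15_1 lc_g_rc_15_1 lc_g_rc_15_1 lc_g_rc_28_1 lc_g_rc_22_1 lc_g_rc_33_1 lc_g_rc_22_1 lc_g_rc_15_1 lc_g_rc_15_1 lc_g_rc_22_1 lc_g_Cert_tree lc_g_rc_28_1 lc_g_Cert_tree lc_g_rc_42_0)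 (@D3.rec (fun _ => (Cert rels S Gen.g)) lc_g_rc_22_1 lc_g_rc_28_1 lc_g_rc_43_2 lc_g_rc_28_1 lc_g_rc_43_2 lc_g_rc_22_1 lc_g_rc_41_2 lc_g_rc_22_1 lc_g_rc_33_1 lc_g_rc_15_1 lc_g_rc_22_1 lc_g_Cert_tree lc_g_rc_15_1 lc_g_rc_22_1 lc_g_Cert_tree lc_g_rc_7_1 lc_g_rc_15_1 lc_g_Cert_tree) (@D3.rec (fun _ => (Cert rels S Gen.g)) lc_g_rc_42_0 lc_g_rc_7_1 lc_g_rc_15_1 lc_g_rc_28_1 lc_g_rc_47_26 lc_g_rc_33_1 lc_g_rc_41_2 lc_g_rc_28_1 lc_g_rc_22_1 lc_g_rc_33_1 lc_g_rc_22_1 lc_g_rc_33_1 lc_g_rc_15_1 lc_g_rc_22_1 lc_g_Cert_tree lc_g_rc_7_1 lc_g_rc_15_1 lc_g_rc_28_1) (@D3.rec (fun _ => (Cert rels S Gen.g)) lc_g_Cert_tree lc_g_rc_42_0 lc_g_Cert_tree lc_g_rc_41_2 lc_g_rc_42_0 lc_g_rc_15_1 lc_g_rc_22_1 lc_g_Cert_tree lc_g_rc_7_1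 lc_g_rc_15_1 lc_g_rc_28_1 lc_g_Cert_tree lc_g_rc_42_0 lc_g_rc_7_1 lc_g_Cert_tree lc_g_rc_42_0 lc_g_rc_42_0 lc_g_rc_15_1) (@D3.rec (fun _ => (Cert rels S Gen.g)) lc_g_rc_22_1 lc_g_rc_7_1 lc_g_rc_22_1 lc_g_rc_28_1 lc_g_rc_43_2 lc_g_rc_28_1 lc_g_rc_43_2 lc_g_rc_22_1 lc_g_rc_41_2 lc_g_rc_22_1 lc_g_rc_33_1 lc_g_rc_15_1 lc_g_rc_22_1 lc_g_Cert_tree lc_g_rc_15_1 lc_g_rc_22_1 lc_g_Cert_tree lc_g_rc_7_1) (@D3.rec (fun _ => (Cert rels S Gen.g)) lc_g_rc_15_1 lc_g_Cert_tree lc_g_rc_42_0 lc_g_rc_7_1 lc_g_rc_15_1 lc_g_rc_28_1 lc_g_rc_15_1 lc_g_rc_22_1 lc_g_Cert_tree lc_g_rc_7_1 lc_g_rc_15_1 lc_g_rc_28_1 lc_g_Cert_tree lc_g_rc_42_0 lc_g_rc_7_1 lc_g_Cert_tree lc_g_rc_42_0 lc_g_rc_28_1)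
def ce_g_2 : D2 → D3 → (Cert rels S Gen.g) := @D2.rec (fun _ => D3 → (Cert rels S Gen.g)) (@D3.rec (fun _ => (Cert rels S Gen.g)) lc_g_rc_22_1 lc_g_rc_22_1 lc_g_rc_28_1 lc_g_rc_22_1 lc_g_rc_28_1 lc_g_rc_33_1 lc_g_rc_41_2 lc_g_rc_28_1 lc_g_rc_22_1 lc_g_rc_33_1 lc_g_rc_28_1 lc_g_rc_15_1 lc_g_rc_28_1 lc_g_rc_15_1 lc_g_rc_22_1 lc_g_rc_15_1 lc_g_rc_22_1 lc_g_rc_33_1) (@D3.rec (fun _ => (Cert rels S Gen.g)) lc_g_rc_15_1 lc_g_rc_22_1 lc_g_Cert_tree lc_g_rc_15_1 lc_g_rc_22_1 lc_g_Cert_tree lc_g_rc_7_1 lc_g_rc_15_1 lc_g_rc_28_1 lc_g_Cert_tree lc_g_rc_42_0 lc_g_Cert_tree lc_g_rc_41_2 lc_g_rc_42_0 lc_g_rc_22_1 lc_g_rc_41_2 lc_g_rc_28_1 lc_g_rc_22_1) (@D3.rec (fun _ => (Cert rels S Gen.g)) lc_g_rc_28_1 lc_g_rc_22_1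 lc_g_rc_43_2 lc_g_rc_15_1 lc_g_rc_22_1 lc_g_Cert_tree lc_g_rc_15_1 lc_g_rc_22_1 lc_g_Cert_tree lc_g_rc_7_1 lc_g_rc_15_1 lc_g_rc_28_1 lc_g_Cert_tree lc_g_rc_42_0 lc_g_rc_7_1 lc_g_rc_15_1 lc_g_rc_28_1 lc_g_Cert_tree) (@D3.rec (fun _ => (Cert rels S Gen.g)) lc_g_rc_42_0 lc_g_rc_7_1 lc_g_Cert_tree lc_g_rc_42_0 lc_g_rc_7_1 lc_g_rc_15_1 lc_g_rc_41_2 lc_g_rc_41_2 lc_g_rc_22_1 lc_g_rc_33_1 lc_g_rc_15_1 lc_g_rc_22_1 lc_g_rc_43_2 lc_g_rc_15_1 lc_g_rc_22_1 lc_g_Cert_tree lc_g_rc_7_1 lc_g_rc_15_1) (@D3.rec (fun _ => (Cert rels S Gen.g)) lc_g_rc_28_1 lc_g_Cert_tree lc_g_rc_42_0 lc_g_rc_7_1 lc_g_rc_15_1 lc_g_Cert_tree lc_g_Cert_tree lc_g_rc_41_2 lc_g_rc_42_0 lc_g_rc_42_0 lc_g_rc_7_1 lc_g_rc_15_1 lc_g_rc_28_1 lc_g_Cert_tree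 lc_g_rc_42_0 lc_g_rc_7_1 lc_g_rc_15_1 lc_g_Cert_tree) (@D3.rec (fun _ => (Cert rels S Gen.g)) lc_g_Cert_tree lc_g_rc_42_0 lc_g_Cert_tree lc_g_rc_42_0 lc_g_rc_7_1 lc_g_rc_15_1 lc_g_rc_28_1 lc_g_rc_15_1 lc_g_rc_22_1 lc_g_rc_41_2 lc_g_rc_28_1 lc_g_rc_22_1 lc_g_rc_28_1 lc_g_rc_22_1 lc_g_rc_43_2 lc_g_rc_15_1 lc_g_rc_22_1 lc_g_Cert_tree) (@D3.rec (fun _ => (Cert rels S Gen.g)) lc_g_rc_15_1 lc_g_rc_22_1 lc_g_Cert_tree lc_g_rc_7_1 lc_g_rc_15_1 lc_g_rc_28_1 lc_g_Cert_tree lc_g_rc_42_0 lc_g_rc_7_1 lc_g_rc_15_1 lc_g_rc_28_1 lc_g_Cert_tree lc_g_rc_42_0 lc_g_rc_7_1 lc_g_Cert_tree lc_g_rc_42_0 lc_g_rc_7_1 lc_g_rc_15_1) (@D3.rec (fun _ => (Cert rels S Gen.g)) lc_g_rc_41_2 lc_g_rc_7_1 lc_g_rc_15_1 lc_g_rc_28_1 lc_g_rc_15_1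 lc_g_rc_42_0 lc_g_rc_7_1 lc_g_rc_42_0 lc_g_Cert_tree lc_g_rc_42_0 lc_g_rc_41_2 lc_g_rc_22_1 lc_g_rc_28_1 lc_g_rc_39_3 lc_g_rc_28_1 lc_g_rc_28_1 lc_g_rc_33_1 lc_g_rc_41_2) (@D3.rec (fun _ => (Cert rels S Gen.g)) lc_g_rc_22_1 lc_g_rc_33_1 lc_g_rc_15_1 lc_g_rc_22_1 lc_g_Cert_tree lc_g_rc_41_2 lc_g_rc_28_1 lc_g_rc_22_1 lc_g_rc_28_1 lc_g_rc_22_1 lc_g_rc_15_1 lc_g_rc_15_1 lc_g_rc_22_1 lc_g_Cert_tree lc_g_rc_15_1 lc_g_rc_22_1 lc_g_Cert_tree lc_g_rc_7_1) (@D3.rec (fun _ => (Cert rels S Gen.g)) lc_g_rc_15_1 lc_g_rc_28_1 lc_g_Cert_tree lc_g_rc_42_0 lc_g_rc_7_1 lc_g_rc_15_1 lc_g_rc_28_1 lc_g_Cert_tree lc_g_rc_42_0 lc_g_rc_7_1 lc_g_rc_15_1 lc_g_Cert_tree lc_g_Cert_tree lc_g_rc_41_2 lc_g_rc_42_0 lc_g_Cert_tree lc_g_rc_42_0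 lc_g_rc_39_3) (@D3.rec (fun _ => (Cert rels S Gen.g)) lc_g_rc_43_2 lc_g_rc_22_1 lc_g_rc_41_2 lc_g_rc_22_1 lc_g_rc_28_1 lc_g_rc_15_1 lc_g_rc_22_1 lc_g_Cert_tree lc_g_rc_15_1 lc_g_rc_22_1 lc_g_Cert_tree lc_g_rc_7_1 lc_g_rc_15_1 lc_g_rc_28_1 lc_g_Cert_tree lc_g_rc_42_0 lc_g_rc_7_1 lc_g_rc_15_1) (@D3.rec (fun _ => (Cert rels S Gen.g)) lc_g_rc_28_1 lc_g_Cert_tree lc_g_rc_42_0 lc_g_rc_7_1 lc_g_rc_15_1 lc_g_Cert_tree lc_g_Cert_tree lc_g_rc_42_0 lc_g_rc_7_1 lc_g_rc_15_1 lc_g_Cert_tree lc_g_Cert_tree lc_g_rc_39_5 lc_g_rc_42_0 lc_g_Cert_tree lc_g_rc_42_0 lc_g_rc_7_1 lc_g_rc_22_1) (@D3.rec (fun _ => (Cert rels S Gen.g)) lc_g_rc_15_1 lc_g_rc_43_2 lc_g_rc_22_1 lc_g_rc_15_1 lc_g_rc_22_1 lc_g_rc_7_1 lc_g_rc_15_1 lc_g_rc_28_1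 lc_g_rc_43_2 lc_g_rc_7_1 lc_g_rc_15_1 lc_g_rc_28_1 lc_g_Cert_tree lc_g_rc_42_0 lc_g_rc_7_1 lc_g_rc_15_1 lc_g_Cert_tree lc_g_Cert_tree) (@D3.rec (fun _ => (Cert rels S Gen.g)) lc_g_rc_41_2 lc_g_rc_42_0 lc_g_rc_7_1 lc_g_Cert_tree lc_g_Cert_tree lc_g_rc_15_1 lc_g_rc_42_0 lc_g_rc_42_0 lc_g_rc_7_1 lc_g_rc_15_1 lc_g_rc_28_1 lc_g_rc_42_0 lc_g_rc_22_1 lc_g_rc_42_0 lc_g_rc_42_0 lc_g_rc_42_0 lc_g_rc_7_1 lc_g_rc_15_1) (@D3.rec (fun _ => (Cert rels S Gen.g)) lc_g_rc_41_2 lc_g_rc_41_2 lc_g_rc_22_1 lc_g_rc_28_1 lc_g_rc_15_1 lc_g_rc_22_1 lc_g_Cert_tree lc_g_rc_15_1 lc_g_rc_22_1 lc_g_Cert_tree lc_g_rc_7_1 lc_g_rc_15_1 lc_g_rc_28_1 lc_g_Cert_tree lc_g_rc_42_0 lc_g_rc_7_1 lc_g_rc_15_1 lc_g_rc_28_1)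
def ce_g_3 : D2 → D3 → (Cert rels S Gen.g) := @D2.rec (fun _ => D3 → (Cert rels S Gen.g)) (@D3.rec (fun _ => (Cert rels S Gen.g)) lc_g_Cert_tree lc_g_rc_42_0 lc_g_rc_7_1 lc_g_rc_15_1 lc_g_rc_39_3 lc_g_rc_39_3 lc_g_rc_42_0 lc_g_rc_7_1 lc_g_rc_15_1 lc_g_Cert_tree lc_g_Cert_tree lc_g_rc_39_5 lc_g_rc_42_0 lc_g_Cert_tree lc_g_rc_42_0 lc_g_rc_7_1 lc_g_rc_42_0 lc_g_rc_41_2) (@D3.rec (fun _ => (Cert rels S Gen.g)) lc_g_rc_28_1 lc_g_rc_22_1 lc_g_rc_33_1 lc_g_rc_39_3 lc_g_rc_28_1 lc_g_rc_33_1 lc_g_rc_15_1 lc_g_rc_33_1 lc_g_Cert_tree lc_g_rc_22_1 lc_g_rc_15_1 lc_g_rc_22_1 lc_g_rc_39_1 lc_g_rc_7_1 lc_g_rc_15_1 lc_g_rc_28_1 lc_g_Cert_tree lc_g_rc_42_0) (@D3.rec (fun _ => (Cert rels S Gen.g)) lc_g_rc_41_2 lc_g_rc_22_1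 lc_g_rc_28_1 lc_g_rc_15_1 lc_g_rc_22_1 lc_g_Cert_tree lc_g_rc_15_1 lc_g_rc_22_1 lc_g_Cert_tree lc_g_rc_7_1 lc_g_rc_15_1 lc_g_rc_28_1 lc_g_Cert_tree lc_g_rc_42_0 lc_g_rc_7_1 lc_g_rc_15_1 lc_g_rc_28_1 lc_g_Cert_tree) (@D3.rec (fun _ => (Cert rels S Gen.g)) lc_g_rc_42_0 lc_g_rc_7_1 lc_g_rc_15_1 lc_g_Cert_tree lc_g_Cert_tree lc_g_rc_41_2 lc_g_rc_42_0 lc_g_rc_7_1 lc_g_rc_15_1 lc_g_Cert_tree lc_g_Cert_tree lc_g_rc_39_5 lc_g_rc_42_0 lc_g_rc_7_1 lc_g_Cert_tree lc_g_Cert_tree lc_g_rc_15_1 lc_g_rc_42_0) (@D3.rec (fun _ => (Cert rels S Gen.g)) lc_g_Cert_tree lc_g_rc_42_0 lc_g_rc_39_3 lc_g_rc_43_2 lc_g_rc_42_0 lc_g_rc_33_1 lc_g_rc_41_2 lc_g_rc_15_1 lc_g_rc_22_1 lc_g_Cert_tree lc_g_rc_7_1 lc_g_rc_15_1 lc_g_rc_22_1 lc_g_Cert_tree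 lc_g_rc_42_0 lc_g_rc_7_1 lc_g_rc_15_1 lc_g_rc_28_1) (@D3.rec (fun _ => (Cert rels S Gen.g)) lc_g_Cert_tree lc_g_rc_42_0 lc_g_rc_7_1 lc_g_rc_15_1 lc_g_Cert_tree lc_g_Cert_tree lc_g_rc_41_2 lc_g_rc_42_0 lc_g_rc_7_1 lc_g_rc_15_1 lc_g_Cert_tree lc_g_rc_39_3 lc_g_rc_42_0 lc_g_rc_28_1 lc_g_rc_39_3 lc_g_rc_22_1 lc_g_rc_39_3 lc_g_rc_42_0) (@D3.rec (fun _ => (Cert rels S Gen.g)) lc_g_Cert_tree lc_g_rc_42_0 lc_g_rc_7_1 lc_g_Cert_tree lc_g_rc_22_1 lc_g_Cert_tree lc_g_rc_15_1 lc_g_rc_42_0 lc_g_rc_42_0 lc_g_rc_42_1 lc_g_rc_43_2 lc_g_rc_42_0 lc_g_rc_7_1 lc_g_rc_22_1 lc_g_rc_15_1 lc_g_rc_7_1 lc_g_rc_15_1 lc_g_rc_28_1) (@D3.rec (fun _ => (Cert rels S Gen.g)) lc_g_rc_7_1 lc_g_rc_15_1 lc_g_rc_43_2 lc_g_rc_43_2 lc_g_rc_41_2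 lc_g_rc_7_1 lc_g_rc_15_1 lc_g_rc_43_2 lc_g_Cert_tree lc_g_rc_41_2 lc_g_rc_42_0 lc_g_rc_7_1 lc_g_rc_22_1 lc_g_rc_22_1 lc_g_Cert_tree lc_g_rc_15_1 lc_g_rc_42_0 lc_g_rc_42_0) (@D3.rec (fun _ => (Cert rels S Gen.g)) lc_g_Cert_tree lc_g_rc_7_1 lc_g_rc_42_0 lc_g_rc_42_0 lc_g_rc_41_2 lc_g_rc_22_1 lc_g_Cert_tree lc_g_rc_15_1 lc_g_rc_22_1 lc_g_Cert_tree lc_g_rc_42_0 lc_g_rc_7_1 lc_g_rc_15_1 lc_g_rc_28_1 lc_g_Cert_tree lc_g_rc_42_0 lc_g_rc_7_1 lc_g_rc_15_1) (@D3.rec (fun _ => (Cert rels S Gen.g)) lc_g_Cert_tree lc_g_Cert_tree lc_g_rc_41_2 lc_g_rc_42_0 lc_g_rc_39_1 lc_g_rc_39_1 lc_g_rc_42_0 lc_g_rc_39_3 lc_g_rc_33_1 lc_g_rc_7_1 lc_g_Cert_tree lc_g_Cert_tree lc_g_rc_42_0 lc_g_rc_42_0 lc_g_rc_42_1 lc_g_rc_42_0 lc_g_rc_22_1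 lc_g_rc_41_2) (@D3.rec (fun _ => (Cert rels S Gen.g)) lc_g_rc_22_1 lc_g_rc_33_1 lc_g_rc_15_1 lc_g_rc_22_1 lc_g_Cert_tree lc_g_rc_39_3 lc_g_rc_41_2 lc_g_rc_15_1 lc_g_rc_33_1 lc_g_rc_28_3 lc_g_rc_7_1 lc_g_rc_15_1 lc_g_rc_33_1 lc_g_Cert_tree lc_g_rc_42_0 lc_g_rc_15_1 lc_g_rc_7_1 lc_g_rc_15_1) (@D3.rec (fun _ => (Cert rels S Gen.g)) lc_g_rc_28_1 lc_g_rc_39_1 lc_g_rc_7_1 lc_g_rc_15_1 lc_g_Cert_tree lc_g_Cert_tree lc_g_rc_41_2 lc_g_rc_42_0 lc_g_rc_22_1 lc_g_rc_41_2 lc_g_rc_15_1 lc_g_rc_22_1 lc_g_Cert_tree lc_g_rc_7_1 lc_g_rc_15_1 lc_g_rc_22_1 lc_g_Cert_tree lc_g_rc_42_0) (@D3.rec (fun _ => (Cert rels S Gen.g)) lc_g_rc_7_1 lc_g_rc_15_1 lc_g_rc_28_1 lc_g_Cert_tree lc_g_rc_42_0 lc_g_rc_7_1 lc_g_rc_15_1 lc_g_Cert_tree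 lc_g_Cert_tree lc_g_rc_41_2 lc_g_rc_42_0 lc_g_rc_7_1 lc_g_rc_15_1 lc_g_Cert_tree lc_g_Cert_tree lc_g_rc_41_2 lc_g_rc_42_0 lc_g_rc_7_1) (@D3.rec (fun _ => (Cert rels S Gen.g)) lc_g_Cert_tree lc_g_rc_22_1 lc_g_Cert_tree lc_g_rc_15_1 lc_g_rc_42_0 lc_g_Cert_tree lc_g_rc_42_0 lc_g_rc_39_3 lc_g_rc_43_2 lc_g_rc_7_1 lc_g_Cert_tree lc_g_rc_22_1 lc_g_Cert_tree lc_g_rc_15_1 lc_g_rc_42_0 lc_g_Cert_tree lc_g_rc_42_0 lc_g_rc_42_1) (@D3.rec (fun _ => (Cert rels S Gen.g)) lc_g_rc_43_2 lc_g_Cert_tree lc_g_rc_7_1 lc_g_rc_42_0 lc_g_Cert_tree lc_g_rc_42_0 lc_g_rc_39_3 lc_g_rc_43_2 lc_g_rc_42_0 lc_g_rc_33_1 lc_g_rc_22_3 lc_g_Cert_tree lc_g_rc_15_1 lc_g_rc_22_1 lc_g_Cert_tree lc_g_rc_42_0 lc_g_rc_7_1 lc_g_rc_15_1)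
def ce_g_4 : D2 → D3 → (Cert rels S Gen.g) := @D2.rec (fun _ => D3 → (Cert rels S Gen.g)) (@D3.rec (fun _ => (Cert rels S Gen.g)) lc_g_Cert_tree lc_g_Cert_tree lc_g_rc_22_1 lc_g_rc_42_0 lc_g_rc_7_1 lc_g_rc_15_1 lc_g_Cert_tree lc_g_Cert_tree lc_g_rc_41_2 lc_g_rc_42_0 lc_g_rc_7_1 lc_g_Cert_tree lc_g_rc_22_1 lc_g_Cert_tree lc_g_rc_15_1 lc_g_rc_42_0 lc_g_Cert_tree lc_g_rc_42_0) (@D3.rec (fun _ => (Cert rels S Gen.g)) lc_g_rc_42_1 lc_g_rc_43_2 lc_g_rc_39_1 lc_g_rc_22_1 lc_g_rc_39_1 lc_g_rc_42_0 lc_g_rc_33_1 lc_g_rc_43_0 lc_g_rc_39_3 lc_g_rc_33_1 lc_g_rc_42_0 lc_g_rc_7_1 lc_g_Cert_tree lc_g_rc_42_0 lc_g_Cert_tree lc_g_rc_22_1 lc_g_rc_42_0 lc_g_rc_42_1) (@D3.rec (fun _ => (Cert rels S Gen.g)) lc_g_rc_41_2 lc_g_rc_43_2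 lc_g_rc_28_1 lc_g_rc_7_1 lc_g_rc_7_1 lc_g_rc_15_1 lc_g_rc_7_1 lc_g_rc_43_2 lc_g_rc_22_1 lc_g_rc_41_0 lc_g_rc_15_1 lc_g_rc_43_2 lc_g_rc_43_2 lc_g_rc_7_1 lc_g_rc_22_1 lc_g_rc_43_2 lc_g_rc_15_1 lc_g_rc_42_0) (@D3.rec (fun _ => (Cert rels S Gen.g)) lc_g_rc_7_1 lc_g_rc_22_1 lc_g_rc_42_0 lc_g_rc_42_0 lc_g_Cert_tree lc_g_rc_22_1 lc_g_Cert_tree lc_g_rc_42_0 lc_g_rc_15_1 lc_g_Cert_tree lc_g_Cert_tree lc_g_rc_22_1 lc_g_rc_42_0 lc_g_rc_7_1 lc_g_rc_15_1 lc_g_rc_33_1 lc_g_Cert_tree lc_g_rc_41_2) (@D3.rec (fun _ => (Cert rels S Gen.g)) lc_g_rc_42_0 lc_g_rc_7_1 lc_g_rc_33_1 lc_g_rc_41_2 lc_g_rc_42_0 lc_g_rc_41_0 lc_g_rc_42_0 lc_g_rc_42_1 lc_g_Cert_tree lc_g_rc_42_0 lc_g_rc_42_0 lc_g_rc_41_2 lc_g_rc_15_1 lc_g_rc_22_1 lc_g_Cert_tree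 lc_g_rc_15_1 lc_g_rc_22_1 lc_g_rc_33_1) (@D3.rec (fun _ => (Cert rels S Gen.g)) lc_g_rc_7_1 lc_g_rc_15_1 lc_g_rc_22_1 lc_g_Cert_tree lc_g_rc_42_0 lc_g_rc_15_1 lc_g_rc_41_2 lc_g_rc_7_1 lc_g_rc_15_1 lc_g_rc_33_1 lc_g_rc_33_1 lc_g_rc_7_1 lc_g_rc_15_1 lc_g_Cert_tree lc_g_Cert_tree lc_g_rc_41_2 lc_g_rc_42_0 lc_g_rc_7_1) (@D3.rec (fun _ => (Cert rels S Gen.g)) lc_g_rc_7_1 lc_g_rc_15_1 lc_g_rc_39_1 lc_g_rc_39_1 lc_g_rc_7_1 lc_g_Cert_tree lc_g_rc_22_1 lc_g_Cert_tree lc_g_rc_15_1 lc_g_rc_42_0 lc_g_Cert_tree lc_g_rc_42_0 lc_g_rc_42_1 lc_g_rc_43_2 lc_g_rc_22_1 lc_g_Cert_tree lc_g_rc_15_1 lc_g_rc_22_1) (@D3.rec (fun _ => (Cert rels S Gen.g)) lc_g_Cert_tree lc_g_rc_42_0 lc_g_rc_7_1 lc_g_rc_15_1 lc_g_Cert_tree lc_g_Cert_tree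 lc_g_rc_22_1 lc_g_rc_42_0 lc_g_rc_7_1 lc_g_rc_15_1 lc_g_Cert_tree lc_g_Cert_tree lc_g_rc_41_2 lc_g_rc_42_0 lc_g_rc_7_1 lc_g_Cert_tree lc_g_rc_22_1 lc_g_Cert_tree) (@D3.rec (fun _ => (Cert rels S Gen.g)) lc_g_rc_15_1 lc_g_rc_42_0 lc_g_Cert_tree lc_g_rc_42_0 lc_g_rc_42_1 lc_g_rc_43_2 lc_g_rc_7_1 lc_g_rc_39_1 lc_g_rc_22_1 lc_g_Cert_tree lc_g_rc_15_1 lc_g_rc_42_0 lc_g_Cert_tree lc_g_rc_42_0 lc_g_rc_47_12 lc_g_rc_43_2 lc_g_rc_43_0 lc_g_rc_39_3) (@D3.rec (fun _ => (Cert rels S Gen.g)) lc_g_rc_7_1 lc_g_rc_42_0 lc_g_rc_39_3 lc_g_rc_22_1 lc_g_Cert_tree lc_g_rc_42_0 lc_g_rc_39_3 lc_g_rc_41_0 lc_g_rc_42_0 lc_g_rc_33_1 lc_g_rc_7_1 lc_g_Cert_tree lc_g_rc_7_1 lc_g_rc_42_0 lc_g_Cert_tree lc_g_rc_22_1 lc_g_Cert_tree lc_g_rc_42_0)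 (@D3.rec (fun _ => (Cert rels S Gen.g)) lc_g_rc_42_1 lc_g_rc_15_1 lc_g_rc_42_0 lc_g_rc_42_1 lc_g_rc_41_2 lc_g_rc_43_2 lc_g_Cert_tree lc_g_rc_42_0 lc_g_rc_39_3 lc_g_rc_43_2 lc_g_rc_42_0 lc_g_rc_33_1 lc_g_rc_15_3 lc_g_rc_33_3 lc_g_rc_42_0 lc_g_rc_15_1 lc_g_Cert_tree lc_g_Cert_tree) (@D3.rec (fun _ => (Cert rels S Gen.g)) lc_g_rc_42_0 lc_g_rc_7_1 lc_g_Cert_tree lc_g_rc_15_1 lc_g_Cert_tree lc_g_rc_15_1 lc_g_rc_42_0 lc_g_Cert_tree lc_g_rc_42_0 lc_g_rc_42_1 lc_g_rc_22_1 lc_g_rc_7_1 lc_g_rc_33_1 lc_g_rc_22_1 lc_g_Cert_tree lc_g_rc_15_1 lc_g_rc_42_0 lc_g_rc_7_1) (@D3.rec (fun _ => (Cert rels S Gen.g)) lc_g_rc_42_0 lc_g_rc_7_3 lc_g_rc_43_2 lc_g_rc_7_1 lc_g_rc_7_3 lc_g_rc_42_0 lc_g_Cert_tree lc_g_rc_22_1 lc_g_rc_7_1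 lc_g_rc_42_0 lc_g_rc_42_1 lc_g_rc_42_0 lc_g_rc_7_3 lc_g_rc_41_2 lc_g_rc_7_3 lc_g_rc_33_1 lc_g_Cert_tree lc_g_rc_42_0) (@D3.rec (fun _ => (Cert rels S Gen.g)) lc_g_rc_42_0 lc_g_rc_42_1 lc_g_rc_28_1 lc_g_rc_41_2 lc_g_rc_43_2 lc_g_rc_33_1 lc_g_rc_7_1 lc_g_rc_22_1 lc_g_rc_7_1 lc_g_rc_22_1 lc_g_rc_7_1 lc_g_rc_43_2 lc_g_rc_42_0 lc_g_Cert_tree lc_g_rc_42_0 lc_g_rc_22_1 lc_g_Cert_tree lc_g_rc_15_1) (@D3.rec (fun _ => (Cert rels S Gen.g)) lc_g_rc_42_0 lc_g_rc_15_3 lc_g_rc_42_0 lc_g_rc_7_3 lc_g_rc_7_1 lc_g_rc_41_0 lc_g_rc_41_0 lc_g_rc_42_0 lc_g_rc_41_2 lc_g_rc_7_1 lc_g_rc_22_1 lc_g_rc_41_2 lc_g_rc_42_0 lc_g_rc_7_1 lc_g_rc_15_1 lc_g_rc_28_1 lc_g_Cert_tree lc_g_rc_42_0)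
def ce_g_5 : D2 → D3 → (Cert rels S Gen.g) := @D2.rec (fun _ => D3 → (Cert rels S Gen.g)) (@D3.rec (fun _ => (Cert rels S Gen.g)) lc_g_rc_15_1 lc_g_rc_22_1 lc_g_rc_15_3 lc_g_rc_7_1 lc_g_rc_15_1 lc_g_Cert_tree lc_g_Cert_tree lc_g_rc_22_1 lc_g_rc_42_0 lc_g_rc_7_1 lc_g_rc_15_1 lc_g_rc_28_1 lc_g_rc_7_1 lc_g_rc_15_1 lc_g_rc_33_1 lc_g_rc_15_3 lc_g_rc_41_2 lc_g_rc_7_1) (@D3.rec (fun _ => (Cert rels S Gen.g)) lc_g_Cert_tree lc_g_rc_22_1 lc_g_Cert_tree lc_g_rc_15_1 lc_g_rc_42_0 lc_g_Cert_tree lc_g_rc_42_0 lc_g_rc_42_1 lc_g_rc_43_2 lc_g_rc_7_1 lc_g_rc_39_1 lc_g_rc_22_1 lc_g_rc_39_1 lc_g_rc_33_1 lc_g_rc_7_1 lc_g_Cert_tree lc_g_rc_7_1 lc_g_rc_42_0) (@D3.rec (fun _ => (Cert rels S Gen.g)) lc_g_rc_39_3 lc_g_rc_22_1 lc_g_Cert_tree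 lc_g_rc_42_0 lc_g_rc_39_3 lc_g_rc_43_2 lc_g_rc_42_0 lc_g_rc_42_1 lc_g_rc_41_2 lc_g_rc_7_1 lc_g_rc_28_1 lc_g_Cert_tree lc_g_rc_42_0 lc_g_rc_15_1 lc_g_Cert_tree lc_g_Cert_tree lc_g_rc_22_1 lc_g_rc_42_0) (@D3.rec (fun _ => (Cert rels S Gen.g)) lc_g_rc_7_1 lc_g_Cert_tree lc_g_rc_15_1 lc_g_Cert_tree lc_g_rc_15_1 lc_g_rc_42_0 lc_g_Cert_tree lc_g_rc_42_0 lc_g_rc_42_1 lc_g_rc_22_1 lc_g_rc_7_1 lc_g_rc_33_1 lc_g_rc_22_1 lc_g_Cert_tree lc_g_rc_15_1 lc_g_rc_42_0 lc_g_Cert_tree lc_g_rc_42_0) (@D3.rec (fun _ => (Cert rels S Gen.g)) lc_g_rc_42_1 lc_g_rc_43_2 lc_g_rc_7_1 lc_g_Cert_tree lc_g_rc_7_1 lc_g_rc_42_0 lc_g_Cert_tree lc_g_rc_22_1 lc_g_Cert_tree lc_g_rc_42_0 lc_g_rc_42_1 lc_g_rc_15_1 lc_g_rc_42_0 lc_g_rc_42_1 lc_g_rc_41_2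 lc_g_rc_43_2 lc_g_rc_39_1 lc_g_rc_39_1) (@D3.rec (fun _ => (Cert rels S Gen.g)) lc_g_Cert_tree lc_g_rc_42_0 lc_g_rc_43_2 lc_g_rc_42_0 lc_g_rc_33_1 lc_g_rc_33_1 lc_g_rc_39_3 lc_g_rc_33_1 lc_g_rc_47_47 lc_g_rc_42_0 lc_g_rc_33_1 lc_g_rc_39_1 lc_g_Cert_tree lc_g_rc_7_1 lc_g_Cert_tree lc_g_rc_42_0 lc_g_rc_42_1 lc_g_rc_7_1) (@D3.rec (fun _ => (Cert rels S Gen.g)) lc_g_Cert_tree lc_g_rc_42_0 lc_g_rc_42_1 lc_g_rc_28_1 lc_g_rc_22_1 lc_g_rc_42_0 lc_g_rc_42_1 lc_g_rc_41_2 lc_g_rc_43_2 lc_g_rc_41_2 lc_g_rc_22_3 lc_g_rc_43_2 lc_g_rc_43_2 lc_g_rc_42_0 lc_g_rc_33_1 lc_g_rc_47_26 lc_g_rc_28_1 lc_g_rc_47_33) (@D3.rec (fun _ => (Cert rels S Gen.g)) lc_g_rc_15_1 lc_g_Cert_tree lc_g_rc_42_0 lc_g_rc_7_1 lc_g_rc_42_0 lc_g_rc_7_1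 lc_g_Cert_tree lc_g_rc_7_1 lc_g_rc_42_0 lc_g_Cert_tree lc_g_rc_15_1 lc_g_rc_15_3 lc_g_rc_42_0 lc_g_rc_15_3 lc_g_rc_15_1 lc_g_rc_42_0 lc_g_rc_7_1 lc_g_rc_41_2) (@D3.rec (fun _ => (Cert rels S Gen.g)) lc_g_rc_7_1 lc_g_rc_7_1 lc_g_rc_7_3 lc_g_Cert_tree lc_g_rc_22_1 lc_g_rc_7_1 lc_g_rc_42_0 lc_g_rc_15_1 lc_g_rc_7_3 lc_g_rc_7_1 lc_g_rc_42_0 lc_g_rc_42_1 lc_g_rc_28_1 lc_g_rc_15_1 lc_g_rc_41_2 lc_g_rc_7_1 lc_g_rc_42_0 lc_g_rc_41_2) (@D3.rec (fun _ => (Cert rels S Gen.g)) lc_g_rc_28_1 lc_g_rc_33_1 lc_g_rc_7_1 lc_g_rc_41_2 lc_g_rc_42_0 lc_g_rc_22_3 lc_g_rc_7_1 lc_g_rc_42_0 lc_g_rc_47_33 lc_g_rc_7_1 lc_g_rc_15_1 lc_g_Cert_tree lc_g_Cert_tree lc_g_rc_28_1 lc_g_rc_42_0 lc_g_rc_15_1 lc_g_rc_22_1 lc_g_rc_39_3) (@D3.rec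 (fun _ => (Cert rels S Gen.g)) lc_g_rc_22_1 lc_g_rc_7_1 lc_g_Cert_tree lc_g_rc_15_1 lc_g_Cert_tree lc_g_rc_15_1 lc_g_rc_42_0 lc_g_Cert_tree lc_g_rc_42_0 lc_g_rc_42_1 lc_g_rc_22_1 lc_g_rc_7_1 lc_g_rc_28_1 lc_g_rc_28_1 lc_g_rc_7_1 lc_g_rc_33_1 lc_g_rc_22_1 lc_g_rc_47_26) (@D3.rec (fun _ => (Cert rels S Gen.g)) lc_g_rc_15_1 lc_g_rc_39_5 lc_g_rc_22_3 lc_g_rc_43_2 lc_g_rc_7_1 lc_g_Cert_tree lc_g_rc_7_1 lc_g_rc_42_0 lc_g_Cert_tree lc_g_rc_22_1 lc_g_Cert_tree lc_g_rc_42_0 lc_g_rc_42_1 lc_g_rc_15_1 lc_g_rc_42_0 lc_g_rc_42_1 lc_g_rc_41_2 lc_g_rc_43_2) (@D3.rec (fun _ => (Cert rels S Gen.g)) lc_g_rc_39_1 lc_g_rc_15_1 lc_g_rc_33_1 lc_g_rc_39_1 lc_g_Cert_tree lc_g_rc_42_0 lc_g_rc_39_1 lc_g_rc_33_1 lc_g_rc_42_0 lc_g_rc_33_1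 lc_g_rc_43_2 lc_g_rc_33_1 lc_g_rc_41_2 lc_g_rc_28_1 lc_g_Cert_tree lc_g_rc_28_1 lc_g_rc_42_0 lc_g_rc_15_1) (@D3.rec (fun _ => (Cert rels S Gen.g)) lc_g_Cert_tree lc_g_rc_15_1 lc_g_rc_42_0 lc_g_Cert_tree lc_g_rc_42_0 lc_g_rc_42_1 lc_g_rc_22_1 lc_g_rc_7_1 lc_g_Cert_tree lc_g_rc_7_1 lc_g_rc_42_0 lc_g_Cert_tree lc_g_rc_15_1 lc_g_Cert_tree lc_g_rc_42_0 lc_g_rc_42_1 lc_g_rc_15_1 lc_g_rc_42_0) (@D3.rec (fun _ => (Cert rels S Gen.g)) lc_g_rc_42_1 lc_g_rc_41_2 lc_g_rc_43_2 lc_g_rc_7_1 lc_g_rc_7_3 lc_g_rc_7_1 lc_g_Cert_tree lc_g_rc_22_1 lc_g_Cert_tree lc_g_rc_42_0 lc_g_rc_42_1 lc_g_rc_15_1 lc_g_rc_42_0 lc_g_rc_42_1 lc_g_rc_41_2 lc_g_rc_43_2 lc_g_rc_15_1 lc_g_Cert_tree)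
def ce_g_6 : D2 → D3 → (Cert rels S Gen.g) := @D2.rec (fun _ => D3 → (Cert rels S Gen.g)) (@D3.rec (fun _ => (Cert rels S Gen.g)) lc_g_rc_7_1 lc_g_Cert_tree lc_g_rc_42_0 lc_g_rc_42_1 lc_g_rc_7_1 lc_g_Cert_tree lc_g_rc_42_0 lc_g_rc_42_1 lc_g_rc_28_1 lc_g_rc_22_1 lc_g_rc_42_0 lc_g_rc_42_1 lc_g_rc_41_2 lc_g_rc_43_2 lc_g_rc_39_3 lc_g_rc_41_2 lc_g_rc_39_1 lc_g_rc_43_2) (@D3.rec (fun _ => (Cert rels S Gen.g)) lc_g_rc_43_2 lc_g_rc_33_1 lc_g_rc_33_1 lc_g_rc_42_0 lc_g_rc_33_1 lc_g_rc_33_1 lc_g_rc_7_1 lc_g_rc_33_1 lc_g_rc_41_0 lc_g_rc_39_1 lc_g_Cert_tree lc_g_rc_42_0 lc_g_rc_42_1 lc_g_rc_7_1 lc_g_rc_42_0 lc_g_rc_42_1 lc_g_rc_41_2 lc_g_rc_43_2) (@D3.rec (fun _ => (Cert rels S Gen.g)) lc_g_rc_42_0 lc_g_rc_42_1 lc_g_rc_41_2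 lc_g_rc_28_1 lc_g_rc_43_2 lc_g_rc_33_1 lc_g_rc_28_1 lc_g_rc_41_2 lc_g_rc_22_3 lc_g_rc_43_2 lc_g_rc_43_2 lc_g_rc_43_2 lc_g_rc_41_2 lc_g_rc_22_3 lc_g_rc_7_1 lc_g_rc_47_26 lc_g_rc_28_1 lc_g_rc_22_1) (@D3.rec (fun _ => (Cert rels S Gen.g)) lc_g_Cert_tree lc_g_rc_15_1 lc_g_rc_42_0 lc_g_rc_15_1 lc_g_Cert_tree lc_g_rc_7_1 lc_g_rc_15_1 lc_g_rc_42_0 lc_g_rc_15_1 lc_g_rc_15_3 lc_g_rc_42_0 lc_g_rc_15_3 lc_g_rc_15_1 lc_g_rc_15_1 lc_g_rc_7_3 lc_g_rc_7_1 lc_g_rc_42_0 lc_g_rc_15_1) (@D3.rec (fun _ => (Cert rels S Gen.g)) lc_g_rc_7_1 lc_g_rc_15_1 lc_g_rc_41_2 lc_g_rc_28_1 lc_g_rc_33_1 lc_g_rc_7_1 lc_g_rc_28_1 lc_g_rc_33_1 lc_g_rc_28_1 lc_g_rc_7_1 lc_g_Cert_tree lc_g_rc_22_1 lc_g_Cert_tree lc_g_rc_15_1 lc_g_rc_42_0 lc_g_Cert_tree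 lc_g_rc_42_0 lc_g_rc_42_1) (@D3.rec (fun _ => (Cert rels S Gen.g)) lc_g_rc_28_1 lc_g_rc_15_1 lc_g_rc_28_1 lc_g_rc_15_1 lc_g_rc_33_1 lc_g_rc_41_2 lc_g_rc_22_1 lc_g_rc_7_1 lc_g_Cert_tree lc_g_rc_7_1 lc_g_rc_42_0 lc_g_Cert_tree lc_g_rc_15_1 lc_g_Cert_tree lc_g_rc_42_0 lc_g_rc_42_1 lc_g_rc_15_1 lc_g_rc_42_0) (@D3.rec (fun _ => (Cert rels S Gen.g)) lc_g_rc_42_1 lc_g_rc_41_2 lc_g_rc_43_2 lc_g_rc_7_1 lc_g_rc_22_1 lc_g_rc_28_1 lc_g_rc_28_1 lc_g_rc_7_1 lc_g_rc_7_1 lc_g_rc_7_1 lc_g_rc_15_3 lc_g_rc_22_1 lc_g_rc_41_0 lc_g_rc_22_3 lc_g_rc_15_1 lc_g_rc_39_5 lc_g_rc_22_3 lc_g_rc_15_1) (@D3.rec (fun _ => (Cert rels S Gen.g)) lc_g_Cert_tree lc_g_rc_7_1 lc_g_Cert_tree lc_g_rc_42_0 lc_g_rc_42_1 lc_g_rc_7_1 lc_g_Cert_tree lc_g_rc_42_0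 lc_g_rc_42_1 lc_g_rc_28_1 lc_g_rc_22_1 lc_g_rc_42_0 lc_g_rc_42_1 lc_g_rc_41_2 lc_g_rc_43_2 lc_g_rc_39_3 lc_g_rc_41_2 lc_g_rc_28_1) (@D3.rec (fun _ => (Cert rels S Gen.g)) lc_g_rc_43_2 lc_g_rc_43_2 lc_g_rc_33_1 lc_g_rc_33_1 lc_g_rc_33_1 lc_g_rc_42_0 lc_g_rc_33_1 lc_g_rc_7_3 lc_g_rc_33_1 lc_g_rc_41_2 lc_g_rc_28_1 lc_g_rc_22_1 lc_g_Cert_tree lc_g_rc_42_0 lc_g_rc_42_1 lc_g_rc_28_1 lc_g_Cert_tree lc_g_rc_15_1) (@D3.rec (fun _ => (Cert rels S Gen.g)) lc_g_Cert_tree lc_g_rc_42_0 lc_g_rc_42_1 lc_g_rc_15_1 lc_g_rc_42_0 lc_g_rc_42_1 lc_g_rc_41_2 lc_g_rc_43_2 lc_g_rc_7_1 lc_g_Cert_tree lc_g_rc_7_1 lc_g_Cert_tree lc_g_rc_42_0 lc_g_rc_42_1 lc_g_rc_7_1 lc_g_Cert_tree lc_g_rc_42_0 lc_g_rc_42_1) (@D3.rec (fun _ => (Cert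 rels S Gen.g)) lc_g_rc_15_1 lc_g_rc_15_1 lc_g_rc_42_0 lc_g_rc_42_1 lc_g_rc_41_2 lc_g_rc_43_2 lc_g_rc_39_3 lc_g_rc_41_2 lc_g_rc_28_1 lc_g_rc_43_2 lc_g_rc_43_2 lc_g_rc_15_1 lc_g_rc_7_3 lc_g_rc_7_1 lc_g_rc_7_3 lc_g_rc_7_3 lc_g_rc_7_1 lc_g_Cert_tree) (@D3.rec (fun _ => (Cert rels S Gen.g)) lc_g_rc_42_0 lc_g_rc_42_1 lc_g_rc_28_1 lc_g_rc_22_1 lc_g_rc_42_0 lc_g_rc_42_1 lc_g_rc_41_2 lc_g_rc_43_2 lc_g_rc_41_2 lc_g_rc_28_1 lc_g_rc_43_2 lc_g_rc_43_2 lc_g_Cert_tree lc_g_rc_28_1 lc_g_rc_42_0 lc_g_rc_42_1 lc_g_rc_7_1 lc_g_rc_42_0) (@D3.rec (fun _ => (Cert rels S Gen.g)) lc_g_rc_42_1 lc_g_rc_41_2 lc_g_rc_43_2 lc_g_rc_7_1 lc_g_rc_42_0 lc_g_rc_42_1 lc_g_rc_41_2 lc_g_rc_28_1 lc_g_rc_43_2 lc_g_rc_33_1 lc_g_rc_28_1 lc_g_rc_15_1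 lc_g_rc_41_2 lc_g_rc_39_1 lc_g_rc_43_2 lc_g_rc_43_2 lc_g_rc_43_2 lc_g_rc_39_1) (@D3.rec (fun _ => (Cert rels S Gen.g)) lc_g_rc_43_2 lc_g_rc_7_1 lc_g_rc_7_1 lc_g_rc_7_1 lc_g_rc_47_26 lc_g_rc_33_1 lc_g_rc_42_0 lc_g_rc_42_1 lc_g_rc_41_2 lc_g_rc_43_2 lc_g_rc_41_2 lc_g_rc_22_3 lc_g_rc_43_2 lc_g_rc_43_2 lc_g_rc_41_2 lc_g_rc_28_1 lc_g_rc_43_2 lc_g_rc_28_1) (@D3.rec (fun _ => (Cert rels S Gen.g)) lc_g_rc_43_2 lc_g_rc_33_1 lc_g_rc_43_2 lc_g_Cert_tree lc_g_rc_33_1 lc_g_rc_43_2 lc_g_rc_47_47 lc_g_rc_28_1 lc_g_rc_41_2 lc_g_rc_43_2 lc_g_rc_22_1 lc_g_rc_47_33 lc_g_rc_28_1 lc_g_rc_15_1 lc_g_rc_42_0 lc_g_rc_15_3 lc_g_rc_15_1 lc_g_rc_42_0)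
def ce_g_7 : D2 → D3 → (Cert rels S Gen.g) := @D2.rec (fun _ => D3 → (Cert rels S Gen.g)) (@D3.rec (fun _ => (Cert rels S Gen.g)) lc_g_rc_15_1 lc_g_rc_15_1 lc_g_rc_15_3 lc_g_rc_15_1 lc_g_rc_7_1 lc_g_rc_15_1 lc_g_rc_28_1 lc_g_rc_33_1 lc_g_rc_7_1 lc_g_rc_41_0 lc_g_rc_33_1 lc_g_rc_33_1 lc_g_rc_7_1 lc_g_Cert_tree lc_g_rc_7_1 lc_g_rc_42_0 lc_g_rc_47_47 lc_g_rc_22_1) (@D3.rec (fun _ => (Cert rels S Gen.g)) lc_g_rc_7_1 lc_g_rc_42_0 lc_g_rc_42_1 lc_g_rc_15_1 lc_g_rc_42_0 lc_g_rc_42_1 lc_g_rc_41_2 lc_g_rc_43_2 lc_g_rc_15_1 lc_g_rc_15_1 lc_g_rc_33_1 lc_g_rc_41_2 lc_g_rc_15_1 lc_g_rc_39_5 lc_g_rc_43_2 lc_g_rc_7_1 lc_g_Cert_tree lc_g_rc_7_1) (@D3.rec (fun _ => (Cert rels S Gen.g)) lc_g_Cert_tree lc_g_rc_42_0 lc_g_rc_42_1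 lc_g_rc_7_1 lc_g_Cert_tree lc_g_rc_42_0 lc_g_rc_42_1 lc_g_rc_15_1 lc_g_rc_15_1 lc_g_rc_42_0 lc_g_rc_42_1 lc_g_rc_41_2 lc_g_rc_43_2 lc_g_rc_39_3 lc_g_rc_41_2 lc_g_rc_28_1 lc_g_rc_43_2 lc_g_rc_43_2) (@D3.rec (fun _ => (Cert rels S Gen.g)) lc_g_rc_22_1 lc_g_rc_7_1 lc_g_rc_22_1 lc_g_rc_28_1 lc_g_rc_15_1 lc_g_rc_7_1 lc_g_rc_7_1 lc_g_rc_7_1 lc_g_rc_22_3 lc_g_rc_7_1 lc_g_rc_15_3 lc_g_rc_15_3 lc_g_rc_28_1 lc_g_rc_22_1 lc_g_rc_39_5 lc_g_rc_28_1 lc_g_rc_43_2 lc_g_Cert_tree) (@D3.rec (fun _ => (Cert rels S Gen.g)) lc_g_rc_15_1 lc_g_Cert_tree lc_g_rc_42_0 lc_g_rc_42_1 lc_g_rc_7_1 lc_g_rc_7_1 lc_g_rc_42_0 lc_g_rc_42_1 lc_g_rc_41_2 lc_g_rc_43_2 lc_g_Cert_tree lc_g_rc_42_0 lc_g_rc_42_1 lc_g_rc_41_2 lc_g_rc_28_1 lc_g_rc_43_2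 lc_g_rc_33_1 lc_g_rc_28_1) (@D3.rec (fun _ => (Cert rels S Gen.g)) lc_g_rc_15_1 lc_g_rc_41_2 lc_g_rc_28_1 lc_g_rc_43_2 lc_g_rc_43_2 lc_g_rc_28_1 lc_g_rc_28_1 lc_g_rc_43_2 lc_g_rc_22_1 lc_g_rc_43_2 lc_g_rc_7_1 lc_g_rc_41_0 lc_g_rc_7_1 lc_g_rc_7_1 lc_g_rc_22_1 lc_g_rc_22_1 lc_g_rc_15_1 lc_g_rc_42_0) (@D3.rec (fun _ => (Cert rels S Gen.g)) lc_g_rc_42_1 lc_g_rc_41_2 lc_g_rc_43_2 lc_g_Cert_tree lc_g_rc_42_0 lc_g_rc_42_1 lc_g_rc_15_1 lc_g_rc_42_0 lc_g_rc_42_1 lc_g_rc_41_2 lc_g_rc_43_2 lc_g_rc_41_2 lc_g_rc_28_1 lc_g_rc_43_2 lc_g_rc_43_2 lc_g_rc_15_3 lc_g_rc_15_1 lc_g_Cert_tree) (@D3.rec (fun _ => (Cert rels S Gen.g)) lc_g_rc_42_0 lc_g_rc_42_1 lc_g_rc_7_1 lc_g_rc_7_1 lc_g_rc_42_0 lc_g_rc_42_1 lc_g_rc_41_2 lc_g_rc_43_2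 lc_g_Cert_tree lc_g_rc_42_0 lc_g_rc_42_1 lc_g_rc_41_2 lc_g_rc_28_1 lc_g_rc_43_2 lc_g_rc_15_1 lc_g_rc_15_1 lc_g_rc_15_1 lc_g_rc_41_2) (@D3.rec (fun _ => (Cert rels S Gen.g)) lc_g_rc_28_1 lc_g_rc_43_2 lc_g_rc_43_2 lc_g_rc_39_3 lc_g_rc_28_1 lc_g_rc_43_2 lc_g_rc_39_1 lc_g_rc_43_2 lc_g_rc_15_1 lc_g_rc_22_1 lc_g_rc_7_3 lc_g_rc_7_1 lc_g_rc_7_3 lc_g_rc_41_2 lc_g_rc_28_3 lc_g_rc_42_0 lc_g_rc_42_1 lc_g_rc_41_2) (@D3.rec (fun _ => (Cert rels S Gen.g)) lc_g_rc_28_1 lc_g_rc_43_2 lc_g_rc_28_1 lc_g_rc_41_2 lc_g_rc_28_1 lc_g_rc_43_2 lc_g_rc_43_2 lc_g_rc_43_2 lc_g_rc_43_2 lc_g_rc_33_3 lc_g_rc_42_0 lc_g_rc_33_3 lc_g_rc_41_2 lc_g_rc_43_2 lc_g_rc_41_2 lc_g_rc_7_1 lc_g_rc_43_2 lc_g_rc_43_2) (@D3.rec (fun _ => (Cert rels S Gen.g))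 lc_g_rc_22_1 lc_g_rc_22_1 lc_g_rc_41_2 lc_g_rc_28_1 lc_g_rc_43_2 lc_g_rc_28_1 lc_g_rc_43_2 lc_g_rc_33_1 lc_g_rc_43_2 lc_g_Cert_tree lc_g_rc_33_1 lc_g_rc_43_2 lc_g_rc_47_47 lc_g_rc_43_2 lc_g_rc_41_2 lc_g_rc_43_2 lc_g_rc_22_1 lc_g_rc_7_1) (@D3.rec (fun _ => (Cert rels S Gen.g)) lc_g_rc_41_0 lc_g_rc_7_1 lc_g_rc_47_33 lc_g_rc_33_1 lc_g_rc_41_2 lc_g_rc_28_1 lc_g_rc_43_2 lc_g_rc_43_2 lc_g_rc_43_2 lc_g_rc_15_3 lc_g_rc_28_1 lc_g_rc_28_1 lc_g_rc_43_2 lc_g_rc_15_3 lc_g_rc_33_1 lc_g_rc_43_2 lc_g_rc_33_1 lc_g_rc_43_2) (@D3.rec (fun _ => (Cert rels S Gen.g)) lc_g_rc_41_2 lc_g_rc_43_2 lc_g_rc_42_0 lc_g_rc_43_2 lc_g_rc_47_33 lc_g_rc_28_3 lc_g_rc_43_2 lc_g_rc_47_40 lc_g_rc_15_3 lc_g_rc_15_1 lc_g_rc_15_1 lc_g_rc_15_3 lc_g_rc_7_1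 lc_g_rc_15_1 lc_g_rc_41_0 lc_g_rc_15_1 lc_g_rc_33_1 lc_g_rc_7_1) (@D3.rec (fun _ => (Cert rels S Gen.g)) lc_g_rc_39_3 lc_g_rc_15_1 lc_g_rc_15_1 lc_g_rc_7_1 lc_g_rc_15_1 lc_g_rc_42_0 lc_g_rc_42_1 lc_g_rc_7_1 lc_g_rc_22_3 lc_g_rc_22_1 lc_g_rc_22_1 lc_g_rc_15_3 lc_g_rc_41_2 lc_g_rc_43_2 lc_g_rc_41_2 lc_g_rc_28_1 lc_g_rc_43_2 lc_g_rc_43_2) (@D3.rec (fun _ => (Cert rels S Gen.g)) lc_g_rc_15_1 lc_g_rc_15_1 lc_g_rc_15_1 lc_g_rc_15_1 lc_g_rc_41_2 lc_g_rc_43_2 lc_g_rc_39_5 lc_g_rc_43_2 lc_g_Cert_tree lc_g_rc_7_1 lc_g_Cert_tree lc_g_rc_42_0 lc_g_rc_42_1 lc_g_rc_7_1 lc_g_rc_7_1 lc_g_rc_42_0 lc_g_rc_42_1 lc_g_rc_41_2)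
def ce_g_8 : D2 → D3 → (Cert rels S Gen.g) := @D2.rec (fun _ => D3 → (Cert rels S Gen.g)) (@D3.rec (fun _ => (Cert rels S Gen.g)) lc_g_rc_43_2 lc_g_Cert_tree lc_g_rc_42_0 lc_g_rc_42_1 lc_g_rc_41_2 lc_g_rc_28_1 lc_g_rc_43_2 lc_g_rc_15_1 lc_g_rc_15_1 lc_g_rc_15_1 lc_g_rc_41_2 lc_g_rc_28_1 lc_g_rc_43_2 lc_g_rc_43_2 lc_g_rc_39_3 lc_g_rc_28_1 lc_g_rc_43_2 lc_g_rc_22_1) (@D3.rec (fun _ => (Cert rels S Gen.g)) lc_g_rc_43_2 lc_g_rc_15_1 lc_g_rc_22_1 lc_g_rc_7_1 lc_g_rc_22_1 lc_g_rc_22_1 lc_g_rc_22_1 lc_g_rc_15_1 lc_g_rc_7_1 lc_g_rc_7_1 lc_g_rc_7_1 lc_g_rc_7_1 lc_g_rc_7_1 lc_g_rc_28_1 lc_g_rc_7_3 lc_g_rc_15_3 lc_g_rc_15_3 lc_g_rc_28_3) (@D3.rec (fun _ => (Cert rels S Gen.g)) lc_g_rc_33_1 lc_g_rc_28_1 lc_g_rc_43_2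 lc_g_Cert_tree lc_g_rc_42_0 lc_g_rc_42_1 lc_g_rc_15_1 lc_g_rc_15_3 lc_g_rc_42_0 lc_g_rc_42_1 lc_g_rc_41_2 lc_g_rc_28_1 lc_g_rc_43_2 lc_g_rc_7_1 lc_g_rc_41_2 lc_g_rc_7_3 lc_g_rc_43_2 lc_g_rc_43_2) (@D3.rec (fun _ => (Cert rels S Gen.g)) lc_g_rc_42_0 lc_g_rc_22_1 lc_g_rc_22_1 lc_g_rc_41_2 lc_g_rc_28_1 lc_g_rc_43_2 lc_g_rc_28_1 lc_g_rc_43_2 lc_g_rc_33_1 lc_g_rc_43_2 lc_g_Cert_tree lc_g_rc_33_1 lc_g_rc_41_2 lc_g_rc_28_1 lc_g_rc_28_1 lc_g_rc_43_2 lc_g_rc_22_1 lc_g_rc_43_2) (@D3.rec (fun _ => (Cert rels S Gen.g)) lc_g_rc_43_2 lc_g_rc_22_1 lc_g_rc_43_2 lc_g_rc_15_1 lc_g_rc_22_1 lc_g_rc_7_1 lc_g_rc_7_1 lc_g_rc_47_33 lc_g_rc_15_1 lc_g_rc_39_1 lc_g_rc_41_2 lc_g_rc_28_1 lc_g_rc_43_2 lc_g_rc_43_2 lc_g_rc_28_3 lc_g_rc_42_0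 lc_g_rc_42_1 lc_g_rc_41_2) (@D3.rec (fun _ => (Cert rels S Gen.g)) lc_g_rc_43_2 lc_g_rc_41_2 lc_g_rc_28_1 lc_g_rc_43_2 lc_g_rc_43_2 lc_g_rc_28_1 lc_g_rc_43_2 lc_g_rc_22_1 lc_g_rc_43_2 lc_g_rc_15_3 lc_g_rc_15_3 lc_g_rc_15_1 lc_g_rc_15_1 lc_g_rc_42_0 lc_g_rc_42_1 lc_g_rc_41_2 lc_g_rc_15_1 lc_g_rc_43_2) (@D3.rec (fun _ => (Cert rels S Gen.g)) lc_g_rc_7_1 lc_g_rc_7_1 lc_g_rc_41_2 lc_g_rc_28_1 lc_g_rc_43_2 lc_g_rc_43_2 lc_g_rc_42_0 lc_g_rc_15_3 lc_g_rc_22_1 lc_g_rc_41_2 lc_g_rc_28_1 lc_g_rc_43_2 lc_g_rc_28_1 lc_g_rc_43_2 lc_g_rc_15_3 lc_g_rc_43_2 lc_g_Cert_tree lc_g_rc_15_1) (@D3.rec (fun _ => (Cert rels S Gen.g)) lc_g_rc_15_1 lc_g_rc_28_1 lc_g_rc_43_2 lc_g_rc_22_1 lc_g_rc_43_2 lc_g_rc_43_2 lc_g_rc_43_2 lc_g_rc_47_33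 lc_g_rc_43_2 lc_g_rc_41_2 lc_g_rc_7_3 lc_g_rc_41_2 lc_g_rc_41_2 lc_g_rc_33_1 lc_g_rc_41_2 lc_g_rc_28_1 lc_g_rc_43_2 lc_g_rc_28_1) (@D3.rec (fun _ => (Cert rels S Gen.g)) lc_g_rc_43_2 lc_g_rc_33_1 lc_g_rc_43_2 lc_g_rc_43_2 lc_g_rc_33_3 lc_g_rc_43_2 lc_g_rc_33_3 lc_g_rc_43_2 lc_g_rc_43_2 lc_g_rc_43_2 lc_g_rc_22_1 lc_g_rc_7_1 lc_g_rc_28_1 lc_g_rc_43_2 lc_g_rc_28_1 lc_g_rc_43_2 lc_g_rc_47_40 lc_g_rc_33_1) (@D3.rec (fun _ => (Cert rels S Gen.g)) lc_g_rc_43_2 lc_g_rc_33_1 lc_g_rc_43_2 lc_g_Cert_tree lc_g_rc_43_2 lc_g_rc_42_0 lc_g_rc_43_2 lc_g_rc_47_33 lc_g_rc_22_1 lc_g_rc_41_2 lc_g_rc_43_2 lc_g_rc_47_33 lc_g_rc_7_1 lc_g_rc_7_1 lc_g_rc_47_33 lc_g_rc_15_3 lc_g_rc_28_1 lc_g_rc_43_2) (@D3.rec (fun _ => (Cert rels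 S Gen.g)) lc_g_rc_22_1 lc_g_rc_43_2 lc_g_rc_7_1 lc_g_rc_28_3 lc_g_rc_33_1 lc_g_rc_43_2 lc_g_rc_7_1 lc_g_rc_15_3 lc_g_rc_22_1 lc_g_rc_7_1 lc_g_rc_43_2 lc_g_rc_41_2 lc_g_rc_41_2 lc_g_rc_43_2 lc_g_rc_43_2 lc_g_rc_43_2 lc_g_rc_22_1 lc_g_rc_15_1) (@D3.rec (fun _ => (Cert rels S Gen.g)) lc_g_rc_41_0 lc_g_rc_7_1 lc_g_rc_15_1 lc_g_rc_41_0 lc_g_rc_7_1 lc_g_rc_7_1 lc_g_rc_15_1 lc_g_rc_15_1 lc_g_rc_7_1 lc_g_rc_7_1 lc_g_rc_22_1 lc_g_rc_41_2 lc_g_rc_43_2 lc_g_rc_22_3 lc_g_rc_43_2 lc_g_rc_22_1 lc_g_rc_22_1 lc_g_rc_15_3) (@D3.rec (fun _ => (Cert rels S Gen.g)) lc_g_rc_43_2 lc_g_rc_43_2 lc_g_rc_28_1 lc_g_rc_43_2 lc_g_rc_22_1 lc_g_rc_43_2 lc_g_rc_15_1 lc_g_rc_15_1 lc_g_rc_7_3 lc_g_rc_22_1 lc_g_rc_15_1 lc_g_rc_15_1 lc_g_rc_43_2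 lc_g_rc_43_2 lc_g_Cert_tree lc_g_rc_42_0 lc_g_rc_42_1 lc_g_rc_15_1) (@D3.rec (fun _ => (Cert rels S Gen.g)) lc_g_rc_7_1 lc_g_Cert_tree lc_g_rc_42_0 lc_g_rc_42_1 lc_g_rc_41_2 lc_g_rc_7_3 lc_g_rc_43_2 lc_g_rc_7_1 lc_g_rc_7_1 lc_g_rc_7_1 lc_g_rc_41_2 lc_g_rc_7_3 lc_g_rc_43_2 lc_g_rc_43_2 lc_g_rc_42_0 lc_g_rc_42_1 lc_g_rc_22_1 lc_g_rc_41_2) (@D3.rec (fun _ => (Cert rels S Gen.g)) lc_g_rc_28_1 lc_g_rc_43_2 lc_g_rc_28_1 lc_g_rc_43_2 lc_g_rc_15_3 lc_g_rc_43_2 lc_g_Cert_tree lc_g_rc_15_1 lc_g_rc_15_1 lc_g_rc_15_1 lc_g_rc_28_1 lc_g_rc_43_2 lc_g_rc_22_1 lc_g_rc_43_2 lc_g_rc_22_1 lc_g_rc_43_2 lc_g_rc_22_1 lc_g_rc_43_2)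
def ce_g_9 : D2 → D3 → (Cert rels S Gen.g) := @D2.rec (fun _ => D3 → (Cert rels S Gen.g)) (@D3.rec (fun _ => (Cert rels S Gen.g)) lc_g_rc_15_1 lc_g_rc_22_1 lc_g_rc_41_2 lc_g_rc_15_1 lc_g_rc_22_1 lc_g_rc_22_1 lc_g_rc_22_1 lc_g_rc_22_1 lc_g_rc_22_1 lc_g_rc_7_3 lc_g_rc_15_1 lc_g_rc_7_1 lc_g_rc_22_1 lc_g_rc_28_3 lc_g_rc_7_1 lc_g_rc_7_1 lc_g_rc_7_3 lc_g_rc_15_3) (@D3.rec (fun _ => (Cert rels S Gen.g)) lc_g_rc_22_1 lc_g_rc_15_3 lc_g_rc_22_1 lc_g_Cert_tree lc_g_rc_33_1 lc_g_rc_41_2 lc_g_rc_22_1 lc_g_rc_42_0 lc_g_rc_42_1 lc_g_rc_41_2 lc_g_rc_43_2 lc_g_rc_15_3 lc_g_rc_41_2 lc_g_rc_28_1 lc_g_rc_43_2 lc_g_rc_28_1 lc_g_rc_43_2 lc_g_rc_33_1) (@D3.rec (fun _ => (Cert rels S Gen.g)) lc_g_rc_43_2 lc_g_rc_7_1 lc_g_rc_43_2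 lc_g_rc_22_1 lc_g_rc_7_3 lc_g_rc_22_1 lc_g_rc_22_1 lc_g_rc_28_3 lc_g_rc_28_1 lc_g_rc_43_2 lc_g_rc_22_1 lc_g_rc_33_1 lc_g_rc_43_2 lc_g_rc_33_1 lc_g_rc_43_2 lc_g_Cert_tree lc_g_rc_43_2 lc_g_rc_41_2) (@D3.rec (fun _ => (Cert rels S Gen.g)) lc_g_rc_42_0 lc_g_rc_43_2 lc_g_rc_41_2 lc_g_rc_43_2 lc_g_rc_43_2 lc_g_rc_47_33 lc_g_rc_22_1 lc_g_rc_15_1 lc_g_rc_22_1 lc_g_rc_41_2 lc_g_rc_15_1 lc_g_rc_7_1 lc_g_rc_15_1 lc_g_rc_28_1 lc_g_rc_43_2 lc_g_rc_22_1 lc_g_rc_43_2 lc_g_rc_33_1) (@D3.rec (fun _ => (Cert rels S Gen.g)) lc_g_rc_41_2 lc_g_rc_28_1 lc_g_rc_43_2 lc_g_rc_43_2 lc_g_rc_28_1 lc_g_rc_43_2 lc_g_rc_15_3 lc_g_rc_43_2 lc_g_rc_43_2 lc_g_rc_15_1 lc_g_rc_43_2 lc_g_rc_41_2 lc_g_rc_15_3 lc_g_rc_41_2 lc_g_rc_15_1 lc_g_rc_7_1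 lc_g_rc_41_2 lc_g_rc_28_1) (@D3.rec (fun _ => (Cert rels S Gen.g)) lc_g_rc_43_2 lc_g_rc_43_2 lc_g_rc_22_1 lc_g_rc_41_2 lc_g_rc_7_1 lc_g_rc_28_1 lc_g_rc_43_2 lc_g_rc_22_1 lc_g_rc_43_2 lc_g_rc_28_1 lc_g_rc_43_2 lc_g_rc_22_1 lc_g_rc_28_1 lc_g_rc_43_2 lc_g_rc_22_1 lc_g_rc_28_1 lc_g_rc_43_2 lc_g_rc_43_2) (@D3.rec (fun _ => (Cert rels S Gen.g)) lc_g_Cert_tree lc_g_rc_43_2 lc_g_rc_42_0 lc_g_rc_43_2 lc_g_rc_15_1 lc_g_rc_22_1 lc_g_rc_43_2 lc_g_rc_15_1 lc_g_rc_22_1 lc_g_rc_41_2 lc_g_rc_41_2 lc_g_rc_15_1 lc_g_rc_15_1 lc_g_rc_39_1 lc_g_rc_28_1 lc_g_rc_43_2 lc_g_rc_41_2 lc_g_rc_43_2) (@D3.rec (fun _ => (Cert rels S Gen.g)) lc_g_rc_28_1 lc_g_rc_43_2 lc_g_rc_22_1 lc_g_rc_33_1 lc_g_rc_43_2 lc_g_rc_43_2 lc_g_rc_43_2 lc_g_rc_43_2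 lc_g_rc_22_1 lc_g_rc_43_2 lc_g_rc_15_1 lc_g_rc_22_1 lc_g_rc_22_1 lc_g_rc_28_1 lc_g_rc_43_2 lc_g_rc_33_1 lc_g_rc_43_2 lc_g_rc_47_33) (@D3.rec (fun _ => (Cert rels S Gen.g)) lc_g_rc_15_3 lc_g_rc_28_1 lc_g_rc_7_1 lc_g_rc_43_2 lc_g_rc_41_2 lc_g_rc_7_1 lc_g_rc_43_2 lc_g_rc_42_0 lc_g_rc_43_2 lc_g_rc_43_2 lc_g_rc_22_1 lc_g_rc_43_2 lc_g_rc_15_1 lc_g_rc_47_33 lc_g_rc_22_1 lc_g_rc_22_1 lc_g_rc_43_2 lc_g_rc_22_3) (@D3.rec (fun _ => (Cert rels S Gen.g)) lc_g_rc_22_1 lc_g_rc_41_2 lc_g_rc_33_3 lc_g_rc_15_3 lc_g_rc_43_2 lc_g_rc_41_2 lc_g_rc_7_1 lc_g_rc_28_1 lc_g_rc_15_3 lc_g_rc_22_1 lc_g_rc_22_1 lc_g_rc_28_1 lc_g_rc_41_2 lc_g_rc_43_2 lc_g_rc_7_1 lc_g_rc_43_2 lc_g_rc_15_1 lc_g_rc_15_1) (@D3.rec (fun _ => (Cert rels S Gen.g))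 lc_g_rc_15_1 lc_g_rc_43_2 lc_g_rc_7_1 lc_g_rc_7_1 lc_g_rc_22_1 lc_g_rc_43_2 lc_g_rc_43_2 lc_g_rc_7_1 lc_g_rc_43_2 lc_g_Cert_tree lc_g_rc_22_1 lc_g_rc_22_1 lc_g_rc_7_1 lc_g_rc_43_2 lc_g_rc_22_1 lc_g_rc_43_2 lc_g_rc_15_1 lc_g_rc_22_1) (@D3.rec (fun _ => (Cert rels S Gen.g)) lc_g_rc_41_2 lc_g_rc_15_1 lc_g_rc_15_1 lc_g_rc_22_1 lc_g_rc_7_3 lc_g_rc_28_1 lc_g_rc_15_1 lc_g_rc_15_1 lc_g_rc_15_1 lc_g_rc_39_5 lc_g_rc_42_0 lc_g_rc_42_1 lc_g_rc_41_2 lc_g_rc_15_1 lc_g_rc_43_2 lc_g_rc_22_1 lc_g_rc_15_1 lc_g_rc_42_0) (@D3.rec (fun _ => (Cert rels S Gen.g)) lc_g_rc_42_1 lc_g_rc_7_1 lc_g_rc_41_2 lc_g_rc_28_1 lc_g_rc_43_2 lc_g_rc_43_2 lc_g_rc_22_1 lc_g_rc_43_2 lc_g_rc_22_3 lc_g_rc_7_1 lc_g_rc_7_1 lc_g_rc_7_1 lc_g_rc_43_2 lc_g_rc_15_1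 lc_g_rc_43_2 lc_g_rc_41_2 lc_g_rc_28_1 lc_g_rc_43_2) (@D3.rec (fun _ => (Cert rels S Gen.g)) lc_g_rc_22_1 lc_g_rc_28_1 lc_g_rc_43_2 lc_g_rc_22_1 lc_g_rc_15_3 lc_g_rc_43_2 lc_g_rc_43_2 lc_g_Cert_tree lc_g_rc_28_3 lc_g_rc_41_2 lc_g_rc_42_0 lc_g_rc_43_2 lc_g_rc_15_1 lc_g_rc_15_1 lc_g_rc_15_1 lc_g_rc_43_2 lc_g_rc_22_3 lc_g_rc_43_2) (@D3.rec (fun _ => (Cert rels S Gen.g)) lc_g_rc_41_2 lc_g_rc_22_1 lc_g_rc_43_2 lc_g_rc_15_1 lc_g_rc_22_1 lc_g_rc_41_2 lc_g_rc_7_1 lc_g_rc_15_1 lc_g_rc_41_2 lc_g_rc_15_1 lc_g_rc_15_1 lc_g_rc_22_1 lc_g_rc_33_1 lc_g_rc_22_1 lc_g_rc_22_1 lc_g_rc_22_1 lc_g_rc_33_3 lc_g_rc_7_1)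
def ce_g_10 : D2 → D3 → (Cert rels S Gen.g) := @D2.rec (fun _ => D3 → (Cert rels S Gen.g)) (@D3.rec (fun _ => (Cert rels S Gen.g)) lc_g_rc_22_1 lc_g_rc_15_3 lc_g_rc_22_1 lc_g_rc_7_1 lc_g_rc_15_3 lc_g_rc_22_1 lc_g_rc_15_3 lc_g_rc_22_1 lc_g_rc_15_3 lc_g_rc_22_1 lc_g_rc_22_1 lc_g_rc_42_0 lc_g_rc_43_2 lc_g_rc_41_2 lc_g_rc_22_1 lc_g_rc_41_2 lc_g_rc_28_1 lc_g_rc_43_2) (@D3.rec (fun _ => (Cert rels S Gen.g)) lc_g_rc_43_2 lc_g_rc_22_1 lc_g_rc_22_1 lc_g_rc_28_1 lc_g_rc_43_2 lc_g_rc_22_1 lc_g_rc_33_1 lc_g_rc_43_2 lc_g_rc_33_1 lc_g_rc_43_2 lc_g_rc_43_2 lc_g_rc_41_2 lc_g_rc_22_1 lc_g_rc_22_1 lc_g_rc_28_1 lc_g_rc_42_0 lc_g_rc_43_2 lc_g_rc_33_1) (@D3.rec (fun _ => (Cert rels S Gen.g)) lc_g_rc_43_2 lc_g_rc_28_1 lc_g_rc_22_1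 lc_g_rc_22_1 lc_g_Cert_tree lc_g_rc_43_2 lc_g_rc_41_2 lc_g_Cert_tree lc_g_rc_43_2 lc_g_rc_41_2 lc_g_rc_42_0 lc_g_rc_43_2 lc_g_rc_41_2 lc_g_rc_43_2 lc_g_rc_41_2 lc_g_rc_15_1 lc_g_rc_22_3 lc_g_rc_15_1) (@D3.rec (fun _ => (Cert rels S Gen.g)) lc_g_rc_43_2 lc_g_rc_43_2 lc_g_rc_15_1 lc_g_rc_43_2 lc_g_rc_41_2 lc_g_rc_33_1 lc_g_rc_43_2 lc_g_rc_28_1 lc_g_rc_43_2 lc_g_rc_15_3 lc_g_rc_43_2 lc_g_rc_43_2 lc_g_rc_47_47 lc_g_rc_22_1 lc_g_rc_41_2 lc_g_rc_41_2 lc_g_rc_22_1 lc_g_rc_15_1) (@D3.rec (fun _ => (Cert rels S Gen.g)) lc_g_rc_22_1 lc_g_rc_28_1 lc_g_rc_43_2 lc_g_rc_28_1 lc_g_rc_43_2 lc_g_rc_7_1 lc_g_rc_28_1 lc_g_rc_43_2 lc_g_rc_22_1 lc_g_rc_28_1 lc_g_rc_43_2 lc_g_rc_43_2 lc_g_rc_7_1 lc_g_rc_22_1 lc_g_rc_43_2 lc_g_rc_22_1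 lc_g_rc_41_2 lc_g_rc_22_1) (@D3.rec (fun _ => (Cert rels S Gen.g)) lc_g_rc_43_2 lc_g_rc_28_1 lc_g_rc_22_1 lc_g_rc_22_1 lc_g_rc_43_2 lc_g_rc_15_1 lc_g_rc_15_3 lc_g_rc_22_1 lc_g_Cert_tree lc_g_rc_43_2 lc_g_rc_41_2 lc_g_rc_42_0 lc_g_rc_43_2 lc_g_rc_43_2 lc_g_rc_22_1 lc_g_rc_41_2 lc_g_rc_15_3 lc_g_rc_22_1) (@D3.rec (fun _ => (Cert rels S Gen.g)) lc_g_rc_41_2 lc_g_rc_28_1 lc_g_rc_39_1 lc_g_rc_43_2 lc_g_rc_43_2 lc_g_rc_43_2 lc_g_rc_42_1 lc_g_rc_43_2 lc_g_rc_43_2 lc_g_rc_41_2 lc_g_rc_15_1 lc_g_rc_28_1 lc_g_rc_43_0 lc_g_rc_28_3 lc_g_rc_47_33 lc_g_rc_15_3 lc_g_rc_28_1 lc_g_rc_7_1) (@D3.rec (fun _ => (Cert rels S Gen.g)) lc_g_rc_43_2 lc_g_rc_43_2 lc_g_rc_15_3 lc_g_rc_43_2 lc_g_rc_41_2 lc_g_rc_15_1 lc_g_rc_7_1 lc_g_rc_28_1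 lc_g_rc_15_3 lc_g_rc_28_1 lc_g_rc_39_1 lc_g_rc_39_3 lc_g_rc_41_2 lc_g_rc_22_1 lc_g_rc_43_2 lc_g_rc_22_1 lc_g_rc_41_0 lc_g_rc_41_2) (@D3.rec (fun _ => (Cert rels S Gen.g)) lc_g_rc_43_2 lc_g_rc_22_1 lc_g_rc_28_1 lc_g_rc_41_2 lc_g_rc_47_26 lc_g_rc_33_1 lc_g_rc_41_2 lc_g_rc_43_2 lc_g_rc_22_1 lc_g_rc_41_2 lc_g_rc_39_3 lc_g_rc_22_1 lc_g_rc_15_1 lc_g_rc_15_1 lc_g_rc_43_2 lc_g_rc_15_1 lc_g_rc_7_1 lc_g_rc_7_1) (@D3.rec (fun _ => (Cert rels S Gen.g)) lc_g_rc_43_2 lc_g_rc_22_3 lc_g_rc_43_2 lc_g_rc_22_3 lc_g_rc_42_0 lc_g_rc_43_2 lc_g_rc_22_1 lc_g_rc_15_1 lc_g_rc_43_2 lc_g_rc_15_3 lc_g_rc_15_1 lc_g_rc_22_1 lc_g_rc_41_2 lc_g_rc_33_1 lc_g_rc_15_1 lc_g_rc_41_2 lc_g_rc_22_3 lc_g_rc_41_2) (@D3.rec (fun _ => (Cert rels S Gen.g))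 lc_g_rc_15_1 lc_g_rc_7_3 lc_g_rc_28_1 lc_g_rc_33_1 lc_g_rc_41_2 lc_g_rc_22_1 lc_g_rc_39_5 lc_g_rc_41_2 lc_g_rc_28_1 lc_g_rc_43_2 lc_g_rc_43_2 lc_g_rc_22_1 lc_g_rc_33_3 lc_g_rc_22_1 lc_g_rc_15_1 lc_g_rc_41_2 lc_g_rc_28_1 lc_g_rc_43_2) (@D3.rec (fun _ => (Cert rels S Gen.g)) lc_g_rc_7_1 lc_g_rc_28_1 lc_g_rc_43_2 lc_g_rc_15_1 lc_g_rc_22_1 lc_g_rc_43_2 lc_g_rc_7_3 lc_g_rc_43_2 lc_g_rc_7_3 lc_g_rc_43_2 lc_g_rc_7_1 lc_g_rc_7_1 lc_g_rc_28_3 lc_g_rc_7_3 lc_g_rc_28_1 lc_g_rc_43_2 lc_g_rc_28_3 lc_g_rc_22_1) (@D3.rec (fun _ => (Cert rels S Gen.g)) lc_g_rc_43_2 lc_g_rc_28_1 lc_g_rc_22_1 lc_g_rc_43_2 lc_g_rc_28_1 lc_g_rc_33_1 lc_g_Cert_tree lc_g_rc_22_1 lc_g_rc_41_2 lc_g_rc_41_2 lc_g_rc_42_0 lc_g_rc_43_2 lc_g_rc_39_5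 lc_g_rc_43_2 lc_g_rc_41_2 lc_g_rc_15_1 lc_g_rc_41_2 lc_g_rc_15_1) (@D3.rec (fun _ => (Cert rels S Gen.g)) lc_g_rc_22_3 lc_g_rc_7_1 lc_g_rc_43_2 lc_g_rc_22_1 lc_g_rc_15_1 lc_g_rc_41_2 lc_g_rc_28_1 lc_g_rc_15_1 lc_g_rc_15_1 lc_g_rc_22_1 lc_g_rc_33_1 lc_g_rc_22_1 lc_g_rc_22_3 lc_g_rc_28_3 lc_g_rc_15_3 lc_g_rc_28_1 lc_g_rc_22_1 lc_g_rc_22_1) (@D3.rec (fun _ => (Cert rels S Gen.g)) lc_g_rc_15_3 lc_g_rc_28_1 lc_g_rc_15_3 lc_g_rc_28_1 lc_g_rc_39_5 lc_g_rc_43_2 lc_g_rc_22_1 lc_g_rc_43_2 lc_g_rc_41_2 lc_g_rc_28_1 lc_g_rc_22_1 lc_g_rc_28_1 lc_g_rc_43_2 lc_g_rc_28_3 lc_g_rc_43_2 lc_g_rc_22_1 lc_g_rc_22_1 lc_g_rc_33_1)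
def ce_g_11 : D2 → D3 → (Cert rels S Gen.g) := @D2.rec (fun _ => D3 → (Cert rels S Gen.g)) (@D3.rec (fun _ => (Cert rels S Gen.g)) lc_g_rc_43_2 lc_g_rc_22_1 lc_g_rc_28_1 lc_g_rc_43_2 lc_g_rc_41_2 lc_g_rc_7_3 lc_g_rc_43_2 lc_g_rc_41_2 lc_g_rc_41_2 lc_g_Cert_tree lc_g_rc_33_1 lc_g_rc_41_2 lc_g_rc_33_1 lc_g_rc_43_2 lc_g_Cert_tree lc_g_rc_43_2 lc_g_rc_41_2 lc_g_rc_15_1) (@D3.rec (fun _ => (Cert rels S Gen.g)) lc_g_rc_22_1 lc_g_rc_28_1 lc_g_Cert_tree lc_g_rc_33_1 lc_g_rc_22_1 lc_g_rc_42_0 lc_g_rc_43_2 lc_g_rc_41_2 lc_g_rc_42_0 lc_g_rc_43_2 lc_g_rc_41_2 lc_g_rc_43_2 lc_g_rc_41_2 lc_g_rc_28_1 lc_g_rc_41_2 lc_g_rc_22_1 lc_g_rc_41_2 lc_g_rc_43_2) (@D3.rec (fun _ => (Cert rels S Gen.g)) lc_g_rc_22_1 lc_g_rc_43_2 lc_g_rc_43_2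 lc_g_rc_7_1 lc_g_rc_28_1 lc_g_rc_41_2 lc_g_rc_41_2 lc_g_rc_43_2 lc_g_rc_22_1 lc_g_rc_43_2 lc_g_rc_39_3 lc_g_rc_43_2 lc_g_rc_22_1 lc_g_rc_43_2 lc_g_rc_7_1 lc_g_rc_7_1 lc_g_rc_22_1 lc_g_rc_43_2) (@D3.rec (fun _ => (Cert rels S Gen.g)) lc_g_rc_15_3 lc_g_rc_22_1 lc_g_rc_43_2 lc_g_rc_41_2 lc_g_rc_22_1 lc_g_rc_41_2 lc_g_rc_41_2 lc_g_rc_7_3 lc_g_rc_22_1 lc_g_rc_7_3 lc_g_rc_33_1 lc_g_rc_28_1 lc_g_rc_22_1 lc_g_rc_41_2 lc_g_rc_15_3 lc_g_rc_7_1 lc_g_rc_28_1 lc_g_rc_15_1) (@D3.rec (fun _ => (Cert rels S Gen.g)) lc_g_rc_22_1 lc_g_rc_41_2 lc_g_rc_42_0 lc_g_rc_43_2 lc_g_rc_43_0 lc_g_rc_43_2 lc_g_rc_41_2 lc_g_rc_43_2 lc_g_rc_41_2 lc_g_rc_28_1 lc_g_rc_41_2 lc_g_rc_43_0 lc_g_rc_43_2 lc_g_rc_41_2 lc_g_rc_43_2 lc_g_rc_22_1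 lc_g_rc_43_0 lc_g_rc_22_3) (@D3.rec (fun _ => (Cert rels S Gen.g)) lc_g_rc_41_2 lc_g_rc_15_1 lc_g_rc_7_1 lc_g_rc_43_2 lc_g_rc_15_1 lc_g_rc_33_1 lc_g_rc_39_3 lc_g_rc_43_2 lc_g_rc_43_2 lc_g_rc_28_1 lc_g_rc_41_2 lc_g_rc_39_1 lc_g_rc_7_1 lc_g_rc_33_1 lc_g_rc_41_2 lc_g_rc_43_2 lc_g_rc_41_2 lc_g_rc_41_2) (@D3.rec (fun _ => (Cert rels S Gen.g)) lc_g_rc_39_1 lc_g_rc_7_1 lc_g_rc_41_2 lc_g_rc_39_3 lc_g_rc_41_2 lc_g_rc_7_1 lc_g_rc_28_1 lc_g_rc_22_1 lc_g_rc_15_1 lc_g_rc_15_1 lc_g_rc_15_1 lc_g_rc_43_2 lc_g_rc_7_1 lc_g_rc_22_1 lc_g_rc_43_2 lc_g_rc_7_1 lc_g_rc_43_2 lc_g_rc_41_2) (@D3.rec (fun _ => (Cert rels S Gen.g)) lc_g_rc_28_1 lc_g_rc_33_3 lc_g_rc_7_1 lc_g_rc_15_1 lc_g_rc_41_2 lc_g_rc_33_1 lc_g_rc_15_1 lc_g_rc_28_1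 lc_g_rc_22_1 lc_g_rc_7_3 lc_g_rc_43_2 lc_g_rc_7_3 lc_g_rc_28_1 lc_g_rc_33_1 lc_g_rc_41_2 lc_g_rc_41_2 lc_g_rc_41_2 lc_g_rc_28_1) (@D3.rec (fun _ => (Cert rels S Gen.g)) lc_g_rc_43_2 lc_g_rc_22_1 lc_g_rc_28_1 lc_g_rc_43_2 lc_g_rc_22_1 lc_g_rc_41_2 lc_g_rc_22_1 lc_g_rc_28_1 lc_g_rc_43_2 lc_g_rc_22_1 lc_g_rc_15_3 lc_g_rc_43_2 lc_g_rc_7_1 lc_g_rc_7_1 lc_g_rc_43_2 lc_g_rc_22_1 lc_g_rc_7_3 lc_g_rc_33_1) (@D3.rec (fun _ => (Cert rels S Gen.g)) lc_g_rc_41_2 lc_g_rc_43_2 lc_g_rc_7_3 lc_g_rc_7_3 lc_g_rc_39_5 lc_g_rc_43_2 lc_g_rc_47_26 lc_g_rc_33_1 lc_g_rc_15_3 lc_g_rc_22_1 lc_g_rc_41_2 lc_g_rc_33_1 lc_g_rc_28_1 lc_g_rc_41_2 lc_g_rc_15_1 lc_g_rc_28_1 lc_g_rc_33_1 lc_g_rc_42_0) (@D3.rec (fun _ => (Cert rels S Gen.g))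 lc_g_rc_43_2 lc_g_rc_22_1 lc_g_rc_43_2 lc_g_rc_41_2 lc_g_rc_41_0 lc_g_rc_41_2 lc_g_rc_39_3 lc_g_rc_43_2 lc_g_rc_41_2 lc_g_rc_7_1 lc_g_rc_22_1 lc_g_rc_15_1 lc_g_rc_41_2 lc_g_rc_15_1 lc_g_rc_41_2 lc_g_rc_28_1 lc_g_rc_22_3 lc_g_rc_28_1) (@D3.rec (fun _ => (Cert rels S Gen.g)) lc_g_rc_41_2 lc_g_rc_22_1 lc_g_rc_33_1 lc_g_rc_39_3 lc_g_rc_43_2 lc_g_rc_41_2 lc_g_rc_7_1 lc_g_rc_28_1 lc_g_rc_41_2 lc_g_rc_28_1 lc_g_rc_43_2 lc_g_rc_39_5 lc_g_rc_41_2 lc_g_rc_33_1 lc_g_rc_22_1 lc_g_rc_7_3 lc_g_rc_43_2 lc_g_rc_41_2) (@D3.rec (fun _ => (Cert rels S Gen.g)) lc_g_rc_33_1 lc_g_rc_41_2 lc_g_rc_41_2 lc_g_rc_39_3 lc_g_rc_41_2 lc_g_rc_28_1 lc_g_rc_42_0 lc_g_rc_43_2 lc_g_rc_41_2 lc_g_rc_43_2 lc_g_rc_22_1 lc_g_rc_42_0 lc_g_rc_43_2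 lc_g_rc_41_2 lc_g_rc_28_1 lc_g_rc_15_3 lc_g_rc_43_2 lc_g_rc_41_2) (@D3.rec (fun _ => (Cert rels S Gen.g)) lc_g_rc_42_0 lc_g_rc_43_2 lc_g_rc_33_1 lc_g_rc_43_2 lc_g_rc_41_2 lc_g_rc_28_1 lc_g_rc_43_2 lc_g_rc_41_2 lc_g_rc_28_1 lc_g_rc_41_2 lc_g_rc_28_1 lc_g_rc_22_1 lc_g_rc_7_1 lc_g_rc_28_1 lc_g_rc_43_2 lc_g_rc_41_2 lc_g_rc_33_1 lc_g_rc_41_2) (@D3.rec (fun _ => (Cert rels S Gen.g)) lc_g_rc_7_1 lc_g_rc_28_1 lc_g_rc_7_1 lc_g_rc_43_0 lc_g_rc_22_1 lc_g_rc_43_2 lc_g_rc_7_1 lc_g_rc_22_1 lc_g_rc_41_2 lc_g_rc_22_1 lc_g_rc_41_2 lc_g_rc_7_1 lc_g_rc_41_2 lc_g_rc_7_3 lc_g_rc_33_1 lc_g_rc_22_1 lc_g_rc_33_1 lc_g_rc_39_3)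
def ce_g_12 : D2 → D3 → (Cert rels S Gen.g) := @D2.rec (fun _ => D3 → (Cert rels S Gen.g)) (@D3.rec (fun _ => (Cert rels S Gen.g)) lc_g_rc_41_2 lc_g_rc_43_2 lc_g_rc_33_1 lc_g_rc_41_2 lc_g_rc_15_1 lc_g_rc_22_1 lc_g_rc_28_1 lc_g_rc_43_2 lc_g_rc_41_2 lc_g_rc_28_1 lc_g_rc_7_1 lc_g_rc_15_1 lc_g_rc_22_1 lc_g_rc_22_1 lc_g_rc_22_3 lc_g_rc_43_2 lc_g_rc_39_1 lc_g_rc_43_2) (@D3.rec (fun _ => (Cert rels S Gen.g)) lc_g_rc_15_1 lc_g_rc_41_2 lc_g_rc_43_2 lc_g_rc_41_2 lc_g_rc_41_2 lc_g_rc_33_1 lc_g_rc_41_2 lc_g_rc_43_0 lc_g_rc_41_2 lc_g_rc_41_2 lc_g_rc_15_1 lc_g_rc_22_1 lc_g_rc_22_1 lc_g_rc_15_1 lc_g_rc_7_3 lc_g_rc_7_1 lc_g_rc_7_1 lc_g_rc_41_2) (@D3.rec (fun _ => (Cert rels S Gen.g)) lc_g_rc_28_1 lc_g_rc_22_1 lc_g_rc_41_2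 lc_g_rc_15_1 lc_g_rc_28_1 lc_g_rc_41_2 lc_g_rc_22_1 lc_g_rc_28_1 lc_g_rc_33_3 lc_g_rc_39_3 lc_g_rc_43_2 lc_g_rc_33_1 lc_g_rc_41_2 lc_g_rc_41_2 lc_g_rc_15_1 lc_g_rc_15_1 lc_g_rc_43_2 lc_g_rc_43_2) (@D3.rec (fun _ => (Cert rels S Gen.g)) lc_g_rc_28_1 lc_g_rc_41_2 lc_g_rc_41_2 lc_g_rc_43_2 lc_g_rc_22_1 lc_g_rc_33_1 lc_g_rc_41_2 lc_g_rc_7_1 lc_g_rc_41_2 lc_g_rc_22_1 lc_g_rc_33_1 lc_g_rc_33_1 lc_g_rc_7_3 lc_g_rc_7_3 lc_g_rc_41_0 lc_g_rc_41_2 lc_g_rc_39_1 lc_g_rc_39_5) (@D3.rec (fun _ => (Cert rels S Gen.g)) lc_g_rc_15_3 lc_g_rc_39_5 lc_g_rc_33_1 lc_g_rc_39_3 lc_g_rc_43_2 lc_g_rc_41_2 lc_g_rc_43_0 lc_g_rc_43_2 lc_g_rc_41_2 lc_g_rc_28_1 lc_g_rc_41_2 lc_g_rc_28_1 lc_g_rc_22_1 lc_g_rc_7_1 lc_g_rc_47_26 lc_g_rc_28_1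 lc_g_rc_28_1 lc_g_rc_22_3) (@D3.rec (fun _ => (Cert rels S Gen.g)) lc_g_rc_41_2 lc_g_rc_28_1 lc_g_rc_41_2 lc_g_rc_7_1 lc_g_rc_41_2 lc_g_rc_7_1 lc_g_rc_7_1 lc_g_rc_41_2 lc_g_rc_41_2 lc_g_rc_39_5 lc_g_rc_33_1 lc_g_rc_33_3 lc_g_rc_41_2 lc_g_rc_41_2 lc_g_rc_28_1 lc_g_rc_41_2 lc_g_rc_28_1 lc_g_rc_22_1) (@D3.rec (fun _ => (Cert rels S Gen.g)) lc_g_rc_43_2 lc_g_rc_41_2 lc_g_rc_15_3 lc_g_rc_22_1 lc_g_rc_43_2 lc_g_rc_41_2 lc_g_rc_28_1 lc_g_rc_41_2 lc_g_rc_15_3 lc_g_rc_7_1 lc_g_rc_43_2 lc_g_rc_41_2 lc_g_rc_28_1 lc_g_rc_41_2 lc_g_rc_28_1 lc_g_rc_22_1 lc_g_rc_41_2 lc_g_rc_28_1) (@D3.rec (fun _ => (Cert rels S Gen.g)) lc_g_rc_22_1 lc_g_rc_33_1 lc_g_rc_33_1 lc_g_rc_28_1 lc_g_rc_33_1 lc_g_rc_41_2 lc_g_rc_15_1 lc_g_rc_22_1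 lc_g_rc_7_1 lc_g_rc_41_2 lc_g_rc_22_1 lc_g_rc_7_3 lc_g_rc_33_1 lc_g_rc_28_1 lc_g_rc_41_2 lc_g_rc_28_1 lc_g_rc_43_0 lc_g_rc_41_2) (@D3.rec (fun _ => (Cert rels S Gen.g)) lc_g_rc_15_1 lc_g_rc_15_1 lc_g_rc_28_1 lc_g_rc_22_1 lc_g_rc_41_2 lc_g_rc_28_1 lc_g_rc_43_0 lc_g_rc_39_1 lc_g_rc_41_2 lc_g_rc_43_2 lc_g_rc_41_2 lc_g_rc_15_1 lc_g_rc_22_1 lc_g_rc_28_1 lc_g_rc_22_1 lc_g_rc_28_1 lc_g_rc_15_1 lc_g_rc_28_1) (@D3.rec (fun _ => (Cert rels S Gen.g)) lc_g_rc_28_1 lc_g_rc_22_1 lc_g_rc_28_1 lc_g_rc_33_3 lc_g_rc_39_3 lc_g_rc_41_2 lc_g_rc_15_1 lc_g_rc_15_1 lc_g_rc_22_1 lc_g_rc_33_1 lc_g_rc_41_2 lc_g_rc_7_3 lc_g_rc_41_2 lc_g_rc_15_1 lc_g_rc_41_2 lc_g_rc_39_3 lc_g_rc_39_1 lc_g_rc_7_1) (@D3.rec (fun _ => (Cert rels S Gen.g))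 lc_g_rc_28_1 lc_g_rc_33_1 lc_g_rc_43_0 lc_g_rc_15_1 lc_g_rc_39_1 lc_g_rc_39_5 lc_g_rc_15_3 lc_g_rc_39_5 lc_g_rc_41_2 lc_g_rc_7_1 lc_g_rc_15_1 lc_g_rc_28_1 lc_g_rc_41_2 lc_g_rc_22_3 lc_g_rc_22_1 lc_g_rc_28_1 lc_g_rc_15_1 lc_g_rc_28_1) (@D3.rec (fun _ => (Cert rels S Gen.g)) lc_g_rc_28_1 lc_g_rc_41_2 lc_g_rc_43_2 lc_g_rc_15_3 lc_g_rc_7_1 lc_g_rc_15_1 lc_g_rc_28_1 lc_g_rc_41_2 lc_g_rc_28_1 lc_g_rc_15_1 lc_g_rc_22_1 lc_g_rc_41_2 lc_g_rc_15_3 lc_g_rc_22_1 lc_g_rc_28_1 lc_g_rc_41_2 lc_g_rc_28_1 lc_g_rc_22_1) (@D3.rec (fun _ => (Cert rels S Gen.g)) lc_g_rc_41_2 lc_g_rc_22_3 lc_g_rc_41_2 lc_g_rc_28_1 lc_g_rc_28_1 lc_g_rc_28_3 lc_g_rc_28_3 lc_g_rc_33_1 lc_g_rc_33_1 lc_g_rc_43_0 lc_g_rc_28_1 lc_g_rc_28_1 lc_g_rc_15_1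 lc_g_rc_28_1 lc_g_rc_7_1 lc_g_rc_28_1 lc_g_rc_15_1 lc_g_rc_15_1) (@D3.rec (fun _ => (Cert rels S Gen.g)) lc_g_rc_28_1 lc_g_rc_22_1 lc_g_rc_15_1 lc_g_rc_15_1 lc_g_rc_7_3 lc_g_rc_28_3 lc_g_rc_22_1 lc_g_rc_33_1 lc_g_rc_22_3 lc_g_rc_15_1 lc_g_rc_39_3 lc_g_rc_39_1 lc_g_rc_43_0 lc_g_rc_15_1 lc_g_rc_15_3 lc_g_rc_28_1 lc_g_rc_15_3 lc_g_rc_28_1) (@D3.rec (fun _ => (Cert rels S Gen.g)) lc_g_rc_28_1 lc_g_rc_28_1 lc_g_rc_28_1 lc_g_rc_28_1 lc_g_rc_28_1 lc_g_rc_22_1 lc_g_rc_22_1 lc_g_rc_22_3 lc_g_rc_28_3 lc_g_rc_28_1 lc_g_rc_28_1 lc_g_rc_28_1 lc_g_rc_22_1 lc_g_rc_22_1 lc_g_rc_22_1 lc_g_rc_28_1 lc_g_rc_22_1 lc_g_rc_28_1)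
def ce_g : Pt → (Cert rels S Gen.g) := @Pt.rec (fun _ => (Cert rels S Gen.g)) (@D1.rec (fun _ => D2 → D3 → (Cert rels S Gen.g)) ce_g_0 ce_g_1 ce_g_2 ce_g_3 ce_g_4 ce_g_5 ce_g_6 ce_g_7 ce_g_8 ce_g_9 ce_g_10 ce_g_11 ce_g_12)

end

end Cfsg.Agent.Helper28.S1687
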