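import Cfsg.Agent.Lib.Helper28.S1687.Tree

set_option autoImplicit false
set_option maxRecDepth 100000

namespace Cfsg.Agent.Helper28.S1687

open Cfsg.Agent.Helper28
open Cfsg.Spor.Fi22 (Gen)

noncomputable section

def lv_h_0 : D2 → D3 → Nat := @D2.rec (fun _ => D3 → Nat) (@D3.rec (fun _ => Nat) 1 2 3 3 4 0 5 0 0 1 0 0 1 0 1 5 0 0) (@D3.rec (fun _ => Nat) 1 0 1 6 0 1 5 6 0 1 0 1 7 0 1 6 7 1) (@D3.rec (fun _ => Nat) 6 7 6 0 7 0 1 5 8 0 1 7 8 1 7 8 7 0) (@D3.rec (fun _ => Nat) 7 8 7 7 0 7 0 1 8 0 1 9 0 1 8 9 0 8) (@D3.rec (fun _ => Nat) 9 8 8 0 0 1 8 8 0 8 8 0 0 1 0 1 10 9) (@D3.rec (fun _ => Nat) 1 10 1 9 10 9 0 1 9 9 0 9 0 0 1 1 9 9) (@D3.rec (fun _ => Nat) 0 9 0 1 9 0 0 0 1 1 1 8 10 11 10 0 0 1) (@D3.rec (fun _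 => Nat) 10 0 10 0 1 0 0 1 1 9 10 0 0 10 0 1 0 1) (@D3.rec (fun _ => Nat) 0 0 1 1 0 1 9 9 9 9 12 11 0 1 1 0 11 0) (@D3.rec (fun _ => Nat) 1 0 1 1 0 1 10 10 10 0 11 0 1 0 1 0 0 1) (@D3.rec (fun _ => Nat) 10 1 10 0 1 0 1 10 0 1 3 10 10 10 10 10 0 1) (@D3.rec (fun _ => Nat) 11 0 1 0 0 1 11 1 11 0 1 3 11 11 11 0 0 1) (@D3.rec (fun _ => Nat) 0 0 1 11 0 1 0 0 1 1 3 11 11 11 1 0 0 1) (@D3.rec (fun _ => Nat) 3 11 11 1 3 4 4 11 11 11 11 11 1 12 12 0 1 0) (@D3.rec (fun _ => Nat) 0 1 1 3 12 12 12 1 3 4 4 12 12 12 0 1 0 0)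
def lv_h_1 : D2 → D3 → Nat := @D2.rec (fun _ => D3 → Nat) (@D3.rec (fun _ => Nat) 1 0 0 1 1 3 12 12 1 0 0 1 1 3 4 4 4 12) (@D3.rec (fun _ => Nat) 12 12 12 11 0 1 1 3 4 4 12 12 11 4 4 5 5 5) (@D3.rec (fun _ => Nat) 12 12 0 12 12 13 13 13 1 0 0 1 1 3 4 4 4 13) (@D3.rec (fun _ => Nat) 13 13 13 12 4 4 5 5 5 13 13 0 1 0 12 0 1 1) (@D3.rec (fun _ => Nat) 0 0 1 1 3 4 4 4 13 13 12 0 1 1 4 12 4 4) (@D3.rec (fun _ => Nat) 5 5 5 5 5 13 13 13 13 12 0 1 12 12 4 4 5 5) (@D3.rec (fun _ => Nat) 5 0 13 13 12 12 5 5 5 6 6 6 6 23 1 13 14 14) (@D3.rec (fun _ => Nat) 14 14 13 0 1 1 4 13 4 4 5 5 5 5 5 14 14 14) (@D3.rec (fun _ => Nat) 14 13 13 5 5 5 6 6 6 6 14 1 0 13 0 1 13 0) (@D3.rec (fun _ => Nat) 1 13 13 0 1 1 4 13 4 4 5 5 5 5 5 0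 14 14) (@D3.rec (fun _ => Nat) 13 0 1 13 13 5 5 13 13 5 5 5 6 6 6 6 6 6) (@D3.rec (fun _ => Nat) 6 14 14 0 13 22 1 3 13 13 13 13 5 5 5 6 6 0) (@D3.rec (fun _ => Nat) 6 6 22 1 14 13 13 13 6 6 12 6 6 7 7 7 23 15) (@D3.rec (fun _ => Nat) 15 15 14 0 1 14 14 5 5 14 14 5 5 5 6 6 6 6) (@D3.rec (fun _ => Nat) 6 6 6 15 15 0 14 14 14 6 6 13 6 6 7 16 7 0)
def lv_h_2 : D2 → D3 → Nat := @D2.rec (fun _ => D3 → Nat) (@D3.rec (fun _ => Nat) 0 1 0 1 14 24 1 3 14 14 0 1 14 14 5 5 14 14) (@D3.rec (fun _ => Nat) 5 5 5 6 6 6 6 6 0 6 6 0 1 15 0 1 3 14) (@D3.rec (fun _ => Nat) 14 14 14 6 6 6 14 14 14 6 6 13 6 6 7 7 0 7) (@D3.rec (fun _ => Nat) 7 7 7 7 15 0 1 3 4 23 14 14 14 14 14 14 6 6) (@D3.rec (fun _ => Nat) 0 6 6 7 0 7 22 1 7 24 14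 14 21 14 14 7 13 7) (@D3.rec (fun _ => Nat) 13 7 20 8 16 16 0 15 22 1 3 15 15 15 15 6 6 6) (@D3.rec (fun _ => Nat) 15 15 15 6 6 14 6 6 7 7 0 7 7 7 7 7 16 21) (@D3.rec (fun _ => Nat) 1 15 15 17 15 15 7 7 20 18 1 1 3 1 3 15 15 3) (@D3.rec (fun _ => Nat) 4 23 15 15 15 1 3 15 15 15 15 6 6 6 15 15 15 6) (@D3.rec (fun _ => Nat) 6 0 6 6 7 7 0 7 7 7 0 7 0 1 7 0 25 1) (@D3.rec (fun _ => Nat) 15 1 3 24 4 15 15 15 15 15 15 7 7 0 7 7 15 15) (@D3.rec (fun _ => Nat) 21 15 15 7 14 7 14 7 8 0 8 0 1 8 8 8 30 0) (@D3.rec (fun _ => Nat) 1 15 4 5 23 15 15 0 15 15 15 0 15 15 7 0 7 22) (@D3.rec (fun _ => Nat) 1 7 0 8 22 1 8 24 15 19 15 15 14 8 14 20 17 21) (@D3.rec (fun _ => Nat) 1 3 22 4 16 16 16 16 16 16 7 7 0 7 7 16 16 17)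
def lv_h_3 : D2 → D3 → Nat := @D2.rec (fun _ => D3 → Nat) (@D3.rec (fun _ => Nat) 16 16 7 15 7 15 7 8 23 8 0 1 8 8 18 23 22 3) (@D3.rec (fun _ => Nat) 13 4 4 3 4 4 16 16 16 4 5 23 26 16 16 0 16 16) (@D3.rec (fun _ => Nat) 3 4 4 16 16 16 16 16 16 7 7 0 7 7 16 16 0 16) (@D3.rec (fun _ => Nat) 16 7 0 7 0 1 7 8 0 8 0 1 8 0 8 0 1 8) (@D3.rec (fun _ => Nat) 0 22 1 16 27 1 4 26 24 5 16 16 0 16 16 16 16 0) (@D3.rec (fun _ => Nat) 16 16 8 0 8 0 1 8 16 21 16 23 16 15 8 15 15 8) (@D3.rec (fun _ => Nat) 15 15 23 9 0 0 1 9 0 1 16 22 27 1 5 6 21 26) (@D3.rec (fun _ => Nat) 16 0 16 0 1 16 0 16 24 1 16 0 8 0 22 1 8 27) (@D3.rec (fun _ => Nat) 20 1 22 22 4 22 5 17 0 17 17 17 17 0 17 17 8 23) (@D3.rec (fun _ => Nat) 8 0 1 8 17 19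 17 8 16 25 9 20 9 0 1 22 4 4) (@D3.rec (fun _ => Nat) 14 14 5 5 5 4 4 5 5 26 17 17 0 17 17 5 6 23) (@D3.rec (fun _ => Nat) 23 26 17 0 17 0 1 17 4 4 31 5 5 17 17 0 17 17) (@D3.rec (fun _ => Nat) 17 17 0 17 17 8 0 8 0 1 8 17 0 17 0 1 17 0) (@D3.rec (fun _ => Nat) 8 0 0 1 8 0 27 1 7 0 9 0 0 1 9 0 0 1) (@D3.rec (fun _ => Nat) 17 0 1 9 0 22 1 17 27 1 17 5 24 26 24 6 17 0)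
def lv_h_4 : D2 → D3 → Nat := @D2.rec (fun _ => D3 → Nat) (@D3.rec (fun _ => Nat) 17 0 1 17 17 0 17 0 1 17 25 9 0 0 1 9 0 0) (@D3.rec (fun _ => Nat) 1 7 17 21 21 17 23 16 16 16 16 25 23 10 0 1 0 1) (@D3.rec (fun _ => Nat) 1 17 17 6 22 21 0 17 27 23 1 25 1 26 23 24 1 28) (@D3.rec (fun _ => Nat) 1 1 22 23 5 24 21 6 0 18 0 1 18 18 25 18 0 1) (@D3.rec (fun _ => Nat) 18 25 9 22 9 0 0 1 23 24 20 1 5 5 5 32 15 15) (@D3.rec (fun _ => Nat) 6 6 0 6 6 5 5 6 6 0 23 18 0 18 0 1 18 6) (@D3.rec (fun _ => Nat) 21 23 21 23 0 18 0 0 1 18 0 0 1 29 5 5 24 0) (@D3.rec (fun _ => Nat) 6 6 18 0 18 0 1 18 18 0 18 0 1 18 0 9 0 0) (@D3.rec (fun _ => Nat) 1 9 0 0 1 7 27 18 24 0 1 18 0 24 1 7 30 0) (@D3.rec (fun _ => Nat) 1 9 0 1 0 22 1 27 24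 1 0 0 1 10 0 1 0 0) (@D3.rec (fun _ => Nat) 1 18 0 1 1 18 0 20 1 18 22 1 8 18 6 24 22 24) (@D3.rec (fun _ => Nat) 28 0 18 0 0 1 18 0 0 1 26 25 18 0 0 1 18 24) (@D3.rec (fun _ => Nat) 27 1 7 25 23 10 0 1 0 0 1 29 1 1 28 17 23 27) (@D3.rec (fun _ => Nat) 0 1 10 1 18 20 23 26 24 26 1 25 6 21 21 25 0 1) (@D3.rec (fun _ => Nat) 19 23 22 1 27 24 24 27 1 25 1 1 24 6 6 0 6 6)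
def lv_h_5 : D2 → D3 → Nat := @D2.rec (fun _ => D3 → Nat) (@D3.rec (fun _ => Nat) 33 0 16 7 0 7 0 1 7 6 6 0 7 0 23 0 1 0) (@D3.rec (fun _ => Nat) 19 0 0 1 19 0 0 1 7 24 23 26 23 28 26 0 1 19) (@D3.rec (fun _ => Nat) 27 1 0 25 1 29 0 1 1 28 0 6 6 0 24 0 1 7) (@D3.rec (fun _ => Nat) 0 19 0 0 1 19 0 0 1 7 0 19 0 0 1 19 0 0) (@D3.rec (fun _ => Nat) 1 7 0 0 1 10 0 1 0 0 1 8 0 1 1 8 26 24) (@D3.rec (fun _ => Nat) 0 24 1 28 1 0 1 0 1 24 1 8 0 1 0 0 1 19) (@D3.rec (fun _ => Nat) 0 0 1 10 19 0 1 1 19 1 8 19 19 24 1 9 9 19) (@D3.rec (fun _ => Nat) 26 24 23 28 25 0 0 1 19 0 1 27 24 1 26 26 1 1) (@D3.rec (fun _ => Nat) 29 31 25 0 1 26 28 1 25 0 0 1 11 1 1 0 24 1) (@D3.rec (fun _ => Nat) 11 11 21 26 23 23 21 22 1 7 0 7 0 1 7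 0 27 0) (@D3.rec (fun _ => Nat) 1 0 8 0 0 1 8 0 0 1 7 7 0 1 0 21 0 0) (@D3.rec (fun _ => Nat) 1 0 1 7 0 0 1 20 0 1 0 0 1 8 0 1 1 8) (@D3.rec (fun _ => Nat) 24 25 23 26 0 28 1 29 27 1 23 29 1 8 0 1 7 0) (@D3.rec (fun _ => Nat) 0 1 25 0 0 1 7 0 0 1 20 0 1 0 0 1 8 0) (@D3.rec (fun _ => Nat) 1 1 8 0 0 1 0 1 0 0 1 8 0 1 1 8 29 0)
def lv_h_6 : D2 → D3 → Nat := @D2.rec (fun _ => D3 → Nat) (@D3.rec (fun _ => Nat) 1 0 0 1 9 0 0 1 11 9 0 1 1 9 29 1 8 9) (@D3.rec (fun _ => Nat) 9 26 25 28 1 1 0 1 9 9 0 0 1 20 0 1 1 20) (@D3.rec (fun _ => Nat) 0 1 1 11 20 11 27 1 9 20 20 20 9 31 10 10 10 20) (@D3.rec (fun _ => Nat) 24 28 25 32 0 1 25 26 1 27 26 1 12 24 31 26 29 1) (@D3.rec (fun _ => Nat) 0 1 1 12 12 1 12 12 12 0 8 0 0 1 8 0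 0 1) (@D3.rec (fun _ => Nat) 20 0 0 1 0 1 7 0 0 1 9 0 1 0 0 1 8 0) (@D3.rec (fun _ => Nat) 1 1 8 0 0 1 19 0 0 1 0 1 0 1 8 1 8 0) (@D3.rec (fun _ => Nat) 0 1 0 0 1 9 0 0 1 18 9 0 1 1 9 0 1 8) (@D3.rec (fun _ => Nat) 9 30 25 27 26 28 1 0 27 9 9 9 0 0 1 19 0 1) (@D3.rec (fun _ => Nat) 0 0 1 8 0 1 1 8 0 0 1 0 0 1 26 0 0 1) (@D3.rec (fun _ => Nat) 12 9 0 1 1 9 0 1 18 9 9 29 0 1 0 1 9 0) (@D3.rec (fun _ => Nat) 0 1 28 9 0 1 1 9 1 30 9 9 27 0 0 1 10 0) (@D3.rec (fun _ => Nat) 1 1 10 0 0 1 1 12 10 12 27 29 1 9 10 10 10 9) (@D3.rec (fun _ => Nat) 33 10 1 2 10 10 0 1 1 21 1 10 21 21 1 18 21 12) (@D3.rec (fun _ => Nat) 21 12 25 12 27 21 10 24 10 29 11 11 29 29 28 30 25 28)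
def lv_h_7 : D2 → D3 → Nat := @D2.rec (fun _ => D3 → Nat) (@D3.rec (fun _ => Nat) 1 0 13 13 1 2 13 13 13 28 13 13 0 0 1 9 0 1) (@D3.rec (fun _ => Nat) 0 0 1 21 0 1 1 21 0 1 0 1 8 1 8 0 0 1) (@D3.rec (fun _ => Nat) 0 0 1 28 0 0 1 19 9 0 1 1 9 0 1 19 9 30) (@D3.rec (fun _ => Nat) 0 1 1 20 0 0 1 0 1 9 0 1 19 9 1 9 9 0) (@D3.rec (fun _ => Nat) 1 0 0 1 19 10 0 1 1 10 0 0 1 1 19 10 19 0) (@D3.rec (fun _ => Nat) 0 1 9 10 25 1 9 32 9 33 0 28 10 1 10 10 10 0) (@D3.rec (fun _ => Nat) 1 1 20 0 0 1 9 0 1 1 9 1 19 9 9 0 1 0) (@D3.rec (fun _ => Nat) 0 1 30 28 0 1 1 27 0 0 1 1 13 10 13 33 0 1) (@D3.rec (fun _ => Nat) 19 10 10 1 19 10 19 0 30 0 1 10 1 10 0 0 1 1) (@D3.rec (fun _ => Nat) 32 10 29 1 28 10 10 10 32 33 31 1 1 11 1 10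 11 25) (@D3.rec (fun _ => Nat) 1 31 1 2 11 13 11 13 31 13 29 11 10 31 10 35 11 2) (@D3.rec (fun _ => Nat) 26 3 11 11 1 19 22 22 22 11 26 19 22 19 19 0 13 26) (@D3.rec (fun _ => Nat) 13 28 28 29 11 33 29 12 29 27 1 14 14 2 31 3 14 14) (@D3.rec (fun _ => Nat) 14 0 0 1 0 0 1 29 1 20 22 1 1 22 1 20 22 22) (@D3.rec (fun _ => Nat) 0 1 20 9 1 9 20 9 0 1 0 0 1 20 28 0 1 1)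
def lv_h_8 : D2 → D3 → Nat := @D2.rec (fun _ => D3 → Nat) (@D3.rec (fun _ => Nat) 28 0 0 1 1 20 10 20 0 0 1 20 10 28 1 20 30 20) (@D3.rec (fun _ => Nat) 0 0 1 21 20 21 0 1 0 1 20 10 1 10 0 1 20 10) (@D3.rec (fun _ => Nat) 20 0 10 0 0 1 11 0 0 1 1 20 11 0 1 10 11 23) (@D3.rec (fun _ => Nat) 38 1 0 1 2 11 20 34 20 0 20 0 1 1 29 32 10 39) (@D3.rec (fun _ => Nat) 32 10 31 10 35 1 12 11 11 11 1 20 21 21 0 0 1 1) (@D3.rec (fun _ => Nat) 10 1 20 10 10 20 10 20 0 0 1 32 0 0 1 1 31 30) (@D3.rec (fun _ => Nat) 28 0 1 20 26 27 33 1 0 1 2 11 26 11 14 31 14 29) (@D3.rec (fun _ => Nat) 1 20 11 20 0 34 0 20 0 1 1 11 11 1 1 2 11 28) (@D3.rec (fun _ => Nat) 11 28 32 11 30 30 31 12 32 29 11 33 2 12 29 12 3 3) (@D3.rec (fun _ => Nat)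 0 14 29 14 31 33 29 11 33 11 29 12 3 38 4 37 20 23) (@D3.rec (fun _ => Nat) 20 0 12 35 20 0 20 20 0 20 0 1 14 27 27 29 29 32) (@D3.rec (fun _ => Nat) 33 15 3 27 4 15 1 1 21 23 1 1 30 21 23 21 0 21) (@D3.rec (fun _ => Nat) 23 23 21 23 21 0 0 1 21 10 0 21 10 0 0 0 1 21) (@D3.rec (fun _ => Nat) 30 0 0 1 1 21 30 21 0 0 1 21 28 30 0 1 0 1) (@D3.rec (fun _ => Nat) 2 11 21 30 21 0 21 0 1 1 21 30 21 0 21 34 21 0)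
def lv_h_9 : D2 → D3 → Nat := @D2.rec (fun _ => D3 → Nat) (@D3.rec (fun _ => Nat) 21 0 1 1 21 22 21 0 0 1 11 1 21 11 0 11 1 2) (@D3.rec (fun _ => Nat) 11 21 0 21 0 1 0 0 1 1 12 1 1 2 12 21 34 21) (@D3.rec (fun _ => Nat) 0 1 32 37 37 2 12 1 36 32 36 3 0 21 0 21 0 1) (@D3.rec (fun _ => Nat) 21 0 1 38 30 11 33 11 33 11 31 12 12 21 22 21 0 1) (@D3.rec (fun _ => Nat) 1 2 11 11 21 11 21 0 0 21 0 1 1 32 1 0 1 2) (@D3.rec (fun _ => Nat) 29 30 32 33 1 21 27 21 0 2 12 1 35 12 3 29 0 28) (@D3.rec (fun _ => Nat) 15 33 33 31 30 21 0 21 0 1 1 21 0 1 34 12 2 12) (@D3.rec (fun _ => Nat) 28 12 33 36 0 32 34 32 29 0 12 33 3 3 0 28 0 4) (@D3.rec (fun _ => Nat) 4 0 4 0 1 15 28 36 30 31 31 31 34 4 34 5 0 21) (@D3.rec (fun _ => Nat) 0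 1 39 21 0 1 21 0 21 0 1 0 1 28 4 30 22 24) (@D3.rec (fun _ => Nat) 22 24 22 0 22 31 31 22 0 22 0 1 22 0 22 0 22 0) (@D3.rec (fun _ => Nat) 1 1 2 11 22 0 1 22 0 1 0 1 1 22 30 22 0 0) (@D3.rec (fun _ => Nat) 1 0 1 2 28 30 22 0 22 0 1 1 30 22 0 1 2 12) (@D3.rec (fun _ => Nat) 1 5 30 3 3 0 0 22 0 1 22 0 1 22 32 0 22 0) (@D3.rec (fun _ => Nat) 1 22 0 22 0 1 22 0 1 22 23 0 22 0 1 1 12 35)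
def lv_h_10 : D2 → D3 → Nat := @D2.rec (fun _ => D3 → Nat) (@D3.rec (fun _ => Nat) 12 22 0 1 2 12 3 0 22 0 1 22 0 1 1 1 2 13) (@D3.rec (fun _ => Nat) 40 2 36 37 34 33 3 0 22 0 0 1 35 3 0 32 32 34) (@D3.rec (fun _ => Nat) 0 33 38 0 4 0 1 22 0 1 22 0 1 0 1 12 33 31) (@D3.rec (fun _ => Nat) 31 0 22 0 1 2 12 35 12 35 0 0 22 0 1 1 22 0) (@D3.rec (fun _ => Nat) 1 27 32 2 32 1 30 30 3 36 0 33 28 22 0 0 1 3) (@D3.rec (fun _ => Nat) 0 32 32 36 0 4 31 0 31 0 1 33 33 31 0 1 22 0) (@D3.rec (fun _ => Nat) 1 0 1 0 0 0 36 0 0 1 37 0 1 39 4 4 0 4) (@D3.rec (fun _ => Nat) 0 1 28 0 1 5 5 0 5 0 1 0 1 31 29 5 31 1) (@D3.rec (fun _ => Nat) 0 1 0 1 22 0 1 0 1 1 29 23 23 0 0 23 0 1) (@D3.rec (fun _ => Nat) 0 23 0 1 23 0 1 23 0 1 23 0 1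 23 0 1 2 12) (@D3.rec (fun _ => Nat) 3 3 0 0 1 0 1 1 29 34 32 23 0 0 1 1 2 30) (@D3.rec (fun _ => Nat) 1 5 31 3 3 0 23 0 1 0 1 32 0 1 5 32 3 3) (@D3.rec (fun _ => Nat) 0 37 32 0 4 0 4 0 1 1 23 0 1 0 1 0 1 23) (@D3.rec (fun _ => Nat) 0 1 0 1 0 1 0 1 0 1 0 1 31 13 37 0 0 1) (@D3.rec (fun _ => Nat) 3 0 32 0 1 0 1 0 1 2 31 34 38 30 0 3 0 37)
def lv_h_11 : D2 → D3 → Nat := @D2.rec (fun _ => D3 → Nat) (@D3.rec (fun _ => Nat) 0 37 0 0 1 23 0 1 1 4 0 1 36 0 37 0 1 35) (@D3.rec (fun _ => Nat) 33 0 33 0 1 5 0 1 23 0 1 0 1 5 1 33 1 0) (@D3.rec (fun _ => Nat) 1 0 0 35 0 1 1 0 1 0 1 0 3 0 30 29 30 0) (@D3.rec (fun _ => Nat) 35 0 0 1 0 1 1 4 0 1 34 0 0 1 32 22 0 29) (@D3.rec (fun _ => Nat) 0 1 31 0 1 35 1 0 1 8 1 1 1 1 0 1 1 0)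 (@D3.rec (fun _ => Nat) 1 5 5 0 5 0 1 0 1 0 1 0 26 0 1 0 1 1) (@D3.rec (fun _ => Nat) 33 1 1 0 1 1 14 0 0 1 1 0 1 1 0 1 0 1) (@D3.rec (fun _ => Nat) 23 0 1 0 1 0 1 23 3 3 0 33 0 0 1 1 1 34) (@D3.rec (fun _ => Nat) 34 33 29 0 0 1 1 5 32 3 3 0 32 32 0 0 33 0) (@D3.rec (fun _ => Nat) 1 0 1 1 1 0 4 0 4 0 1 34 0 1 36 0 1 27) (@D3.rec (fun _ => Nat) 0 1 0 1 5 1 1 0 1 8 1 1 1 1 1 23 0 0) (@D3.rec (fun _ => Nat) 1 1 0 1 0 1 1 5 1 0 0 0 1 0 1 34 0 1) (@D3.rec (fun _ => Nat) 0 1 1 0 1 5 5 0 1 0 1 24 0 1 0 35 0 1) (@D3.rec (fun _ => Nat) 25 0 1 0 1 5 0 1 7 1 6 6 1 23 1 1 0 1) (@D3.rec (fun _ => Nat) 1 8 1 1 0 1 0 0 1 0 1 1 1 8 0 1 0 1)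
def lv_h_12 : D2 → D3 → Nat := @D2.rec (fun _ => D3 → Nat) (@D3.rec (fun _ => Nat) 1 0 0 1 0 1 8 0 1 9 1 9 9 1 1 0 0 1) (@D3.rec (fun _ => Nat) 0 1 1 1 1 0 1 1 14 1 15 15 1 1 1 24 1 1) (@D3.rec (fun _ => Nat) 24 24 1 1 24 1 24 24 0 0 1 0 1 1 5 8 0 0) (@D3.rec (fun _ => Nat) 0 1 1 0 0 0 1 0 1 1 0 1 1 5 8 1 0 1) (@D3.rec (fun _ => Nat) 0 1 0 1 0 1 8 0 1 5 1 6 6 1 9 9 24 1) (@D3.rec (fun _ => Nat) 1 5 1 1 5 6 6 1 1 1 1 0 1 1 5 1 7 6) (@D3.rec (fun _ => Nat) 0 1 23 1 0 1 7 1 0 1 0 1 24 1 6 6 1 8) (@D3.rec (fun _ => Nat) 8 7 7 24 1 8 9 1 1 1 1 8 1 23 1 9 1 1) (@D3.rec (fun _ => Nat) 9 1 24 9 1 24 1 1 1 23 1 15 15 16 16 29 25 25) (@D3.rec (fun _ => Nat) 25 25 25 1 1 1 8 5 6 9 1 1 1 5 1 1 1 1) (@D3.rec (fun _ => Nat) 8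 1 5 6 1 24 1 24 1 1 9 9 1 6 6 42 39 7) (@D3.rec (fun _ => Nat) 10 5 24 6 6 29 24 1 7 25 6 1 24 24 25 1 8 8) (@D3.rec (fun _ => Nat) 1 25 1 25 25 7 7 9 9 9 24 25 24 25 25 25 24 24) (@D3.rec (fun _ => Nat) 16 16 25 25 33 9 6 41 30 5 25 25 6 25 25 25 25 26) (@D3.rec (fun _ => Nat) 41 38 10 7 25 26 25 25 9 9 26 26 25 26 26 34 34 40)
def lv_h : Pt → Nat := @Pt.rec (fun _ => Nat) (@D1.rec (fun _ => D2 → D3 → Nat) lv_h_0 lv_h_1 lv_h_2 lv_h_3 lv_h_4 lv_h_5 lv_h_6 lv_h_7 lv_h_8 lv_h_9 lv_h_10 lv_h_11 lv_h_12)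
abbrev lc_h_Cert_tree : Cert rels S Gen.h := Cert.tree
abbrev lc_h_rc_5_1 : Cert rels S Gen.h := rc_5_1
abbrev lc_h_rc_5_3 : Cert rels S Gen.h := rc_5_3
abbrev lc_h_rc_13_1 : Cert rels S Gen.h := rc_13_1
abbrev lc_h_rc_13_3 : Cert rels S Gen.h := rc_13_3
abbrev lc_h_rc_20_1 : Cert rels S Gen.h := rc_20_1
abbrev lc_h_rc_20_3 : Cert rels S Gen.h := rc_20_3
abbrev lc_h_rc_26_1 : Cert rels S Gen.h := rc_26_1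
abbrev lc_h_rc_26_3 : Cert rels S Gen.h := rc_26_3
abbrev lc_h_rc_26_5 : Cert rels S Gen.h := rc_26_5
abbrev lc_h_rc_31_1 : Cert rels S Gen.h := rc_31_1
abbrev lc_h_rc_31_3 : Cert rels S Gen.h := rc_31_3
abbrev lc_h_rc_35_0 : Cert rels S Gen.h := rc_35_0
abbrev lc_h_rc_35_1 : Cert rels S Gen.h := rc_35_1
abbrev lc_h_rc_36_0 : Cert rels S Gen.h := rc_36_0
abbrev lc_h_rc_36_2 : Cert rels S Gen.h := rc_36_2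
abbrev lc_h_rc_36_4 : Cert rels S Gen.h := rc_36_4
abbrev lc_h_rc_37_1 : Cert rels S Gen.h := rc_37_1
abbrev lc_h_rc_37_3 : Cert rels S Gen.h := rc_37_3
abbrev lc_h_rc_41_1 : Cert rels S Gen.h := rc_41_1
abbrev lc_h_rc_41_3 : Cert rels S Gen.h := rc_41_3
abbrev lc_h_rc_45_52 : Cert rels S Gen.h := rc_45_52
abbrev lc_h_rc_45_61 : Cert rels S Gen.h := rc_45_61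
abbrev lc_h_rc_45_70 : Cert rels S Gen.h := rc_45_70
abbrev lc_h_rc_46_13 : Cert rels S Gen.h := rc_46_13
abbrev lc_h_rc_46_34 : Cert rels S Gen.h := rc_46_34
abbrev lc_h_rc_47_13 : Cert rels S Gen.h := rc_47_13
abbrev lc_h_rc_47_27 : Cert rels S Gen.h := rc_47_27
abbrev lc_h_rc_47_34 : Cert rels S Gen.h := rc_47_34
abbrev lc_h_rc_47_48 : Cert rels S Gen.h := rc_47_48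
abbrev lc_h_sc_6_0 : Cert rels S Gen.h := sc_6_0
def ce_h_0 : D2 → D3 → (Cert rels S Gen.h) := @D2.rec (fun _ => D3 → (Cert rels S Gen.h)) (@D3.rec (fun _ => (Cert rels S Gen.h)) lc_h_sc_6_0 lc_h_rc_13_1 lc_h_rc_5_1 lc_h_rc_20_1 lc_h_rc_5_1 lc_h_Cert_tree lc_h_rc_13_1 lc_h_Cert_tree lc_h_Cert_tree lc_h_rc_35_0 lc_h_Cert_tree lc_h_Cert_tree lc_h_rc_35_0 lc_h_Cert_tree lc_h_rc_35_0 lc_h_rc_36_2 lc_h_Cert_tree lc_h_Cert_tree) (@D3.rec (fun _ => (Cert rels S Gen.h)) lc_h_rc_35_0 lc_h_Cert_tree lc_h_rc_35_0 lc_h_rc_36_2 lc_h_Cert_tree lc_h_rc_35_0 lc_h_rc_26_3 lc_h_rc_36_2 lc_h_Cert_tree lc_h_rc_35_0 lc_h_Cert_tree lc_h_rc_35_0 lc_h_rc_36_2 lc_h_Cert_tree lc_h_rc_35_0 lc_h_rc_26_3 lc_h_rc_36_2 lc_h_rc_35_0) (@D3.rec (fun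 _ => (Cert rels S Gen.h)) lc_h_rc_37_1 lc_h_rc_36_2 lc_h_rc_20_1 lc_h_Cert_tree lc_h_rc_26_1 lc_h_Cert_tree lc_h_rc_35_0 lc_h_rc_26_3 lc_h_rc_36_2 lc_h_Cert_tree lc_h_rc_35_0 lc_h_rc_26_3 lc_h_rc_36_2 lc_h_rc_35_0 lc_h_rc_37_1 lc_h_rc_36_2 lc_h_rc_20_1 lc_h_Cert_tree) (@D3.rec (fun _ => (Cert rels S Gen.h)) lc_h_rc_41_1 lc_h_rc_36_2 lc_h_rc_20_1 lc_h_rc_31_1 lc_h_Cert_tree lc_h_rc_13_1 lc_h_Cert_tree lc_h_rc_35_0 lc_h_rc_37_1 lc_h_Cert_tree lc_h_rc_35_0 lc_h_rc_36_2 lc_h_Cert_tree lc_h_rc_35_0 lc_h_rc_37_1 lc_h_rc_36_2 lc_h_Cert_tree lc_h_rc_41_1) (@D3.rec (fun _ => (Cert rels S Gen.h)) lc_h_rc_36_2 lc_h_rc_20_1 lc_h_rc_31_1 lc_h_Cert_tree lc_h_Cert_tree lc_h_rc_35_0 lc_h_rc_20_1 lc_h_rc_31_1 lc_h_Cert_tree lc_h_rc_13_1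 lc_h_rc_31_1 lc_h_Cert_tree lc_h_Cert_tree lc_h_rc_35_0 lc_h_Cert_tree lc_h_rc_35_0 lc_h_rc_46_13 lc_h_rc_41_1) (@D3.rec (fun _ => (Cert rels S Gen.h)) lc_h_rc_35_0 lc_h_rc_36_2 lc_h_rc_35_0 lc_h_rc_41_1 lc_h_rc_36_2 lc_h_rc_31_1 lc_h_Cert_tree lc_h_rc_35_0 lc_h_rc_20_1 lc_h_rc_31_1 lc_h_Cert_tree lc_h_rc_31_1 lc_h_Cert_tree lc_h_Cert_tree lc_h_rc_35_0 lc_h_rc_35_0 lc_h_rc_13_1 lc_h_rc_31_1) (@D3.rec (fun _ => (Cert rels S Gen.h)) lc_h_Cert_tree lc_h_rc_37_1 lc_h_Cert_tree lc_h_rc_35_0 lc_h_rc_13_1 lc_h_Cert_tree lc_h_Cert_tree lc_h_Cert_tree lc_h_rc_35_0 lc_h_rc_35_0 lc_h_rc_35_0 lc_h_rc_26_3 lc_h_rc_31_1 lc_h_rc_36_2 lc_h_rc_31_1 lc_h_Cert_tree lc_h_Cert_tree lc_h_rc_35_0) (@D3.rec (fun _ => (Cert rels S Gen.h))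 lc_h_rc_31_1 lc_h_Cert_tree lc_h_rc_37_1 lc_h_Cert_tree lc_h_rc_35_0 lc_h_Cert_tree lc_h_Cert_tree lc_h_rc_35_0 lc_h_rc_35_0 lc_h_rc_26_3 lc_h_rc_13_1 lc_h_Cert_tree lc_h_Cert_tree lc_h_rc_37_1 lc_h_Cert_tree lc_h_rc_35_0 lc_h_Cert_tree lc_h_rc_35_0) (@D3.rec (fun _ => (Cert rels S Gen.h)) lc_h_Cert_tree lc_h_Cert_tree lc_h_rc_35_0 lc_h_rc_35_0 lc_h_Cert_tree lc_h_rc_35_0 lc_h_rc_26_3 lc_h_rc_26_3 lc_h_rc_13_1 lc_h_rc_31_1 lc_h_rc_47_13 lc_h_rc_37_1 lc_h_Cert_tree lc_h_rc_35_0 lc_h_rc_35_0 lc_h_Cert_tree lc_h_rc_37_1 lc_h_Cert_tree) (@D3.rec (fun _ => (Cert rels S Gen.h)) lc_h_rc_35_0 lc_h_Cert_tree lc_h_rc_35_0 lc_h_rc_35_0 lc_h_Cert_tree lc_h_rc_35_0 lc_h_rc_26_3 lc_h_rc_26_3 lc_h_rc_31_1 lc_h_Cert_tree lc_h_rc_13_1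 lc_h_Cert_tree lc_h_rc_35_0 lc_h_Cert_tree lc_h_rc_35_0 lc_h_Cert_tree lc_h_Cert_tree lc_h_rc_35_0) (@D3.rec (fun _ => (Cert rels S Gen.h)) lc_h_rc_26_3 lc_h_rc_35_0 lc_h_rc_26_3 lc_h_Cert_tree lc_h_rc_35_0 lc_h_Cert_tree lc_h_rc_35_0 lc_h_rc_13_1 lc_h_Cert_tree lc_h_rc_35_0 lc_h_rc_26_3 lc_h_rc_31_1 lc_h_rc_20_1 lc_h_rc_20_1 lc_h_rc_13_1 lc_h_rc_37_1 lc_h_Cert_tree lc_h_rc_35_0) (@D3.rec (fun _ => (Cert rels S Gen.h)) lc_h_rc_26_3 lc_h_Cert_tree lc_h_rc_35_0 lc_h_Cert_tree lc_h_Cert_tree lc_h_rc_35_0 lc_h_rc_26_3 lc_h_rc_35_0 lc_h_rc_26_3 lc_h_Cert_tree lc_h_rc_35_0 lc_h_rc_26_3 lc_h_rc_31_1 lc_h_rc_20_1 lc_h_rc_37_1 lc_h_Cert_tree lc_h_Cert_tree lc_h_rc_35_0) (@D3.rec (fun _ => (Cert rels S Gen.h)) lc_h_Cert_tree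 lc_h_Cert_tree lc_h_rc_35_0 lc_h_rc_13_1 lc_h_Cert_tree lc_h_rc_35_0 lc_h_Cert_tree lc_h_Cert_tree lc_h_rc_35_0 lc_h_rc_35_0 lc_h_rc_26_3 lc_h_rc_31_1 lc_h_rc_26_3 lc_h_rc_20_1 lc_h_rc_35_0 lc_h_Cert_tree lc_h_Cert_tree lc_h_rc_35_0) (@D3.rec (fun _ => (Cert rels S Gen.h)) lc_h_rc_26_3 lc_h_rc_20_1 lc_h_rc_13_1 lc_h_rc_35_0 lc_h_rc_26_3 lc_h_rc_20_1 lc_h_rc_31_1 lc_h_rc_37_1 lc_h_rc_13_1 lc_h_rc_20_1 lc_h_rc_37_1 lc_h_rc_41_1 lc_h_rc_35_0 lc_h_rc_26_3 lc_h_rc_20_1 lc_h_Cert_tree lc_h_rc_35_0 lc_h_Cert_tree) (@D3.rec (fun _ => (Cert rels S Gen.h)) lc_h_Cert_tree lc_h_rc_35_0 lc_h_rc_35_0 lc_h_rc_26_3 lc_h_rc_31_1 lc_h_rc_26_3 lc_h_rc_20_1 lc_h_rc_35_0 lc_h_rc_26_3 lc_h_rc_20_1 lc_h_rc_31_1 lc_h_rc_37_1 lc_h_rc_13_1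 lc_h_rc_41_1 lc_h_Cert_tree lc_h_rc_35_0 lc_h_Cert_tree lc_h_Cert_tree)
def ce_h_1 : D2 → D3 → (Cert rels S Gen.h) := @D2.rec (fun _ => D3 → (Cert rels S Gen.h)) (@D3.rec (fun _ => (Cert rels S Gen.h)) lc_h_rc_35_0 lc_h_Cert_tree lc_h_Cert_tree lc_h_rc_35_0 lc_h_rc_35_0 lc_h_rc_26_3 lc_h_rc_20_1 lc_h_rc_13_1 lc_h_rc_35_0 lc_h_Cert_tree lc_h_Cert_tree lc_h_rc_35_0 lc_h_rc_35_0 lc_h_rc_26_3 lc_h_rc_26_3 lc_h_rc_20_1 lc_h_rc_31_1 lc_h_rc_37_1) (@D3.rec (fun _ => (Cert rels S Gen.h)) lc_h_rc_20_1 lc_h_rc_31_1 lc_h_rc_13_1 lc_h_rc_26_3 lc_h_Cert_tree lc_h_rc_35_0 lc_h_rc_35_0 lc_h_rc_26_3 lc_h_rc_20_1 lc_h_rc_31_1 lc_h_rc_20_1 lc_h_rc_37_1 lc_h_rc_36_2 lc_h_rc_20_1 lc_h_rc_31_1 lc_h_rc_13_1 lc_h_rc_20_1 lc_h_rc_37_1)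 (@D3.rec (fun _ => (Cert rels S Gen.h)) lc_h_rc_41_1 lc_h_rc_5_1 lc_h_Cert_tree lc_h_rc_37_1 lc_h_rc_41_1 lc_h_rc_26_3 lc_h_rc_20_1 lc_h_rc_13_1 lc_h_rc_35_0 lc_h_Cert_tree lc_h_Cert_tree lc_h_rc_35_0 lc_h_rc_35_0 lc_h_rc_26_3 lc_h_rc_26_3 lc_h_rc_20_1 lc_h_rc_31_1 lc_h_rc_37_1) (@D3.rec (fun _ => (Cert rels S Gen.h)) lc_h_rc_20_1 lc_h_rc_31_1 lc_h_rc_13_1 lc_h_rc_36_2 lc_h_rc_20_1 lc_h_rc_31_1 lc_h_rc_13_1 lc_h_rc_20_1 lc_h_rc_37_1 lc_h_rc_41_1 lc_h_rc_5_1 lc_h_Cert_tree lc_h_rc_35_0 lc_h_Cert_tree lc_h_rc_26_3 lc_h_Cert_tree lc_h_rc_35_0 lc_h_rc_35_0) (@D3.rec (fun _ => (Cert rels S Gen.h)) lc_h_Cert_tree lc_h_Cert_tree lc_h_rc_35_0 lc_h_rc_35_0 lc_h_rc_26_3 lc_h_rc_26_3 lc_h_rc_20_1 lc_h_rc_31_1 lc_h_rc_20_1 lc_h_rc_37_1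 lc_h_rc_26_3 lc_h_Cert_tree lc_h_rc_35_0 lc_h_rc_35_0 lc_h_rc_26_3 lc_h_rc_36_2 lc_h_rc_20_1 lc_h_rc_31_1) (@D3.rec (fun _ => (Cert rels S Gen.h)) lc_h_rc_20_1 lc_h_rc_31_1 lc_h_rc_13_1 lc_h_rc_20_1 lc_h_rc_37_1 lc_h_rc_41_1 lc_h_rc_13_1 lc_h_rc_20_1 lc_h_rc_5_1 lc_h_rc_31_1 lc_h_Cert_tree lc_h_rc_35_0 lc_h_rc_26_3 lc_h_rc_36_2 lc_h_rc_20_1 lc_h_rc_31_1 lc_h_rc_13_1 lc_h_rc_20_1) (@D3.rec (fun _ => (Cert rels S Gen.h)) lc_h_rc_37_1 lc_h_Cert_tree lc_h_rc_37_1 lc_h_rc_41_1 lc_h_rc_20_1 lc_h_rc_36_2 lc_h_rc_13_1 lc_h_rc_20_1 lc_h_rc_37_1 lc_h_rc_5_1 lc_h_rc_13_1 lc_h_rc_20_1 lc_h_rc_41_1 lc_h_rc_5_3 lc_h_rc_35_0 lc_h_rc_41_1 lc_h_rc_20_1 lc_h_rc_31_1) (@D3.rec (fun _ => (Cert rels S Gen.h)) lc_h_rc_13_1 lc_h_rc_5_1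 lc_h_rc_26_3 lc_h_Cert_tree lc_h_rc_35_0 lc_h_rc_35_0 lc_h_rc_26_3 lc_h_rc_36_2 lc_h_rc_20_1 lc_h_rc_31_1 lc_h_rc_20_1 lc_h_rc_31_1 lc_h_rc_13_1 lc_h_rc_20_1 lc_h_rc_37_1 lc_h_rc_41_1 lc_h_rc_13_1 lc_h_rc_20_1) (@D3.rec (fun _ => (Cert rels S Gen.h)) lc_h_rc_5_1 lc_h_rc_20_1 lc_h_rc_36_2 lc_h_rc_13_1 lc_h_rc_20_1 lc_h_rc_37_1 lc_h_rc_5_1 lc_h_rc_13_1 lc_h_rc_20_1 lc_h_rc_41_1 lc_h_rc_47_27 lc_h_rc_35_0 lc_h_Cert_tree lc_h_rc_26_3 lc_h_Cert_tree lc_h_rc_35_0 lc_h_rc_31_1 lc_h_Cert_tree) (@D3.rec (fun _ => (Cert rels S Gen.h)) lc_h_rc_35_0 lc_h_rc_26_3 lc_h_rc_26_3 lc_h_Cert_tree lc_h_rc_35_0 lc_h_rc_35_0 lc_h_rc_26_3 lc_h_rc_36_2 lc_h_rc_20_1 lc_h_rc_31_1 lc_h_rc_20_1 lc_h_rc_31_1 lc_h_rc_13_1 lc_h_rc_20_1 lc_h_rc_37_1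 lc_h_Cert_tree lc_h_rc_37_1 lc_h_rc_41_1) (@D3.rec (fun _ => (Cert rels S Gen.h)) lc_h_rc_20_1 lc_h_Cert_tree lc_h_rc_35_0 lc_h_rc_26_3 lc_h_rc_36_2 lc_h_rc_20_1 lc_h_rc_31_1 lc_h_rc_20_1 lc_h_rc_36_2 lc_h_rc_13_1 lc_h_rc_20_1 lc_h_rc_37_1 lc_h_rc_13_1 lc_h_rc_20_1 lc_h_rc_37_1 lc_h_rc_5_1 lc_h_rc_13_1 lc_h_rc_20_1) (@D3.rec (fun _ => (Cert rels S Gen.h)) lc_h_rc_41_1 lc_h_rc_5_1 lc_h_rc_13_1 lc_h_Cert_tree lc_h_rc_37_1 lc_h_rc_45_70 lc_h_rc_35_0 lc_h_rc_26_3 lc_h_rc_26_3 lc_h_rc_31_1 lc_h_rc_20_1 lc_h_rc_36_2 lc_h_rc_13_1 lc_h_rc_20_1 lc_h_rc_37_1 lc_h_rc_5_1 lc_h_rc_13_1 lc_h_Cert_tree) (@D3.rec (fun _ => (Cert rels S Gen.h)) lc_h_rc_20_1 lc_h_rc_41_1 lc_h_rc_31_1 lc_h_rc_35_0 lc_h_rc_41_1 lc_h_rc_13_1 lc_h_rc_20_1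 lc_h_rc_37_1 lc_h_rc_5_1 lc_h_rc_13_1 lc_h_rc_26_3 lc_h_rc_20_1 lc_h_rc_41_1 lc_h_rc_5_1 lc_h_rc_13_1 lc_h_rc_20_1 lc_h_rc_41_1 lc_h_rc_13_1) (@D3.rec (fun _ => (Cert rels S Gen.h)) lc_h_rc_20_1 lc_h_rc_5_1 lc_h_rc_20_1 lc_h_Cert_tree lc_h_rc_35_0 lc_h_rc_26_3 lc_h_rc_36_2 lc_h_rc_20_1 lc_h_rc_31_1 lc_h_rc_20_1 lc_h_rc_36_2 lc_h_rc_13_1 lc_h_rc_20_1 lc_h_rc_37_1 lc_h_rc_13_1 lc_h_rc_20_1 lc_h_rc_37_1 lc_h_rc_5_1) (@D3.rec (fun _ => (Cert rels S Gen.h)) lc_h_rc_13_1 lc_h_rc_20_1 lc_h_rc_41_1 lc_h_rc_5_1 lc_h_rc_13_1 lc_h_Cert_tree lc_h_rc_13_1 lc_h_rc_20_1 lc_h_rc_37_1 lc_h_rc_5_1 lc_h_rc_13_1 lc_h_rc_26_3 lc_h_rc_20_1 lc_h_rc_41_1 lc_h_rc_5_1 lc_h_rc_13_1 lc_h_rc_20_1 lc_h_Cert_tree)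
def ce_h_2 : D2 → D3 → (Cert rels S Gen.h) := @D2.rec (fun _ => D3 → (Cert rels S Gen.h)) (@D3.rec (fun _ => (Cert rels S Gen.h)) lc_h_Cert_tree lc_h_rc_35_0 lc_h_Cert_tree lc_h_rc_35_0 lc_h_rc_26_3 lc_h_rc_41_1 lc_h_rc_35_0 lc_h_rc_26_3 lc_h_rc_26_3 lc_h_rc_31_1 lc_h_Cert_tree lc_h_rc_35_0 lc_h_rc_26_3 lc_h_rc_36_2 lc_h_rc_20_1 lc_h_rc_31_1 lc_h_rc_20_1 lc_h_rc_36_2) (@D3.rec (fun _ => (Cert rels S Gen.h)) lc_h_rc_13_1 lc_h_rc_20_1 lc_h_rc_37_1 lc_h_rc_13_1 lc_h_rc_20_1 lc_h_rc_37_1 lc_h_rc_5_1 lc_h_rc_13_1 lc_h_Cert_tree lc_h_rc_20_1 lc_h_rc_41_1 lc_h_Cert_tree lc_h_rc_35_0 lc_h_rc_41_1 lc_h_Cert_tree lc_h_rc_35_0 lc_h_rc_26_3 lc_h_rc_20_1) (@D3.rec (fun _ => (Cert rels S Gen.h)) lc_h_rc_31_1 lc_h_rc_20_1 lc_h_rc_36_2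 lc_h_rc_13_1 lc_h_rc_20_1 lc_h_rc_37_1 lc_h_rc_13_1 lc_h_rc_20_1 lc_h_rc_37_1 lc_h_rc_5_1 lc_h_rc_13_1 lc_h_rc_26_3 lc_h_rc_20_1 lc_h_rc_41_1 lc_h_rc_5_1 lc_h_rc_13_1 lc_h_Cert_tree lc_h_rc_20_1) (@D3.rec (fun _ => (Cert rels S Gen.h)) lc_h_rc_41_1 lc_h_rc_5_1 lc_h_rc_13_1 lc_h_rc_20_1 lc_h_rc_5_1 lc_h_Cert_tree lc_h_rc_35_0 lc_h_rc_26_3 lc_h_rc_20_1 lc_h_rc_31_1 lc_h_rc_13_1 lc_h_rc_31_1 lc_h_rc_37_1 lc_h_rc_13_1 lc_h_rc_20_1 lc_h_rc_37_1 lc_h_rc_5_1 lc_h_rc_13_1) (@D3.rec (fun _ => (Cert rels S Gen.h)) lc_h_Cert_tree lc_h_rc_20_1 lc_h_rc_41_1 lc_h_rc_5_1 lc_h_Cert_tree lc_h_rc_13_1 lc_h_rc_31_1 lc_h_rc_35_0 lc_h_rc_20_1 lc_h_rc_41_1 lc_h_rc_5_1 lc_h_rc_13_1 lc_h_rc_13_3 lc_h_rc_20_1 lc_h_rc_41_1 lc_h_rc_5_1 lc_h_rc_13_1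 lc_h_rc_13_1) (@D3.rec (fun _ => (Cert rels S Gen.h)) lc_h_rc_26_3 lc_h_rc_20_1 lc_h_rc_5_1 lc_h_rc_13_1 lc_h_rc_5_1 lc_h_rc_13_1 lc_h_Cert_tree lc_h_rc_13_1 lc_h_rc_5_3 lc_h_rc_35_0 lc_h_rc_26_3 lc_h_rc_20_1 lc_h_rc_31_1 lc_h_rc_20_1 lc_h_rc_36_2 lc_h_rc_13_1 lc_h_rc_20_1 lc_h_rc_37_1) (@D3.rec (fun _ => (Cert rels S Gen.h)) lc_h_rc_13_1 lc_h_rc_20_1 lc_h_rc_37_1 lc_h_rc_5_1 lc_h_rc_13_1 lc_h_rc_26_3 lc_h_rc_20_1 lc_h_rc_41_1 lc_h_rc_5_1 lc_h_rc_13_1 lc_h_Cert_tree lc_h_rc_20_1 lc_h_rc_41_1 lc_h_rc_5_1 lc_h_rc_13_1 lc_h_rc_20_1 lc_h_rc_5_1 lc_h_rc_20_1) (@D3.rec (fun _ => (Cert rels S Gen.h)) lc_h_rc_35_0 lc_h_rc_5_1 lc_h_rc_13_1 lc_h_rc_13_1 lc_h_rc_20_1 lc_h_rc_41_1 lc_h_rc_5_1 lc_h_rc_20_1 lc_h_rc_13_3 lc_h_rc_41_1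 lc_h_rc_35_0 lc_h_rc_35_0 lc_h_rc_26_3 lc_h_rc_35_0 lc_h_rc_26_3 lc_h_rc_20_1 lc_h_rc_31_1 lc_h_rc_26_3) (@D3.rec (fun _ => (Cert rels S Gen.h)) lc_h_rc_20_1 lc_h_rc_41_1 lc_h_rc_13_1 lc_h_rc_31_1 lc_h_rc_37_1 lc_h_rc_35_0 lc_h_rc_26_3 lc_h_rc_20_1 lc_h_rc_31_1 lc_h_rc_20_1 lc_h_rc_36_2 lc_h_rc_13_1 lc_h_rc_20_1 lc_h_rc_37_1 lc_h_rc_13_1 lc_h_rc_20_1 lc_h_rc_37_1 lc_h_rc_5_1) (@D3.rec (fun _ => (Cert rels S Gen.h)) lc_h_rc_13_1 lc_h_Cert_tree lc_h_rc_20_1 lc_h_rc_41_1 lc_h_rc_5_1 lc_h_rc_13_1 lc_h_Cert_tree lc_h_rc_20_1 lc_h_rc_41_1 lc_h_rc_5_1 lc_h_Cert_tree lc_h_rc_13_1 lc_h_Cert_tree lc_h_rc_35_0 lc_h_rc_20_1 lc_h_Cert_tree lc_h_rc_41_3 lc_h_rc_35_0) (@D3.rec (fun _ => (Cert rels S Gen.h)) lc_h_rc_36_2 lc_h_rc_35_0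 lc_h_rc_26_3 lc_h_rc_20_1 lc_h_rc_31_1 lc_h_rc_13_1 lc_h_rc_20_1 lc_h_rc_37_1 lc_h_rc_13_1 lc_h_rc_20_1 lc_h_rc_37_1 lc_h_rc_5_1 lc_h_rc_13_1 lc_h_Cert_tree lc_h_rc_20_1 lc_h_rc_41_1 lc_h_rc_5_1 lc_h_rc_13_1) (@D3.rec (fun _ => (Cert rels S Gen.h)) lc_h_rc_41_1 lc_h_rc_20_1 lc_h_rc_41_1 lc_h_rc_5_1 lc_h_rc_13_1 lc_h_rc_13_1 lc_h_rc_26_3 lc_h_rc_20_1 lc_h_rc_5_1 lc_h_Cert_tree lc_h_rc_13_1 lc_h_Cert_tree lc_h_rc_35_0 lc_h_rc_20_1 lc_h_rc_5_1 lc_h_rc_13_1 lc_h_rc_5_3 lc_h_Cert_tree) (@D3.rec (fun _ => (Cert rels S Gen.h)) lc_h_rc_35_0 lc_h_rc_36_2 lc_h_rc_20_1 lc_h_rc_13_1 lc_h_rc_31_1 lc_h_rc_5_1 lc_h_rc_13_1 lc_h_Cert_tree lc_h_rc_37_1 lc_h_rc_5_1 lc_h_rc_13_1 lc_h_Cert_tree lc_h_rc_20_1 lc_h_rc_41_1 lc_h_rc_5_1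 lc_h_Cert_tree lc_h_rc_13_1 lc_h_rc_37_3) (@D3.rec (fun _ => (Cert rels S Gen.h)) lc_h_rc_35_0 lc_h_rc_20_1 lc_h_Cert_tree lc_h_rc_5_1 lc_h_rc_31_1 lc_h_rc_35_0 lc_h_rc_13_1 lc_h_rc_41_1 lc_h_rc_5_1 lc_h_rc_5_1 lc_h_rc_13_1 lc_h_rc_20_1 lc_h_rc_20_1 lc_h_rc_13_1 lc_h_rc_26_3 lc_h_rc_41_1 lc_h_rc_5_1 lc_h_rc_5_1) (@D3.rec (fun _ => (Cert rels S Gen.h)) lc_h_rc_35_0 lc_h_rc_26_3 lc_h_rc_20_1 lc_h_rc_31_1 lc_h_rc_13_1 lc_h_rc_20_1 lc_h_rc_37_1 lc_h_rc_13_1 lc_h_rc_20_1 lc_h_rc_37_1 lc_h_rc_5_1 lc_h_rc_13_1 lc_h_Cert_tree lc_h_rc_20_1 lc_h_rc_41_1 lc_h_rc_5_1 lc_h_rc_13_1 lc_h_rc_41_1)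
def ce_h_3 : D2 → D3 → (Cert rels S Gen.h) := @D2.rec (fun _ => D3 → (Cert rels S Gen.h)) (@D3.rec (fun _ => (Cert rels S Gen.h)) lc_h_rc_20_1 lc_h_rc_41_1 lc_h_rc_5_1 lc_h_rc_13_1 lc_h_rc_13_1 lc_h_rc_26_3 lc_h_rc_20_1 lc_h_rc_5_1 lc_h_rc_20_1 lc_h_rc_13_1 lc_h_Cert_tree lc_h_rc_35_0 lc_h_rc_20_1 lc_h_rc_5_1 lc_h_rc_41_1 lc_h_rc_20_1 lc_h_rc_41_1 lc_h_rc_26_3) (@D3.rec (fun _ => (Cert rels S Gen.h)) lc_h_rc_26_3 lc_h_rc_20_1 lc_h_rc_31_1 lc_h_rc_26_3 lc_h_rc_20_1 lc_h_rc_31_1 lc_h_rc_13_1 lc_h_rc_20_1 lc_h_rc_37_1 lc_h_rc_20_1 lc_h_rc_13_1 lc_h_rc_41_1 lc_h_rc_41_1 lc_h_rc_5_1 lc_h_rc_13_1 lc_h_Cert_tree lc_h_rc_37_1 lc_h_rc_41_1) (@D3.rec (fun _ => (Cert rels S Gen.h)) lc_h_rc_26_3 lc_h_rc_20_1 lc_h_rc_31_1 lc_h_rc_13_1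 lc_h_rc_20_1 lc_h_rc_37_1 lc_h_rc_13_1 lc_h_rc_20_1 lc_h_rc_37_1 lc_h_rc_5_1 lc_h_rc_13_1 lc_h_Cert_tree lc_h_rc_20_1 lc_h_rc_41_1 lc_h_rc_5_1 lc_h_rc_13_1 lc_h_Cert_tree lc_h_rc_20_1) (@D3.rec (fun _ => (Cert rels S Gen.h)) lc_h_rc_41_1 lc_h_rc_5_1 lc_h_Cert_tree lc_h_rc_13_1 lc_h_Cert_tree lc_h_rc_35_0 lc_h_rc_20_1 lc_h_rc_5_1 lc_h_Cert_tree lc_h_rc_13_1 lc_h_Cert_tree lc_h_rc_35_0 lc_h_rc_20_1 lc_h_Cert_tree lc_h_rc_5_1 lc_h_Cert_tree lc_h_rc_35_0 lc_h_rc_13_1) (@D3.rec (fun _ => (Cert rels S Gen.h)) lc_h_Cert_tree lc_h_rc_41_3 lc_h_rc_35_0 lc_h_rc_36_2 lc_h_rc_31_1 lc_h_rc_35_0 lc_h_rc_31_1 lc_h_rc_5_1 lc_h_rc_20_1 lc_h_rc_37_1 lc_h_rc_5_1 lc_h_rc_13_1 lc_h_Cert_tree lc_h_rc_20_1 lc_h_rc_41_1 lc_h_rc_5_1 lc_h_rc_13_1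 lc_h_Cert_tree) (@D3.rec (fun _ => (Cert rels S Gen.h)) lc_h_rc_20_1 lc_h_rc_41_1 lc_h_rc_5_1 lc_h_Cert_tree lc_h_rc_13_1 lc_h_Cert_tree lc_h_rc_35_0 lc_h_rc_20_1 lc_h_rc_5_1 lc_h_rc_41_1 lc_h_rc_13_1 lc_h_rc_41_1 lc_h_rc_20_1 lc_h_rc_5_1 lc_h_rc_5_1 lc_h_rc_20_1 lc_h_rc_13_1 lc_h_rc_13_1) (@D3.rec (fun _ => (Cert rels S Gen.h)) lc_h_rc_31_1 lc_h_rc_26_3 lc_h_rc_37_3 lc_h_rc_5_1 lc_h_Cert_tree lc_h_Cert_tree lc_h_rc_35_0 lc_h_rc_13_1 lc_h_Cert_tree lc_h_rc_35_0 lc_h_rc_36_2 lc_h_rc_41_1 lc_h_rc_5_3 lc_h_rc_35_0 lc_h_rc_13_1 lc_h_rc_5_1 lc_h_rc_31_1 lc_h_rc_37_1) (@D3.rec (fun _ => (Cert rels S Gen.h)) lc_h_rc_5_1 lc_h_Cert_tree lc_h_rc_13_1 lc_h_Cert_tree lc_h_rc_35_0 lc_h_rc_5_1 lc_h_Cert_tree lc_h_rc_13_1 lc_h_rc_31_1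 lc_h_rc_35_0 lc_h_rc_20_1 lc_h_Cert_tree lc_h_rc_5_1 lc_h_Cert_tree lc_h_rc_37_3 lc_h_rc_35_0 lc_h_rc_13_1 lc_h_rc_41_1) (@D3.rec (fun _ => (Cert rels S Gen.h)) lc_h_rc_31_1 lc_h_rc_35_0 lc_h_rc_41_1 lc_h_rc_41_1 lc_h_rc_31_1 lc_h_rc_20_1 lc_h_rc_37_1 lc_h_rc_13_1 lc_h_Cert_tree lc_h_rc_20_1 lc_h_rc_41_1 lc_h_rc_5_1 lc_h_rc_13_1 lc_h_Cert_tree lc_h_rc_20_1 lc_h_rc_41_1 lc_h_rc_5_1 lc_h_rc_26_3) (@D3.rec (fun _ => (Cert rels S Gen.h)) lc_h_rc_13_1 lc_h_Cert_tree lc_h_rc_35_0 lc_h_rc_20_1 lc_h_rc_13_1 lc_h_rc_41_1 lc_h_rc_20_1 lc_h_rc_5_1 lc_h_rc_31_1 lc_h_rc_20_1 lc_h_rc_5_1 lc_h_rc_13_3 lc_h_rc_13_1 lc_h_Cert_tree lc_h_rc_35_0 lc_h_rc_41_1 lc_h_rc_20_1 lc_h_rc_31_1) (@D3.rec (fun _ => (Cert rels S Gen.h)) lc_h_rc_20_1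 lc_h_rc_31_1 lc_h_rc_13_1 lc_h_rc_20_1 lc_h_rc_37_1 lc_h_rc_20_1 lc_h_rc_31_1 lc_h_rc_13_1 lc_h_rc_20_1 lc_h_rc_31_1 lc_h_rc_5_1 lc_h_rc_13_1 lc_h_Cert_tree lc_h_rc_20_1 lc_h_rc_41_1 lc_h_rc_13_1 lc_h_rc_5_1 lc_h_rc_41_1) (@D3.rec (fun _ => (Cert rels S Gen.h)) lc_h_rc_41_1 lc_h_rc_41_1 lc_h_rc_5_1 lc_h_Cert_tree lc_h_rc_13_1 lc_h_Cert_tree lc_h_rc_35_0 lc_h_rc_41_1 lc_h_rc_20_1 lc_h_rc_31_1 lc_h_rc_5_1 lc_h_rc_20_1 lc_h_rc_37_1 lc_h_rc_5_1 lc_h_rc_13_1 lc_h_Cert_tree lc_h_rc_20_1 lc_h_rc_41_1) (@D3.rec (fun _ => (Cert rels S Gen.h)) lc_h_rc_5_1 lc_h_rc_13_1 lc_h_Cert_tree lc_h_rc_20_1 lc_h_rc_41_1 lc_h_rc_5_1 lc_h_Cert_tree lc_h_rc_13_1 lc_h_Cert_tree lc_h_rc_35_0 lc_h_rc_20_1 lc_h_rc_5_1 lc_h_Cert_tree lc_h_rc_13_1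 lc_h_Cert_tree lc_h_rc_35_0 lc_h_rc_20_1 lc_h_Cert_tree) (@D3.rec (fun _ => (Cert rels S Gen.h)) lc_h_rc_5_1 lc_h_Cert_tree lc_h_Cert_tree lc_h_rc_35_0 lc_h_rc_13_1 lc_h_Cert_tree lc_h_rc_41_3 lc_h_rc_35_0 lc_h_rc_36_2 lc_h_Cert_tree lc_h_rc_5_1 lc_h_Cert_tree lc_h_Cert_tree lc_h_rc_35_0 lc_h_rc_13_1 lc_h_Cert_tree lc_h_Cert_tree lc_h_rc_35_0) (@D3.rec (fun _ => (Cert rels S Gen.h)) lc_h_rc_36_2 lc_h_Cert_tree lc_h_rc_35_0 lc_h_rc_5_1 lc_h_Cert_tree lc_h_rc_41_3 lc_h_rc_35_0 lc_h_rc_13_1 lc_h_rc_31_1 lc_h_rc_35_0 lc_h_rc_26_3 lc_h_rc_37_1 lc_h_rc_37_3 lc_h_rc_26_1 lc_h_rc_13_3 lc_h_rc_41_1 lc_h_rc_5_1 lc_h_Cert_tree)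
def ce_h_4 : D2 → D3 → (Cert rels S Gen.h) := @D2.rec (fun _ => D3 → (Cert rels S Gen.h)) (@D3.rec (fun _ => (Cert rels S Gen.h)) lc_h_rc_13_1 lc_h_Cert_tree lc_h_rc_35_0 lc_h_rc_20_1 lc_h_rc_5_1 lc_h_Cert_tree lc_h_rc_13_1 lc_h_Cert_tree lc_h_rc_35_0 lc_h_rc_20_1 lc_h_rc_37_3 lc_h_rc_5_1 lc_h_Cert_tree lc_h_Cert_tree lc_h_rc_35_0 lc_h_rc_13_1 lc_h_Cert_tree lc_h_Cert_tree) (@D3.rec (fun _ => (Cert rels S Gen.h)) lc_h_rc_35_0 lc_h_rc_36_2 lc_h_rc_5_1 lc_h_rc_41_1 lc_h_rc_41_1 lc_h_rc_13_1 lc_h_rc_31_1 lc_h_rc_5_1 lc_h_rc_20_1 lc_h_rc_13_1 lc_h_rc_31_1 lc_h_rc_37_3 lc_h_rc_5_3 lc_h_rc_5_1 lc_h_Cert_tree lc_h_rc_35_0 lc_h_Cert_tree lc_h_rc_35_0) (@D3.rec (fun _ => (Cert rels S Gen.h)) lc_h_rc_35_0 lc_h_rc_36_2 lc_h_rc_26_3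 lc_h_rc_5_1 lc_h_rc_31_1 lc_h_rc_37_1 lc_h_Cert_tree lc_h_rc_5_1 lc_h_rc_37_1 lc_h_rc_13_3 lc_h_rc_35_0 lc_h_rc_31_3 lc_h_rc_35_0 lc_h_rc_5_3 lc_h_rc_37_3 lc_h_rc_31_1 lc_h_rc_35_0 lc_h_rc_47_34) (@D3.rec (fun _ => (Cert rels S Gen.h)) lc_h_rc_35_0 lc_h_rc_35_0 lc_h_rc_41_1 lc_h_rc_41_1 lc_h_rc_37_1 lc_h_rc_26_1 lc_h_rc_13_1 lc_h_rc_41_1 lc_h_Cert_tree lc_h_rc_13_1 lc_h_Cert_tree lc_h_rc_35_0 lc_h_rc_20_1 lc_h_rc_5_1 lc_h_rc_36_2 lc_h_rc_13_1 lc_h_Cert_tree lc_h_rc_35_0) (@D3.rec (fun _ => (Cert rels S Gen.h)) lc_h_rc_20_1 lc_h_rc_26_3 lc_h_rc_5_1 lc_h_rc_13_3 lc_h_rc_13_1 lc_h_Cert_tree lc_h_Cert_tree lc_h_rc_35_0 lc_h_rc_13_3 lc_h_rc_31_1 lc_h_rc_13_3 lc_h_rc_35_0 lc_h_rc_13_1 lc_h_rc_20_1 lc_h_rc_37_1 lc_h_rc_5_1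 lc_h_rc_20_1 lc_h_rc_37_1) (@D3.rec (fun _ => (Cert rels S Gen.h)) lc_h_rc_5_1 lc_h_rc_13_1 lc_h_Cert_tree lc_h_rc_20_1 lc_h_rc_41_1 lc_h_rc_13_1 lc_h_rc_20_1 lc_h_rc_5_1 lc_h_rc_13_1 lc_h_Cert_tree lc_h_rc_31_1 lc_h_rc_5_1 lc_h_Cert_tree lc_h_rc_13_1 lc_h_Cert_tree lc_h_rc_35_0 lc_h_rc_20_1 lc_h_rc_5_1) (@D3.rec (fun _ => (Cert rels S Gen.h)) lc_h_rc_41_1 lc_h_rc_41_1 lc_h_rc_41_1 lc_h_rc_41_1 lc_h_Cert_tree lc_h_rc_5_1 lc_h_Cert_tree lc_h_Cert_tree lc_h_rc_35_0 lc_h_rc_13_1 lc_h_Cert_tree lc_h_Cert_tree lc_h_rc_35_0 lc_h_rc_5_1 lc_h_rc_20_1 lc_h_rc_37_1 lc_h_rc_37_3 lc_h_Cert_tree) (@D3.rec (fun _ => (Cert rels S Gen.h)) lc_h_rc_20_1 lc_h_rc_41_1 lc_h_rc_5_1 lc_h_Cert_tree lc_h_rc_13_1 lc_h_Cert_tree lc_h_rc_35_0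 lc_h_rc_20_1 lc_h_rc_5_1 lc_h_Cert_tree lc_h_rc_13_1 lc_h_Cert_tree lc_h_rc_35_0 lc_h_rc_20_1 lc_h_Cert_tree lc_h_rc_5_1 lc_h_Cert_tree lc_h_Cert_tree) (@D3.rec (fun _ => (Cert rels S Gen.h)) lc_h_rc_35_0 lc_h_rc_13_1 lc_h_Cert_tree lc_h_Cert_tree lc_h_rc_35_0 lc_h_rc_36_2 lc_h_rc_5_3 lc_h_rc_5_1 lc_h_rc_41_3 lc_h_Cert_tree lc_h_rc_35_0 lc_h_rc_13_1 lc_h_Cert_tree lc_h_rc_36_2 lc_h_rc_35_0 lc_h_rc_36_2 lc_h_rc_13_1 lc_h_Cert_tree) (@D3.rec (fun _ => (Cert rels S Gen.h)) lc_h_rc_35_0 lc_h_rc_5_1 lc_h_Cert_tree lc_h_rc_35_0 lc_h_Cert_tree lc_h_rc_41_3 lc_h_rc_35_0 lc_h_rc_36_2 lc_h_rc_31_1 lc_h_rc_35_0 lc_h_Cert_tree lc_h_Cert_tree lc_h_rc_35_0 lc_h_rc_5_1 lc_h_Cert_tree lc_h_rc_35_0 lc_h_Cert_tree lc_h_Cert_tree)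 (@D3.rec (fun _ => (Cert rels S Gen.h)) lc_h_rc_35_0 lc_h_rc_13_1 lc_h_Cert_tree lc_h_rc_35_0 lc_h_rc_35_0 lc_h_rc_36_2 lc_h_Cert_tree lc_h_rc_41_3 lc_h_rc_35_0 lc_h_rc_5_1 lc_h_rc_31_1 lc_h_rc_35_0 lc_h_rc_26_3 lc_h_rc_20_1 lc_h_rc_41_1 lc_h_rc_37_3 lc_h_rc_5_1 lc_h_rc_13_3) (@D3.rec (fun _ => (Cert rels S Gen.h)) lc_h_rc_13_3 lc_h_Cert_tree lc_h_rc_5_1 lc_h_Cert_tree lc_h_Cert_tree lc_h_rc_35_0 lc_h_rc_13_1 lc_h_Cert_tree lc_h_Cert_tree lc_h_rc_35_0 lc_h_rc_36_2 lc_h_rc_37_3 lc_h_rc_5_1 lc_h_Cert_tree lc_h_Cert_tree lc_h_rc_35_0 lc_h_rc_13_1 lc_h_rc_5_3) (@D3.rec (fun _ => (Cert rels S Gen.h)) lc_h_rc_5_3 lc_h_rc_35_0 lc_h_rc_36_2 lc_h_rc_37_3 lc_h_rc_5_3 lc_h_rc_5_1 lc_h_Cert_tree lc_h_rc_35_0 lc_h_Cert_tree lc_h_Cert_tree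 lc_h_rc_35_0 lc_h_rc_5_3 lc_h_rc_35_0 lc_h_rc_35_0 lc_h_rc_5_3 lc_h_rc_20_1 lc_h_rc_5_3 lc_h_rc_5_3) (@D3.rec (fun _ => (Cert rels S Gen.h)) lc_h_Cert_tree lc_h_rc_35_0 lc_h_rc_26_3 lc_h_rc_35_0 lc_h_rc_36_2 lc_h_rc_26_5 lc_h_rc_37_1 lc_h_rc_45_61 lc_h_rc_13_1 lc_h_rc_37_3 lc_h_rc_35_0 lc_h_rc_31_1 lc_h_rc_41_1 lc_h_rc_13_1 lc_h_rc_13_1 lc_h_rc_36_2 lc_h_Cert_tree lc_h_rc_35_0) (@D3.rec (fun _ => (Cert rels S Gen.h)) lc_h_rc_13_1 lc_h_rc_26_1 lc_h_rc_26_3 lc_h_rc_35_0 lc_h_rc_36_2 lc_h_rc_36_2 lc_h_rc_36_4 lc_h_rc_36_4 lc_h_rc_35_0 lc_h_rc_26_3 lc_h_rc_35_0 lc_h_rc_35_0 lc_h_rc_13_3 lc_h_rc_5_1 lc_h_rc_13_1 lc_h_Cert_tree lc_h_rc_20_1 lc_h_rc_41_1)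
def ce_h_5 : D2 → D3 → (Cert rels S Gen.h) := @D2.rec (fun _ => D3 → (Cert rels S Gen.h)) (@D3.rec (fun _ => (Cert rels S Gen.h)) lc_h_rc_5_1 lc_h_Cert_tree lc_h_rc_20_1 lc_h_rc_5_1 lc_h_Cert_tree lc_h_rc_13_1 lc_h_Cert_tree lc_h_rc_35_0 lc_h_rc_20_1 lc_h_rc_5_1 lc_h_rc_13_1 lc_h_Cert_tree lc_h_rc_5_1 lc_h_Cert_tree lc_h_rc_31_1 lc_h_Cert_tree lc_h_rc_35_0 lc_h_Cert_tree) (@D3.rec (fun _ => (Cert rels S Gen.h)) lc_h_rc_5_1 lc_h_Cert_tree lc_h_Cert_tree lc_h_rc_35_0 lc_h_rc_13_1 lc_h_Cert_tree lc_h_Cert_tree lc_h_rc_35_0 lc_h_rc_36_2 lc_h_rc_41_1 lc_h_rc_41_1 lc_h_rc_5_1 lc_h_rc_41_1 lc_h_rc_31_1 lc_h_rc_36_2 lc_h_Cert_tree lc_h_rc_35_0 lc_h_rc_5_1) (@D3.rec (fun _ => (Cert rels S Gen.h)) lc_h_rc_41_1 lc_h_rc_35_0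 lc_h_Cert_tree lc_h_rc_41_3 lc_h_rc_35_0 lc_h_rc_13_1 lc_h_Cert_tree lc_h_rc_35_0 lc_h_rc_35_0 lc_h_rc_36_2 lc_h_Cert_tree lc_h_rc_20_1 lc_h_rc_41_1 lc_h_Cert_tree lc_h_rc_5_1 lc_h_Cert_tree lc_h_rc_35_0 lc_h_rc_20_1) (@D3.rec (fun _ => (Cert rels S Gen.h)) lc_h_Cert_tree lc_h_rc_5_1 lc_h_Cert_tree lc_h_Cert_tree lc_h_rc_35_0 lc_h_rc_13_1 lc_h_Cert_tree lc_h_Cert_tree lc_h_rc_35_0 lc_h_rc_36_2 lc_h_Cert_tree lc_h_rc_5_1 lc_h_Cert_tree lc_h_Cert_tree lc_h_rc_35_0 lc_h_rc_13_1 lc_h_Cert_tree lc_h_Cert_tree) (@D3.rec (fun _ => (Cert rels S Gen.h)) lc_h_rc_35_0 lc_h_rc_36_2 lc_h_Cert_tree lc_h_Cert_tree lc_h_rc_35_0 lc_h_rc_5_1 lc_h_Cert_tree lc_h_rc_35_0 lc_h_Cert_tree lc_h_Cert_tree lc_h_rc_35_0 lc_h_rc_13_1 lc_h_Cert_tree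 lc_h_rc_35_0 lc_h_rc_35_0 lc_h_rc_36_2 lc_h_rc_13_3 lc_h_rc_41_3) (@D3.rec (fun _ => (Cert rels S Gen.h)) lc_h_Cert_tree lc_h_rc_36_2 lc_h_rc_35_0 lc_h_rc_26_5 lc_h_rc_35_0 lc_h_Cert_tree lc_h_rc_35_0 lc_h_Cert_tree lc_h_rc_35_0 lc_h_rc_31_1 lc_h_rc_35_0 lc_h_rc_26_3 lc_h_Cert_tree lc_h_rc_35_0 lc_h_Cert_tree lc_h_Cert_tree lc_h_rc_35_0 lc_h_rc_5_1) (@D3.rec (fun _ => (Cert rels S Gen.h)) lc_h_Cert_tree lc_h_Cert_tree lc_h_rc_35_0 lc_h_rc_26_3 lc_h_rc_20_1 lc_h_Cert_tree lc_h_rc_35_0 lc_h_rc_35_0 lc_h_rc_13_1 lc_h_rc_35_0 lc_h_rc_26_3 lc_h_rc_36_2 lc_h_rc_36_2 lc_h_rc_31_1 lc_h_rc_35_0 lc_h_rc_13_1 lc_h_rc_20_1 lc_h_rc_13_1) (@D3.rec (fun _ => (Cert rels S Gen.h)) lc_h_rc_37_3 lc_h_rc_26_1 lc_h_rc_5_1 lc_h_rc_5_1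 lc_h_rc_5_1 lc_h_Cert_tree lc_h_Cert_tree lc_h_rc_35_0 lc_h_rc_5_1 lc_h_Cert_tree lc_h_rc_35_0 lc_h_rc_13_3 lc_h_rc_13_3 lc_h_rc_35_0 lc_h_rc_37_3 lc_h_rc_5_1 lc_h_rc_35_0 lc_h_rc_35_0) (@D3.rec (fun _ => (Cert rels S Gen.h)) lc_h_rc_5_1 lc_h_rc_37_3 lc_h_rc_36_2 lc_h_Cert_tree lc_h_rc_35_0 lc_h_rc_5_3 lc_h_rc_5_3 lc_h_rc_35_0 lc_h_rc_35_1 lc_h_Cert_tree lc_h_Cert_tree lc_h_rc_35_0 lc_h_rc_26_3 lc_h_rc_35_0 lc_h_rc_35_0 lc_h_Cert_tree lc_h_rc_5_3 lc_h_rc_35_0) (@D3.rec (fun _ => (Cert rels S Gen.h)) lc_h_rc_26_3 lc_h_rc_31_1 lc_h_rc_37_1 lc_h_rc_36_4 lc_h_rc_36_4 lc_h_rc_36_2 lc_h_rc_47_34 lc_h_rc_13_1 lc_h_rc_35_0 lc_h_rc_5_1 lc_h_Cert_tree lc_h_rc_13_1 lc_h_Cert_tree lc_h_rc_35_0 lc_h_rc_20_1 lc_h_Cert_tree lc_h_rc_5_1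 lc_h_Cert_tree) (@D3.rec (fun _ => (Cert rels S Gen.h)) lc_h_rc_35_0 lc_h_Cert_tree lc_h_rc_5_1 lc_h_Cert_tree lc_h_Cert_tree lc_h_rc_35_0 lc_h_rc_13_1 lc_h_Cert_tree lc_h_Cert_tree lc_h_rc_35_0 lc_h_rc_36_2 lc_h_rc_5_1 lc_h_Cert_tree lc_h_rc_35_0 lc_h_Cert_tree lc_h_rc_31_1 lc_h_Cert_tree lc_h_Cert_tree) (@D3.rec (fun _ => (Cert rels S Gen.h)) lc_h_rc_35_0 lc_h_Cert_tree lc_h_rc_35_0 lc_h_rc_36_2 lc_h_Cert_tree lc_h_Cert_tree lc_h_rc_35_0 lc_h_rc_5_1 lc_h_Cert_tree lc_h_rc_35_0 lc_h_Cert_tree lc_h_Cert_tree lc_h_rc_35_0 lc_h_rc_13_1 lc_h_Cert_tree lc_h_rc_35_0 lc_h_rc_35_0 lc_h_rc_36_2) (@D3.rec (fun _ => (Cert rels S Gen.h)) lc_h_rc_41_1 lc_h_rc_47_48 lc_h_rc_31_1 lc_h_rc_41_1 lc_h_Cert_tree lc_h_rc_41_3 lc_h_rc_35_0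 lc_h_rc_31_1 lc_h_rc_31_1 lc_h_rc_35_0 lc_h_rc_36_2 lc_h_rc_26_5 lc_h_rc_35_0 lc_h_rc_26_3 lc_h_Cert_tree lc_h_rc_35_0 lc_h_rc_20_1 lc_h_Cert_tree) (@D3.rec (fun _ => (Cert rels S Gen.h)) lc_h_Cert_tree lc_h_rc_35_0 lc_h_rc_5_1 lc_h_Cert_tree lc_h_Cert_tree lc_h_rc_35_0 lc_h_rc_36_2 lc_h_Cert_tree lc_h_Cert_tree lc_h_rc_35_0 lc_h_rc_5_1 lc_h_Cert_tree lc_h_rc_35_0 lc_h_Cert_tree lc_h_Cert_tree lc_h_rc_35_0 lc_h_rc_13_1 lc_h_Cert_tree) (@D3.rec (fun _ => (Cert rels S Gen.h)) lc_h_rc_35_0 lc_h_rc_35_0 lc_h_rc_36_2 lc_h_Cert_tree lc_h_Cert_tree lc_h_rc_35_0 lc_h_Cert_tree lc_h_rc_35_0 lc_h_Cert_tree lc_h_Cert_tree lc_h_rc_35_0 lc_h_rc_13_1 lc_h_Cert_tree lc_h_rc_35_0 lc_h_rc_35_0 lc_h_rc_36_2 lc_h_rc_13_3 lc_h_Cert_tree)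
def ce_h_6 : D2 → D3 → (Cert rels S Gen.h) := @D2.rec (fun _ => D3 → (Cert rels S Gen.h)) (@D3.rec (fun _ => (Cert rels S Gen.h)) lc_h_rc_35_0 lc_h_Cert_tree lc_h_Cert_tree lc_h_rc_35_0 lc_h_rc_5_1 lc_h_Cert_tree lc_h_Cert_tree lc_h_rc_35_0 lc_h_rc_26_3 lc_h_rc_20_1 lc_h_Cert_tree lc_h_rc_35_0 lc_h_rc_35_0 lc_h_rc_13_1 lc_h_rc_41_3 lc_h_rc_35_0 lc_h_rc_26_3 lc_h_rc_36_2) (@D3.rec (fun _ => (Cert rels S Gen.h)) lc_h_rc_36_2 lc_h_rc_31_1 lc_h_rc_31_1 lc_h_rc_26_5 lc_h_rc_35_0 lc_h_rc_35_0 lc_h_Cert_tree lc_h_rc_35_0 lc_h_rc_13_1 lc_h_rc_20_1 lc_h_Cert_tree lc_h_Cert_tree lc_h_rc_35_0 lc_h_rc_5_1 lc_h_Cert_tree lc_h_rc_35_0 lc_h_rc_35_0 lc_h_rc_5_1) (@D3.rec (fun _ => (Cert rels S Gen.h)) lc_h_Cert_tree lc_h_rc_35_0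 lc_h_rc_35_0 lc_h_rc_26_3 lc_h_rc_20_1 lc_h_rc_31_1 lc_h_rc_36_2 lc_h_rc_35_0 lc_h_rc_13_1 lc_h_rc_13_1 lc_h_rc_13_1 lc_h_rc_36_2 lc_h_rc_20_1 lc_h_rc_36_2 lc_h_rc_5_1 lc_h_rc_20_1 lc_h_rc_13_1 lc_h_rc_5_1) (@D3.rec (fun _ => (Cert rels S Gen.h)) lc_h_rc_20_1 lc_h_rc_47_27 lc_h_rc_13_1 lc_h_rc_37_3 lc_h_Cert_tree lc_h_rc_35_0 lc_h_rc_13_1 lc_h_rc_13_1 lc_h_rc_35_0 lc_h_rc_13_3 lc_h_rc_13_3 lc_h_rc_35_0 lc_h_rc_26_3 lc_h_rc_36_2 lc_h_rc_36_2 lc_h_rc_20_1 lc_h_rc_20_1 lc_h_rc_35_0) (@D3.rec (fun _ => (Cert rels S Gen.h)) lc_h_Cert_tree lc_h_rc_35_0 lc_h_rc_35_0 lc_h_rc_26_3 lc_h_rc_31_1 lc_h_rc_35_0 lc_h_rc_26_3 lc_h_rc_31_1 lc_h_rc_37_1 lc_h_Cert_tree lc_h_rc_5_1 lc_h_Cert_tree lc_h_Cert_tree lc_h_rc_35_0 lc_h_rc_13_1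 lc_h_Cert_tree lc_h_Cert_tree lc_h_rc_35_0) (@D3.rec (fun _ => (Cert rels S Gen.h)) lc_h_rc_36_2 lc_h_Cert_tree lc_h_Cert_tree lc_h_rc_35_0 lc_h_Cert_tree lc_h_rc_35_0 lc_h_rc_36_2 lc_h_Cert_tree lc_h_Cert_tree lc_h_rc_35_0 lc_h_rc_5_1 lc_h_Cert_tree lc_h_rc_35_0 lc_h_Cert_tree lc_h_Cert_tree lc_h_rc_35_0 lc_h_rc_13_1 lc_h_Cert_tree) (@D3.rec (fun _ => (Cert rels S Gen.h)) lc_h_rc_35_0 lc_h_rc_35_0 lc_h_rc_36_2 lc_h_Cert_tree lc_h_Cert_tree lc_h_rc_35_0 lc_h_rc_36_2 lc_h_Cert_tree lc_h_Cert_tree lc_h_rc_35_0 lc_h_Cert_tree lc_h_rc_35_0 lc_h_Cert_tree lc_h_rc_35_0 lc_h_rc_13_1 lc_h_rc_35_0 lc_h_rc_36_2 lc_h_Cert_tree) (@D3.rec (fun _ => (Cert rels S Gen.h)) lc_h_Cert_tree lc_h_rc_35_0 lc_h_Cert_tree lc_h_Cert_tree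 lc_h_rc_35_0 lc_h_rc_5_1 lc_h_Cert_tree lc_h_Cert_tree lc_h_rc_35_0 lc_h_rc_26_3 lc_h_rc_20_1 lc_h_Cert_tree lc_h_rc_35_0 lc_h_rc_35_0 lc_h_rc_13_1 lc_h_Cert_tree lc_h_rc_35_0 lc_h_rc_26_3) (@D3.rec (fun _ => (Cert rels S Gen.h)) lc_h_rc_36_2 lc_h_rc_36_2 lc_h_rc_31_1 lc_h_rc_31_1 lc_h_rc_31_1 lc_h_rc_31_1 lc_h_rc_35_0 lc_h_Cert_tree lc_h_rc_26_5 lc_h_rc_13_1 lc_h_rc_26_3 lc_h_rc_20_1 lc_h_Cert_tree lc_h_Cert_tree lc_h_rc_35_0 lc_h_rc_36_2 lc_h_Cert_tree lc_h_rc_35_0) (@D3.rec (fun _ => (Cert rels S Gen.h)) lc_h_Cert_tree lc_h_Cert_tree lc_h_rc_35_0 lc_h_rc_13_1 lc_h_Cert_tree lc_h_rc_35_0 lc_h_rc_35_0 lc_h_rc_36_2 lc_h_Cert_tree lc_h_Cert_tree lc_h_rc_35_0 lc_h_Cert_tree lc_h_Cert_tree lc_h_rc_35_0 lc_h_rc_36_2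 lc_h_Cert_tree lc_h_Cert_tree lc_h_rc_35_0) (@D3.rec (fun _ => (Cert rels S Gen.h)) lc_h_rc_26_3 lc_h_rc_20_1 lc_h_Cert_tree lc_h_rc_35_0 lc_h_rc_35_0 lc_h_rc_13_1 lc_h_Cert_tree lc_h_rc_35_0 lc_h_rc_26_3 lc_h_rc_36_2 lc_h_rc_36_2 lc_h_rc_36_4 lc_h_Cert_tree lc_h_rc_35_0 lc_h_Cert_tree lc_h_rc_35_0 lc_h_rc_5_1 lc_h_Cert_tree) (@D3.rec (fun _ => (Cert rels S Gen.h)) lc_h_Cert_tree lc_h_rc_35_0 lc_h_rc_13_1 lc_h_rc_20_1 lc_h_Cert_tree lc_h_rc_35_0 lc_h_rc_35_0 lc_h_rc_13_1 lc_h_rc_35_0 lc_h_rc_41_1 lc_h_rc_36_2 lc_h_rc_36_2 lc_h_rc_13_3 lc_h_Cert_tree lc_h_Cert_tree lc_h_rc_35_0 lc_h_rc_5_1 lc_h_Cert_tree) (@D3.rec (fun _ => (Cert rels S Gen.h)) lc_h_rc_35_0 lc_h_rc_35_0 lc_h_rc_5_1 lc_h_Cert_tree lc_h_Cert_tree lc_h_rc_35_0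 lc_h_rc_35_0 lc_h_rc_26_3 lc_h_rc_20_1 lc_h_rc_31_1 lc_h_rc_36_2 lc_h_rc_41_3 lc_h_rc_35_0 lc_h_rc_13_1 lc_h_rc_13_1 lc_h_rc_13_1 lc_h_rc_36_2 lc_h_rc_20_1) (@D3.rec (fun _ => (Cert rels S Gen.h)) lc_h_rc_36_2 lc_h_rc_5_1 lc_h_rc_35_0 lc_h_rc_26_3 lc_h_rc_20_1 lc_h_rc_13_1 lc_h_Cert_tree lc_h_rc_35_0 lc_h_rc_35_0 lc_h_rc_5_1 lc_h_rc_35_0 lc_h_rc_5_1 lc_h_rc_5_1 lc_h_rc_5_1 lc_h_rc_35_0 lc_h_rc_26_3 lc_h_rc_20_1 lc_h_rc_26_3) (@D3.rec (fun _ => (Cert rels S Gen.h)) lc_h_rc_20_1 lc_h_rc_31_1 lc_h_rc_36_2 lc_h_rc_37_1 lc_h_rc_36_2 lc_h_rc_13_1 lc_h_rc_20_1 lc_h_rc_36_2 lc_h_rc_13_1 lc_h_rc_36_2 lc_h_rc_5_1 lc_h_rc_13_1 lc_h_rc_41_1 lc_h_rc_5_1 lc_h_rc_5_1 lc_h_rc_36_2 lc_h_rc_13_1 lc_h_rc_13_1)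
def ce_h_7 : D2 → D3 → (Cert rels S Gen.h) := @D2.rec (fun _ => D3 → (Cert rels S Gen.h)) (@D3.rec (fun _ => (Cert rels S Gen.h)) lc_h_rc_35_0 lc_h_Cert_tree lc_h_rc_26_3 lc_h_rc_31_1 lc_h_rc_35_0 lc_h_rc_26_3 lc_h_rc_26_3 lc_h_rc_31_1 lc_h_rc_37_1 lc_h_rc_36_2 lc_h_rc_31_1 lc_h_rc_37_1 lc_h_Cert_tree lc_h_Cert_tree lc_h_rc_35_0 lc_h_rc_5_1 lc_h_Cert_tree lc_h_rc_35_0) (@D3.rec (fun _ => (Cert rels S Gen.h)) lc_h_Cert_tree lc_h_Cert_tree lc_h_rc_35_0 lc_h_rc_13_1 lc_h_Cert_tree lc_h_rc_35_0 lc_h_rc_35_0 lc_h_rc_36_2 lc_h_Cert_tree lc_h_rc_35_0 lc_h_Cert_tree lc_h_rc_35_0 lc_h_rc_13_1 lc_h_rc_35_0 lc_h_rc_36_2 lc_h_Cert_tree lc_h_Cert_tree lc_h_rc_35_0) (@D3.rec (fun _ => (Cert rels S Gen.h)) lc_h_Cert_tree lc_h_Cert_tree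 lc_h_rc_35_0 lc_h_rc_36_2 lc_h_Cert_tree lc_h_Cert_tree lc_h_rc_35_0 lc_h_rc_26_3 lc_h_rc_20_1 lc_h_Cert_tree lc_h_rc_35_0 lc_h_rc_35_0 lc_h_rc_13_1 lc_h_Cert_tree lc_h_rc_35_0 lc_h_rc_26_3 lc_h_rc_36_2 lc_h_rc_36_2) (@D3.rec (fun _ => (Cert rels S Gen.h)) lc_h_Cert_tree lc_h_rc_35_0 lc_h_rc_35_0 lc_h_rc_13_1 lc_h_Cert_tree lc_h_Cert_tree lc_h_rc_35_0 lc_h_Cert_tree lc_h_rc_35_0 lc_h_rc_5_1 lc_h_Cert_tree lc_h_rc_35_0 lc_h_rc_26_3 lc_h_rc_20_1 lc_h_rc_35_0 lc_h_rc_13_1 lc_h_rc_36_2 lc_h_Cert_tree) (@D3.rec (fun _ => (Cert rels S Gen.h)) lc_h_rc_35_0 lc_h_Cert_tree lc_h_Cert_tree lc_h_rc_35_0 lc_h_rc_5_1 lc_h_rc_5_1 lc_h_Cert_tree lc_h_rc_35_0 lc_h_rc_35_0 lc_h_rc_5_1 lc_h_Cert_tree lc_h_Cert_tree lc_h_rc_35_0 lc_h_rc_35_0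 lc_h_rc_26_3 lc_h_rc_20_1 lc_h_rc_26_3 lc_h_Cert_tree) (@D3.rec (fun _ => (Cert rels S Gen.h)) lc_h_Cert_tree lc_h_rc_35_0 lc_h_rc_13_1 lc_h_rc_13_1 lc_h_rc_36_2 lc_h_rc_35_0 lc_h_rc_26_3 lc_h_rc_36_2 lc_h_rc_20_1 lc_h_rc_36_2 lc_h_Cert_tree lc_h_rc_37_3 lc_h_rc_5_1 lc_h_rc_35_0 lc_h_rc_20_1 lc_h_rc_20_1 lc_h_rc_13_1 lc_h_Cert_tree) (@D3.rec (fun _ => (Cert rels S Gen.h)) lc_h_rc_35_0 lc_h_rc_35_0 lc_h_rc_36_2 lc_h_Cert_tree lc_h_Cert_tree lc_h_rc_35_0 lc_h_rc_20_1 lc_h_Cert_tree lc_h_rc_35_0 lc_h_rc_35_0 lc_h_rc_13_1 lc_h_rc_35_0 lc_h_rc_26_3 lc_h_rc_36_2 lc_h_rc_36_2 lc_h_Cert_tree lc_h_rc_35_0 lc_h_Cert_tree) (@D3.rec (fun _ => (Cert rels S Gen.h)) lc_h_Cert_tree lc_h_rc_35_0 lc_h_rc_36_0 lc_h_rc_36_2 lc_h_Cert_tree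 lc_h_rc_35_0 lc_h_rc_35_0 lc_h_rc_36_2 lc_h_Cert_tree lc_h_Cert_tree lc_h_rc_35_0 lc_h_rc_35_0 lc_h_rc_26_3 lc_h_rc_20_1 lc_h_rc_31_1 lc_h_rc_37_3 lc_h_Cert_tree lc_h_rc_35_0) (@D3.rec (fun _ => (Cert rels S Gen.h)) lc_h_rc_13_1 lc_h_rc_13_1 lc_h_rc_13_1 lc_h_rc_35_0 lc_h_rc_26_3 lc_h_rc_36_2 lc_h_rc_20_1 lc_h_Cert_tree lc_h_rc_5_1 lc_h_Cert_tree lc_h_rc_35_0 lc_h_rc_5_1 lc_h_rc_35_0 lc_h_rc_5_1 lc_h_Cert_tree lc_h_Cert_tree lc_h_rc_35_0 lc_h_rc_35_0) (@D3.rec (fun _ => (Cert rels S Gen.h)) lc_h_rc_13_1 lc_h_rc_20_1 lc_h_rc_26_3 lc_h_rc_35_0 lc_h_rc_41_1 lc_h_rc_13_1 lc_h_rc_13_1 lc_h_rc_36_2 lc_h_rc_36_2 lc_h_rc_13_3 lc_h_rc_13_3 lc_h_rc_35_0 lc_h_rc_35_0 lc_h_rc_5_1 lc_h_rc_35_0 lc_h_rc_5_1 lc_h_rc_5_1 lc_h_rc_36_2)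 (@D3.rec (fun _ => (Cert rels S Gen.h)) lc_h_rc_35_0 lc_h_rc_41_3 lc_h_rc_35_0 lc_h_rc_26_3 lc_h_rc_20_1 lc_h_rc_26_3 lc_h_rc_20_1 lc_h_rc_31_1 lc_h_rc_36_2 lc_h_rc_37_1 lc_h_rc_36_2 lc_h_rc_13_1 lc_h_rc_20_1 lc_h_rc_36_2 lc_h_rc_13_1 lc_h_rc_36_2 lc_h_rc_5_1 lc_h_rc_26_3) (@D3.rec (fun _ => (Cert rels S Gen.h)) lc_h_rc_36_2 lc_h_rc_20_1 lc_h_rc_13_1 lc_h_rc_5_1 lc_h_rc_35_0 lc_h_rc_5_1 lc_h_rc_5_1 lc_h_rc_5_1 lc_h_rc_5_1 lc_h_rc_5_1 lc_h_rc_36_2 lc_h_rc_26_3 lc_h_rc_20_1 lc_h_rc_26_3 lc_h_rc_26_3 lc_h_Cert_tree lc_h_rc_31_1 lc_h_rc_36_2) (@D3.rec (fun _ => (Cert rels S Gen.h)) lc_h_rc_37_1 lc_h_rc_36_2 lc_h_rc_41_1 lc_h_rc_36_2 lc_h_rc_13_1 lc_h_rc_36_2 lc_h_rc_36_2 lc_h_rc_13_1 lc_h_rc_20_1 lc_h_rc_13_1 lc_h_rc_35_0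 lc_h_rc_31_1 lc_h_rc_37_1 lc_h_rc_26_3 lc_h_rc_36_2 lc_h_rc_31_1 lc_h_rc_31_1 lc_h_rc_37_1) (@D3.rec (fun _ => (Cert rels S Gen.h)) lc_h_rc_37_1 lc_h_Cert_tree lc_h_Cert_tree lc_h_rc_35_0 lc_h_Cert_tree lc_h_Cert_tree lc_h_rc_35_0 lc_h_rc_26_3 lc_h_rc_35_0 lc_h_rc_26_3 lc_h_rc_20_1 lc_h_rc_35_0 lc_h_rc_35_0 lc_h_rc_13_1 lc_h_rc_35_0 lc_h_rc_31_1 lc_h_rc_36_2 lc_h_rc_36_2) (@D3.rec (fun _ => (Cert rels S Gen.h)) lc_h_Cert_tree lc_h_rc_35_0 lc_h_rc_26_3 lc_h_rc_20_1 lc_h_rc_35_0 lc_h_rc_13_1 lc_h_rc_26_3 lc_h_rc_36_2 lc_h_Cert_tree lc_h_rc_35_0 lc_h_Cert_tree lc_h_Cert_tree lc_h_rc_35_0 lc_h_rc_5_1 lc_h_rc_36_2 lc_h_Cert_tree lc_h_rc_35_0 lc_h_rc_35_0)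
def ce_h_8 : D2 → D3 → (Cert rels S Gen.h) := @D2.rec (fun _ => D3 → (Cert rels S Gen.h)) (@D3.rec (fun _ => (Cert rels S Gen.h)) lc_h_rc_36_2 lc_h_Cert_tree lc_h_Cert_tree lc_h_rc_35_0 lc_h_rc_35_0 lc_h_rc_26_3 lc_h_rc_20_1 lc_h_rc_26_3 lc_h_Cert_tree lc_h_Cert_tree lc_h_rc_35_0 lc_h_rc_13_1 lc_h_rc_13_1 lc_h_rc_36_2 lc_h_rc_35_0 lc_h_rc_26_3 lc_h_rc_36_2 lc_h_rc_20_1) (@D3.rec (fun _ => (Cert rels S Gen.h)) lc_h_Cert_tree lc_h_Cert_tree lc_h_rc_35_0 lc_h_rc_5_1 lc_h_rc_26_3 lc_h_rc_20_1 lc_h_Cert_tree lc_h_rc_35_0 lc_h_Cert_tree lc_h_rc_35_0 lc_h_rc_5_1 lc_h_rc_5_1 lc_h_rc_35_0 lc_h_rc_5_1 lc_h_Cert_tree lc_h_rc_35_0 lc_h_rc_26_3 lc_h_rc_20_1) (@D3.rec (fun _ => (Cert rels S Gen.h)) lc_h_rc_31_1 lc_h_Cert_tree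 lc_h_rc_13_1 lc_h_Cert_tree lc_h_Cert_tree lc_h_rc_35_0 lc_h_rc_13_1 lc_h_Cert_tree lc_h_Cert_tree lc_h_rc_35_0 lc_h_rc_35_0 lc_h_rc_5_1 lc_h_rc_5_1 lc_h_Cert_tree lc_h_rc_35_0 lc_h_rc_5_1 lc_h_rc_5_1 lc_h_rc_36_2) (@D3.rec (fun _ => (Cert rels S Gen.h)) lc_h_rc_37_3 lc_h_rc_35_0 lc_h_Cert_tree lc_h_rc_35_0 lc_h_rc_26_3 lc_h_rc_20_1 lc_h_rc_26_3 lc_h_rc_36_2 lc_h_rc_31_1 lc_h_Cert_tree lc_h_rc_37_1 lc_h_Cert_tree lc_h_rc_35_0 lc_h_rc_35_0 lc_h_rc_37_1 lc_h_rc_36_2 lc_h_rc_20_1 lc_h_rc_26_3) (@D3.rec (fun _ => (Cert rels S Gen.h)) lc_h_rc_36_2 lc_h_rc_20_1 lc_h_rc_36_2 lc_h_rc_13_1 lc_h_rc_36_2 lc_h_rc_35_0 lc_h_rc_36_2 lc_h_rc_13_1 lc_h_rc_13_1 lc_h_rc_5_1 lc_h_rc_35_0 lc_h_rc_31_1 lc_h_rc_36_2 lc_h_rc_36_2 lc_h_Cert_tree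 lc_h_Cert_tree lc_h_rc_35_0 lc_h_rc_35_0) (@D3.rec (fun _ => (Cert rels S Gen.h)) lc_h_rc_20_1 lc_h_rc_35_0 lc_h_rc_13_1 lc_h_rc_13_1 lc_h_rc_13_1 lc_h_rc_26_3 lc_h_rc_36_2 lc_h_rc_20_1 lc_h_Cert_tree lc_h_Cert_tree lc_h_rc_35_0 lc_h_rc_37_3 lc_h_Cert_tree lc_h_Cert_tree lc_h_rc_35_0 lc_h_rc_35_0 lc_h_rc_5_1 lc_h_rc_36_2) (@D3.rec (fun _ => (Cert rels S Gen.h)) lc_h_rc_26_1 lc_h_Cert_tree lc_h_rc_35_0 lc_h_rc_5_1 lc_h_rc_36_2 lc_h_rc_36_2 lc_h_rc_31_1 lc_h_rc_35_0 lc_h_Cert_tree lc_h_rc_35_0 lc_h_rc_26_3 lc_h_rc_20_1 lc_h_rc_13_1 lc_h_rc_20_1 lc_h_rc_31_1 lc_h_rc_36_2 lc_h_rc_37_1 lc_h_rc_13_1) (@D3.rec (fun _ => (Cert rels S Gen.h)) lc_h_rc_35_0 lc_h_rc_13_1 lc_h_rc_13_1 lc_h_rc_20_1 lc_h_Cert_tree lc_h_rc_36_2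 lc_h_Cert_tree lc_h_rc_13_1 lc_h_Cert_tree lc_h_rc_35_0 lc_h_rc_35_0 lc_h_rc_5_1 lc_h_rc_5_1 lc_h_rc_35_0 lc_h_rc_35_0 lc_h_rc_26_3 lc_h_rc_20_1 lc_h_rc_13_1) (@D3.rec (fun _ => (Cert rels S Gen.h)) lc_h_rc_20_1 lc_h_rc_13_1 lc_h_rc_13_1 lc_h_rc_13_1 lc_h_rc_41_1 lc_h_rc_36_2 lc_h_rc_26_3 lc_h_rc_5_1 lc_h_rc_36_2 lc_h_rc_36_2 lc_h_rc_5_1 lc_h_rc_36_2 lc_h_rc_26_3 lc_h_rc_36_2 lc_h_rc_26_3 lc_h_rc_20_1 lc_h_rc_20_1 lc_h_rc_31_1) (@D3.rec (fun _ => (Cert rels S Gen.h)) lc_h_Cert_tree lc_h_rc_31_1 lc_h_rc_36_2 lc_h_rc_37_1 lc_h_rc_36_2 lc_h_rc_13_3 lc_h_rc_36_2 lc_h_rc_13_1 lc_h_rc_36_2 lc_h_rc_5_1 lc_h_rc_36_2 lc_h_rc_13_1 lc_h_rc_20_1 lc_h_rc_26_1 lc_h_rc_13_1 lc_h_rc_26_5 lc_h_rc_5_1 lc_h_rc_5_1) (@D3.rec (fun _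 => (Cert rels S Gen.h)) lc_h_rc_5_1 lc_h_Cert_tree lc_h_rc_13_1 lc_h_rc_36_2 lc_h_rc_26_3 lc_h_Cert_tree lc_h_rc_13_1 lc_h_rc_31_1 lc_h_Cert_tree lc_h_rc_37_1 lc_h_Cert_tree lc_h_rc_35_0 lc_h_rc_37_1 lc_h_rc_36_2 lc_h_rc_36_2 lc_h_rc_41_1 lc_h_rc_36_2 lc_h_rc_46_34) (@D3.rec (fun _ => (Cert rels S Gen.h)) lc_h_rc_36_2 lc_h_rc_37_1 lc_h_rc_31_1 lc_h_rc_36_2 lc_h_rc_37_1 lc_h_rc_37_1 lc_h_rc_35_0 lc_h_rc_35_0 lc_h_rc_5_1 lc_h_rc_5_1 lc_h_rc_35_0 lc_h_rc_35_0 lc_h_rc_26_3 lc_h_rc_26_3 lc_h_rc_20_1 lc_h_rc_31_1 lc_h_Cert_tree lc_h_rc_13_1) (@D3.rec (fun _ => (Cert rels S Gen.h)) lc_h_rc_13_1 lc_h_rc_13_1 lc_h_rc_31_1 lc_h_rc_36_2 lc_h_rc_20_1 lc_h_Cert_tree lc_h_Cert_tree lc_h_rc_35_0 lc_h_rc_26_3 lc_h_rc_20_1 lc_h_Cert_tree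 lc_h_rc_13_1 lc_h_rc_13_1 lc_h_Cert_tree lc_h_Cert_tree lc_h_Cert_tree lc_h_rc_35_0 lc_h_rc_13_1) (@D3.rec (fun _ => (Cert rels S Gen.h)) lc_h_rc_13_1 lc_h_Cert_tree lc_h_Cert_tree lc_h_rc_35_0 lc_h_rc_35_0 lc_h_rc_5_1 lc_h_rc_37_1 lc_h_rc_5_1 lc_h_Cert_tree lc_h_Cert_tree lc_h_rc_35_0 lc_h_rc_5_1 lc_h_rc_36_2 lc_h_rc_41_1 lc_h_Cert_tree lc_h_rc_35_0 lc_h_Cert_tree lc_h_rc_35_0) (@D3.rec (fun _ => (Cert rels S Gen.h)) lc_h_rc_26_3 lc_h_rc_20_1 lc_h_rc_26_3 lc_h_rc_36_2 lc_h_rc_31_1 lc_h_Cert_tree lc_h_rc_37_1 lc_h_Cert_tree lc_h_rc_35_0 lc_h_rc_35_0 lc_h_rc_13_1 lc_h_rc_36_2 lc_h_rc_20_1 lc_h_Cert_tree lc_h_rc_37_1 lc_h_rc_36_2 lc_h_rc_20_1 lc_h_Cert_tree)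
def ce_h_9 : D2 → D3 → (Cert rels S Gen.h) := @D2.rec (fun _ => D3 → (Cert rels S Gen.h)) (@D3.rec (fun _ => (Cert rels S Gen.h)) lc_h_rc_13_1 lc_h_Cert_tree lc_h_rc_35_0 lc_h_rc_35_0 lc_h_rc_5_1 lc_h_rc_5_1 lc_h_rc_31_1 lc_h_Cert_tree lc_h_Cert_tree lc_h_rc_35_0 lc_h_rc_13_1 lc_h_rc_35_0 lc_h_rc_5_1 lc_h_rc_5_1 lc_h_Cert_tree lc_h_rc_5_1 lc_h_rc_35_0 lc_h_rc_26_3) (@D3.rec (fun _ => (Cert rels S Gen.h)) lc_h_rc_20_1 lc_h_rc_31_1 lc_h_Cert_tree lc_h_rc_37_1 lc_h_Cert_tree lc_h_rc_35_0 lc_h_Cert_tree lc_h_Cert_tree lc_h_rc_35_0 lc_h_rc_35_0 lc_h_rc_13_1 lc_h_rc_35_0 lc_h_rc_35_0 lc_h_rc_26_3 lc_h_rc_5_1 lc_h_rc_5_1 lc_h_rc_36_2 lc_h_rc_5_1) (@D3.rec (fun _ => (Cert rels S Gen.h)) lc_h_Cert_tree lc_h_rc_35_0 lc_h_rc_36_2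 lc_h_rc_37_1 lc_h_rc_26_1 lc_h_rc_26_3 lc_h_rc_36_2 lc_h_rc_35_0 lc_h_rc_36_0 lc_h_rc_36_2 lc_h_rc_20_1 lc_h_rc_31_1 lc_h_Cert_tree lc_h_rc_31_1 lc_h_Cert_tree lc_h_rc_37_1 lc_h_Cert_tree lc_h_rc_35_0) (@D3.rec (fun _ => (Cert rels S Gen.h)) lc_h_rc_41_1 lc_h_Cert_tree lc_h_rc_35_0 lc_h_rc_26_1 lc_h_rc_36_2 lc_h_rc_13_1 lc_h_rc_36_2 lc_h_rc_13_1 lc_h_rc_36_2 lc_h_rc_5_1 lc_h_rc_36_2 lc_h_rc_36_2 lc_h_rc_5_1 lc_h_rc_31_1 lc_h_rc_36_2 lc_h_rc_20_1 lc_h_Cert_tree lc_h_rc_35_0) (@D3.rec (fun _ => (Cert rels S Gen.h)) lc_h_rc_35_0 lc_h_rc_26_3 lc_h_rc_20_1 lc_h_rc_20_1 lc_h_rc_13_1 lc_h_rc_13_1 lc_h_rc_20_1 lc_h_Cert_tree lc_h_Cert_tree lc_h_rc_13_1 lc_h_Cert_tree lc_h_rc_35_0 lc_h_rc_35_0 lc_h_rc_36_2 lc_h_rc_35_0 lc_h_Cert_tree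 lc_h_rc_35_0 lc_h_rc_26_3) (@D3.rec (fun _ => (Cert rels S Gen.h)) lc_h_rc_36_2 lc_h_rc_36_2 lc_h_rc_31_1 lc_h_rc_13_1 lc_h_rc_35_0 lc_h_rc_5_1 lc_h_rc_36_2 lc_h_rc_5_1 lc_h_Cert_tree lc_h_rc_26_3 lc_h_rc_36_2 lc_h_rc_35_0 lc_h_rc_41_1 lc_h_rc_20_1 lc_h_rc_20_1 lc_h_rc_26_3 lc_h_Cert_tree lc_h_rc_36_2) (@D3.rec (fun _ => (Cert rels S Gen.h)) lc_h_rc_37_1 lc_h_rc_36_2 lc_h_rc_20_1 lc_h_rc_13_1 lc_h_rc_36_2 lc_h_rc_20_1 lc_h_Cert_tree lc_h_rc_13_1 lc_h_Cert_tree lc_h_rc_35_0 lc_h_rc_35_0 lc_h_rc_5_1 lc_h_Cert_tree lc_h_rc_35_0 lc_h_rc_26_3 lc_h_rc_5_1 lc_h_rc_26_3 lc_h_rc_36_2) (@D3.rec (fun _ => (Cert rels S Gen.h)) lc_h_rc_26_3 lc_h_rc_20_1 lc_h_rc_5_1 lc_h_rc_35_1 lc_h_Cert_tree lc_h_rc_36_2 lc_h_rc_13_1 lc_h_rc_36_2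 lc_h_rc_20_1 lc_h_Cert_tree lc_h_rc_13_1 lc_h_rc_36_2 lc_h_rc_20_1 lc_h_rc_31_1 lc_h_Cert_tree lc_h_rc_26_3 lc_h_Cert_tree lc_h_rc_13_1) (@D3.rec (fun _ => (Cert rels S Gen.h)) lc_h_rc_20_1 lc_h_Cert_tree lc_h_rc_37_1 lc_h_Cert_tree lc_h_rc_35_0 lc_h_rc_37_1 lc_h_rc_36_2 lc_h_rc_26_5 lc_h_rc_37_1 lc_h_rc_41_1 lc_h_rc_36_2 lc_h_rc_36_2 lc_h_rc_31_1 lc_h_rc_13_1 lc_h_rc_37_1 lc_h_rc_5_1 lc_h_Cert_tree lc_h_rc_13_1) (@D3.rec (fun _ => (Cert rels S Gen.h)) lc_h_Cert_tree lc_h_rc_35_0 lc_h_rc_36_2 lc_h_rc_37_1 lc_h_Cert_tree lc_h_rc_35_0 lc_h_rc_13_1 lc_h_Cert_tree lc_h_rc_37_1 lc_h_Cert_tree lc_h_rc_35_0 lc_h_Cert_tree lc_h_rc_35_0 lc_h_rc_37_1 lc_h_rc_37_1 lc_h_rc_36_2 lc_h_rc_13_1 lc_h_rc_13_1) (@D3.rec (fun _ => (Cert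 rels S Gen.h)) lc_h_rc_5_1 lc_h_rc_5_1 lc_h_rc_5_1 lc_h_Cert_tree lc_h_rc_5_1 lc_h_rc_31_1 lc_h_rc_26_3 lc_h_rc_31_1 lc_h_Cert_tree lc_h_rc_37_1 lc_h_Cert_tree lc_h_rc_35_0 lc_h_rc_20_1 lc_h_Cert_tree lc_h_rc_20_1 lc_h_Cert_tree lc_h_rc_13_1 lc_h_Cert_tree) (@D3.rec (fun _ => (Cert rels S Gen.h)) lc_h_rc_35_0 lc_h_rc_35_0 lc_h_rc_26_3 lc_h_rc_20_1 lc_h_rc_31_1 lc_h_Cert_tree lc_h_rc_35_0 lc_h_rc_20_1 lc_h_Cert_tree lc_h_rc_35_0 lc_h_Cert_tree lc_h_rc_35_0 lc_h_rc_35_0 lc_h_rc_13_1 lc_h_rc_13_1 lc_h_rc_20_1 lc_h_Cert_tree lc_h_Cert_tree) (@D3.rec (fun _ => (Cert rels S Gen.h)) lc_h_rc_35_0 lc_h_Cert_tree lc_h_rc_35_0 lc_h_rc_26_3 lc_h_rc_36_2 lc_h_rc_41_1 lc_h_rc_5_1 lc_h_Cert_tree lc_h_rc_5_1 lc_h_Cert_tree lc_h_rc_35_0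 lc_h_rc_35_0 lc_h_rc_36_2 lc_h_rc_5_1 lc_h_Cert_tree lc_h_rc_35_0 lc_h_rc_26_3 lc_h_rc_36_2) (@D3.rec (fun _ => (Cert rels S Gen.h)) lc_h_rc_35_0 lc_h_rc_41_1 lc_h_rc_36_2 lc_h_rc_20_1 lc_h_rc_31_1 lc_h_Cert_tree lc_h_Cert_tree lc_h_rc_37_1 lc_h_Cert_tree lc_h_rc_35_0 lc_h_rc_41_1 lc_h_Cert_tree lc_h_rc_35_0 lc_h_rc_13_1 lc_h_rc_36_2 lc_h_Cert_tree lc_h_rc_13_1 lc_h_Cert_tree) (@D3.rec (fun _ => (Cert rels S Gen.h)) lc_h_rc_35_0 lc_h_rc_31_1 lc_h_Cert_tree lc_h_rc_13_1 lc_h_Cert_tree lc_h_rc_35_0 lc_h_rc_5_1 lc_h_Cert_tree lc_h_rc_35_0 lc_h_rc_13_1 lc_h_rc_13_1 lc_h_Cert_tree lc_h_rc_37_1 lc_h_Cert_tree lc_h_rc_35_0 lc_h_rc_35_0 lc_h_rc_13_1 lc_h_rc_5_3)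
def ce_h_10 : D2 → D3 → (Cert rels S Gen.h) := @D2.rec (fun _ => D3 → (Cert rels S Gen.h)) (@D3.rec (fun _ => (Cert rels S Gen.h)) lc_h_rc_5_1 lc_h_rc_5_1 lc_h_Cert_tree lc_h_rc_35_0 lc_h_rc_26_3 lc_h_rc_36_2 lc_h_rc_31_1 lc_h_Cert_tree lc_h_rc_37_1 lc_h_Cert_tree lc_h_rc_35_0 lc_h_rc_41_1 lc_h_Cert_tree lc_h_rc_35_0 lc_h_rc_35_0 lc_h_rc_35_0 lc_h_rc_26_3 lc_h_rc_13_1) (@D3.rec (fun _ => (Cert rels S Gen.h)) lc_h_rc_36_2 lc_h_rc_26_3 lc_h_rc_36_2 lc_h_rc_20_1 lc_h_rc_36_2 lc_h_rc_36_0 lc_h_rc_31_1 lc_h_Cert_tree lc_h_rc_5_1 lc_h_Cert_tree lc_h_Cert_tree lc_h_rc_35_0 lc_h_rc_37_1 lc_h_rc_31_1 lc_h_Cert_tree lc_h_rc_20_1 lc_h_rc_36_2 lc_h_rc_36_0) (@D3.rec (fun _ => (Cert rels S Gen.h)) lc_h_Cert_tree lc_h_rc_26_3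 lc_h_rc_20_1 lc_h_Cert_tree lc_h_rc_37_1 lc_h_Cert_tree lc_h_rc_35_0 lc_h_rc_37_1 lc_h_Cert_tree lc_h_rc_35_0 lc_h_rc_41_1 lc_h_Cert_tree lc_h_rc_35_0 lc_h_Cert_tree lc_h_rc_35_0 lc_h_rc_5_1 lc_h_rc_36_2 lc_h_rc_36_2) (@D3.rec (fun _ => (Cert rels S Gen.h)) lc_h_rc_36_2 lc_h_Cert_tree lc_h_rc_13_1 lc_h_Cert_tree lc_h_rc_35_0 lc_h_rc_26_3 lc_h_rc_36_2 lc_h_rc_26_3 lc_h_rc_20_1 lc_h_rc_13_3 lc_h_Cert_tree lc_h_Cert_tree lc_h_rc_13_1 lc_h_Cert_tree lc_h_rc_35_0 lc_h_rc_35_0 lc_h_rc_5_1 lc_h_Cert_tree) (@D3.rec (fun _ => (Cert rels S Gen.h)) lc_h_rc_35_0 lc_h_rc_26_3 lc_h_rc_36_2 lc_h_rc_26_3 lc_h_rc_36_2 lc_h_rc_35_0 lc_h_rc_26_3 lc_h_rc_36_2 lc_h_rc_20_1 lc_h_rc_41_1 lc_h_Cert_tree lc_h_rc_13_1 lc_h_rc_37_1 lc_h_rc_5_1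 lc_h_Cert_tree lc_h_Cert_tree lc_h_rc_35_0 lc_h_rc_20_1) (@D3.rec (fun _ => (Cert rels S Gen.h)) lc_h_Cert_tree lc_h_rc_5_3 lc_h_rc_5_3 lc_h_rc_13_3 lc_h_Cert_tree lc_h_rc_13_1 lc_h_rc_13_3 lc_h_Cert_tree lc_h_rc_37_1 lc_h_Cert_tree lc_h_rc_35_0 lc_h_rc_31_1 lc_h_rc_37_1 lc_h_rc_13_1 lc_h_Cert_tree lc_h_rc_35_0 lc_h_rc_5_1 lc_h_Cert_tree) (@D3.rec (fun _ => (Cert rels S Gen.h)) lc_h_rc_35_0 lc_h_Cert_tree lc_h_rc_35_0 lc_h_Cert_tree lc_h_Cert_tree lc_h_Cert_tree lc_h_rc_5_1 lc_h_Cert_tree lc_h_Cert_tree lc_h_rc_35_0 lc_h_rc_20_3 lc_h_Cert_tree lc_h_rc_35_0 lc_h_rc_36_2 lc_h_rc_13_1 lc_h_rc_20_1 lc_h_Cert_tree lc_h_rc_37_1) (@D3.rec (fun _ => (Cert rels S Gen.h)) lc_h_Cert_tree lc_h_rc_35_0 lc_h_rc_37_1 lc_h_Cert_tree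 lc_h_rc_35_0 lc_h_rc_5_1 lc_h_rc_13_1 lc_h_Cert_tree lc_h_rc_20_1 lc_h_Cert_tree lc_h_rc_35_0 lc_h_Cert_tree lc_h_rc_35_0 lc_h_rc_37_1 lc_h_rc_41_1 lc_h_rc_5_1 lc_h_rc_36_2 lc_h_rc_35_0) (@D3.rec (fun _ => (Cert rels S Gen.h)) lc_h_Cert_tree lc_h_rc_35_0 lc_h_Cert_tree lc_h_rc_35_0 lc_h_rc_13_1 lc_h_Cert_tree lc_h_rc_35_0 lc_h_Cert_tree lc_h_rc_35_0 lc_h_rc_35_0 lc_h_rc_36_2 lc_h_rc_20_1 lc_h_rc_13_1 lc_h_Cert_tree lc_h_Cert_tree lc_h_rc_5_1 lc_h_Cert_tree lc_h_rc_35_0) (@D3.rec (fun _ => (Cert rels S Gen.h)) lc_h_Cert_tree lc_h_rc_37_1 lc_h_Cert_tree lc_h_rc_35_0 lc_h_rc_41_1 lc_h_Cert_tree lc_h_rc_35_0 lc_h_rc_13_1 lc_h_Cert_tree lc_h_rc_35_0 lc_h_rc_13_1 lc_h_Cert_tree lc_h_rc_35_0 lc_h_rc_5_1 lc_h_Cert_tree lc_h_rc_35_0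 lc_h_rc_26_3 lc_h_rc_36_2) (@D3.rec (fun _ => (Cert rels S Gen.h)) lc_h_rc_20_1 lc_h_rc_31_1 lc_h_Cert_tree lc_h_Cert_tree lc_h_rc_35_0 lc_h_Cert_tree lc_h_rc_35_0 lc_h_rc_35_0 lc_h_rc_37_1 lc_h_rc_37_1 lc_h_rc_13_1 lc_h_rc_13_1 lc_h_Cert_tree lc_h_Cert_tree lc_h_rc_35_0 lc_h_rc_35_0 lc_h_rc_26_3 lc_h_rc_36_2) (@D3.rec (fun _ => (Cert rels S Gen.h)) lc_h_rc_35_0 lc_h_rc_41_1 lc_h_rc_41_1 lc_h_rc_20_1 lc_h_rc_31_1 lc_h_Cert_tree lc_h_rc_5_1 lc_h_Cert_tree lc_h_rc_35_0 lc_h_Cert_tree lc_h_rc_35_0 lc_h_rc_36_2 lc_h_Cert_tree lc_h_rc_35_0 lc_h_rc_41_1 lc_h_rc_36_2 lc_h_rc_20_1 lc_h_rc_31_1) (@D3.rec (fun _ => (Cert rels S Gen.h)) lc_h_Cert_tree lc_h_rc_20_3 lc_h_rc_36_2 lc_h_Cert_tree lc_h_rc_13_1 lc_h_Cert_tree lc_h_rc_37_1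 lc_h_Cert_tree lc_h_rc_35_0 lc_h_rc_35_0 lc_h_rc_41_1 lc_h_Cert_tree lc_h_rc_35_0 lc_h_Cert_tree lc_h_rc_35_0 lc_h_Cert_tree lc_h_rc_35_0 lc_h_rc_5_1) (@D3.rec (fun _ => (Cert rels S Gen.h)) lc_h_Cert_tree lc_h_rc_35_0 lc_h_Cert_tree lc_h_rc_35_0 lc_h_Cert_tree lc_h_rc_35_0 lc_h_Cert_tree lc_h_rc_35_0 lc_h_Cert_tree lc_h_rc_35_0 lc_h_Cert_tree lc_h_rc_35_0 lc_h_rc_5_3 lc_h_rc_13_1 lc_h_rc_5_3 lc_h_Cert_tree lc_h_Cert_tree lc_h_rc_35_0) (@D3.rec (fun _ => (Cert rels S Gen.h)) lc_h_rc_31_1 lc_h_Cert_tree lc_h_rc_13_3 lc_h_Cert_tree lc_h_rc_35_0 lc_h_Cert_tree lc_h_rc_35_0 lc_h_Cert_tree lc_h_rc_35_0 lc_h_rc_26_3 lc_h_rc_5_3 lc_h_rc_26_3 lc_h_rc_36_2 lc_h_rc_13_1 lc_h_Cert_tree lc_h_rc_31_1 lc_h_Cert_tree lc_h_rc_20_1)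
def ce_h_11 : D2 → D3 → (Cert rels S Gen.h) := @D2.rec (fun _ => D3 → (Cert rels S Gen.h)) (@D3.rec (fun _ => (Cert rels S Gen.h)) lc_h_Cert_tree lc_h_rc_36_0 lc_h_Cert_tree lc_h_Cert_tree lc_h_rc_35_0 lc_h_rc_5_1 lc_h_Cert_tree lc_h_rc_35_0 lc_h_rc_35_0 lc_h_rc_37_1 lc_h_Cert_tree lc_h_rc_35_0 lc_h_rc_13_3 lc_h_Cert_tree lc_h_rc_20_1 lc_h_Cert_tree lc_h_rc_35_0 lc_h_rc_26_3) (@D3.rec (fun _ => (Cert rels S Gen.h)) lc_h_rc_37_3 lc_h_Cert_tree lc_h_rc_13_3 lc_h_Cert_tree lc_h_rc_35_0 lc_h_rc_41_1 lc_h_Cert_tree lc_h_rc_35_0 lc_h_rc_41_1 lc_h_Cert_tree lc_h_rc_35_0 lc_h_Cert_tree lc_h_rc_35_0 lc_h_rc_26_3 lc_h_rc_35_0 lc_h_rc_36_2 lc_h_rc_35_0 lc_h_Cert_tree) (@D3.rec (fun _ => (Cert rels S Gen.h)) lc_h_rc_35_0 lc_h_Cert_tree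 lc_h_Cert_tree lc_h_rc_5_3 lc_h_Cert_tree lc_h_rc_35_0 lc_h_rc_35_0 lc_h_Cert_tree lc_h_rc_35_0 lc_h_Cert_tree lc_h_rc_35_0 lc_h_Cert_tree lc_h_rc_20_1 lc_h_Cert_tree lc_h_rc_37_1 lc_h_rc_37_1 lc_h_rc_13_3 lc_h_Cert_tree) (@D3.rec (fun _ => (Cert rels S Gen.h)) lc_h_rc_13_1 lc_h_Cert_tree lc_h_Cert_tree lc_h_rc_35_0 lc_h_Cert_tree lc_h_rc_35_0 lc_h_rc_35_0 lc_h_rc_13_1 lc_h_Cert_tree lc_h_rc_35_0 lc_h_rc_5_1 lc_h_Cert_tree lc_h_Cert_tree lc_h_rc_35_0 lc_h_rc_46_34 lc_h_rc_47_34 lc_h_Cert_tree lc_h_rc_36_0) (@D3.rec (fun _ => (Cert rels S Gen.h)) lc_h_Cert_tree lc_h_rc_35_0 lc_h_rc_41_1 lc_h_Cert_tree lc_h_rc_35_0 lc_h_rc_41_1 lc_h_rc_35_0 lc_h_Cert_tree lc_h_rc_35_0 lc_h_rc_26_3 lc_h_rc_35_0 lc_h_rc_35_0 lc_h_rc_35_0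 lc_h_rc_35_0 lc_h_Cert_tree lc_h_rc_35_0 lc_h_rc_35_0 lc_h_Cert_tree) (@D3.rec (fun _ => (Cert rels S Gen.h)) lc_h_rc_35_0 lc_h_rc_5_1 lc_h_rc_13_1 lc_h_Cert_tree lc_h_rc_20_1 lc_h_Cert_tree lc_h_rc_35_0 lc_h_Cert_tree lc_h_rc_35_0 lc_h_Cert_tree lc_h_rc_35_0 lc_h_Cert_tree lc_h_rc_37_1 lc_h_Cert_tree lc_h_rc_35_0 lc_h_Cert_tree lc_h_rc_35_0 lc_h_rc_35_0) (@D3.rec (fun _ => (Cert rels S Gen.h)) lc_h_rc_36_2 lc_h_rc_35_0 lc_h_rc_35_0 lc_h_Cert_tree lc_h_rc_35_0 lc_h_rc_35_0 lc_h_rc_26_3 lc_h_Cert_tree lc_h_Cert_tree lc_h_rc_35_0 lc_h_rc_35_0 lc_h_Cert_tree lc_h_rc_35_0 lc_h_rc_35_0 lc_h_Cert_tree lc_h_rc_35_0 lc_h_Cert_tree lc_h_rc_35_0) (@D3.rec (fun _ => (Cert rels S Gen.h)) lc_h_rc_26_3 lc_h_Cert_tree lc_h_rc_35_0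 lc_h_Cert_tree lc_h_rc_35_0 lc_h_Cert_tree lc_h_rc_35_0 lc_h_rc_26_3 lc_h_rc_20_1 lc_h_rc_31_1 lc_h_Cert_tree lc_h_rc_45_52 lc_h_Cert_tree lc_h_Cert_tree lc_h_rc_35_0 lc_h_rc_35_0 lc_h_rc_35_0 lc_h_rc_26_3) (@D3.rec (fun _ => (Cert rels S Gen.h)) lc_h_rc_41_1 lc_h_rc_13_1 lc_h_rc_13_3 lc_h_Cert_tree lc_h_Cert_tree lc_h_rc_35_0 lc_h_rc_35_0 lc_h_rc_41_1 lc_h_rc_36_2 lc_h_rc_20_1 lc_h_rc_31_1 lc_h_Cert_tree lc_h_rc_41_1 lc_h_rc_36_2 lc_h_Cert_tree lc_h_Cert_tree lc_h_rc_5_3 lc_h_Cert_tree) (@D3.rec (fun _ => (Cert rels S Gen.h)) lc_h_rc_35_0 lc_h_Cert_tree lc_h_rc_35_0 lc_h_rc_35_0 lc_h_rc_35_0 lc_h_Cert_tree lc_h_rc_13_1 lc_h_Cert_tree lc_h_rc_37_1 lc_h_Cert_tree lc_h_rc_35_0 lc_h_rc_5_3 lc_h_Cert_tree lc_h_rc_35_0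 lc_h_rc_37_3 lc_h_Cert_tree lc_h_rc_35_0 lc_h_rc_36_0) (@D3.rec (fun _ => (Cert rels S Gen.h)) lc_h_Cert_tree lc_h_rc_35_0 lc_h_Cert_tree lc_h_rc_35_0 lc_h_rc_26_3 lc_h_rc_35_0 lc_h_rc_35_0 lc_h_Cert_tree lc_h_rc_35_0 lc_h_rc_26_3 lc_h_rc_35_0 lc_h_rc_35_0 lc_h_rc_35_0 lc_h_rc_35_0 lc_h_rc_35_0 lc_h_rc_26_3 lc_h_Cert_tree lc_h_Cert_tree) (@D3.rec (fun _ => (Cert rels S Gen.h)) lc_h_rc_35_0 lc_h_rc_35_0 lc_h_Cert_tree lc_h_rc_35_0 lc_h_Cert_tree lc_h_rc_35_0 lc_h_rc_35_0 lc_h_rc_26_3 lc_h_rc_35_0 lc_h_Cert_tree lc_h_Cert_tree lc_h_Cert_tree lc_h_rc_35_0 lc_h_Cert_tree lc_h_rc_35_0 lc_h_rc_5_1 lc_h_Cert_tree lc_h_rc_35_0) (@D3.rec (fun _ => (Cert rels S Gen.h)) lc_h_Cert_tree lc_h_rc_35_0 lc_h_rc_35_0 lc_h_Cert_tree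 lc_h_rc_35_0 lc_h_rc_26_3 lc_h_rc_41_1 lc_h_Cert_tree lc_h_rc_35_0 lc_h_Cert_tree lc_h_rc_35_0 lc_h_rc_26_3 lc_h_Cert_tree lc_h_rc_35_0 lc_h_Cert_tree lc_h_rc_13_1 lc_h_Cert_tree lc_h_rc_35_0) (@D3.rec (fun _ => (Cert rels S Gen.h)) lc_h_rc_37_1 lc_h_Cert_tree lc_h_rc_35_0 lc_h_Cert_tree lc_h_rc_35_0 lc_h_rc_26_3 lc_h_Cert_tree lc_h_rc_35_0 lc_h_rc_26_3 lc_h_rc_35_0 lc_h_rc_26_3 lc_h_rc_20_1 lc_h_rc_35_0 lc_h_rc_26_3 lc_h_rc_35_0 lc_h_rc_35_0 lc_h_Cert_tree lc_h_rc_35_0) (@D3.rec (fun _ => (Cert rels S Gen.h)) lc_h_rc_35_0 lc_h_rc_26_3 lc_h_rc_35_0 lc_h_rc_35_0 lc_h_Cert_tree lc_h_rc_35_0 lc_h_Cert_tree lc_h_Cert_tree lc_h_rc_35_0 lc_h_Cert_tree lc_h_rc_35_0 lc_h_rc_35_0 lc_h_rc_35_0 lc_h_rc_26_3 lc_h_Cert_tree lc_h_rc_35_0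 lc_h_Cert_tree lc_h_rc_35_0)
def ce_h_12 : D2 → D3 → (Cert rels S Gen.h) := @D2.rec (fun _ => D3 → (Cert rels S Gen.h)) (@D3.rec (fun _ => (Cert rels S Gen.h)) lc_h_rc_35_0 lc_h_Cert_tree lc_h_Cert_tree lc_h_rc_35_0 lc_h_Cert_tree lc_h_rc_35_0 lc_h_rc_26_3 lc_h_Cert_tree lc_h_rc_35_0 lc_h_rc_26_3 lc_h_rc_35_0 lc_h_rc_13_1 lc_h_rc_31_1 lc_h_rc_35_0 lc_h_rc_35_0 lc_h_Cert_tree lc_h_Cert_tree lc_h_rc_35_0) (@D3.rec (fun _ => (Cert rels S Gen.h)) lc_h_Cert_tree lc_h_rc_35_0 lc_h_rc_35_0 lc_h_rc_35_0 lc_h_rc_35_0 lc_h_Cert_tree lc_h_rc_35_0 lc_h_rc_35_0 lc_h_rc_26_3 lc_h_rc_35_0 lc_h_rc_13_1 lc_h_rc_26_3 lc_h_rc_35_0 lc_h_rc_35_0 lc_h_rc_35_0 lc_h_rc_26_3 lc_h_rc_35_0 lc_h_rc_35_0) (@D3.rec (fun _ => (Cert rels S Gen.h))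 lc_h_rc_26_3 lc_h_rc_20_1 lc_h_rc_35_0 lc_h_rc_35_0 lc_h_rc_26_3 lc_h_rc_35_0 lc_h_rc_26_3 lc_h_rc_31_1 lc_h_Cert_tree lc_h_Cert_tree lc_h_rc_35_0 lc_h_Cert_tree lc_h_rc_35_0 lc_h_rc_35_0 lc_h_rc_26_3 lc_h_rc_26_3 lc_h_Cert_tree lc_h_Cert_tree) (@D3.rec (fun _ => (Cert rels S Gen.h)) lc_h_Cert_tree lc_h_rc_35_0 lc_h_rc_35_0 lc_h_Cert_tree lc_h_Cert_tree lc_h_Cert_tree lc_h_rc_35_0 lc_h_Cert_tree lc_h_rc_35_0 lc_h_rc_35_0 lc_h_Cert_tree lc_h_rc_35_0 lc_h_rc_35_0 lc_h_rc_26_3 lc_h_rc_26_3 lc_h_rc_35_0 lc_h_Cert_tree lc_h_rc_35_0) (@D3.rec (fun _ => (Cert rels S Gen.h)) lc_h_Cert_tree lc_h_rc_35_0 lc_h_Cert_tree lc_h_rc_35_0 lc_h_Cert_tree lc_h_rc_35_0 lc_h_rc_26_3 lc_h_Cert_tree lc_h_rc_35_0 lc_h_rc_26_3 lc_h_rc_35_0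 lc_h_rc_26_3 lc_h_rc_20_1 lc_h_rc_35_0 lc_h_rc_13_1 lc_h_rc_31_1 lc_h_rc_37_1 lc_h_rc_35_0) (@D3.rec (fun _ => (Cert rels S Gen.h)) lc_h_rc_35_0 lc_h_rc_26_3 lc_h_rc_35_0 lc_h_rc_35_0 lc_h_rc_26_3 lc_h_rc_26_3 lc_h_rc_20_1 lc_h_rc_35_0 lc_h_rc_35_0 lc_h_rc_35_0 lc_h_rc_35_0 lc_h_Cert_tree lc_h_rc_35_0 lc_h_rc_35_0 lc_h_rc_26_3 lc_h_rc_35_0 lc_h_rc_26_3 lc_h_rc_20_1) (@D3.rec (fun _ => (Cert rels S Gen.h)) lc_h_Cert_tree lc_h_rc_35_0 lc_h_rc_26_3 lc_h_rc_35_0 lc_h_Cert_tree lc_h_rc_35_0 lc_h_rc_26_3 lc_h_rc_35_0 lc_h_Cert_tree lc_h_rc_35_0 lc_h_Cert_tree lc_h_rc_35_0 lc_h_rc_26_3 lc_h_rc_35_0 lc_h_rc_26_3 lc_h_rc_20_1 lc_h_rc_35_0 lc_h_rc_26_3) (@D3.rec (fun _ => (Cert rels S Gen.h)) lc_h_rc_20_1 lc_h_rc_20_1 lc_h_rc_13_1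 lc_h_rc_13_1 lc_h_rc_35_0 lc_h_rc_26_3 lc_h_rc_13_1 lc_h_rc_35_0 lc_h_rc_35_0 lc_h_rc_35_0 lc_h_rc_35_0 lc_h_rc_26_3 lc_h_rc_35_0 lc_h_rc_36_2 lc_h_rc_35_0 lc_h_rc_26_3 lc_h_rc_35_0 lc_h_rc_35_0) (@D3.rec (fun _ => (Cert rels S Gen.h)) lc_h_rc_13_1 lc_h_rc_35_0 lc_h_rc_26_3 lc_h_rc_31_1 lc_h_rc_35_0 lc_h_rc_26_3 lc_h_rc_35_0 lc_h_rc_35_0 lc_h_rc_35_0 lc_h_rc_26_3 lc_h_rc_35_0 lc_h_rc_13_1 lc_h_rc_26_3 lc_h_rc_13_1 lc_h_rc_20_1 lc_h_rc_26_3 lc_h_rc_13_1 lc_h_rc_37_1) (@D3.rec (fun _ => (Cert rels S Gen.h)) lc_h_rc_26_3 lc_h_rc_20_1 lc_h_rc_31_1 lc_h_rc_35_0 lc_h_rc_35_0 lc_h_rc_35_0 lc_h_rc_26_3 lc_h_rc_26_3 lc_h_rc_20_1 lc_h_rc_31_1 lc_h_rc_35_0 lc_h_rc_35_0 lc_h_rc_35_0 lc_h_rc_26_3 lc_h_rc_35_0 lc_h_rc_35_0 lc_h_rc_35_0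 lc_h_rc_35_0) (@D3.rec (fun _ => (Cert rels S Gen.h)) lc_h_rc_26_3 lc_h_rc_35_0 lc_h_rc_26_3 lc_h_rc_26_3 lc_h_rc_35_0 lc_h_rc_36_2 lc_h_rc_35_0 lc_h_rc_26_3 lc_h_rc_35_0 lc_h_rc_35_0 lc_h_rc_13_1 lc_h_rc_31_1 lc_h_rc_35_0 lc_h_rc_26_3 lc_h_rc_20_1 lc_h_rc_26_3 lc_h_rc_5_1 lc_h_rc_13_1) (@D3.rec (fun _ => (Cert rels S Gen.h)) lc_h_rc_37_1 lc_h_rc_26_3 lc_h_rc_26_3 lc_h_rc_26_3 lc_h_rc_20_1 lc_h_rc_26_3 lc_h_rc_26_3 lc_h_rc_35_0 lc_h_rc_26_3 lc_h_rc_26_3 lc_h_rc_20_1 lc_h_rc_35_0 lc_h_rc_36_2 lc_h_rc_20_1 lc_h_rc_26_3 lc_h_rc_35_0 lc_h_rc_26_3 lc_h_rc_20_1) (@D3.rec (fun _ => (Cert rels S Gen.h)) lc_h_rc_35_0 lc_h_rc_26_3 lc_h_rc_35_0 lc_h_rc_26_3 lc_h_rc_26_3 lc_h_rc_20_1 lc_h_rc_13_1 lc_h_rc_20_1 lc_h_rc_31_1 lc_h_rc_13_1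 lc_h_rc_5_1 lc_h_rc_26_3 lc_h_rc_13_1 lc_h_rc_26_3 lc_h_rc_13_1 lc_h_rc_26_3 lc_h_rc_26_3 lc_h_rc_36_2) (@D3.rec (fun _ => (Cert rels S Gen.h)) lc_h_rc_13_1 lc_h_rc_20_1 lc_h_rc_36_2 lc_h_rc_26_3 lc_h_rc_26_3 lc_h_rc_31_1 lc_h_rc_20_1 lc_h_rc_37_1 lc_h_rc_5_1 lc_h_rc_26_3 lc_h_rc_5_1 lc_h_rc_26_3 lc_h_rc_26_3 lc_h_rc_13_1 lc_h_rc_36_2 lc_h_rc_36_2 lc_h_rc_20_1 lc_h_rc_26_3) (@D3.rec (fun _ => (Cert rels S Gen.h)) lc_h_rc_20_1 lc_h_rc_26_3 lc_h_rc_37_1 lc_h_rc_13_1 lc_h_rc_20_1 lc_h_rc_26_3 lc_h_rc_20_1 lc_h_rc_13_1 lc_h_rc_20_1 lc_h_rc_31_1 lc_h_rc_26_3 lc_h_rc_31_1 lc_h_rc_20_1 lc_h_rc_36_2 lc_h_rc_20_1 lc_h_rc_20_1 lc_h_rc_31_1 lc_h_rc_37_1)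
def ce_h : Pt → (Cert rels S Gen.h) := @Pt.rec (fun _ => (Cert rels S Gen.h)) (@D1.rec (fun _ => D2 → D3 → (Cert rels S Gen.h)) ce_h_0 ce_h_1 ce_h_2 ce_h_3 ce_h_4 ce_h_5 ce_h_6 ce_h_7 ce_h_8 ce_h_9 ce_h_10 ce_h_11 ce_h_12)

end

end Cfsg.Agent.Helper28.S1687
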