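import Cfsg.Agent.Lib.Helper28.S1687.Tree

set_option autoImplicit false
set_option maxRecDepth 100000

namespace Cfsg.Agent.Helper28.S1687

open Cfsg.Agent.Helper28
open Cfsg.Spor.Fi22 (Gen)

noncomputable section

def lv_i_0 : D2 → D3 → Nat := @D2.rec (fun _ => D3 → Nat) (@D3.rec (fun _ => Nat) 1 2 3 3 4 4 5 5 5 0 6 6 0 6 0 1 7 7) (@D3.rec (fun _ => Nat) 0 7 0 1 7 0 0 1 8 0 8 0 1 8 0 0 1 0) (@D3.rec (fun _ => Nat) 0 1 0 1 9 9 0 0 1 9 0 0 1 0 0 1 0 1) (@D3.rec (fun _ => Nat) 0 1 0 0 1 0 1 6 10 10 0 1 1 0 0 1 1 0) (@D3.rec (fun _ => Nat) 1 0 0 1 1 7 0 0 1 0 0 1 1 7 1 7 11 11) (@D3.rec (fun _ => Nat) 0 1 6 0 1 0 1 8 0 0 1 0 1 1 8 8 0 0) (@D3.rec (fun _ => Nat) 1 0 1 8 0 1 0 1 8 8 8 8 12 1 0 1 1 9) (@D3.rec (fun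 _ => Nat) 0 1 0 1 9 0 1 9 9 9 0 1 0 0 1 9 1 9) (@D3.rec (fun _ => Nat) 0 1 9 0 1 9 9 9 9 9 13 0 1 10 10 0 0 1) (@D3.rec (fun _ => Nat) 10 1 10 0 1 10 10 10 10 0 0 1 10 0 0 1 1 10) (@D3.rec (fun _ => Nat) 10 10 10 0 0 1 10 10 1 2 10 10 10 10 10 10 1 11) (@D3.rec (fun _ => Nat) 11 0 0 1 1 11 11 11 11 1 2 11 11 11 11 0 0 0) (@D3.rec (fun _ => Nat) 1 1 11 11 0 0 1 1 2 11 11 11 11 11 0 1 1 2) (@D3.rec (fun _ => Nat) 11 11 11 2 3 11 11 11 11 11 11 11 12 12 12 0 0 1) (@D3.rec (fun _ => Nat) 1 2 12 12 12 12 12 2 3 12 12 12 12 12 0 0 1 0)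
def lv_i_1 : D2 → D3 → Nat := @D2.rec (fun _ => D3 → Nat) (@D3.rec (fun _ => Nat) 0 1 1 2 12 12 12 12 0 1 1 2 2 3 12 12 12 12) (@D3.rec (fun _ => Nat) 12 12 12 0 1 2 2 3 12 12 12 12 3 4 4 12 12 12) (@D3.rec (fun _ => Nat) 12 12 12 12 12 13 13 13 0 1 1 2 2 3 13 13 13 13) (@D3.rec (fun _ => Nat) 13 13 13 3 4 4 13 13 13 13 13 0 0 1 0 1 2 0) (@D3.rec (fun _ => Nat) 1 1 2 2 3 13 13 13 13 13 0 1 2 2 3 3 4 4) (@D3.rec (fun _ => Nat) 13 13 13 13 13 13 13 13 13 0 1 2 3 3 4 4 13 13) (@D3.rec (fun _ => Nat) 13 13 13 13 4 4 5 5 5 13 13 13 13 13 24 13 14 14) (@D3.rec (fun _ => Nat) 14 14 0 1 2 2 3 3 4 4 14 14 14 14 14 14 14 14) (@D3.rec (fun _ => Nat) 14 4 4 5 5 5 14 14 14 14 0 0 1 0 1 2 0 1) (@D3.rec (fun _ => Nat) 2 3 0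 1 2 2 3 3 4 4 14 14 14 14 14 14 14 14) (@D3.rec (fun _ => Nat) 0 1 2 3 3 4 4 4 4 5 5 5 14 14 14 14 14 14) (@D3.rec (fun _ => Nat) 14 14 14 14 23 1 12 3 4 4 4 4 5 5 5 14 14 14) (@D3.rec (fun _ => Nat) 14 14 14 25 14 5 5 5 6 6 6 6 6 14 14 14 14 15) (@D3.rec (fun _ => Nat) 15 15 0 1 2 3 3 4 4 4 4 5 5 5 15 15 15 15) (@D3.rec (fun _ => Nat) 15 15 15 15 15 15 5 5 5 6 6 6 6 6 15 15 15 1)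
def lv_i_2 : D2 → D3 → Nat := @D2.rec (fun _ => D3 → Nat) (@D3.rec (fun _ => Nat) 1 2 1 2 3 1 13 3 4 4 1 2 3 3 4 4 4 4) (@D3.rec (fun _ => Nat) 5 5 5 15 15 15 15 15 15 15 15 15 0 15 1 13 3 4) (@D3.rec (fun _ => Nat) 4 4 4 5 5 5 5 5 5 6 6 6 6 6 15 15 15 15) (@D3.rec (fun _ => Nat) 15 15 15 15 15 15 0 13 4 4 5 5 24 5 5 5 6 6) (@D3.rec (fun _ => Nat) 6 6 6 15 15 15 15 25 15 15 6 6 6 6 6 7 7 7) (@D3.rec (fun _ => Nat) 19 7 15 15 16 16 16 26 1 14 3 4 4 4 4 5 5 5) (@D3.rec (fun _ => Nat) 5 5 5 6 6 6 6 6 16 16 16 16 16 16 16 16 16 16) (@D3.rec (fun _ => Nat) 22 6 6 6 6 6 20 18 16 16 15 2 3 14 3 4 4 14) (@D3.rec (fun _ => Nat) 4 4 5 5 5 14 3 4 4 4 4 5 5 5 5 5 5 6) (@D3.rec (fun _ => Nat) 6 6 6 6 16 16 16 16 16 16 16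 16 16 0 16 16 16 25) (@D3.rec (fun _ => Nat) 1 14 14 4 4 5 5 5 5 5 5 6 6 6 6 6 6 6) (@D3.rec (fun _ => Nat) 6 6 6 7 7 7 7 7 16 16 16 16 0 16 16 16 16 16) (@D3.rec (fun _ => Nat) 25 1 14 5 5 6 6 6 21 6 6 6 6 6 7 7 7 7) (@D3.rec (fun _ => Nat) 26 7 16 16 16 20 16 16 7 7 7 7 21 20 21 16 17 17) (@D3.rec (fun _ => Nat) 25 15 4 4 23 5 5 5 5 5 6 6 6 6 6 6 6 6)
def lv_i_3 : D2 → D3 → Nat := @D2.rec (fun _ => D3 → Nat) (@D3.rec (fun _ => Nat) 6 6 20 17 7 7 7 17 17 17 17 22 17 17 17 17 17 16) (@D3.rec (fun _ => Nat) 3 4 4 15 4 4 5 5 5 15 5 5 5 6 6 6 6 26) (@D3.rec (fun _ => Nat) 15 4 4 5 5 5 5 5 5 6 6 6 6 6 6 6 6 6) (@D3.rec (fun _ => Nat) 6 7 7 7 7 0 7 17 17 17 17 0 17 17 17 17 0 17) (@D3.rec (fun _ => Nat) 17 17 22 1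 17 27 15 5 5 5 24 6 6 6 6 6 6 6) (@D3.rec (fun _ => Nat) 6 6 7 7 7 7 0 7 7 7 7 7 7 21 8 8 8 8) (@D3.rec (fun _ => Nat) 8 21 17 17 17 17 23 17 17 0 1 17 17 25 15 6 6 6) (@D3.rec (fun _ => Nat) 7 7 21 25 25 7 7 7 7 24 7 8 20 8 8 25 22 8) (@D3.rec (fun _ => Nat) 17 22 17 17 16 5 5 21 6 6 6 6 6 6 6 6 7 7) (@D3.rec (fun _ => Nat) 7 7 22 7 7 7 7 22 21 18 18 18 18 18 20 18 17 17) (@D3.rec (fun _ => Nat) 4 4 5 5 5 16 16 5 5 5 6 6 6 6 26 16 6 6) (@D3.rec (fun _ => Nat) 6 6 7 7 7 7 0 26 16 16 5 5 5 26 6 6 6 6) (@D3.rec (fun _ => Nat) 6 6 6 6 6 7 7 7 7 0 7 7 7 7 7 0 7 8) (@D3.rec (fun _ => Nat) 8 8 8 0 8 8 8 27 1 18 18 18 18 0 18 18 18 0) (@D3.rec (fun _ => Nat) 1 18 0 18 18 18 22 1 18 27 29 16 6 6 6 6 24 7)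
def lv_i_4 : D2 → D3 → Nat := @D2.rec (fun _ => D3 → Nat) (@D3.rec (fun _ => Nat) 7 7 0 7 7 7 7 7 0 7 8 8 8 8 25 8 8 8) (@D3.rec (fun _ => Nat) 0 1 8 8 8 8 8 21 23 23 23 18 18 18 18 25 18 23) (@D3.rec (fun _ => Nat) 0 1 32 16 7 7 8 19 8 26 26 26 25 8 8 8 25 8) (@D3.rec (fun _ => Nat) 20 27 22 18 17 6 6 6 23 21 7 24 7 7 7 7 7 24) (@D3.rec (fun _ => Nat) 7 8 22 8 20 8 8 22 19 19 19 20 18 18 18 5 5 5) (@D3.rec (fun _ => Nat) 28 6 6 6 28 17 17 6 6 6 6 7 7 7 7 0 23 17) (@D3.rec (fun _ => Nat) 7 7 7 7 8 8 8 8 0 21 8 23 0 1 17 17 6 6) (@D3.rec (fun _ => Nat) 6 6 24 7 7 7 0 7 7 7 7 7 0 7 8 8 8 8) (@D3.rec (fun _ => Nat) 0 8 8 8 0 1 8 8 8 8 25 8 8 8 28 1 23 9) (@D3.rec (fun _ => Nat) 26 22 9 29 9 9 22 1 9 24 19 19 0 19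 19 0 19 19) (@D3.rec (fun _ => Nat) 0 1 19 0 0 1 19 19 20 1 19 22 29 27 17 7 7 7) (@D3.rec (fun _ => Nat) 7 24 22 8 8 0 8 8 8 0 1 8 8 8 8 25 8 8) (@D3.rec (fun _ => Nat) 8 24 1 9 9 24 9 25 9 9 23 26 24 27 1 23 19 19) (@D3.rec (fun _ => Nat) 19 23 25 27 1 29 8 8 24 23 27 25 18 7 7 23 21 23) (@D3.rec (fun _ => Nat) 21 8 8 22 8 8 8 8 22 29 22 25 20 33 19 19 19 19)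
def lv_i_5 : D2 → D3 → Nat := @D2.rec (fun _ => D3 → Nat) (@D3.rec (fun _ => Nat) 6 6 6 33 7 7 7 0 28 18 18 18 7 7 7 7 0 8) (@D3.rec (fun _ => Nat) 8 8 8 0 23 8 30 0 1 8 8 8 8 8 26 9 28 23) (@D3.rec (fun _ => Nat) 9 27 9 23 0 1 28 31 28 1 18 18 18 7 7 7 0 7) (@D3.rec (fun _ => Nat) 26 24 8 8 0 8 8 8 0 1 8 8 8 8 0 8 8 8) (@D3.rec (fun _ => Nat) 0 1 9 9 0 24 9 0 9 9 0 1 9 0 0 1 9 9) (@D3.rec (fun _ => Nat) 9 9 27 9 29 10 24 10 29 10 24 31 20 0 20 20 0 1) (@D3.rec (fun _ => Nat) 20 20 0 0 1 20 0 0 1 0 0 1 1 20 24 24 29 27) (@D3.rec (fun _ => Nat) 8 8 8 8 8 26 25 26 23 9 31 9 9 0 1 24 26 24) (@D3.rec (fun _ => Nat) 1 9 9 9 27 9 9 26 10 10 10 29 27 25 24 24 20 24) (@D3.rec (fun _ => Nat) 26 27 26 8 8 23 23 26 23 34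 20 20 20 0 20 7 7 7) (@D3.rec (fun _ => Nat) 0 26 27 8 8 0 26 8 28 0 1 19 19 0 8 8 8 8) (@D3.rec (fun _ => Nat) 0 8 0 1 9 9 0 21 9 0 9 23 0 1 32 0 0 1) (@D3.rec (fun _ => Nat) 9 9 9 26 10 21 30 10 23 31 1 32 29 31 19 0 19 8) (@D3.rec (fun _ => Nat) 8 0 8 8 8 0 1 26 24 0 25 9 0 9 9 0 1 9) (@D3.rec (fun _ => Nat) 0 0 1 9 9 0 9 0 9 9 0 1 9 0 0 1 10 10)
def lv_i_6 : D2 → D3 → Nat := @D2.rec (fun _ => D3 → Nat) (@D3.rec (fun _ => Nat) 0 10 27 0 1 10 10 0 0 1 10 0 0 1 30 0 0 1) (@D3.rec (fun _ => Nat) 1 10 10 10 27 22 28 31 31 29 21 21 0 1 21 0 0 1) (@D3.rec (fun _ => Nat) 21 0 0 0 1 0 1 0 0 1 1 1 0 1 22 33 27 28) (@D3.rec (fun _ => Nat) 9 9 9 30 28 26 24 26 24 10 10 29 31 1 10 10 10 29) (@D3.rec (fun _ => Nat) 31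 25 27 29 27 0 26 25 27 30 28 21 21 0 21 21 21 0) (@D3.rec (fun _ => Nat) 1 8 8 0 8 0 1 28 28 0 28 9 0 9 28 0 1 34) (@D3.rec (fun _ => Nat) 0 0 1 20 20 0 1 9 9 0 9 0 9 0 1 0 1 10) (@D3.rec (fun _ => Nat) 10 0 10 25 0 1 10 32 0 0 1 30 0 0 1 32 0 0) (@D3.rec (fun _ => Nat) 1 1 10 10 28 25 30 11 30 31 31 33 20 20 0 1 9 0) (@D3.rec (fun _ => Nat) 9 9 0 1 9 0 0 1 32 30 0 27 25 0 1 10 10 0) (@D3.rec (fun _ => Nat) 0 1 10 0 0 1 32 0 0 1 1 10 10 0 10 0 1 10) (@D3.rec (fun _ => Nat) 10 0 0 1 10 0 0 1 0 0 1 1 11 11 30 0 1 25) (@D3.rec (fun _ => Nat) 0 0 1 11 11 0 0 0 1 0 1 29 0 0 1 1 1 0) (@D3.rec (fun _ => Nat) 1 31 0 32 31 29 22 0 0 1 0 0 1 1 0 0 1 0) (@D3.rec (fun _ => Nat) 1 0 1 0 1 1 0 1 0 1 33 29 29 10 10 30 26 28)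
def lv_i_7 : D2 → D3 → Nat := @D2.rec (fun _ => D3 → Nat) (@D3.rec (fun _ => Nat) 30 31 31 28 0 27 29 28 29 1 26 27 22 31 0 29 22 0) (@D3.rec (fun _ => Nat) 22 22 0 1 22 0 0 1 9 0 9 0 1 0 1 27 28 0) (@D3.rec (fun _ => Nat) 26 28 0 1 10 28 0 0 1 28 0 0 1 34 0 0 1 1) (@D3.rec (fun _ => Nat) 21 0 0 1 10 10 0 10 0 1 10 0 0 1 0 1 1 11) (@D3.rec (fun _ => Nat) 0 11 34 0 0 1 32 0 0 1 11 32 0 0 0 1 0 1) (@D3.rec (fun _ => Nat) 30 0 0 1 1 0 0 1 0 1 11 26 31 0 31 33 31 21) (@D3.rec (fun _ => Nat) 0 0 1 10 10 0 1 10 0 0 1 0 0 1 1 30 0 30) (@D3.rec (fun _ => Nat) 28 0 0 1 26 0 0 1 11 11 0 0 0 1 0 1 30 0) (@D3.rec (fun _ => Nat) 0 1 1 0 0 1 0 1 11 11 0 1 0 1 11 11 0 0) (@D3.rec (fun _ => Nat) 0 1 1 0 0 1 1 1 1 34 32 0 0 1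 0 0 1 1) (@D3.rec (fun _ => Nat) 0 35 0 0 1 0 1 0 1 0 1 1 0 1 0 1 33 0) (@D3.rec (fun _ => Nat) 1 33 29 29 0 0 1 1 1 0 1 0 1 0 0 1 0 1) (@D3.rec (fun _ => Nat) 0 1 0 1 0 1 1 39 29 26 0 31 26 0 1 31 29 27) (@D3.rec (fun _ => Nat) 27 23 23 0 32 32 0 1 0 0 1 0 0 1 0 0 1 1) (@D3.rec (fun _ => Nat) 10 0 0 1 0 1 0 1 27 0 29 30 0 0 1 30 0 0)
def lv_i_8 : D2 → D3 → Nat := @D2.rec (fun _ => D3 → Nat) (@D3.rec (fun _ => Nat) 1 11 30 0 0 0 1 0 1 30 0 0 1 1 0 0 1 0) (@D3.rec (fun _ => Nat) 1 22 0 1 0 1 11 0 11 0 0 1 0 1 11 0 0 1) (@D3.rec (fun _ => Nat) 0 1 1 12 38 0 1 30 32 0 0 0 1 1 0 0 1 1) (@D3.rec (fun _ => Nat) 33 0 32 0 0 1 0 1 0 1 0 1 19 0 0 1 0 1) (@D3.rec (fun _ => Nat) 1 0 1 0 1 0 1 31 29 31 0 0 1 1 11 11 0 0)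 (@D3.rec (fun _ => Nat) 1 0 0 1 1 0 1 0 1 32 0 1 29 27 0 0 0 1) (@D3.rec (fun _ => Nat) 1 27 0 0 1 1 33 0 34 0 0 1 0 1 0 1 0 1) (@D3.rec (fun _ => Nat) 0 0 1 0 1 1 1 0 1 19 0 1 1 0 0 0 1 0) (@D3.rec (fun _ => Nat) 1 0 1 1 0 1 0 1 1 1 0 1 0 1 0 1 0 0) (@D3.rec (fun _ => Nat) 1 0 1 0 1 0 1 0 1 0 1 37 0 1 31 31 0 1) (@D3.rec (fun _ => Nat) 0 1 0 1 0 1 0 0 1 0 1 19 0 1 1 1 1 39) (@D3.rec (fun _ => Nat) 1 33 0 1 29 28 0 0 0 1 0 0 1 0 1 0 1 0) (@D3.rec (fun _ => Nat) 1 1 0 1 0 1 11 0 0 1 1 0 1 1 32 38 0 0) (@D3.rec (fun _ => Nat) 1 28 30 0 0 0 1 0 1 30 0 0 1 1 30 0 32 0) (@D3.rec (fun _ => Nat) 0 1 0 1 0 1 0 1 20 0 0 1 0 1 0 1 0 1)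
def lv_i_9 : D2 → D3 → Nat := @D2.rec (fun _ => D3 → Nat) (@D3.rec (fun _ => Nat) 0 1 20 0 0 1 0 1 12 0 1 0 0 1 1 1 0 0) (@D3.rec (fun _ => Nat) 1 0 1 0 1 20 33 38 0 0 1 0 0 0 1 0 1 0) (@D3.rec (fun _ => Nat) 1 20 1 0 1 0 1 0 0 1 0 0 1 0 1 0 1 20) (@D3.rec (fun _ => Nat) 0 1 20 1 1 0 1 0 1 0 1 1 31 0 1 0 1 0) (@D3.rec (fun _ => Nat) 0 0 1 1 0 1 0 1 1 0 1 20 0 1 0 30 0 0) (@D3.rec (fun _ => Nat) 1 1 0 1 0 0 1 0 1 0 1 0 0 1 0 0 1 1) (@D3.rec (fun _ => Nat) 0 1 0 1 1 0 1 0 1 20 20 0 1 20 0 1 0 1) (@D3.rec (fun _ => Nat) 0 1 0 0 1 1 1 1 0 1 0 1 0 0 1 0 1 0) (@D3.rec (fun _ => Nat) 0 1 0 1 3 0 1 0 1 1 1 1 37 0 1 31 1 0) (@D3.rec (fun _ => Nat) 1 20 1 0 1 20 0 1 0 1 20 1 20 1 0 1 0 1) (@D3.rec (fun _ => Nat) 0 1 0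 1 0 1 1 0 1 0 1 21 0 1 0 1 0 1) (@D3.rec (fun _ => Nat) 21 0 0 1 0 1 21 0 1 21 38 0 0 0 1 0 1 32) (@D3.rec (fun _ => Nat) 0 32 0 0 1 1 0 1 0 1 21 0 1 0 1 0 0 1) (@D3.rec (fun _ => Nat) 0 0 1 0 0 1 1 0 1 21 0 1 21 0 1 1 0 1) (@D3.rec (fun _ => Nat) 21 0 1 0 1 21 0 1 21 0 1 1 0 1 21 0 1 0)
def lv_i_10 : D2 → D3 → Nat := @D2.rec (fun _ => D3 → Nat) (@D3.rec (fun _ => Nat) 1 0 1 21 0 1 0 1 0 1 21 0 1 21 0 0 0 1) (@D3.rec (fun _ => Nat) 1 0 1 0 1 0 0 1 0 1 1 21 1 0 1 0 1 0) (@D3.rec (fun _ => Nat) 1 0 0 1 0 1 3 0 1 21 0 1 21 1 21 0 1 1) (@D3.rec (fun _ => Nat) 1 1 0 1 21 0 1 0 1 0 1 1 0 1 21 21 0 1) (@D3.rec (fun _ => Nat) 21 0 1 0 1 0 0 1 0 0 1 1 1 0 1 1 21 0) (@D3.rec (fun _ => Nat) 1 0 1 0 1 0 0 1 0 1 3 0 1 1 1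 21 0 1) (@D3.rec (fun _ => Nat) 21 1 21 1 1 1 0 1 1 3 0 1 29 1 0 0 1 0) (@D3.rec (fun _ => Nat) 1 3 0 1 35 0 0 1 0 1 4 1 4 1 1 0 1 21) (@D3.rec (fun _ => Nat) 1 21 1 21 0 1 21 1 21 21 1 0 0 1 1 0 1 22) (@D3.rec (fun _ => Nat) 1 0 1 22 0 1 22 0 1 22 0 1 22 0 1 22 0 1) (@D3.rec (fun _ => Nat) 0 0 1 1 22 1 22 0 0 1 1 0 1 1 22 0 0 1) (@D3.rec (fun _ => Nat) 0 0 1 0 0 1 0 1 22 1 22 1 1 22 0 1 0 0) (@D3.rec (fun _ => Nat) 1 0 1 1 0 1 0 1 3 22 0 1 22 1 22 1 22 0) (@D3.rec (fun _ => Nat) 1 22 1 22 1 22 1 22 1 22 1 22 0 1 0 1 1 22) (@D3.rec (fun _ => Nat) 0 1 0 1 3 1 22 1 22 0 1 0 1 0 1 0 1 0)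
def lv_i_11 : D2 → D3 → Nat := @D2.rec (fun _ => D3 → Nat) (@D3.rec (fun _ => Nat) 1 0 1 1 3 0 1 22 22 0 1 3 0 1 0 1 32 0) (@D3.rec (fun _ => Nat) 0 1 0 1 38 0 1 4 0 1 22 1 22 22 22 1 22 1) (@D3.rec (fun _ => Nat) 22 1 1 0 1 3 22 1 22 1 22 1 0 1 0 1 0 1) (@D3.rec (fun _ => Nat) 0 1 1 3 1 22 22 0 1 3 0 1 1 32 0 0 1 0) (@D3.rec (fun _ => Nat) 1 4 0 1 31 1 22 1 22 22 22 30 3 32 1 36 36 1) (@D3.rec (fun _ => Nat) 33 0 0 1 0 1 4 1 4 1 28 1 0 1 5 1 5 5) (@D3.rec (fun _ => Nat) 1 22 22 1 22 22 22 1 1 23 23 1 23 23 1 23 1 23) (@D3.rec (fun _ => Nat) 23 1 23 1 23 1 23 23 0 0 1 0 1 1 3 23 23 0) (@D3.rec (fun _ => Nat) 1 0 0 1 1 23 23 0 1 0 0 1 0 1 1 1 0 1) (@D3.rec (fun _ => Nat) 3 1 23 23 23 1 0 1 0 1 3 0 1 6 0 1 4 0)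 (@D3.rec (fun _ => Nat) 1 4 1 23 23 23 23 1 23 23 23 23 23 23 23 23 1 1) (@D3.rec (fun _ => Nat) 34 23 1 3 1 4 23 23 23 1 1 1 3 1 3 0 1 37) (@D3.rec (fun _ => Nat) 1 35 4 1 23 23 0 1 4 1 31 0 1 36 1 0 1 35) (@D3.rec (fun _ => Nat) 0 1 38 1 5 5 1 23 23 23 23 23 23 23 3 37 1 38) (@D3.rec (fun _ => Nat) 23 23 23 29 1 3 1 1 30 1 4 31 23 23 1 4 1 33)
def lv_i_12 : D2 → D3 → Nat := @D2.rec (fun _ => D3 → Nat) (@D3.rec (fun _ => Nat) 32 1 1 5 1 31 5 1 31 23 23 23 23 38 39 1 1 5) (@D3.rec (fun _ => Nat) 1 5 5 30 6 1 6 6 6 23 23 23 24 24 24 24 24 24) (@D3.rec (fun _ => Nat) 24 24 24 24 24 24 24 24 1 1 3 1 4 4 24 24 1 1) (@D3.rec (fun _ => Nat) 1 29 24 1 1 1 3 1 6 4 1 4 24 24 24 6 1 4) (@D3.rec (fun _ => Nat) 1 4 1 40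 1 5 5 1 5 5 24 24 24 24 24 24 24 33) (@D3.rec (fun _ => Nat) 37 24 4 34 5 24 24 3 34 30 4 1 39 33 5 24 24 24) (@D3.rec (fun _ => Nat) 1 5 5 37 1 39 41 35 1 37 1 35 45 6 6 6 24 24) (@D3.rec (fun _ => Nat) 24 24 24 24 39 38 24 4 32 32 33 5 5 5 36 34 36 25) (@D3.rec (fun _ => Nat) 6 26 42 44 33 40 6 6 6 6 26 7 7 24 24 25 25 25) (@D3.rec (fun _ => Nat) 25 25 25 4 4 40 5 5 25 25 36 33 31 25 6 4 4 32) (@D3.rec (fun _ => Nat) 5 35 5 25 5 5 5 5 38 34 6 6 28 6 6 25 25 25) (@D3.rec (fun _ => Nat) 25 41 5 40 39 41 5 34 43 42 6 6 6 6 39 23 42 43) (@D3.rec (fun _ => Nat) 33 41 28 42 41 7 7 25 25 39 5 33 6 36 42 36 7 7) (@D3.rec (fun _ => Nat) 29 8 5 5 43 6 6 26 39 40 5 5 37 6 6 6 6 40) (@D3.rec (fun _ => Nat) 41 38 38 41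 6 42 7 7 44 41 27 42 8 6 6 43 40 43)
def lv_i : Pt → Nat := @Pt.rec (fun _ => Nat) (@D1.rec (fun _ => D2 → D3 → Nat) lv_i_0 lv_i_1 lv_i_2 lv_i_3 lv_i_4 lv_i_5 lv_i_6 lv_i_7 lv_i_8 lv_i_9 lv_i_10 lv_i_11 lv_i_12)
abbrev lc_i_Cert_tree : Cert rels S Gen.i := Cert.tree
abbrev lc_i_rc_8_1 : Cert rels S Gen.i := rc_8_1
abbrev lc_i_rc_8_3 : Cert rels S Gen.i := rc_8_3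
abbrev lc_i_rc_16_1 : Cert rels S Gen.i := rc_16_1
abbrev lc_i_rc_16_3 : Cert rels S Gen.i := rc_16_3
abbrev lc_i_rc_23_1 : Cert rels S Gen.i := rc_23_1
abbrev lc_i_rc_23_3 : Cert rels S Gen.i := rc_23_3
abbrev lc_i_rc_29_1 : Cert rels S Gen.i := rc_29_1
abbrev lc_i_rc_29_3 : Cert rels S Gen.i := rc_29_3
abbrev lc_i_rc_34_1 : Cert rels S Gen.i := rc_34_1
abbrev lc_i_rc_34_3 : Cert rels S Gen.i := rc_34_3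
abbrev lc_i_rc_36_1 : Cert rels S Gen.i := rc_36_1
abbrev lc_i_rc_36_3 : Cert rels S Gen.i := rc_36_3
abbrev lc_i_rc_36_5 : Cert rels S Gen.i := rc_36_5
abbrev lc_i_rc_40_1 : Cert rels S Gen.i := rc_40_1
abbrev lc_i_rc_40_3 : Cert rels S Gen.i := rc_40_3
abbrev lc_i_rc_43_1 : Cert rels S Gen.i := rc_43_1
abbrev lc_i_rc_43_3 : Cert rels S Gen.i := rc_43_3
abbrev lc_i_rc_44_0 : Cert rels S Gen.i := rc_44_0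
abbrev lc_i_rc_45_35 : Cert rels S Gen.i := rc_45_35
abbrev lc_i_sc_7_0 : Cert rels S Gen.i := sc_7_0
def ce_i_0 : D2 → D3 → (Cert rels S Gen.i) := @D2.rec (fun _ => D3 → (Cert rels S Gen.i)) (@D3.rec (fun _ => (Cert rels S Gen.i)) lc_i_sc_7_0 lc_i_rc_16_1 lc_i_rc_8_1 lc_i_rc_23_1 lc_i_rc_8_1 lc_i_rc_29_1 lc_i_rc_16_1 lc_i_rc_8_1 lc_i_rc_34_1 lc_i_Cert_tree lc_i_rc_16_1 lc_i_rc_8_1 lc_i_Cert_tree lc_i_rc_40_1 lc_i_Cert_tree lc_i_rc_44_0 lc_i_rc_23_1 lc_i_rc_16_1) (@D3.rec (fun _ => (Cert rels S Gen.i)) lc_i_Cert_tree lc_i_rc_8_1 lc_i_Cert_tree lc_i_rc_44_0 lc_i_rc_43_1 lc_i_Cert_tree lc_i_Cert_tree lc_i_rc_44_0 lc_i_rc_23_1 lc_i_Cert_tree lc_i_rc_16_1 lc_i_Cert_tree lc_i_rc_44_0 lc_i_rc_8_1 lc_i_Cert_tree lc_i_Cert_tree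 lc_i_rc_44_0 lc_i_Cert_tree) (@D3.rec (fun _ => (Cert rels S Gen.i)) lc_i_Cert_tree lc_i_rc_44_0 lc_i_Cert_tree lc_i_rc_44_0 lc_i_rc_29_1 lc_i_rc_23_1 lc_i_Cert_tree lc_i_Cert_tree lc_i_rc_44_0 lc_i_rc_16_1 lc_i_Cert_tree lc_i_Cert_tree lc_i_rc_44_0 lc_i_Cert_tree lc_i_Cert_tree lc_i_rc_44_0 lc_i_Cert_tree lc_i_rc_44_0) (@D3.rec (fun _ => (Cert rels S Gen.i)) lc_i_Cert_tree lc_i_rc_44_0 lc_i_Cert_tree lc_i_Cert_tree lc_i_rc_44_0 lc_i_Cert_tree lc_i_rc_44_0 lc_i_rc_36_3 lc_i_rc_29_1 lc_i_rc_23_1 lc_i_Cert_tree lc_i_rc_44_0 lc_i_rc_44_0 lc_i_Cert_tree lc_i_Cert_tree lc_i_rc_44_0 lc_i_rc_44_0 lc_i_Cert_tree) (@D3.rec (fun _ => (Cert rels S Gen.i)) lc_i_rc_44_0 lc_i_Cert_tree lc_i_Cert_tree lc_i_rc_44_0 lc_i_rc_44_0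 lc_i_rc_36_3 lc_i_Cert_tree lc_i_Cert_tree lc_i_rc_44_0 lc_i_Cert_tree lc_i_Cert_tree lc_i_rc_44_0 lc_i_rc_44_0 lc_i_rc_36_3 lc_i_rc_44_0 lc_i_rc_23_1 lc_i_rc_34_1 lc_i_rc_29_1) (@D3.rec (fun _ => (Cert rels S Gen.i)) lc_i_Cert_tree lc_i_rc_44_0 lc_i_rc_36_3 lc_i_Cert_tree lc_i_rc_44_0 lc_i_Cert_tree lc_i_rc_44_0 lc_i_rc_36_3 lc_i_Cert_tree lc_i_Cert_tree lc_i_rc_44_0 lc_i_Cert_tree lc_i_rc_44_0 lc_i_rc_44_0 lc_i_rc_36_3 lc_i_rc_23_1 lc_i_Cert_tree lc_i_Cert_tree) (@D3.rec (fun _ => (Cert rels S Gen.i)) lc_i_rc_44_0 lc_i_Cert_tree lc_i_rc_44_0 lc_i_rc_36_3 lc_i_Cert_tree lc_i_rc_44_0 lc_i_Cert_tree lc_i_rc_44_0 lc_i_rc_36_3 lc_i_rc_36_3 lc_i_rc_16_1 lc_i_rc_29_1 lc_i_rc_34_1 lc_i_rc_44_0 lc_i_Cert_tree lc_i_rc_44_0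 lc_i_rc_44_0 lc_i_rc_36_3) (@D3.rec (fun _ => (Cert rels S Gen.i)) lc_i_Cert_tree lc_i_rc_44_0 lc_i_Cert_tree lc_i_rc_44_0 lc_i_rc_36_3 lc_i_Cert_tree lc_i_rc_44_0 lc_i_rc_36_3 lc_i_rc_36_3 lc_i_rc_29_1 lc_i_Cert_tree lc_i_rc_44_0 lc_i_Cert_tree lc_i_Cert_tree lc_i_rc_44_0 lc_i_rc_36_3 lc_i_rc_44_0 lc_i_rc_36_3) (@D3.rec (fun _ => (Cert rels S Gen.i)) lc_i_Cert_tree lc_i_rc_44_0 lc_i_rc_16_1 lc_i_Cert_tree lc_i_rc_44_0 lc_i_rc_36_3 lc_i_rc_29_1 lc_i_rc_29_1 lc_i_rc_16_1 lc_i_rc_34_1 lc_i_rc_40_1 lc_i_Cert_tree lc_i_rc_44_0 lc_i_rc_36_3 lc_i_rc_36_3 lc_i_Cert_tree lc_i_Cert_tree lc_i_rc_44_0) (@D3.rec (fun _ => (Cert rels S Gen.i)) lc_i_rc_36_3 lc_i_rc_44_0 lc_i_rc_36_3 lc_i_Cert_tree lc_i_rc_44_0 lc_i_rc_36_3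 lc_i_rc_29_1 lc_i_rc_29_1 lc_i_rc_34_1 lc_i_Cert_tree lc_i_Cert_tree lc_i_rc_44_0 lc_i_rc_16_1 lc_i_Cert_tree lc_i_Cert_tree lc_i_rc_44_0 lc_i_rc_44_0 lc_i_rc_36_3) (@D3.rec (fun _ => (Cert rels S Gen.i)) lc_i_rc_29_1 lc_i_rc_40_1 lc_i_rc_29_1 lc_i_Cert_tree lc_i_Cert_tree lc_i_rc_44_0 lc_i_rc_16_1 lc_i_rc_29_1 lc_i_rc_44_0 lc_i_rc_36_3 lc_i_rc_29_1 lc_i_rc_34_1 lc_i_rc_23_1 lc_i_rc_23_1 lc_i_rc_16_1 lc_i_rc_40_1 lc_i_rc_44_0 lc_i_rc_36_3) (@D3.rec (fun _ => (Cert rels S Gen.i)) lc_i_rc_29_1 lc_i_Cert_tree lc_i_Cert_tree lc_i_rc_44_0 lc_i_rc_44_0 lc_i_rc_36_3 lc_i_rc_29_1 lc_i_rc_40_1 lc_i_rc_29_1 lc_i_rc_44_0 lc_i_rc_36_3 lc_i_rc_29_1 lc_i_rc_34_1 lc_i_rc_23_1 lc_i_rc_40_1 lc_i_Cert_tree lc_i_Cert_tree lc_i_Cert_tree)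 (@D3.rec (fun _ => (Cert rels S Gen.i)) lc_i_rc_44_0 lc_i_rc_44_0 lc_i_rc_16_1 lc_i_rc_29_1 lc_i_Cert_tree lc_i_Cert_tree lc_i_rc_44_0 lc_i_rc_44_0 lc_i_rc_36_3 lc_i_rc_40_1 lc_i_rc_29_1 lc_i_rc_34_1 lc_i_rc_29_1 lc_i_rc_23_1 lc_i_Cert_tree lc_i_rc_44_0 lc_i_rc_44_0 lc_i_rc_36_3) (@D3.rec (fun _ => (Cert rels S Gen.i)) lc_i_rc_29_1 lc_i_rc_23_1 lc_i_rc_34_1 lc_i_rc_36_3 lc_i_rc_29_1 lc_i_rc_23_1 lc_i_rc_34_1 lc_i_rc_34_1 lc_i_rc_16_1 lc_i_rc_23_1 lc_i_rc_16_1 lc_i_rc_43_1 lc_i_rc_40_1 lc_i_rc_29_1 lc_i_rc_23_1 lc_i_Cert_tree lc_i_Cert_tree lc_i_rc_44_0) (@D3.rec (fun _ => (Cert rels S Gen.i)) lc_i_rc_44_0 lc_i_rc_36_3 lc_i_rc_40_1 lc_i_rc_29_1 lc_i_rc_34_1 lc_i_rc_29_1 lc_i_rc_23_1 lc_i_rc_36_3 lc_i_rc_29_1 lc_i_rc_23_1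 lc_i_rc_34_1 lc_i_rc_34_1 lc_i_rc_16_1 lc_i_rc_43_1 lc_i_Cert_tree lc_i_Cert_tree lc_i_rc_44_0 lc_i_Cert_tree)
def ce_i_1 : D2 → D3 → (Cert rels S Gen.i) := @D2.rec (fun _ => D3 → (Cert rels S Gen.i)) (@D3.rec (fun _ => (Cert rels S Gen.i)) lc_i_Cert_tree lc_i_rc_44_0 lc_i_rc_44_0 lc_i_rc_36_3 lc_i_rc_16_1 lc_i_rc_29_1 lc_i_rc_23_1 lc_i_rc_34_1 lc_i_Cert_tree lc_i_rc_44_0 lc_i_rc_44_0 lc_i_rc_36_3 lc_i_rc_36_3 lc_i_rc_29_1 lc_i_rc_29_1 lc_i_rc_23_1 lc_i_rc_34_1 lc_i_rc_40_1) (@D3.rec (fun _ => (Cert rels S Gen.i)) lc_i_rc_23_1 lc_i_rc_34_1 lc_i_rc_16_1 lc_i_Cert_tree lc_i_rc_44_0 lc_i_rc_36_3 lc_i_rc_36_3 lc_i_rc_29_1 lc_i_rc_23_1 lc_i_rc_34_1 lc_i_rc_23_1 lc_i_rc_34_1 lc_i_rc_29_1 lc_i_rc_23_1 lc_i_rc_34_1 lc_i_rc_16_1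 lc_i_rc_23_1 lc_i_rc_40_1) (@D3.rec (fun _ => (Cert rels S Gen.i)) lc_i_rc_34_1 lc_i_rc_8_1 lc_i_rc_29_1 lc_i_rc_23_1 lc_i_rc_16_1 lc_i_rc_29_1 lc_i_rc_23_1 lc_i_rc_16_1 lc_i_Cert_tree lc_i_rc_44_0 lc_i_rc_44_0 lc_i_rc_36_3 lc_i_rc_36_3 lc_i_rc_29_1 lc_i_rc_29_1 lc_i_rc_23_1 lc_i_rc_34_1 lc_i_rc_40_1) (@D3.rec (fun _ => (Cert rels S Gen.i)) lc_i_rc_23_1 lc_i_rc_34_1 lc_i_rc_16_1 lc_i_rc_29_1 lc_i_rc_23_1 lc_i_rc_34_1 lc_i_rc_16_1 lc_i_rc_23_1 lc_i_rc_40_1 lc_i_rc_34_1 lc_i_rc_8_1 lc_i_Cert_tree lc_i_Cert_tree lc_i_rc_44_0 lc_i_Cert_tree lc_i_rc_44_0 lc_i_rc_36_3 lc_i_Cert_tree) (@D3.rec (fun _ => (Cert rels S Gen.i)) lc_i_rc_44_0 lc_i_rc_44_0 lc_i_rc_36_3 lc_i_rc_36_3 lc_i_rc_29_1 lc_i_rc_29_1 lc_i_rc_23_1 lc_i_rc_34_1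 lc_i_rc_23_1 lc_i_rc_40_1 lc_i_Cert_tree lc_i_rc_44_0 lc_i_rc_36_3 lc_i_rc_36_3 lc_i_rc_29_1 lc_i_rc_29_1 lc_i_rc_23_1 lc_i_rc_34_1) (@D3.rec (fun _ => (Cert rels S Gen.i)) lc_i_rc_23_1 lc_i_rc_34_1 lc_i_rc_16_1 lc_i_rc_23_1 lc_i_rc_40_1 lc_i_rc_40_1 lc_i_rc_16_1 lc_i_rc_23_1 lc_i_rc_8_1 lc_i_Cert_tree lc_i_rc_44_0 lc_i_rc_36_3 lc_i_rc_29_1 lc_i_rc_29_1 lc_i_rc_23_1 lc_i_rc_34_1 lc_i_rc_16_1 lc_i_rc_23_1) (@D3.rec (fun _ => (Cert rels S Gen.i)) lc_i_rc_40_1 lc_i_rc_29_1 lc_i_rc_23_1 lc_i_rc_34_1 lc_i_rc_23_1 lc_i_rc_34_1 lc_i_rc_16_1 lc_i_rc_23_1 lc_i_rc_40_1 lc_i_rc_8_1 lc_i_rc_16_1 lc_i_rc_23_1 lc_i_rc_43_1 lc_i_rc_29_1 lc_i_rc_40_1 lc_i_rc_23_1 lc_i_rc_23_1 lc_i_rc_34_1) (@D3.rec (fun _ => (Cert rels S Gen.i))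 lc_i_rc_16_1 lc_i_rc_8_1 lc_i_Cert_tree lc_i_rc_44_0 lc_i_rc_36_3 lc_i_rc_36_3 lc_i_rc_29_1 lc_i_rc_29_1 lc_i_rc_23_1 lc_i_rc_34_1 lc_i_rc_23_1 lc_i_rc_34_1 lc_i_rc_16_1 lc_i_rc_23_1 lc_i_rc_40_1 lc_i_rc_40_1 lc_i_rc_16_1 lc_i_rc_23_1) (@D3.rec (fun _ => (Cert rels S Gen.i)) lc_i_rc_8_1 lc_i_rc_23_1 lc_i_rc_34_1 lc_i_rc_16_1 lc_i_rc_23_1 lc_i_rc_40_1 lc_i_rc_8_1 lc_i_rc_16_1 lc_i_rc_23_1 lc_i_rc_43_1 lc_i_Cert_tree lc_i_Cert_tree lc_i_rc_44_0 lc_i_Cert_tree lc_i_rc_44_0 lc_i_rc_36_3 lc_i_Cert_tree lc_i_rc_44_0) (@D3.rec (fun _ => (Cert rels S Gen.i)) lc_i_rc_36_3 lc_i_rc_29_1 lc_i_Cert_tree lc_i_rc_44_0 lc_i_rc_36_3 lc_i_rc_36_3 lc_i_rc_29_1 lc_i_rc_29_1 lc_i_rc_23_1 lc_i_rc_34_1 lc_i_rc_23_1 lc_i_rc_34_1 lc_i_rc_16_1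 lc_i_rc_23_1 lc_i_rc_40_1 lc_i_rc_29_1 lc_i_rc_23_1 lc_i_rc_40_1) (@D3.rec (fun _ => (Cert rels S Gen.i)) lc_i_Cert_tree lc_i_rc_44_0 lc_i_rc_36_3 lc_i_rc_29_1 lc_i_rc_29_1 lc_i_rc_23_1 lc_i_rc_34_1 lc_i_rc_23_1 lc_i_rc_34_1 lc_i_rc_16_1 lc_i_rc_23_1 lc_i_rc_40_1 lc_i_rc_16_1 lc_i_rc_23_1 lc_i_rc_40_1 lc_i_rc_8_1 lc_i_rc_16_1 lc_i_rc_23_1) (@D3.rec (fun _ => (Cert rels S Gen.i)) lc_i_rc_43_1 lc_i_rc_8_1 lc_i_rc_16_1 lc_i_rc_29_1 lc_i_rc_40_3 lc_i_rc_44_0 lc_i_rc_36_3 lc_i_rc_29_1 lc_i_rc_23_1 lc_i_rc_34_1 lc_i_rc_23_1 lc_i_rc_34_1 lc_i_rc_16_1 lc_i_rc_23_1 lc_i_rc_40_1 lc_i_rc_8_1 lc_i_rc_16_1 lc_i_rc_29_1) (@D3.rec (fun _ => (Cert rels S Gen.i)) lc_i_rc_23_1 lc_i_rc_43_1 lc_i_rc_29_1 lc_i_rc_40_1 lc_i_rc_23_1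 lc_i_rc_16_1 lc_i_rc_23_1 lc_i_rc_40_1 lc_i_rc_8_1 lc_i_rc_16_1 lc_i_rc_29_1 lc_i_rc_23_1 lc_i_rc_43_1 lc_i_rc_8_1 lc_i_rc_16_1 lc_i_rc_23_1 lc_i_rc_29_1 lc_i_rc_16_1) (@D3.rec (fun _ => (Cert rels S Gen.i)) lc_i_rc_23_1 lc_i_rc_8_1 lc_i_Cert_tree lc_i_rc_44_0 lc_i_rc_36_3 lc_i_rc_29_1 lc_i_rc_29_1 lc_i_rc_23_1 lc_i_rc_34_1 lc_i_rc_23_1 lc_i_rc_34_1 lc_i_rc_16_1 lc_i_rc_23_1 lc_i_rc_40_1 lc_i_rc_16_1 lc_i_rc_23_1 lc_i_rc_40_1 lc_i_rc_8_1) (@D3.rec (fun _ => (Cert rels S Gen.i)) lc_i_rc_16_1 lc_i_rc_23_1 lc_i_rc_43_1 lc_i_rc_8_1 lc_i_rc_16_1 lc_i_rc_29_1 lc_i_rc_16_1 lc_i_rc_23_1 lc_i_rc_40_1 lc_i_rc_8_1 lc_i_rc_16_1 lc_i_rc_29_1 lc_i_rc_23_1 lc_i_rc_43_1 lc_i_rc_8_1 lc_i_rc_16_1 lc_i_rc_23_1 lc_i_rc_44_0)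
def ce_i_2 : D2 → D3 → (Cert rels S Gen.i) := @D2.rec (fun _ => D3 → (Cert rels S Gen.i)) (@D3.rec (fun _ => (Cert rels S Gen.i)) lc_i_rc_44_0 lc_i_rc_36_3 lc_i_rc_44_0 lc_i_rc_36_3 lc_i_rc_29_1 lc_i_rc_44_0 lc_i_rc_36_3 lc_i_rc_29_1 lc_i_rc_23_1 lc_i_rc_34_1 lc_i_rc_44_0 lc_i_rc_36_3 lc_i_rc_29_1 lc_i_rc_29_1 lc_i_rc_23_1 lc_i_rc_34_1 lc_i_rc_23_1 lc_i_rc_34_1) (@D3.rec (fun _ => (Cert rels S Gen.i)) lc_i_rc_16_1 lc_i_rc_23_1 lc_i_rc_40_1 lc_i_rc_16_1 lc_i_rc_23_1 lc_i_rc_40_1 lc_i_rc_8_1 lc_i_rc_16_1 lc_i_rc_29_1 lc_i_rc_23_1 lc_i_rc_43_1 lc_i_rc_29_1 lc_i_Cert_tree lc_i_rc_23_1 lc_i_rc_44_0 lc_i_rc_36_3 lc_i_rc_29_1 lc_i_rc_23_1) (@D3.rec (fun _ => (Cert rels S Gen.i)) lc_i_rc_34_1 lc_i_rc_23_1 lc_i_rc_34_1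 lc_i_rc_16_1 lc_i_rc_23_1 lc_i_rc_40_1 lc_i_rc_16_1 lc_i_rc_23_1 lc_i_rc_40_1 lc_i_rc_8_1 lc_i_rc_16_1 lc_i_rc_29_1 lc_i_rc_23_1 lc_i_rc_43_1 lc_i_rc_8_1 lc_i_rc_16_1 lc_i_rc_29_1 lc_i_rc_23_1) (@D3.rec (fun _ => (Cert rels S Gen.i)) lc_i_rc_43_1 lc_i_rc_8_1 lc_i_rc_16_1 lc_i_rc_23_1 lc_i_rc_8_1 lc_i_rc_16_1 lc_i_Cert_tree lc_i_rc_36_3 lc_i_rc_23_1 lc_i_rc_34_1 lc_i_rc_16_1 lc_i_rc_23_1 lc_i_rc_40_1 lc_i_rc_16_1 lc_i_rc_23_1 lc_i_rc_40_1 lc_i_rc_8_1 lc_i_rc_16_1) (@D3.rec (fun _ => (Cert rels S Gen.i)) lc_i_rc_29_1 lc_i_rc_23_1 lc_i_rc_43_1 lc_i_rc_8_1 lc_i_rc_16_1 lc_i_rc_16_1 lc_i_rc_29_1 lc_i_rc_40_1 lc_i_rc_23_1 lc_i_rc_29_1 lc_i_rc_8_1 lc_i_rc_16_1 lc_i_rc_29_1 lc_i_rc_23_1 lc_i_rc_43_1 lc_i_rc_8_1 lc_i_rc_16_1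 lc_i_rc_16_1) (@D3.rec (fun _ => (Cert rels S Gen.i)) lc_i_rc_8_1 lc_i_rc_23_1 lc_i_rc_8_1 lc_i_rc_16_1 lc_i_rc_8_1 lc_i_rc_16_1 lc_i_rc_29_1 lc_i_rc_16_3 lc_i_rc_44_0 lc_i_rc_36_3 lc_i_rc_29_1 lc_i_rc_23_1 lc_i_rc_34_1 lc_i_rc_23_1 lc_i_rc_34_1 lc_i_rc_16_1 lc_i_rc_23_1 lc_i_rc_40_1) (@D3.rec (fun _ => (Cert rels S Gen.i)) lc_i_rc_16_1 lc_i_rc_23_1 lc_i_rc_40_1 lc_i_rc_8_1 lc_i_rc_16_1 lc_i_rc_29_1 lc_i_rc_23_1 lc_i_rc_43_1 lc_i_rc_8_1 lc_i_rc_16_1 lc_i_rc_29_1 lc_i_rc_23_1 lc_i_rc_43_1 lc_i_rc_8_1 lc_i_rc_16_1 lc_i_rc_23_1 lc_i_rc_8_1 lc_i_rc_16_1) (@D3.rec (fun _ => (Cert rels S Gen.i)) lc_i_rc_34_3 lc_i_rc_8_1 lc_i_rc_16_1 lc_i_rc_29_1 lc_i_rc_23_1 lc_i_rc_43_1 lc_i_rc_8_1 lc_i_rc_16_1 lc_i_rc_8_1 lc_i_rc_16_1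 lc_i_rc_36_3 lc_i_rc_36_3 lc_i_rc_29_1 lc_i_rc_36_3 lc_i_rc_29_1 lc_i_rc_23_1 lc_i_rc_34_1 lc_i_rc_36_3) (@D3.rec (fun _ => (Cert rels S Gen.i)) lc_i_rc_23_1 lc_i_rc_34_1 lc_i_rc_16_1 lc_i_rc_23_1 lc_i_rc_40_1 lc_i_rc_36_3 lc_i_rc_29_1 lc_i_rc_23_1 lc_i_rc_34_1 lc_i_rc_23_1 lc_i_rc_34_1 lc_i_rc_16_1 lc_i_rc_23_1 lc_i_rc_40_1 lc_i_rc_16_1 lc_i_rc_23_1 lc_i_rc_40_1 lc_i_rc_8_1) (@D3.rec (fun _ => (Cert rels S Gen.i)) lc_i_rc_16_1 lc_i_rc_29_1 lc_i_rc_23_1 lc_i_rc_43_1 lc_i_rc_8_1 lc_i_rc_16_1 lc_i_rc_29_1 lc_i_rc_23_1 lc_i_rc_43_1 lc_i_rc_8_1 lc_i_rc_16_1 lc_i_rc_16_1 lc_i_rc_29_1 lc_i_Cert_tree lc_i_rc_23_1 lc_i_rc_34_1 lc_i_rc_29_1 lc_i_rc_43_1) (@D3.rec (fun _ => (Cert rels S Gen.i)) lc_i_rc_44_0 lc_i_rc_23_1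 lc_i_rc_36_3 lc_i_rc_23_1 lc_i_rc_34_1 lc_i_rc_16_1 lc_i_rc_23_1 lc_i_rc_40_1 lc_i_rc_16_1 lc_i_rc_23_1 lc_i_rc_40_1 lc_i_rc_8_1 lc_i_rc_16_1 lc_i_rc_29_1 lc_i_rc_23_1 lc_i_rc_43_1 lc_i_rc_8_1 lc_i_rc_16_1) (@D3.rec (fun _ => (Cert rels S Gen.i)) lc_i_rc_29_1 lc_i_rc_23_1 lc_i_rc_43_1 lc_i_rc_8_1 lc_i_rc_16_1 lc_i_rc_16_1 lc_i_rc_29_1 lc_i_rc_23_1 lc_i_rc_8_1 lc_i_rc_16_1 lc_i_rc_16_1 lc_i_rc_29_1 lc_i_Cert_tree lc_i_rc_23_1 lc_i_rc_8_1 lc_i_rc_16_1 lc_i_rc_8_1 lc_i_rc_23_1) (@D3.rec (fun _ => (Cert rels S Gen.i)) lc_i_rc_34_3 lc_i_rc_44_0 lc_i_rc_36_3 lc_i_rc_16_1 lc_i_rc_23_1 lc_i_rc_8_1 lc_i_rc_16_1 lc_i_rc_29_1 lc_i_rc_40_1 lc_i_rc_8_1 lc_i_rc_16_1 lc_i_rc_29_1 lc_i_rc_23_1 lc_i_rc_43_1 lc_i_rc_8_1 lc_i_rc_16_1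 lc_i_rc_16_1 lc_i_rc_29_1) (@D3.rec (fun _ => (Cert rels S Gen.i)) lc_i_rc_36_3 lc_i_rc_23_1 lc_i_rc_8_1 lc_i_rc_8_1 lc_i_rc_16_1 lc_i_rc_40_1 lc_i_rc_16_1 lc_i_rc_29_1 lc_i_rc_8_1 lc_i_rc_16_1 lc_i_rc_16_1 lc_i_rc_23_1 lc_i_rc_23_1 lc_i_rc_8_1 lc_i_rc_8_1 lc_i_rc_8_1 lc_i_rc_8_1 lc_i_rc_16_1) (@D3.rec (fun _ => (Cert rels S Gen.i)) lc_i_rc_16_1 lc_i_rc_36_3 lc_i_rc_23_1 lc_i_rc_34_1 lc_i_rc_34_3 lc_i_rc_23_1 lc_i_rc_40_1 lc_i_rc_16_1 lc_i_rc_23_1 lc_i_rc_40_1 lc_i_rc_8_1 lc_i_rc_16_1 lc_i_rc_29_1 lc_i_rc_23_1 lc_i_rc_43_1 lc_i_rc_8_1 lc_i_rc_16_1 lc_i_rc_29_1)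
def ce_i_3 : D2 → D3 → (Cert rels S Gen.i) := @D2.rec (fun _ => D3 → (Cert rels S Gen.i)) (@D3.rec (fun _ => (Cert rels S Gen.i)) lc_i_rc_23_1 lc_i_rc_43_1 lc_i_rc_8_1 lc_i_rc_16_1 lc_i_rc_16_1 lc_i_rc_29_1 lc_i_rc_23_1 lc_i_rc_8_1 lc_i_rc_16_1 lc_i_rc_16_1 lc_i_rc_29_1 lc_i_rc_16_1 lc_i_rc_23_1 lc_i_rc_8_1 lc_i_rc_16_1 lc_i_rc_8_1 lc_i_rc_8_1 lc_i_rc_29_1) (@D3.rec (fun _ => (Cert rels S Gen.i)) lc_i_rc_29_1 lc_i_rc_23_1 lc_i_rc_34_1 lc_i_rc_36_3 lc_i_rc_23_1 lc_i_rc_34_1 lc_i_rc_16_1 lc_i_rc_23_1 lc_i_rc_40_1 lc_i_rc_36_3 lc_i_rc_16_1 lc_i_rc_23_1 lc_i_rc_40_1 lc_i_rc_8_1 lc_i_rc_16_1 lc_i_rc_29_1 lc_i_rc_23_1 lc_i_rc_43_1) (@D3.rec (fun _ => (Cert rels S Gen.i)) lc_i_rc_36_3 lc_i_rc_23_1 lc_i_rc_34_1 lc_i_rc_16_1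 lc_i_rc_23_1 lc_i_rc_40_1 lc_i_rc_16_1 lc_i_rc_23_1 lc_i_rc_40_1 lc_i_rc_8_1 lc_i_rc_16_1 lc_i_rc_29_1 lc_i_rc_23_1 lc_i_rc_43_1 lc_i_rc_8_1 lc_i_rc_16_1 lc_i_rc_29_1 lc_i_rc_23_1) (@D3.rec (fun _ => (Cert rels S Gen.i)) lc_i_rc_43_1 lc_i_rc_8_1 lc_i_rc_16_1 lc_i_rc_16_1 lc_i_rc_29_1 lc_i_Cert_tree lc_i_rc_23_1 lc_i_rc_8_1 lc_i_rc_16_1 lc_i_rc_16_1 lc_i_rc_29_1 lc_i_Cert_tree lc_i_rc_23_1 lc_i_rc_8_1 lc_i_rc_8_1 lc_i_rc_16_1 lc_i_Cert_tree lc_i_rc_16_1) (@D3.rec (fun _ => (Cert rels S Gen.i)) lc_i_rc_34_1 lc_i_rc_29_1 lc_i_rc_43_1 lc_i_rc_44_0 lc_i_rc_34_1 lc_i_rc_34_1 lc_i_rc_36_3 lc_i_rc_16_1 lc_i_rc_23_1 lc_i_rc_40_1 lc_i_rc_34_3 lc_i_rc_16_1 lc_i_rc_29_1 lc_i_rc_23_1 lc_i_rc_43_1 lc_i_rc_8_1 lc_i_rc_16_1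 lc_i_rc_29_1) (@D3.rec (fun _ => (Cert rels S Gen.i)) lc_i_rc_23_1 lc_i_rc_43_1 lc_i_rc_8_1 lc_i_rc_16_1 lc_i_rc_16_1 lc_i_rc_29_1 lc_i_Cert_tree lc_i_rc_23_1 lc_i_rc_8_1 lc_i_rc_16_1 lc_i_rc_16_1 lc_i_rc_29_1 lc_i_rc_23_1 lc_i_rc_8_1 lc_i_rc_8_1 lc_i_rc_23_1 lc_i_rc_16_1 lc_i_rc_16_1) (@D3.rec (fun _ => (Cert rels S Gen.i)) lc_i_rc_34_1 lc_i_rc_40_1 lc_i_rc_8_1 lc_i_rc_8_1 lc_i_rc_23_1 lc_i_rc_16_1 lc_i_rc_8_1 lc_i_rc_16_1 lc_i_rc_29_1 lc_i_Cert_tree lc_i_rc_44_0 lc_i_rc_8_1 lc_i_rc_8_1 lc_i_rc_34_3 lc_i_rc_16_1 lc_i_rc_8_1 lc_i_rc_16_1 lc_i_rc_29_1) (@D3.rec (fun _ => (Cert rels S Gen.i)) lc_i_rc_8_1 lc_i_rc_16_1 lc_i_rc_40_1 lc_i_rc_36_1 lc_i_rc_40_3 lc_i_rc_8_1 lc_i_rc_16_1 lc_i_rc_16_1 lc_i_rc_29_1 lc_i_rc_34_1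 lc_i_rc_23_1 lc_i_rc_8_1 lc_i_rc_23_1 lc_i_rc_23_1 lc_i_rc_16_1 lc_i_rc_36_3 lc_i_rc_23_1 lc_i_rc_29_1) (@D3.rec (fun _ => (Cert rels S Gen.i)) lc_i_rc_8_1 lc_i_rc_40_1 lc_i_rc_8_1 lc_i_rc_16_1 lc_i_rc_36_3 lc_i_rc_23_1 lc_i_rc_40_1 lc_i_rc_16_1 lc_i_rc_29_1 lc_i_rc_23_1 lc_i_rc_43_1 lc_i_rc_8_1 lc_i_rc_16_1 lc_i_rc_29_1 lc_i_rc_23_1 lc_i_rc_43_1 lc_i_rc_8_1 lc_i_rc_16_1) (@D3.rec (fun _ => (Cert rels S Gen.i)) lc_i_rc_16_1 lc_i_rc_29_1 lc_i_rc_16_1 lc_i_rc_23_1 lc_i_rc_16_1 lc_i_rc_29_1 lc_i_rc_23_1 lc_i_rc_40_1 lc_i_rc_34_1 lc_i_rc_8_1 lc_i_rc_8_1 lc_i_rc_16_1 lc_i_rc_16_1 lc_i_rc_29_1 lc_i_rc_16_1 lc_i_rc_8_1 lc_i_rc_23_1 lc_i_rc_34_1) (@D3.rec (fun _ => (Cert rels S Gen.i)) lc_i_rc_23_1 lc_i_rc_34_1 lc_i_rc_16_1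 lc_i_rc_23_1 lc_i_rc_40_1 lc_i_rc_23_1 lc_i_rc_36_3 lc_i_rc_16_1 lc_i_rc_23_1 lc_i_rc_40_1 lc_i_rc_8_1 lc_i_rc_16_1 lc_i_rc_29_1 lc_i_rc_23_1 lc_i_rc_34_1 lc_i_rc_16_1 lc_i_rc_8_1 lc_i_rc_16_1) (@D3.rec (fun _ => (Cert rels S Gen.i)) lc_i_rc_29_1 lc_i_rc_23_1 lc_i_rc_8_1 lc_i_rc_16_1 lc_i_rc_16_1 lc_i_rc_29_1 lc_i_Cert_tree lc_i_rc_43_1 lc_i_rc_23_1 lc_i_rc_36_3 lc_i_rc_16_1 lc_i_rc_23_1 lc_i_rc_40_1 lc_i_rc_34_3 lc_i_rc_16_1 lc_i_rc_29_1 lc_i_rc_23_1 lc_i_rc_43_1) (@D3.rec (fun _ => (Cert rels S Gen.i)) lc_i_rc_8_1 lc_i_rc_16_1 lc_i_rc_29_1 lc_i_rc_23_1 lc_i_rc_43_1 lc_i_rc_8_1 lc_i_rc_16_1 lc_i_rc_16_1 lc_i_rc_29_1 lc_i_Cert_tree lc_i_rc_23_1 lc_i_rc_8_1 lc_i_rc_16_1 lc_i_rc_16_1 lc_i_rc_29_1 lc_i_Cert_tree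 lc_i_rc_23_1 lc_i_rc_8_1) (@D3.rec (fun _ => (Cert rels S Gen.i)) lc_i_rc_8_1 lc_i_rc_23_1 lc_i_rc_16_1 lc_i_Cert_tree lc_i_rc_16_1 lc_i_rc_34_1 lc_i_rc_29_1 lc_i_rc_43_1 lc_i_rc_44_0 lc_i_rc_8_1 lc_i_rc_8_1 lc_i_rc_23_1 lc_i_rc_16_1 lc_i_Cert_tree lc_i_rc_16_1 lc_i_rc_34_1 lc_i_rc_29_1 lc_i_Cert_tree) (@D3.rec (fun _ => (Cert rels S Gen.i)) lc_i_rc_44_0 lc_i_rc_8_1 lc_i_Cert_tree lc_i_rc_8_1 lc_i_rc_16_1 lc_i_rc_16_1 lc_i_rc_43_1 lc_i_rc_44_0 lc_i_rc_34_1 lc_i_rc_34_1 lc_i_rc_43_1 lc_i_rc_40_1 lc_i_rc_16_1 lc_i_rc_29_1 lc_i_rc_23_1 lc_i_rc_43_1 lc_i_rc_8_1 lc_i_rc_16_1)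
def ce_i_4 : D2 → D3 → (Cert rels S Gen.i) := @D2.rec (fun _ => D3 → (Cert rels S Gen.i)) (@D3.rec (fun _ => (Cert rels S Gen.i)) lc_i_rc_16_1 lc_i_rc_29_1 lc_i_Cert_tree lc_i_rc_23_1 lc_i_rc_8_1 lc_i_rc_16_1 lc_i_rc_16_1 lc_i_rc_29_1 lc_i_Cert_tree lc_i_rc_23_1 lc_i_rc_8_1 lc_i_rc_8_1 lc_i_rc_23_1 lc_i_rc_16_1 lc_i_rc_8_1 lc_i_rc_16_1 lc_i_rc_34_1 lc_i_rc_29_1) (@D3.rec (fun _ => (Cert rels S Gen.i)) lc_i_Cert_tree lc_i_rc_44_0 lc_i_rc_8_1 lc_i_rc_23_1 lc_i_rc_16_1 lc_i_rc_16_1 lc_i_rc_34_1 lc_i_rc_23_1 lc_i_rc_40_1 lc_i_rc_34_1 lc_i_rc_34_1 lc_i_rc_8_1 lc_i_rc_8_1 lc_i_rc_8_1 lc_i_rc_23_1 lc_i_rc_8_1 lc_i_rc_16_1 lc_i_rc_8_1) (@D3.rec (fun _ => (Cert rels S Gen.i)) lc_i_Cert_tree lc_i_rc_44_0 lc_i_rc_8_1 lc_i_rc_8_1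 lc_i_rc_8_1 lc_i_rc_16_1 lc_i_rc_8_1 lc_i_rc_40_1 lc_i_rc_23_1 lc_i_rc_36_1 lc_i_rc_40_3 lc_i_rc_40_3 lc_i_rc_34_1 lc_i_rc_8_1 lc_i_rc_23_1 lc_i_rc_16_1 lc_i_rc_34_1 lc_i_rc_29_1) (@D3.rec (fun _ => (Cert rels S Gen.i)) lc_i_rc_40_1 lc_i_rc_45_35 lc_i_rc_23_1 lc_i_rc_8_1 lc_i_rc_40_1 lc_i_rc_29_1 lc_i_rc_23_1 lc_i_rc_43_1 lc_i_rc_16_1 lc_i_rc_16_1 lc_i_rc_29_1 lc_i_rc_23_1 lc_i_rc_23_1 lc_i_rc_8_1 lc_i_rc_16_1 lc_i_rc_16_1 lc_i_rc_29_1 lc_i_rc_36_3) (@D3.rec (fun _ => (Cert rels S Gen.i)) lc_i_rc_23_1 lc_i_rc_8_1 lc_i_rc_34_1 lc_i_rc_16_1 lc_i_rc_34_1 lc_i_rc_34_1 lc_i_rc_29_1 lc_i_rc_16_1 lc_i_rc_8_1 lc_i_rc_8_1 lc_i_rc_16_1 lc_i_rc_16_1 lc_i_rc_16_1 lc_i_rc_23_1 lc_i_rc_40_1 lc_i_rc_16_1 lc_i_rc_23_1 lc_i_rc_40_1)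 (@D3.rec (fun _ => (Cert rels S Gen.i)) lc_i_rc_8_1 lc_i_rc_16_1 lc_i_rc_29_1 lc_i_rc_23_1 lc_i_rc_43_1 lc_i_rc_16_1 lc_i_rc_23_1 lc_i_rc_8_1 lc_i_rc_16_1 lc_i_rc_29_1 lc_i_rc_23_1 lc_i_rc_8_1 lc_i_rc_16_1 lc_i_rc_16_1 lc_i_rc_29_1 lc_i_Cert_tree lc_i_rc_34_1 lc_i_rc_8_1) (@D3.rec (fun _ => (Cert rels S Gen.i)) lc_i_rc_8_1 lc_i_rc_16_1 lc_i_rc_16_1 lc_i_rc_29_1 lc_i_rc_8_1 lc_i_rc_8_1 lc_i_rc_23_1 lc_i_rc_16_1 lc_i_Cert_tree lc_i_rc_43_1 lc_i_rc_34_1 lc_i_rc_43_1 lc_i_Cert_tree lc_i_rc_44_0 lc_i_rc_23_1 lc_i_rc_40_1 lc_i_rc_16_1 lc_i_rc_29_1) (@D3.rec (fun _ => (Cert rels S Gen.i)) lc_i_rc_23_1 lc_i_rc_43_1 lc_i_rc_8_1 lc_i_rc_16_1 lc_i_rc_16_1 lc_i_rc_29_1 lc_i_Cert_tree lc_i_rc_23_1 lc_i_rc_8_1 lc_i_rc_16_1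 lc_i_rc_16_1 lc_i_rc_29_1 lc_i_Cert_tree lc_i_rc_23_1 lc_i_rc_8_1 lc_i_rc_8_1 lc_i_rc_23_1 lc_i_rc_16_1) (@D3.rec (fun _ => (Cert rels S Gen.i)) lc_i_Cert_tree lc_i_rc_16_1 lc_i_rc_34_1 lc_i_rc_29_1 lc_i_Cert_tree lc_i_rc_44_0 lc_i_rc_8_1 lc_i_rc_8_1 lc_i_rc_23_1 lc_i_rc_16_1 lc_i_rc_34_3 lc_i_rc_16_1 lc_i_rc_34_1 lc_i_rc_29_1 lc_i_rc_16_3 lc_i_rc_44_0 lc_i_rc_29_1 lc_i_rc_8_1) (@D3.rec (fun _ => (Cert rels S Gen.i)) lc_i_rc_43_3 lc_i_rc_40_1 lc_i_rc_23_1 lc_i_rc_8_1 lc_i_rc_16_1 lc_i_rc_16_1 lc_i_rc_43_1 lc_i_rc_44_0 lc_i_rc_34_1 lc_i_rc_34_1 lc_i_rc_8_1 lc_i_rc_8_1 lc_i_Cert_tree lc_i_rc_8_1 lc_i_rc_23_1 lc_i_Cert_tree lc_i_rc_16_1 lc_i_rc_16_1) (@D3.rec (fun _ => (Cert rels S Gen.i)) lc_i_Cert_tree lc_i_rc_44_0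 lc_i_rc_34_1 lc_i_Cert_tree lc_i_Cert_tree lc_i_rc_44_0 lc_i_rc_8_1 lc_i_rc_8_1 lc_i_rc_43_1 lc_i_rc_44_0 lc_i_rc_16_1 lc_i_rc_34_1 lc_i_rc_23_3 lc_i_rc_43_1 lc_i_rc_43_1 lc_i_rc_16_1 lc_i_rc_16_1 lc_i_rc_29_1) (@D3.rec (fun _ => (Cert rels S Gen.i)) lc_i_rc_23_1 lc_i_rc_8_1 lc_i_rc_8_1 lc_i_rc_23_1 lc_i_rc_16_1 lc_i_Cert_tree lc_i_rc_16_1 lc_i_rc_34_1 lc_i_rc_29_1 lc_i_Cert_tree lc_i_rc_44_0 lc_i_rc_8_1 lc_i_rc_8_1 lc_i_rc_23_1 lc_i_rc_16_1 lc_i_rc_36_3 lc_i_rc_16_1 lc_i_rc_34_1) (@D3.rec (fun _ => (Cert rels S Gen.i)) lc_i_rc_29_1 lc_i_rc_8_3 lc_i_rc_44_0 lc_i_rc_8_1 lc_i_rc_8_1 lc_i_rc_34_1 lc_i_rc_23_1 lc_i_rc_23_1 lc_i_rc_16_1 lc_i_rc_16_1 lc_i_rc_8_1 lc_i_rc_8_1 lc_i_rc_8_3 lc_i_rc_8_3 lc_i_rc_44_0 lc_i_rc_34_1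 lc_i_rc_8_1 lc_i_rc_8_1) (@D3.rec (fun _ => (Cert rels S Gen.i)) lc_i_rc_23_1 lc_i_rc_8_1 lc_i_rc_8_1 lc_i_rc_8_1 lc_i_rc_44_0 lc_i_rc_8_1 lc_i_rc_8_1 lc_i_rc_23_1 lc_i_rc_34_1 lc_i_rc_40_1 lc_i_rc_8_3 lc_i_rc_40_1 lc_i_rc_43_1 lc_i_rc_29_1 lc_i_rc_23_1 lc_i_rc_23_1 lc_i_rc_16_1 lc_i_rc_36_1) (@D3.rec (fun _ => (Cert rels S Gen.i)) lc_i_rc_16_1 lc_i_rc_34_1 lc_i_rc_29_1 lc_i_rc_23_1 lc_i_rc_8_1 lc_i_rc_16_1 lc_i_rc_34_1 lc_i_rc_29_1 lc_i_rc_36_3 lc_i_rc_8_1 lc_i_rc_16_1 lc_i_rc_16_1 lc_i_rc_8_1 lc_i_rc_36_3 lc_i_rc_16_1 lc_i_rc_29_1 lc_i_rc_23_1 lc_i_rc_43_1)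
def ce_i_5 : D2 → D3 → (Cert rels S Gen.i) := @D2.rec (fun _ => D3 → (Cert rels S Gen.i)) (@D3.rec (fun _ => (Cert rels S Gen.i)) lc_i_rc_16_1 lc_i_rc_29_1 lc_i_rc_23_1 lc_i_rc_8_1 lc_i_rc_16_1 lc_i_rc_16_1 lc_i_rc_29_1 lc_i_Cert_tree lc_i_rc_43_1 lc_i_rc_8_1 lc_i_rc_16_1 lc_i_rc_29_1 lc_i_rc_8_1 lc_i_rc_16_1 lc_i_rc_16_1 lc_i_rc_29_1 lc_i_Cert_tree lc_i_rc_8_1) (@D3.rec (fun _ => (Cert rels S Gen.i)) lc_i_rc_8_1 lc_i_rc_23_1 lc_i_rc_16_1 lc_i_Cert_tree lc_i_rc_34_1 lc_i_rc_34_1 lc_i_rc_23_3 lc_i_Cert_tree lc_i_rc_44_0 lc_i_rc_8_1 lc_i_rc_8_1 lc_i_rc_23_1 lc_i_rc_16_1 lc_i_rc_34_1 lc_i_rc_34_1 lc_i_rc_8_1 lc_i_rc_8_3 lc_i_rc_43_1) (@D3.rec (fun _ => (Cert rels S Gen.i)) lc_i_rc_23_1 lc_i_rc_43_1 lc_i_rc_16_1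 lc_i_rc_43_1 lc_i_Cert_tree lc_i_rc_44_0 lc_i_rc_34_1 lc_i_rc_34_3 lc_i_rc_16_3 lc_i_rc_44_0 lc_i_rc_29_1 lc_i_rc_23_1 lc_i_rc_43_1 lc_i_rc_16_1 lc_i_rc_16_1 lc_i_rc_29_1 lc_i_Cert_tree lc_i_rc_23_1) (@D3.rec (fun _ => (Cert rels S Gen.i)) lc_i_rc_8_1 lc_i_rc_8_1 lc_i_rc_23_1 lc_i_rc_16_1 lc_i_Cert_tree lc_i_rc_16_1 lc_i_rc_34_1 lc_i_rc_29_1 lc_i_Cert_tree lc_i_rc_44_0 lc_i_rc_8_1 lc_i_rc_8_1 lc_i_rc_23_1 lc_i_rc_16_1 lc_i_Cert_tree lc_i_rc_16_1 lc_i_rc_34_1 lc_i_rc_29_1) (@D3.rec (fun _ => (Cert rels S Gen.i)) lc_i_Cert_tree lc_i_rc_44_0 lc_i_rc_8_1 lc_i_rc_8_1 lc_i_Cert_tree lc_i_rc_34_1 lc_i_rc_23_1 lc_i_Cert_tree lc_i_rc_16_1 lc_i_rc_16_1 lc_i_Cert_tree lc_i_rc_44_0 lc_i_rc_34_1 lc_i_Cert_tree lc_i_Cert_tree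 lc_i_rc_44_0 lc_i_rc_8_1 lc_i_rc_23_1) (@D3.rec (fun _ => (Cert rels S Gen.i)) lc_i_rc_16_1 lc_i_rc_16_1 lc_i_rc_40_1 lc_i_rc_34_1 lc_i_rc_34_1 lc_i_rc_8_1 lc_i_rc_43_1 lc_i_rc_23_1 lc_i_rc_8_1 lc_i_rc_16_1 lc_i_rc_34_1 lc_i_rc_43_1 lc_i_rc_8_1 lc_i_Cert_tree lc_i_rc_8_1 lc_i_rc_8_1 lc_i_Cert_tree lc_i_rc_44_0) (@D3.rec (fun _ => (Cert rels S Gen.i)) lc_i_rc_23_1 lc_i_rc_23_1 lc_i_Cert_tree lc_i_Cert_tree lc_i_rc_44_0 lc_i_rc_16_1 lc_i_Cert_tree lc_i_Cert_tree lc_i_rc_44_0 lc_i_Cert_tree lc_i_Cert_tree lc_i_rc_44_0 lc_i_rc_44_0 lc_i_rc_8_1 lc_i_rc_34_1 lc_i_rc_29_1 lc_i_rc_43_1 lc_i_rc_43_1) (@D3.rec (fun _ => (Cert rels S Gen.i)) lc_i_rc_23_1 lc_i_rc_16_1 lc_i_rc_16_1 lc_i_rc_34_1 lc_i_rc_29_1 lc_i_rc_23_1 lc_i_rc_8_1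 lc_i_rc_36_1 lc_i_rc_8_1 lc_i_rc_23_1 lc_i_rc_40_3 lc_i_rc_16_1 lc_i_rc_16_1 lc_i_Cert_tree lc_i_rc_44_0 lc_i_rc_8_1 lc_i_rc_8_1 lc_i_rc_8_1) (@D3.rec (fun _ => (Cert rels S Gen.i)) lc_i_rc_44_0 lc_i_rc_8_1 lc_i_rc_8_1 lc_i_rc_23_1 lc_i_rc_36_3 lc_i_rc_16_1 lc_i_rc_16_1 lc_i_rc_36_3 lc_i_rc_8_1 lc_i_rc_23_1 lc_i_rc_23_1 lc_i_rc_8_1 lc_i_rc_23_1 lc_i_rc_8_1 lc_i_rc_8_1 lc_i_rc_8_1 lc_i_rc_8_1 lc_i_rc_8_1) (@D3.rec (fun _ => (Cert rels S Gen.i)) lc_i_rc_8_1 lc_i_rc_34_1 lc_i_rc_8_1 lc_i_rc_34_1 lc_i_rc_29_1 lc_i_rc_23_1 lc_i_rc_16_1 lc_i_rc_16_1 lc_i_rc_36_1 lc_i_rc_36_3 lc_i_rc_16_1 lc_i_rc_16_1 lc_i_rc_29_1 lc_i_Cert_tree lc_i_rc_23_1 lc_i_rc_16_1 lc_i_rc_16_1 lc_i_rc_29_1) (@D3.rec (fun _ => (Cert rels S Gen.i))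 lc_i_Cert_tree lc_i_rc_34_1 lc_i_rc_8_1 lc_i_rc_23_1 lc_i_rc_16_1 lc_i_Cert_tree lc_i_rc_43_1 lc_i_rc_34_1 lc_i_rc_43_1 lc_i_Cert_tree lc_i_rc_44_0 lc_i_rc_8_1 lc_i_rc_16_1 lc_i_Cert_tree lc_i_rc_8_1 lc_i_rc_8_1 lc_i_rc_23_1 lc_i_rc_16_1) (@D3.rec (fun _ => (Cert rels S Gen.i)) lc_i_Cert_tree lc_i_rc_34_1 lc_i_Cert_tree lc_i_rc_44_0 lc_i_rc_8_1 lc_i_rc_8_1 lc_i_Cert_tree lc_i_rc_34_1 lc_i_rc_23_1 lc_i_Cert_tree lc_i_rc_16_1 lc_i_rc_29_1 lc_i_Cert_tree lc_i_rc_44_0 lc_i_rc_43_1 lc_i_Cert_tree lc_i_Cert_tree lc_i_rc_44_0) (@D3.rec (fun _ => (Cert rels S Gen.i)) lc_i_rc_8_1 lc_i_rc_23_1 lc_i_rc_16_1 lc_i_rc_40_1 lc_i_rc_8_1 lc_i_rc_43_1 lc_i_rc_16_1 lc_i_rc_23_1 lc_i_rc_34_1 lc_i_rc_34_3 lc_i_rc_44_0 lc_i_rc_34_1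 lc_i_rc_34_1 lc_i_rc_43_3 lc_i_rc_29_1 lc_i_Cert_tree lc_i_rc_23_1 lc_i_rc_23_1) (@D3.rec (fun _ => (Cert rels S Gen.i)) lc_i_rc_16_1 lc_i_Cert_tree lc_i_rc_16_1 lc_i_rc_34_1 lc_i_rc_29_1 lc_i_Cert_tree lc_i_rc_44_0 lc_i_rc_23_1 lc_i_rc_8_1 lc_i_Cert_tree lc_i_rc_8_1 lc_i_rc_23_1 lc_i_Cert_tree lc_i_rc_16_1 lc_i_rc_16_1 lc_i_Cert_tree lc_i_rc_44_0 lc_i_rc_34_1) (@D3.rec (fun _ => (Cert rels S Gen.i)) lc_i_Cert_tree lc_i_Cert_tree lc_i_rc_44_0 lc_i_rc_8_1 lc_i_rc_8_1 lc_i_Cert_tree lc_i_rc_23_1 lc_i_Cert_tree lc_i_rc_16_1 lc_i_rc_16_1 lc_i_Cert_tree lc_i_rc_44_0 lc_i_rc_34_1 lc_i_Cert_tree lc_i_Cert_tree lc_i_rc_44_0 lc_i_rc_16_1 lc_i_rc_8_1)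
def ce_i_6 : D2 → D3 → (Cert rels S Gen.i) := @D2.rec (fun _ => D3 → (Cert rels S Gen.i)) (@D3.rec (fun _ => (Cert rels S Gen.i)) lc_i_Cert_tree lc_i_rc_8_1 lc_i_rc_8_1 lc_i_Cert_tree lc_i_rc_44_0 lc_i_rc_23_1 lc_i_rc_23_1 lc_i_Cert_tree lc_i_Cert_tree lc_i_rc_44_0 lc_i_rc_16_1 lc_i_Cert_tree lc_i_Cert_tree lc_i_rc_44_0 lc_i_rc_40_1 lc_i_Cert_tree lc_i_Cert_tree lc_i_rc_44_0) (@D3.rec (fun _ => (Cert rels S Gen.i)) lc_i_rc_44_0 lc_i_rc_8_1 lc_i_rc_23_1 lc_i_rc_16_1 lc_i_rc_34_1 lc_i_rc_34_1 lc_i_rc_8_1 lc_i_rc_34_1 lc_i_rc_43_1 lc_i_rc_43_1 lc_i_rc_8_1 lc_i_rc_8_1 lc_i_Cert_tree lc_i_rc_44_0 lc_i_rc_8_1 lc_i_Cert_tree lc_i_Cert_tree lc_i_rc_44_0) (@D3.rec (fun _ => (Cert rels S Gen.i)) lc_i_rc_23_1 lc_i_Cert_tree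 lc_i_Cert_tree lc_i_Cert_tree lc_i_rc_44_0 lc_i_Cert_tree lc_i_rc_44_0 lc_i_Cert_tree lc_i_Cert_tree lc_i_rc_44_0 lc_i_rc_44_0 lc_i_rc_44_0 lc_i_Cert_tree lc_i_rc_44_0 lc_i_rc_29_1 lc_i_rc_34_3 lc_i_rc_43_1 lc_i_rc_43_1) (@D3.rec (fun _ => (Cert rels S Gen.i)) lc_i_rc_23_1 lc_i_rc_16_1 lc_i_rc_16_1 lc_i_rc_40_3 lc_i_rc_8_1 lc_i_rc_36_1 lc_i_rc_8_1 lc_i_rc_8_1 lc_i_rc_36_1 lc_i_rc_23_1 lc_i_rc_23_1 lc_i_rc_16_1 lc_i_rc_40_3 lc_i_rc_44_0 lc_i_rc_8_1 lc_i_rc_23_1 lc_i_rc_23_1 lc_i_rc_36_3) (@D3.rec (fun _ => (Cert rels S Gen.i)) lc_i_rc_8_1 lc_i_rc_23_1 lc_i_rc_8_1 lc_i_rc_8_1 lc_i_rc_34_1 lc_i_Cert_tree lc_i_rc_8_1 lc_i_rc_8_1 lc_i_rc_34_3 lc_i_rc_36_5 lc_i_rc_36_3 lc_i_rc_23_1 lc_i_rc_16_1 lc_i_Cert_tree lc_i_rc_16_1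 lc_i_rc_34_1 lc_i_rc_29_1 lc_i_Cert_tree) (@D3.rec (fun _ => (Cert rels S Gen.i)) lc_i_rc_44_0 lc_i_rc_23_1 lc_i_rc_16_1 lc_i_Cert_tree lc_i_rc_34_1 lc_i_Cert_tree lc_i_rc_44_0 lc_i_rc_34_1 lc_i_rc_34_3 lc_i_Cert_tree lc_i_rc_43_1 lc_i_rc_23_1 lc_i_Cert_tree lc_i_rc_16_1 lc_i_rc_43_1 lc_i_Cert_tree lc_i_rc_44_0 lc_i_rc_43_1) (@D3.rec (fun _ => (Cert rels S Gen.i)) lc_i_Cert_tree lc_i_Cert_tree lc_i_rc_44_0 lc_i_rc_8_1 lc_i_rc_23_1 lc_i_Cert_tree lc_i_rc_44_0 lc_i_rc_8_1 lc_i_rc_8_1 lc_i_Cert_tree lc_i_rc_23_1 lc_i_Cert_tree lc_i_rc_16_1 lc_i_Cert_tree lc_i_rc_44_0 lc_i_Cert_tree lc_i_rc_44_0 lc_i_rc_16_1) (@D3.rec (fun _ => (Cert rels S Gen.i)) lc_i_rc_8_1 lc_i_Cert_tree lc_i_rc_8_1 lc_i_rc_29_1 lc_i_Cert_tree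 lc_i_rc_44_0 lc_i_rc_23_1 lc_i_rc_34_3 lc_i_Cert_tree lc_i_Cert_tree lc_i_rc_44_0 lc_i_rc_43_1 lc_i_Cert_tree lc_i_Cert_tree lc_i_rc_44_0 lc_i_rc_43_3 lc_i_Cert_tree lc_i_Cert_tree) (@D3.rec (fun _ => (Cert rels S Gen.i)) lc_i_rc_44_0 lc_i_rc_44_0 lc_i_rc_8_1 lc_i_rc_23_1 lc_i_rc_34_1 lc_i_rc_34_1 lc_i_rc_34_1 lc_i_rc_29_1 lc_i_rc_34_1 lc_i_rc_43_3 lc_i_rc_40_1 lc_i_rc_43_3 lc_i_rc_34_1 lc_i_rc_29_1 lc_i_Cert_tree lc_i_rc_44_0 lc_i_rc_23_1 lc_i_Cert_tree) (@D3.rec (fun _ => (Cert rels S Gen.i)) lc_i_rc_16_1 lc_i_rc_16_1 lc_i_Cert_tree lc_i_rc_44_0 lc_i_rc_34_1 lc_i_Cert_tree lc_i_Cert_tree lc_i_rc_44_0 lc_i_rc_40_3 lc_i_rc_8_1 lc_i_Cert_tree lc_i_rc_8_1 lc_i_rc_8_1 lc_i_Cert_tree lc_i_rc_44_0 lc_i_rc_23_1 lc_i_rc_23_1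 lc_i_Cert_tree) (@D3.rec (fun _ => (Cert rels S Gen.i)) lc_i_Cert_tree lc_i_rc_44_0 lc_i_rc_16_1 lc_i_Cert_tree lc_i_Cert_tree lc_i_rc_44_0 lc_i_rc_40_1 lc_i_Cert_tree lc_i_Cert_tree lc_i_rc_44_0 lc_i_rc_44_0 lc_i_rc_16_1 lc_i_rc_8_1 lc_i_Cert_tree lc_i_rc_8_1 lc_i_Cert_tree lc_i_rc_44_0 lc_i_rc_23_1) (@D3.rec (fun _ => (Cert rels S Gen.i)) lc_i_rc_23_1 lc_i_Cert_tree lc_i_Cert_tree lc_i_rc_44_0 lc_i_rc_16_1 lc_i_Cert_tree lc_i_Cert_tree lc_i_rc_44_0 lc_i_Cert_tree lc_i_Cert_tree lc_i_rc_44_0 lc_i_rc_44_0 lc_i_rc_16_1 lc_i_rc_8_1 lc_i_rc_8_1 lc_i_Cert_tree lc_i_rc_44_0 lc_i_rc_8_1) (@D3.rec (fun _ => (Cert rels S Gen.i)) lc_i_Cert_tree lc_i_Cert_tree lc_i_rc_44_0 lc_i_rc_29_1 lc_i_rc_23_1 lc_i_Cert_tree lc_i_Cert_tree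 lc_i_Cert_tree lc_i_rc_44_0 lc_i_Cert_tree lc_i_rc_44_0 lc_i_rc_40_1 lc_i_Cert_tree lc_i_Cert_tree lc_i_rc_44_0 lc_i_rc_44_0 lc_i_rc_44_0 lc_i_Cert_tree) (@D3.rec (fun _ => (Cert rels S Gen.i)) lc_i_rc_44_0 lc_i_rc_8_1 lc_i_Cert_tree lc_i_rc_8_1 lc_i_rc_23_1 lc_i_rc_43_1 lc_i_rc_8_1 lc_i_Cert_tree lc_i_Cert_tree lc_i_rc_44_0 lc_i_Cert_tree lc_i_Cert_tree lc_i_rc_44_0 lc_i_rc_44_0 lc_i_Cert_tree lc_i_Cert_tree lc_i_rc_44_0 lc_i_Cert_tree) (@D3.rec (fun _ => (Cert rels S Gen.i)) lc_i_rc_44_0 lc_i_Cert_tree lc_i_rc_44_0 lc_i_Cert_tree lc_i_rc_44_0 lc_i_rc_44_0 lc_i_Cert_tree lc_i_rc_44_0 lc_i_Cert_tree lc_i_rc_44_0 lc_i_rc_34_3 lc_i_rc_23_1 lc_i_rc_43_1 lc_i_rc_23_1 lc_i_rc_23_1 lc_i_rc_16_1 lc_i_rc_23_1 lc_i_rc_8_1)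
def ce_i_7 : D2 → D3 → (Cert rels S Gen.i) := @D2.rec (fun _ => D3 → (Cert rels S Gen.i)) (@D3.rec (fun _ => (Cert rels S Gen.i)) lc_i_rc_36_1 lc_i_rc_16_1 lc_i_rc_16_1 lc_i_rc_8_1 lc_i_Cert_tree lc_i_rc_29_1 lc_i_rc_8_1 lc_i_rc_23_1 lc_i_rc_40_1 lc_i_rc_44_0 lc_i_rc_8_1 lc_i_rc_29_3 lc_i_rc_8_1 lc_i_rc_36_5 lc_i_Cert_tree lc_i_rc_43_1 lc_i_rc_23_1 lc_i_Cert_tree) (@D3.rec (fun _ => (Cert rels S Gen.i)) lc_i_rc_16_1 lc_i_rc_16_1 lc_i_Cert_tree lc_i_rc_44_0 lc_i_rc_34_1 lc_i_Cert_tree lc_i_Cert_tree lc_i_rc_44_0 lc_i_rc_23_1 lc_i_Cert_tree lc_i_rc_16_1 lc_i_Cert_tree lc_i_rc_44_0 lc_i_Cert_tree lc_i_rc_44_0 lc_i_rc_8_3 lc_i_rc_34_3 lc_i_Cert_tree) (@D3.rec (fun _ => (Cert rels S Gen.i)) lc_i_rc_8_1 lc_i_rc_43_1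 lc_i_Cert_tree lc_i_rc_44_0 lc_i_rc_23_1 lc_i_rc_23_1 lc_i_Cert_tree lc_i_Cert_tree lc_i_rc_44_0 lc_i_rc_43_1 lc_i_Cert_tree lc_i_Cert_tree lc_i_rc_44_0 lc_i_rc_43_3 lc_i_Cert_tree lc_i_Cert_tree lc_i_rc_44_0 lc_i_rc_44_0) (@D3.rec (fun _ => (Cert rels S Gen.i)) lc_i_rc_8_1 lc_i_Cert_tree lc_i_Cert_tree lc_i_rc_44_0 lc_i_rc_16_1 lc_i_rc_8_1 lc_i_Cert_tree lc_i_rc_8_1 lc_i_Cert_tree lc_i_rc_44_0 lc_i_rc_23_1 lc_i_Cert_tree lc_i_Cert_tree lc_i_rc_44_0 lc_i_Cert_tree lc_i_rc_44_0 lc_i_rc_44_0 lc_i_rc_16_1) (@D3.rec (fun _ => (Cert rels S Gen.i)) lc_i_Cert_tree lc_i_rc_8_1 lc_i_rc_34_3 lc_i_Cert_tree lc_i_Cert_tree lc_i_rc_44_0 lc_i_rc_8_1 lc_i_Cert_tree lc_i_Cert_tree lc_i_rc_44_0 lc_i_rc_29_1 lc_i_rc_23_1 lc_i_Cert_tree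 lc_i_Cert_tree lc_i_Cert_tree lc_i_rc_44_0 lc_i_Cert_tree lc_i_rc_44_0) (@D3.rec (fun _ => (Cert rels S Gen.i)) lc_i_rc_43_3 lc_i_Cert_tree lc_i_Cert_tree lc_i_rc_44_0 lc_i_rc_44_0 lc_i_Cert_tree lc_i_Cert_tree lc_i_rc_44_0 lc_i_Cert_tree lc_i_rc_44_0 lc_i_rc_29_1 lc_i_rc_40_1 lc_i_rc_8_1 lc_i_Cert_tree lc_i_rc_23_1 lc_i_rc_40_1 lc_i_rc_43_3 lc_i_rc_34_1) (@D3.rec (fun _ => (Cert rels S Gen.i)) lc_i_Cert_tree lc_i_Cert_tree lc_i_rc_44_0 lc_i_rc_23_1 lc_i_rc_23_1 lc_i_Cert_tree lc_i_rc_44_0 lc_i_rc_16_1 lc_i_Cert_tree lc_i_Cert_tree lc_i_rc_44_0 lc_i_Cert_tree lc_i_Cert_tree lc_i_rc_44_0 lc_i_rc_44_0 lc_i_rc_16_1 lc_i_Cert_tree lc_i_rc_8_1) (@D3.rec (fun _ => (Cert rels S Gen.i)) lc_i_rc_8_1 lc_i_Cert_tree lc_i_Cert_tree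 lc_i_rc_44_0 lc_i_rc_8_1 lc_i_Cert_tree lc_i_Cert_tree lc_i_rc_44_0 lc_i_rc_29_1 lc_i_rc_23_1 lc_i_Cert_tree lc_i_Cert_tree lc_i_Cert_tree lc_i_rc_44_0 lc_i_Cert_tree lc_i_rc_44_0 lc_i_rc_40_1 lc_i_Cert_tree) (@D3.rec (fun _ => (Cert rels S Gen.i)) lc_i_Cert_tree lc_i_rc_44_0 lc_i_rc_44_0 lc_i_Cert_tree lc_i_Cert_tree lc_i_rc_44_0 lc_i_Cert_tree lc_i_rc_44_0 lc_i_rc_16_1 lc_i_rc_8_1 lc_i_Cert_tree lc_i_rc_44_0 lc_i_Cert_tree lc_i_rc_44_0 lc_i_rc_29_1 lc_i_rc_23_1 lc_i_Cert_tree lc_i_Cert_tree) (@D3.rec (fun _ => (Cert rels S Gen.i)) lc_i_Cert_tree lc_i_rc_44_0 lc_i_rc_44_0 lc_i_Cert_tree lc_i_Cert_tree lc_i_rc_44_0 lc_i_rc_44_0 lc_i_rc_44_0 lc_i_rc_44_0 lc_i_rc_23_3 lc_i_rc_16_1 lc_i_Cert_tree lc_i_Cert_tree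 lc_i_rc_44_0 lc_i_Cert_tree lc_i_Cert_tree lc_i_rc_44_0 lc_i_rc_44_0) (@D3.rec (fun _ => (Cert rels S Gen.i)) lc_i_Cert_tree lc_i_rc_29_1 lc_i_Cert_tree lc_i_Cert_tree lc_i_rc_44_0 lc_i_Cert_tree lc_i_rc_44_0 lc_i_Cert_tree lc_i_rc_44_0 lc_i_Cert_tree lc_i_rc_44_0 lc_i_rc_44_0 lc_i_Cert_tree lc_i_rc_44_0 lc_i_Cert_tree lc_i_rc_44_0 lc_i_rc_23_1 lc_i_Cert_tree) (@D3.rec (fun _ => (Cert rels S Gen.i)) lc_i_rc_44_0 lc_i_rc_23_1 lc_i_rc_23_1 lc_i_rc_43_1 lc_i_Cert_tree lc_i_Cert_tree lc_i_rc_44_0 lc_i_rc_44_0 lc_i_rc_44_0 lc_i_Cert_tree lc_i_rc_44_0 lc_i_Cert_tree lc_i_rc_44_0 lc_i_Cert_tree lc_i_Cert_tree lc_i_rc_44_0 lc_i_Cert_tree lc_i_rc_44_0) (@D3.rec (fun _ => (Cert rels S Gen.i)) lc_i_Cert_tree lc_i_rc_44_0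 lc_i_Cert_tree lc_i_rc_44_0 lc_i_Cert_tree lc_i_rc_44_0 lc_i_rc_44_0 lc_i_rc_34_3 lc_i_rc_23_1 lc_i_rc_29_1 lc_i_Cert_tree lc_i_rc_16_1 lc_i_rc_8_1 lc_i_Cert_tree lc_i_rc_44_0 lc_i_rc_29_1 lc_i_rc_8_1 lc_i_rc_23_1) (@D3.rec (fun _ => (Cert rels S Gen.i)) lc_i_rc_40_1 lc_i_rc_16_1 lc_i_rc_8_1 lc_i_Cert_tree lc_i_rc_36_5 lc_i_rc_36_5 lc_i_Cert_tree lc_i_rc_44_0 lc_i_Cert_tree lc_i_Cert_tree lc_i_rc_44_0 lc_i_Cert_tree lc_i_Cert_tree lc_i_rc_44_0 lc_i_Cert_tree lc_i_Cert_tree lc_i_rc_44_0 lc_i_rc_44_0) (@D3.rec (fun _ => (Cert rels S Gen.i)) lc_i_rc_23_1 lc_i_Cert_tree lc_i_Cert_tree lc_i_rc_44_0 lc_i_Cert_tree lc_i_rc_44_0 lc_i_Cert_tree lc_i_rc_44_0 lc_i_rc_8_3 lc_i_Cert_tree lc_i_rc_40_1 lc_i_rc_23_1 lc_i_Cert_tree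 lc_i_Cert_tree lc_i_rc_44_0 lc_i_rc_43_1 lc_i_Cert_tree lc_i_Cert_tree)
def ce_i_8 : D2 → D3 → (Cert rels S Gen.i) := @D2.rec (fun _ => D3 → (Cert rels S Gen.i)) (@D3.rec (fun _ => (Cert rels S Gen.i)) lc_i_rc_44_0 lc_i_rc_29_1 lc_i_rc_23_1 lc_i_Cert_tree lc_i_Cert_tree lc_i_Cert_tree lc_i_rc_44_0 lc_i_Cert_tree lc_i_rc_44_0 lc_i_rc_43_3 lc_i_Cert_tree lc_i_Cert_tree lc_i_rc_44_0 lc_i_rc_44_0 lc_i_Cert_tree lc_i_Cert_tree lc_i_rc_44_0 lc_i_Cert_tree) (@D3.rec (fun _ => (Cert rels S Gen.i)) lc_i_rc_44_0 lc_i_rc_16_1 lc_i_Cert_tree lc_i_rc_44_0 lc_i_Cert_tree lc_i_rc_44_0 lc_i_rc_16_1 lc_i_Cert_tree lc_i_rc_8_1 lc_i_Cert_tree lc_i_Cert_tree lc_i_rc_44_0 lc_i_Cert_tree lc_i_rc_44_0 lc_i_rc_29_1 lc_i_Cert_tree lc_i_Cert_tree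 lc_i_rc_44_0) (@D3.rec (fun _ => (Cert rels S Gen.i)) lc_i_Cert_tree lc_i_rc_44_0 lc_i_rc_44_0 lc_i_rc_16_1 lc_i_rc_34_3 lc_i_Cert_tree lc_i_rc_44_0 lc_i_rc_29_1 lc_i_rc_23_1 lc_i_Cert_tree lc_i_Cert_tree lc_i_Cert_tree lc_i_rc_44_0 lc_i_rc_44_0 lc_i_Cert_tree lc_i_Cert_tree lc_i_rc_44_0 lc_i_rc_44_0) (@D3.rec (fun _ => (Cert rels S Gen.i)) lc_i_rc_23_1 lc_i_Cert_tree lc_i_rc_23_1 lc_i_Cert_tree lc_i_Cert_tree lc_i_rc_44_0 lc_i_Cert_tree lc_i_rc_44_0 lc_i_Cert_tree lc_i_rc_44_0 lc_i_Cert_tree lc_i_rc_44_0 lc_i_rc_36_3 lc_i_Cert_tree lc_i_Cert_tree lc_i_rc_44_0 lc_i_Cert_tree lc_i_rc_44_0) (@D3.rec (fun _ => (Cert rels S Gen.i)) lc_i_rc_44_0 lc_i_Cert_tree lc_i_rc_44_0 lc_i_Cert_tree lc_i_rc_44_0 lc_i_Cert_tree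 lc_i_rc_44_0 lc_i_rc_23_1 lc_i_rc_40_1 lc_i_rc_43_3 lc_i_Cert_tree lc_i_Cert_tree lc_i_rc_44_0 lc_i_rc_44_0 lc_i_rc_29_1 lc_i_rc_23_1 lc_i_Cert_tree lc_i_Cert_tree) (@D3.rec (fun _ => (Cert rels S Gen.i)) lc_i_rc_44_0 lc_i_Cert_tree lc_i_Cert_tree lc_i_rc_44_0 lc_i_rc_44_0 lc_i_Cert_tree lc_i_rc_44_0 lc_i_Cert_tree lc_i_rc_44_0 lc_i_rc_34_1 lc_i_Cert_tree lc_i_rc_44_0 lc_i_rc_29_1 lc_i_rc_23_1 lc_i_Cert_tree lc_i_Cert_tree lc_i_Cert_tree lc_i_rc_44_0) (@D3.rec (fun _ => (Cert rels S Gen.i)) lc_i_rc_44_0 lc_i_rc_40_1 lc_i_Cert_tree lc_i_Cert_tree lc_i_rc_44_0 lc_i_rc_44_0 lc_i_rc_16_1 lc_i_Cert_tree lc_i_rc_40_1 lc_i_Cert_tree lc_i_Cert_tree lc_i_rc_44_0 lc_i_Cert_tree lc_i_rc_44_0 lc_i_Cert_tree lc_i_rc_44_0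 lc_i_Cert_tree lc_i_rc_44_0) (@D3.rec (fun _ => (Cert rels S Gen.i)) lc_i_Cert_tree lc_i_Cert_tree lc_i_rc_44_0 lc_i_Cert_tree lc_i_rc_44_0 lc_i_rc_44_0 lc_i_rc_44_0 lc_i_Cert_tree lc_i_rc_44_0 lc_i_rc_36_3 lc_i_Cert_tree lc_i_rc_44_0 lc_i_rc_44_0 lc_i_Cert_tree lc_i_Cert_tree lc_i_Cert_tree lc_i_rc_44_0 lc_i_Cert_tree) (@D3.rec (fun _ => (Cert rels S Gen.i)) lc_i_rc_44_0 lc_i_Cert_tree lc_i_rc_44_0 lc_i_rc_44_0 lc_i_Cert_tree lc_i_rc_44_0 lc_i_Cert_tree lc_i_rc_44_0 lc_i_rc_44_0 lc_i_rc_44_0 lc_i_Cert_tree lc_i_rc_44_0 lc_i_Cert_tree lc_i_rc_44_0 lc_i_Cert_tree lc_i_rc_44_0 lc_i_Cert_tree lc_i_Cert_tree) (@D3.rec (fun _ => (Cert rels S Gen.i)) lc_i_rc_44_0 lc_i_Cert_tree lc_i_rc_44_0 lc_i_Cert_tree lc_i_rc_44_0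 lc_i_Cert_tree lc_i_rc_44_0 lc_i_Cert_tree lc_i_rc_44_0 lc_i_Cert_tree lc_i_rc_44_0 lc_i_rc_29_1 lc_i_Cert_tree lc_i_rc_44_0 lc_i_rc_29_1 lc_i_rc_23_1 lc_i_Cert_tree lc_i_rc_44_0) (@D3.rec (fun _ => (Cert rels S Gen.i)) lc_i_Cert_tree lc_i_rc_44_0 lc_i_Cert_tree lc_i_rc_44_0 lc_i_Cert_tree lc_i_rc_44_0 lc_i_Cert_tree lc_i_Cert_tree lc_i_rc_44_0 lc_i_Cert_tree lc_i_rc_44_0 lc_i_rc_36_3 lc_i_Cert_tree lc_i_rc_44_0 lc_i_rc_44_0 lc_i_rc_44_0 lc_i_rc_44_0 lc_i_rc_34_3) (@D3.rec (fun _ => (Cert rels S Gen.i)) lc_i_rc_44_0 lc_i_rc_40_1 lc_i_Cert_tree lc_i_rc_44_0 lc_i_rc_34_3 lc_i_rc_40_1 lc_i_Cert_tree lc_i_Cert_tree lc_i_Cert_tree lc_i_rc_44_0 lc_i_Cert_tree lc_i_Cert_tree lc_i_rc_44_0 lc_i_Cert_tree lc_i_rc_44_0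 lc_i_Cert_tree lc_i_rc_44_0 lc_i_Cert_tree) (@D3.rec (fun _ => (Cert rels S Gen.i)) lc_i_rc_44_0 lc_i_rc_44_0 lc_i_Cert_tree lc_i_rc_44_0 lc_i_Cert_tree lc_i_rc_44_0 lc_i_rc_29_1 lc_i_Cert_tree lc_i_Cert_tree lc_i_rc_44_0 lc_i_rc_44_0 lc_i_Cert_tree lc_i_rc_44_0 lc_i_rc_44_0 lc_i_rc_40_1 lc_i_rc_34_3 lc_i_Cert_tree lc_i_Cert_tree) (@D3.rec (fun _ => (Cert rels S Gen.i)) lc_i_rc_44_0 lc_i_rc_29_1 lc_i_rc_23_1 lc_i_Cert_tree lc_i_Cert_tree lc_i_Cert_tree lc_i_rc_44_0 lc_i_Cert_tree lc_i_rc_44_0 lc_i_rc_43_1 lc_i_Cert_tree lc_i_Cert_tree lc_i_rc_44_0 lc_i_rc_44_0 lc_i_rc_29_1 lc_i_Cert_tree lc_i_rc_23_1 lc_i_Cert_tree) (@D3.rec (fun _ => (Cert rels S Gen.i)) lc_i_Cert_tree lc_i_rc_44_0 lc_i_Cert_tree lc_i_rc_44_0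 lc_i_Cert_tree lc_i_rc_44_0 lc_i_Cert_tree lc_i_rc_44_0 lc_i_rc_36_3 lc_i_Cert_tree lc_i_Cert_tree lc_i_rc_44_0 lc_i_Cert_tree lc_i_rc_44_0 lc_i_Cert_tree lc_i_rc_44_0 lc_i_Cert_tree lc_i_rc_44_0)
def ce_i_9 : D2 → D3 → (Cert rels S Gen.i) := @D2.rec (fun _ => D3 → (Cert rels S Gen.i)) (@D3.rec (fun _ => (Cert rels S Gen.i)) lc_i_Cert_tree lc_i_rc_44_0 lc_i_rc_36_3 lc_i_Cert_tree lc_i_Cert_tree lc_i_rc_44_0 lc_i_Cert_tree lc_i_rc_44_0 lc_i_rc_16_1 lc_i_Cert_tree lc_i_rc_44_0 lc_i_Cert_tree lc_i_Cert_tree lc_i_rc_44_0 lc_i_rc_44_0 lc_i_rc_44_0 lc_i_Cert_tree lc_i_Cert_tree) (@D3.rec (fun _ => (Cert rels S Gen.i)) lc_i_rc_44_0 lc_i_Cert_tree lc_i_rc_44_0 lc_i_Cert_tree lc_i_rc_44_0 lc_i_rc_36_3 lc_i_rc_40_1 lc_i_rc_29_1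 lc_i_Cert_tree lc_i_Cert_tree lc_i_rc_44_0 lc_i_Cert_tree lc_i_Cert_tree lc_i_Cert_tree lc_i_rc_44_0 lc_i_Cert_tree lc_i_rc_44_0 lc_i_Cert_tree) (@D3.rec (fun _ => (Cert rels S Gen.i)) lc_i_rc_44_0 lc_i_rc_8_1 lc_i_rc_44_0 lc_i_Cert_tree lc_i_rc_44_0 lc_i_Cert_tree lc_i_rc_44_0 lc_i_Cert_tree lc_i_Cert_tree lc_i_rc_44_0 lc_i_Cert_tree lc_i_Cert_tree lc_i_rc_44_0 lc_i_Cert_tree lc_i_rc_44_0 lc_i_Cert_tree lc_i_rc_44_0 lc_i_rc_36_3) (@D3.rec (fun _ => (Cert rels S Gen.i)) lc_i_Cert_tree lc_i_rc_44_0 lc_i_rc_36_3 lc_i_rc_44_0 lc_i_rc_44_0 lc_i_Cert_tree lc_i_rc_44_0 lc_i_Cert_tree lc_i_rc_44_0 lc_i_Cert_tree lc_i_rc_44_0 lc_i_rc_44_0 lc_i_rc_23_1 lc_i_Cert_tree lc_i_rc_44_0 lc_i_Cert_tree lc_i_rc_44_0 lc_i_Cert_tree)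 (@D3.rec (fun _ => (Cert rels S Gen.i)) lc_i_Cert_tree lc_i_Cert_tree lc_i_rc_44_0 lc_i_rc_44_0 lc_i_Cert_tree lc_i_rc_44_0 lc_i_Cert_tree lc_i_rc_44_0 lc_i_rc_44_0 lc_i_Cert_tree lc_i_rc_44_0 lc_i_rc_36_3 lc_i_Cert_tree lc_i_rc_44_0 lc_i_Cert_tree lc_i_rc_40_1 lc_i_Cert_tree lc_i_Cert_tree) (@D3.rec (fun _ => (Cert rels S Gen.i)) lc_i_rc_44_0 lc_i_rc_44_0 lc_i_Cert_tree lc_i_rc_44_0 lc_i_Cert_tree lc_i_Cert_tree lc_i_rc_44_0 lc_i_Cert_tree lc_i_rc_44_0 lc_i_Cert_tree lc_i_rc_44_0 lc_i_Cert_tree lc_i_Cert_tree lc_i_rc_44_0 lc_i_Cert_tree lc_i_Cert_tree lc_i_rc_44_0 lc_i_rc_44_0) (@D3.rec (fun _ => (Cert rels S Gen.i)) lc_i_Cert_tree lc_i_rc_44_0 lc_i_Cert_tree lc_i_rc_44_0 lc_i_rc_44_0 lc_i_Cert_tree lc_i_rc_44_0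 lc_i_Cert_tree lc_i_rc_44_0 lc_i_rc_16_1 lc_i_rc_36_3 lc_i_Cert_tree lc_i_rc_44_0 lc_i_rc_23_1 lc_i_Cert_tree lc_i_rc_44_0 lc_i_Cert_tree lc_i_rc_44_0) (@D3.rec (fun _ => (Cert rels S Gen.i)) lc_i_Cert_tree lc_i_rc_44_0 lc_i_Cert_tree lc_i_Cert_tree lc_i_rc_44_0 lc_i_rc_44_0 lc_i_rc_44_0 lc_i_rc_44_0 lc_i_Cert_tree lc_i_rc_44_0 lc_i_Cert_tree lc_i_rc_44_0 lc_i_Cert_tree lc_i_Cert_tree lc_i_rc_44_0 lc_i_Cert_tree lc_i_rc_44_0 lc_i_Cert_tree) (@D3.rec (fun _ => (Cert rels S Gen.i)) lc_i_Cert_tree lc_i_rc_44_0 lc_i_Cert_tree lc_i_rc_44_0 lc_i_rc_36_3 lc_i_Cert_tree lc_i_rc_44_0 lc_i_Cert_tree lc_i_rc_44_0 lc_i_rc_44_0 lc_i_rc_44_0 lc_i_rc_44_0 lc_i_rc_29_1 lc_i_Cert_tree lc_i_rc_44_0 lc_i_rc_29_1 lc_i_rc_44_0 lc_i_Cert_tree)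 (@D3.rec (fun _ => (Cert rels S Gen.i)) lc_i_rc_44_0 lc_i_rc_8_1 lc_i_rc_44_0 lc_i_Cert_tree lc_i_rc_44_0 lc_i_rc_36_3 lc_i_Cert_tree lc_i_rc_44_0 lc_i_Cert_tree lc_i_rc_44_0 lc_i_rc_36_3 lc_i_rc_44_0 lc_i_rc_36_3 lc_i_rc_44_0 lc_i_Cert_tree lc_i_rc_44_0 lc_i_Cert_tree lc_i_rc_44_0) (@D3.rec (fun _ => (Cert rels S Gen.i)) lc_i_Cert_tree lc_i_rc_44_0 lc_i_Cert_tree lc_i_rc_44_0 lc_i_Cert_tree lc_i_rc_44_0 lc_i_rc_44_0 lc_i_Cert_tree lc_i_rc_44_0 lc_i_Cert_tree lc_i_rc_44_0 lc_i_rc_36_3 lc_i_Cert_tree lc_i_rc_44_0 lc_i_Cert_tree lc_i_rc_44_0 lc_i_Cert_tree lc_i_rc_44_0) (@D3.rec (fun _ => (Cert rels S Gen.i)) lc_i_rc_36_3 lc_i_Cert_tree lc_i_Cert_tree lc_i_rc_44_0 lc_i_Cert_tree lc_i_rc_44_0 lc_i_rc_36_3 lc_i_Cert_tree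 lc_i_rc_44_0 lc_i_rc_36_3 lc_i_rc_29_3 lc_i_Cert_tree lc_i_Cert_tree lc_i_Cert_tree lc_i_rc_44_0 lc_i_Cert_tree lc_i_rc_44_0 lc_i_rc_29_1) (@D3.rec (fun _ => (Cert rels S Gen.i)) lc_i_Cert_tree lc_i_rc_23_1 lc_i_Cert_tree lc_i_Cert_tree lc_i_rc_44_0 lc_i_rc_44_0 lc_i_Cert_tree lc_i_rc_44_0 lc_i_Cert_tree lc_i_rc_44_0 lc_i_rc_8_1 lc_i_Cert_tree lc_i_rc_44_0 lc_i_Cert_tree lc_i_rc_44_0 lc_i_Cert_tree lc_i_Cert_tree lc_i_rc_44_0) (@D3.rec (fun _ => (Cert rels S Gen.i)) lc_i_Cert_tree lc_i_Cert_tree lc_i_rc_44_0 lc_i_Cert_tree lc_i_Cert_tree lc_i_rc_44_0 lc_i_rc_44_0 lc_i_Cert_tree lc_i_rc_44_0 lc_i_rc_36_3 lc_i_Cert_tree lc_i_rc_44_0 lc_i_rc_36_3 lc_i_Cert_tree lc_i_rc_44_0 lc_i_rc_44_0 lc_i_Cert_tree lc_i_rc_44_0)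 (@D3.rec (fun _ => (Cert rels S Gen.i)) lc_i_rc_16_1 lc_i_Cert_tree lc_i_rc_44_0 lc_i_Cert_tree lc_i_rc_44_0 lc_i_rc_36_3 lc_i_Cert_tree lc_i_rc_44_0 lc_i_rc_23_1 lc_i_Cert_tree lc_i_rc_44_0 lc_i_rc_44_0 lc_i_Cert_tree lc_i_rc_44_0 lc_i_rc_36_3 lc_i_Cert_tree lc_i_rc_44_0 lc_i_Cert_tree)
def ce_i_10 : D2 → D3 → (Cert rels S Gen.i) := @D2.rec (fun _ => D3 → (Cert rels S Gen.i)) (@D3.rec (fun _ => (Cert rels S Gen.i)) lc_i_rc_44_0 lc_i_Cert_tree lc_i_rc_44_0 lc_i_rc_8_1 lc_i_Cert_tree lc_i_rc_44_0 lc_i_Cert_tree lc_i_rc_44_0 lc_i_Cert_tree lc_i_rc_44_0 lc_i_rc_36_3 lc_i_Cert_tree lc_i_rc_44_0 lc_i_rc_36_3 lc_i_Cert_tree lc_i_Cert_tree lc_i_Cert_tree lc_i_rc_44_0) (@D3.rec (fun _ => (Cert rels S Gen.i)) lc_i_rc_44_0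 lc_i_Cert_tree lc_i_rc_44_0 lc_i_Cert_tree lc_i_rc_44_0 lc_i_Cert_tree lc_i_Cert_tree lc_i_rc_44_0 lc_i_Cert_tree lc_i_rc_44_0 lc_i_rc_44_0 lc_i_rc_8_1 lc_i_rc_44_0 lc_i_Cert_tree lc_i_rc_44_0 lc_i_Cert_tree lc_i_rc_44_0 lc_i_Cert_tree) (@D3.rec (fun _ => (Cert rels S Gen.i)) lc_i_rc_44_0 lc_i_Cert_tree lc_i_Cert_tree lc_i_rc_44_0 lc_i_Cert_tree lc_i_rc_44_0 lc_i_rc_36_3 lc_i_Cert_tree lc_i_rc_44_0 lc_i_rc_36_3 lc_i_Cert_tree lc_i_rc_44_0 lc_i_rc_36_3 lc_i_rc_44_0 lc_i_rc_40_1 lc_i_Cert_tree lc_i_rc_44_0 lc_i_rc_44_0) (@D3.rec (fun _ => (Cert rels S Gen.i)) lc_i_rc_44_0 lc_i_rc_44_0 lc_i_Cert_tree lc_i_rc_44_0 lc_i_rc_36_3 lc_i_Cert_tree lc_i_rc_44_0 lc_i_Cert_tree lc_i_rc_44_0 lc_i_Cert_tree lc_i_rc_44_0 lc_i_rc_44_0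 lc_i_Cert_tree lc_i_rc_44_0 lc_i_rc_16_1 lc_i_rc_36_3 lc_i_Cert_tree lc_i_rc_44_0) (@D3.rec (fun _ => (Cert rels S Gen.i)) lc_i_rc_23_1 lc_i_Cert_tree lc_i_rc_44_0 lc_i_Cert_tree lc_i_rc_44_0 lc_i_Cert_tree lc_i_Cert_tree lc_i_rc_44_0 lc_i_Cert_tree lc_i_Cert_tree lc_i_rc_44_0 lc_i_rc_44_0 lc_i_rc_44_0 lc_i_Cert_tree lc_i_rc_44_0 lc_i_rc_44_0 lc_i_rc_8_1 lc_i_Cert_tree) (@D3.rec (fun _ => (Cert rels S Gen.i)) lc_i_rc_44_0 lc_i_Cert_tree lc_i_rc_44_0 lc_i_Cert_tree lc_i_rc_44_0 lc_i_Cert_tree lc_i_Cert_tree lc_i_rc_44_0 lc_i_Cert_tree lc_i_rc_44_0 lc_i_rc_36_3 lc_i_Cert_tree lc_i_rc_44_0 lc_i_rc_44_0 lc_i_rc_44_0 lc_i_rc_16_1 lc_i_Cert_tree lc_i_rc_44_0) (@D3.rec (fun _ => (Cert rels S Gen.i)) lc_i_rc_23_1 lc_i_rc_44_0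 lc_i_rc_16_1 lc_i_rc_44_0 lc_i_rc_44_0 lc_i_rc_44_0 lc_i_Cert_tree lc_i_rc_44_0 lc_i_rc_44_0 lc_i_rc_36_3 lc_i_Cert_tree lc_i_rc_44_0 lc_i_rc_36_3 lc_i_rc_44_0 lc_i_Cert_tree lc_i_Cert_tree lc_i_rc_44_0 lc_i_Cert_tree) (@D3.rec (fun _ => (Cert rels S Gen.i)) lc_i_rc_44_0 lc_i_rc_36_3 lc_i_Cert_tree lc_i_rc_44_0 lc_i_rc_36_3 lc_i_Cert_tree lc_i_Cert_tree lc_i_rc_44_0 lc_i_Cert_tree lc_i_rc_44_0 lc_i_rc_23_1 lc_i_rc_44_0 lc_i_rc_36_3 lc_i_rc_44_0 lc_i_rc_44_0 lc_i_Cert_tree lc_i_rc_44_0 lc_i_rc_8_1) (@D3.rec (fun _ => (Cert rels S Gen.i)) lc_i_rc_44_0 lc_i_rc_8_1 lc_i_rc_44_0 lc_i_rc_36_3 lc_i_Cert_tree lc_i_rc_44_0 lc_i_rc_16_1 lc_i_rc_44_0 lc_i_rc_36_3 lc_i_rc_40_1 lc_i_rc_44_0 lc_i_Cert_tree lc_i_Cert_tree lc_i_rc_44_0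 lc_i_rc_44_0 lc_i_Cert_tree lc_i_rc_44_0 lc_i_rc_8_1) (@D3.rec (fun _ => (Cert rels S Gen.i)) lc_i_rc_44_0 lc_i_Cert_tree lc_i_rc_44_0 lc_i_rc_36_3 lc_i_Cert_tree lc_i_rc_44_0 lc_i_rc_36_3 lc_i_Cert_tree lc_i_rc_44_0 lc_i_rc_16_1 lc_i_Cert_tree lc_i_rc_44_0 lc_i_rc_36_3 lc_i_Cert_tree lc_i_rc_44_0 lc_i_rc_23_1 lc_i_Cert_tree lc_i_rc_44_0) (@D3.rec (fun _ => (Cert rels S Gen.i)) lc_i_Cert_tree lc_i_Cert_tree lc_i_rc_44_0 lc_i_rc_44_0 lc_i_rc_36_3 lc_i_rc_44_0 lc_i_rc_16_1 lc_i_Cert_tree lc_i_Cert_tree lc_i_rc_44_0 lc_i_rc_44_0 lc_i_Cert_tree lc_i_rc_44_0 lc_i_rc_44_0 lc_i_rc_16_1 lc_i_Cert_tree lc_i_Cert_tree lc_i_rc_44_0) (@D3.rec (fun _ => (Cert rels S Gen.i)) lc_i_Cert_tree lc_i_Cert_tree lc_i_rc_44_0 lc_i_Cert_tree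 lc_i_Cert_tree lc_i_rc_44_0 lc_i_Cert_tree lc_i_rc_44_0 lc_i_rc_8_1 lc_i_rc_44_0 lc_i_rc_8_1 lc_i_rc_44_0 lc_i_rc_44_0 lc_i_rc_8_1 lc_i_Cert_tree lc_i_rc_44_0 lc_i_Cert_tree lc_i_Cert_tree) (@D3.rec (fun _ => (Cert rels S Gen.i)) lc_i_rc_44_0 lc_i_Cert_tree lc_i_rc_44_0 lc_i_rc_44_0 lc_i_Cert_tree lc_i_rc_44_0 lc_i_Cert_tree lc_i_rc_44_0 lc_i_rc_36_3 lc_i_rc_36_3 lc_i_Cert_tree lc_i_rc_44_0 lc_i_rc_36_3 lc_i_rc_44_0 lc_i_rc_40_1 lc_i_rc_44_0 lc_i_rc_16_1 lc_i_Cert_tree) (@D3.rec (fun _ => (Cert rels S Gen.i)) lc_i_rc_44_0 lc_i_rc_23_1 lc_i_rc_44_0 lc_i_rc_40_1 lc_i_rc_44_0 lc_i_rc_23_1 lc_i_rc_44_0 lc_i_rc_16_1 lc_i_rc_44_0 lc_i_rc_8_1 lc_i_rc_44_0 lc_i_rc_36_3 lc_i_Cert_tree lc_i_rc_44_0 lc_i_Cert_tree lc_i_rc_44_0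 lc_i_rc_44_0 lc_i_rc_8_1) (@D3.rec (fun _ => (Cert rels S Gen.i)) lc_i_Cert_tree lc_i_rc_44_0 lc_i_Cert_tree lc_i_rc_44_0 lc_i_rc_36_3 lc_i_rc_44_0 lc_i_rc_36_3 lc_i_rc_44_0 lc_i_rc_40_1 lc_i_Cert_tree lc_i_rc_44_0 lc_i_Cert_tree lc_i_rc_44_0 lc_i_Cert_tree lc_i_rc_44_0 lc_i_Cert_tree lc_i_rc_44_0 lc_i_Cert_tree)
def ce_i_11 : D2 → D3 → (Cert rels S Gen.i) := @D2.rec (fun _ => D3 → (Cert rels S Gen.i)) (@D3.rec (fun _ => (Cert rels S Gen.i)) lc_i_rc_44_0 lc_i_Cert_tree lc_i_rc_44_0 lc_i_rc_44_0 lc_i_rc_36_3 lc_i_Cert_tree lc_i_rc_44_0 lc_i_rc_8_1 lc_i_rc_8_1 lc_i_Cert_tree lc_i_rc_44_0 lc_i_rc_36_3 lc_i_Cert_tree lc_i_rc_44_0 lc_i_Cert_tree lc_i_rc_44_0 lc_i_rc_23_1 lc_i_Cert_tree) (@D3.rec (fun _ => (Cert rels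 S Gen.i)) lc_i_Cert_tree lc_i_rc_44_0 lc_i_Cert_tree lc_i_rc_44_0 lc_i_rc_36_3 lc_i_Cert_tree lc_i_rc_44_0 lc_i_rc_36_3 lc_i_Cert_tree lc_i_rc_44_0 lc_i_rc_36_3 lc_i_rc_44_0 lc_i_rc_40_1 lc_i_rc_29_1 lc_i_rc_43_1 lc_i_rc_44_0 lc_i_rc_36_3 lc_i_rc_44_0) (@D3.rec (fun _ => (Cert rels S Gen.i)) lc_i_rc_23_1 lc_i_rc_44_0 lc_i_rc_44_0 lc_i_Cert_tree lc_i_rc_44_0 lc_i_rc_36_3 lc_i_rc_16_1 lc_i_rc_44_0 lc_i_rc_23_1 lc_i_rc_44_0 lc_i_rc_16_1 lc_i_rc_44_0 lc_i_Cert_tree lc_i_rc_44_0 lc_i_Cert_tree lc_i_rc_44_0 lc_i_Cert_tree lc_i_rc_44_0) (@D3.rec (fun _ => (Cert rels S Gen.i)) lc_i_Cert_tree lc_i_rc_44_0 lc_i_rc_44_0 lc_i_rc_36_3 lc_i_rc_44_0 lc_i_rc_8_1 lc_i_rc_8_1 lc_i_Cert_tree lc_i_rc_44_0 lc_i_rc_36_3 lc_i_Cert_tree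 lc_i_rc_44_0 lc_i_rc_44_0 lc_i_rc_8_3 lc_i_Cert_tree lc_i_Cert_tree lc_i_rc_44_0 lc_i_Cert_tree) (@D3.rec (fun _ => (Cert rels S Gen.i)) lc_i_rc_44_0 lc_i_rc_23_1 lc_i_Cert_tree lc_i_rc_44_0 lc_i_rc_36_3 lc_i_rc_44_0 lc_i_rc_23_1 lc_i_rc_44_0 lc_i_rc_16_1 lc_i_rc_29_1 lc_i_rc_8_1 lc_i_rc_36_3 lc_i_rc_36_3 lc_i_rc_36_3 lc_i_rc_44_0 lc_i_rc_36_3 lc_i_rc_36_3 lc_i_rc_44_0) (@D3.rec (fun _ => (Cert rels S Gen.i)) lc_i_rc_23_1 lc_i_Cert_tree lc_i_Cert_tree lc_i_rc_44_0 lc_i_Cert_tree lc_i_rc_44_0 lc_i_rc_23_1 lc_i_rc_44_0 lc_i_rc_36_3 lc_i_rc_44_0 lc_i_rc_36_3 lc_i_rc_44_0 lc_i_Cert_tree lc_i_rc_44_0 lc_i_rc_16_1 lc_i_rc_44_0 lc_i_rc_23_1 lc_i_rc_36_3) (@D3.rec (fun _ => (Cert rels S Gen.i)) lc_i_rc_44_0 lc_i_rc_16_1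 lc_i_rc_40_1 lc_i_rc_44_0 lc_i_rc_16_1 lc_i_rc_40_1 lc_i_rc_29_1 lc_i_rc_44_0 lc_i_rc_44_0 lc_i_rc_16_1 lc_i_rc_8_1 lc_i_rc_44_0 lc_i_rc_8_1 lc_i_rc_8_1 lc_i_rc_44_0 lc_i_rc_36_3 lc_i_rc_44_0 lc_i_rc_40_1) (@D3.rec (fun _ => (Cert rels S Gen.i)) lc_i_rc_29_1 lc_i_rc_44_0 lc_i_rc_23_1 lc_i_rc_44_0 lc_i_rc_23_1 lc_i_rc_44_0 lc_i_rc_16_1 lc_i_rc_29_1 lc_i_Cert_tree lc_i_Cert_tree lc_i_rc_44_0 lc_i_Cert_tree lc_i_rc_44_0 lc_i_rc_44_0 lc_i_rc_36_3 lc_i_rc_36_3 lc_i_rc_23_1 lc_i_Cert_tree) (@D3.rec (fun _ => (Cert rels S Gen.i)) lc_i_rc_44_0 lc_i_Cert_tree lc_i_Cert_tree lc_i_rc_44_0 lc_i_rc_44_0 lc_i_rc_16_1 lc_i_rc_23_1 lc_i_Cert_tree lc_i_rc_44_0 lc_i_Cert_tree lc_i_Cert_tree lc_i_rc_44_0 lc_i_Cert_tree lc_i_rc_44_0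 lc_i_rc_44_0 lc_i_rc_44_0 lc_i_Cert_tree lc_i_rc_44_0) (@D3.rec (fun _ => (Cert rels S Gen.i)) lc_i_rc_36_3 lc_i_rc_44_0 lc_i_rc_8_1 lc_i_rc_8_1 lc_i_rc_8_1 lc_i_rc_44_0 lc_i_Cert_tree lc_i_rc_44_0 lc_i_Cert_tree lc_i_rc_44_0 lc_i_rc_36_3 lc_i_Cert_tree lc_i_rc_44_0 lc_i_rc_36_3 lc_i_Cert_tree lc_i_rc_44_0 lc_i_rc_23_1 lc_i_Cert_tree) (@D3.rec (fun _ => (Cert rels S Gen.i)) lc_i_rc_44_0 lc_i_rc_36_3 lc_i_rc_44_0 lc_i_rc_40_1 lc_i_rc_29_1 lc_i_rc_43_1 lc_i_rc_16_1 lc_i_rc_44_0 lc_i_rc_16_1 lc_i_rc_29_1 lc_i_rc_34_1 lc_i_rc_16_1 lc_i_rc_8_1 lc_i_rc_16_1 lc_i_rc_40_1 lc_i_rc_29_1 lc_i_rc_44_0 lc_i_rc_44_0) (@D3.rec (fun _ => (Cert rels S Gen.i)) lc_i_rc_36_3 lc_i_rc_8_1 lc_i_rc_44_0 lc_i_rc_36_3 lc_i_rc_44_0 lc_i_rc_36_3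 lc_i_rc_40_1 lc_i_rc_29_1 lc_i_rc_43_1 lc_i_rc_44_0 lc_i_rc_44_0 lc_i_rc_44_0 lc_i_rc_36_3 lc_i_rc_44_0 lc_i_rc_36_3 lc_i_Cert_tree lc_i_rc_44_0 lc_i_rc_36_3) (@D3.rec (fun _ => (Cert rels S Gen.i)) lc_i_rc_44_0 lc_i_rc_23_1 lc_i_rc_36_3 lc_i_rc_44_0 lc_i_rc_8_1 lc_i_rc_29_1 lc_i_Cert_tree lc_i_rc_44_0 lc_i_rc_36_3 lc_i_rc_44_0 lc_i_rc_23_1 lc_i_Cert_tree lc_i_rc_44_0 lc_i_rc_34_1 lc_i_rc_44_0 lc_i_Cert_tree lc_i_rc_44_0 lc_i_rc_36_3) (@D3.rec (fun _ => (Cert rels S Gen.i)) lc_i_Cert_tree lc_i_rc_44_0 lc_i_rc_36_3 lc_i_rc_44_0 lc_i_rc_36_3 lc_i_rc_29_1 lc_i_rc_44_0 lc_i_rc_40_1 lc_i_rc_29_1 lc_i_rc_43_1 lc_i_rc_29_1 lc_i_rc_23_1 lc_i_rc_16_1 lc_i_rc_29_1 lc_i_rc_36_3 lc_i_rc_36_3 lc_i_rc_44_0 lc_i_rc_23_1) (@D3.rec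 (fun _ => (Cert rels S Gen.i)) lc_i_rc_16_1 lc_i_rc_29_1 lc_i_rc_8_1 lc_i_rc_36_3 lc_i_rc_44_0 lc_i_rc_36_3 lc_i_rc_44_0 lc_i_rc_44_0 lc_i_rc_36_3 lc_i_rc_44_0 lc_i_rc_23_1 lc_i_rc_8_1 lc_i_rc_8_1 lc_i_rc_8_1 lc_i_rc_44_0 lc_i_rc_23_1 lc_i_rc_44_0 lc_i_rc_8_3)
def ce_i_12 : D2 → D3 → (Cert rels S Gen.i) := @D2.rec (fun _ => D3 → (Cert rels S Gen.i)) (@D3.rec (fun _ => (Cert rels S Gen.i)) lc_i_rc_23_1 lc_i_rc_44_0 lc_i_rc_44_0 lc_i_rc_16_1 lc_i_rc_44_0 lc_i_rc_23_1 lc_i_rc_29_1 lc_i_rc_44_0 lc_i_rc_40_1 lc_i_rc_29_1 lc_i_rc_8_1 lc_i_rc_16_1 lc_i_rc_34_1 lc_i_rc_36_3 lc_i_rc_34_3 lc_i_rc_44_0 lc_i_rc_44_0 lc_i_rc_16_1) (@D3.rec (fun _ => (Cert rels S Gen.i)) lc_i_rc_44_0 lc_i_rc_23_1 lc_i_rc_36_3 lc_i_rc_40_1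 lc_i_rc_8_1 lc_i_rc_44_0 lc_i_rc_16_1 lc_i_rc_36_3 lc_i_rc_29_1 lc_i_rc_16_1 lc_i_rc_29_1 lc_i_rc_29_1 lc_i_rc_23_1 lc_i_rc_16_1 lc_i_rc_8_1 lc_i_rc_29_1 lc_i_rc_40_1 lc_i_rc_43_1) (@D3.rec (fun _ => (Cert rels S Gen.i)) lc_i_rc_29_1 lc_i_rc_23_1 lc_i_rc_16_1 lc_i_rc_16_1 lc_i_rc_29_1 lc_i_rc_8_1 lc_i_rc_16_1 lc_i_rc_34_1 lc_i_rc_44_0 lc_i_rc_44_0 lc_i_rc_36_3 lc_i_rc_44_0 lc_i_rc_23_1 lc_i_rc_36_3 lc_i_rc_29_1 lc_i_rc_29_1 lc_i_rc_44_0 lc_i_rc_44_0) (@D3.rec (fun _ => (Cert rels S Gen.i)) lc_i_rc_44_0 lc_i_rc_40_1 lc_i_rc_16_1 lc_i_rc_44_0 lc_i_rc_44_0 lc_i_rc_44_0 lc_i_rc_36_3 lc_i_rc_44_0 lc_i_rc_36_3 lc_i_rc_23_1 lc_i_rc_44_0 lc_i_rc_36_3 lc_i_rc_8_1 lc_i_rc_29_1 lc_i_rc_8_1 lc_i_rc_36_3 lc_i_rc_44_0 lc_i_rc_23_1)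 (@D3.rec (fun _ => (Cert rels S Gen.i)) lc_i_rc_44_0 lc_i_rc_36_3 lc_i_rc_44_0 lc_i_rc_34_3 lc_i_rc_44_0 lc_i_rc_16_1 lc_i_rc_29_1 lc_i_rc_44_0 lc_i_rc_36_3 lc_i_rc_29_1 lc_i_rc_43_1 lc_i_rc_29_1 lc_i_rc_23_1 lc_i_rc_8_1 lc_i_rc_16_1 lc_i_rc_34_1 lc_i_rc_29_1 lc_i_rc_8_3) (@D3.rec (fun _ => (Cert rels S Gen.i)) lc_i_rc_36_3 lc_i_rc_29_1 lc_i_rc_36_3 lc_i_rc_36_3 lc_i_rc_29_1 lc_i_rc_29_1 lc_i_rc_23_1 lc_i_rc_36_3 lc_i_rc_36_3 lc_i_rc_36_3 lc_i_rc_36_3 lc_i_rc_44_0 lc_i_rc_36_3 lc_i_rc_34_1 lc_i_rc_29_1 lc_i_rc_8_1 lc_i_rc_29_1 lc_i_rc_23_1) (@D3.rec (fun _ => (Cert rels S Gen.i)) lc_i_rc_44_0 lc_i_rc_36_3 lc_i_rc_29_1 lc_i_rc_23_1 lc_i_rc_44_0 lc_i_rc_34_1 lc_i_rc_16_3 lc_i_rc_36_3 lc_i_rc_44_0 lc_i_rc_40_3 lc_i_rc_44_0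 lc_i_rc_36_3 lc_i_rc_23_3 lc_i_rc_36_3 lc_i_rc_29_1 lc_i_rc_23_1 lc_i_rc_43_1 lc_i_rc_29_1) (@D3.rec (fun _ => (Cert rels S Gen.i)) lc_i_rc_23_1 lc_i_rc_23_1 lc_i_rc_16_1 lc_i_rc_16_1 lc_i_rc_23_1 lc_i_rc_29_1 lc_i_rc_16_1 lc_i_rc_23_1 lc_i_rc_40_1 lc_i_rc_23_1 lc_i_rc_23_1 lc_i_rc_29_1 lc_i_rc_16_1 lc_i_rc_29_1 lc_i_rc_8_1 lc_i_rc_29_1 lc_i_rc_36_3 lc_i_rc_36_3) (@D3.rec (fun _ => (Cert rels S Gen.i)) lc_i_rc_16_1 lc_i_rc_16_1 lc_i_rc_8_1 lc_i_rc_16_3 lc_i_rc_43_1 lc_i_rc_43_1 lc_i_rc_8_1 lc_i_rc_16_1 lc_i_rc_36_3 lc_i_rc_29_1 lc_i_rc_23_1 lc_i_rc_16_1 lc_i_rc_29_1 lc_i_rc_29_1 lc_i_rc_23_1 lc_i_rc_29_1 lc_i_rc_29_1 lc_i_rc_29_1) (@D3.rec (fun _ => (Cert rels S Gen.i)) lc_i_rc_29_1 lc_i_rc_23_1 lc_i_rc_34_1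 lc_i_rc_23_1 lc_i_rc_36_3 lc_i_rc_34_1 lc_i_rc_29_1 lc_i_rc_29_1 lc_i_rc_23_1 lc_i_rc_34_1 lc_i_rc_36_3 lc_i_rc_36_3 lc_i_rc_36_3 lc_i_rc_29_1 lc_i_rc_36_3 lc_i_rc_23_1 lc_i_rc_36_3 lc_i_rc_43_1) (@D3.rec (fun _ => (Cert rels S Gen.i)) lc_i_rc_29_1 lc_i_rc_8_3 lc_i_rc_29_1 lc_i_rc_29_1 lc_i_rc_16_1 lc_i_rc_29_1 lc_i_rc_36_3 lc_i_rc_29_1 lc_i_rc_23_1 lc_i_rc_40_3 lc_i_rc_16_1 lc_i_rc_34_1 lc_i_rc_16_3 lc_i_rc_29_1 lc_i_rc_23_1 lc_i_rc_29_1 lc_i_rc_23_1 lc_i_rc_16_1) (@D3.rec (fun _ => (Cert rels S Gen.i)) lc_i_rc_40_1 lc_i_rc_43_3 lc_i_rc_29_1 lc_i_rc_16_3 lc_i_rc_8_3 lc_i_rc_16_1 lc_i_rc_29_1 lc_i_rc_36_3 lc_i_rc_23_3 lc_i_rc_16_1 lc_i_rc_23_1 lc_i_rc_36_3 lc_i_rc_29_1 lc_i_rc_23_1 lc_i_rc_29_1 lc_i_rc_36_3 lc_i_rc_16_3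 lc_i_rc_23_1) (@D3.rec (fun _ => (Cert rels S Gen.i)) lc_i_rc_36_3 lc_i_rc_23_1 lc_i_rc_23_1 lc_i_rc_16_1 lc_i_rc_16_3 lc_i_rc_23_1 lc_i_rc_16_1 lc_i_rc_23_1 lc_i_rc_34_1 lc_i_rc_29_1 lc_i_rc_29_1 lc_i_rc_29_1 lc_i_rc_16_1 lc_i_rc_29_1 lc_i_rc_8_3 lc_i_rc_16_1 lc_i_rc_16_1 lc_i_rc_29_1) (@D3.rec (fun _ => (Cert rels S Gen.i)) lc_i_rc_29_1 lc_i_rc_23_1 lc_i_rc_29_1 lc_i_rc_29_1 lc_i_rc_16_1 lc_i_rc_34_1 lc_i_rc_23_1 lc_i_rc_16_1 lc_i_rc_16_1 lc_i_rc_16_3 lc_i_rc_29_1 lc_i_rc_29_1 lc_i_rc_29_1 lc_i_rc_16_1 lc_i_rc_34_1 lc_i_rc_29_1 lc_i_rc_23_1 lc_i_rc_29_1) (@D3.rec (fun _ => (Cert rels S Gen.i)) lc_i_rc_23_1 lc_i_rc_16_1 lc_i_rc_29_1 lc_i_rc_16_1 lc_i_rc_23_1 lc_i_rc_23_1 lc_i_rc_23_1 lc_i_rc_16_1 lc_i_rc_23_1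 lc_i_rc_29_1 lc_i_rc_29_1 lc_i_rc_16_1 lc_i_rc_23_1 lc_i_rc_34_1 lc_i_rc_23_1 lc_i_rc_23_1 lc_i_rc_29_1 lc_i_rc_16_1)
def ce_i : Pt → (Cert rels S Gen.i) := @Pt.rec (fun _ => (Cert rels S Gen.i)) (@D1.rec (fun _ => D2 → D3 → (Cert rels S Gen.i)) ce_i_0 ce_i_1 ce_i_2 ce_i_3 ce_i_4 ce_i_5 ce_i_6 ce_i_7 ce_i_8 ce_i_9 ce_i_10 ce_i_11 ce_i_12)

end

end Cfsg.Agent.Helper28.S1687
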