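import Cfsg.Agent.Lib.Helper28.S1687.Lv_a
import Cfsg.Agent.Lib.Helper28.S1687.Lv_b
import Cfsg.Agent.Lib.Helper28.S1687.Lv_c
import Cfsg.Agent.Lib.Helper28.S1687.Lv_d
import Cfsg.Agent.Lib.Helper28.S1687.Lv_e
import Cfsg.Agent.Lib.Helper28.S1687.Lv_f
import Cfsg.Agent.Lib.Helper28.S1687.Lv_g
import Cfsg.Agent.Lib.Helper28.S1687.Lv_h
import Cfsg.Agent.Lib.Helper28.S1687.Lv_i

set_option autoImplicit false
set_option maxRecDepth 100000

namespace Cfsg.Agent.Helper28.S1687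

open Cfsg.Agent.Helper28
open Cfsg.Spor.Fi22 (Gen)

noncomputable section

def lvl : Gen → Pt → Nat := @Gen.rec (fun _ => Pt → Nat) lv_a lv_b lv_c lv_d lv_e lv_f lv_g lv_h lv_i
def cert : (x : Gen) → Pt → Cert rels S x := @Gen.rec (fun x => Pt → Cert rels S x) ce_a ce_b ce_c ce_d ce_e ce_f ce_g ce_h ce_i

end

end Cfsg.Agent.Helper28.S1687
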