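import Cfsg.Agent.Lib.Helper28.S1687.Tree

set_option autoImplicit false
set_option maxRecDepth 100000

namespace Cfsg.Agent.Helper28.S1687

open Cfsg.Agent.Helper28
open Cfsg.Spor.Fi22 (Gen)

noncomputable section

def lv_a_0 : D2 → D3 → Nat := @D2.rec (fun _ => D3 → Nat) (@D3.rec (fun _ => Nat) 1 0 1 2 2 3 3 3 4 4 4 4 4 5 5 5 5 5) (@D3.rec (fun _ => Nat) 5 5 5 5 6 6 6 6 6 6 6 6 6 6 6 6 6 7) (@D3.rec (fun _ => Nat) 7 7 7 7 7 7 7 7 7 7 7 7 7 7 7 7 7 7) (@D3.rec (fun _ => Nat) 8 8 8 8 8 9 8 8 8 8 8 8 8 8 8 8 8 8) (@D3.rec (fun _ => Nat) 8 8 8 8 8 8 9 9 9 10 9 9 9 9 10 9 9 9) (@D3.rec (fun _ => Nat) 9 9 9 9 9 9 9 9 9 9 9 9 9 9 9 9 11 10) (@D3.rec (fun _ => Nat) 10 10 10 10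 10 11 10 10 10 10 11 10 10 10 10 10 10 10) (@D3.rec (fun _ => Nat) 10 10 10 10 10 10 10 10 10 10 12 12 11 11 11 11 11 11) (@D3.rec (fun _ => Nat) 11 12 12 11 11 11 11 11 12 11 11 11 11 11 11 11 11 11) (@D3.rec (fun _ => Nat) 11 11 11 11 11 11 11 11 11 13 13 13 13 12 12 12 12 12) (@D3.rec (fun _ => Nat) 12 12 12 12 12 13 13 13 12 12 12 12 12 13 13 12 12 12) (@D3.rec (fun _ => Nat) 12 12 12 12 12 12 12 12 12 12 12 12 12 12 12 15 14 14) (@D3.rec (fun _ => Nat) 14 14 14 14 13 13 13 13 13 13 13 13 13 13 13 14 13 14) (@D3.rec (fun _ => Nat) 14 14 14 13 13 13 13 13 0 14 14 13 13 13 13 13 13 13) (@D3.rec (fun _ => Nat) 13 13 13 13 13 13 13 13 13 13 13 13 0 13 15 15 15 15)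
def lv_a_1 : D2 → D3 → Nat := @D2.rec (fun _ => D3 → Nat) (@D3.rec (fun _ => Nat) 15 15 15 15 15 15 15 15 14 14 14 14 14 14 14 14 14 14) (@D3.rec (fun _ => Nat) 14 14 0 14 14 15 15 15 15 15 15 15 14 14 14 0 14 14) (@D3.rec (fun _ => Nat) 14 1 15 15 15 14 14 0 14 14 14 14 14 14 14 14 14 14) (@D3.rec (fun _ => Nat) 14 14 0 14 14 14 0 14 14 14 1 16 16 16 16 16 16 16) (@D3.rec (fun _ => Nat) 16 16 16 16 16 16 16 16 16 16 15 15 15 15 15 15 15 15) (@D3.rec (fun _ => Nat) 15 15 0 15 15 15 0 15 1 15 15 16 16 16 16 16 0 16) (@D3.rec (fun _ => Nat) 16 16 16 16 15 15 0 15 15 1 2 15 15 16 16 16 15 15) (@D3.rec (fun _ => Nat) 0 1 15 15 15 15 15 15 15 15 15 15 0 15 15 15 0 15) (@D3.rec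 (fun _ => Nat) 1 15 15 0 15 15 1 2 15 15 17 17 17 17 17 17 17 17) (@D3.rec (fun _ => Nat) 17 17 18 17 17 17 17 17 17 17 17 17 0 17 17 17 17 17) (@D3.rec (fun _ => Nat) 16 16 16 16 16 16 16 16 16 0 16 16 0 16 16 1 2 16) (@D3.rec (fun _ => Nat) 16 1 2 16 16 16 16 17 17 17 17 17 0 17 17 1 2 17) (@D3.rec (fun _ => Nat) 17 17 17 17 17 0 16 16 1 2 16 16 16 2 3 16 17 0) (@D3.rec (fun _ => Nat) 16 1 16 16 16 16 16 16 16 16 16 0 16 16 0 16 16 1) (@D3.rec (fun _ => Nat) 2 16 16 1 2 16 0 16 16 1 2 16 16 16 2 3 16 18)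
def lv_a_2 : D2 → D3 → Nat := @D2.rec (fun _ => D3 → Nat) (@D3.rec (fun _ => Nat) 18 18 18 18 18 18 18 18 18 18 18 18 18 18 18 18 18 18) (@D3.rec (fun _ => Nat) 0 18 18 0 18 18 1 2 18 18 18 18 18 18 17 17 17 17) (@D3.rec (fun _ => Nat) 17 17 17 0 17 17 0 17 17 1 2 17 17 17 1 2 17 17) (@D3.rec (fun _ => Nat) 17 2 3 17 2 3 17 18 18 18 0 18 18 0 18 18 1 2) (@D3.rec (fun _ => Nat) 18 18 18 2 3 3 18 18 18 18 1 2 17 17 17 2 19 18) (@D3.rec (fun _ => Nat) 19 17 3 4 1 2 17 17 17 17 17 17 17 17 17 0 17 17) (@D3.rec (fun _ => Nat) 0 17 17 1 2 17 17 17 1 2 17 17 17 2 3 17 2 3) (@D3.rec (fun _ => Nat) 17 1 18 17 17 17 2 17 3 4 19 19 19 19 19 19 19 19) (@D3.rec (fun _ => Nat) 19 19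 0 19 19 19 19 19 19 19 19 0 19 19 0 19 19 1) (@D3.rec (fun _ => Nat) 2 19 19 19 1 2 19 19 19 2 3 3 19 19 19 19 19 19) (@D3.rec (fun _ => Nat) 19 20 18 18 18 0 18 18 0 18 18 1 2 18 18 18 1 2) (@D3.rec (fun _ => Nat) 18 18 18 2 3 3 18 18 2 3 3 18 18 18 3 4 3 4) (@D3.rec (fun _ => Nat) 25 27 19 0 19 1 2 19 19 1 2 19 19 19 2 3 3 19) (@D3.rec (fun _ => Nat) 19 19 3 3 4 4 4 19 2 19 20 22 21 20 19 4 2 21) (@D3.rec (fun _ => Nat) 18 18 18 18 26 18 18 0 18 18 1 2 18 18 18 1 20 18)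
def lv_a_3 : D2 → D3 → Nat := @D2.rec (fun _ => D3 → Nat) (@D3.rec (fun _ => Nat) 18 18 2 23 3 18 18 2 3 3 18 18 18 3 4 3 4 20) (@D3.rec (fun _ => Nat) 20 20 20 20 20 20 0 20 20 20 0 20 20 1 2 20 20 20) (@D3.rec (fun _ => Nat) 20 20 20 0 20 20 0 20 20 1 2 20 20 20 1 2 20 20) (@D3.rec (fun _ => Nat) 20 2 3 3 20 20 20 2 3 3 20 20 20 3 3 4 4 4) (@D3.rec (fun _ => Nat) 20 20 20 20 20 20 19 29 19 19 1 2 19 19 19 1 2 19) (@D3.rec (fun _ => Nat) 19 19 2 3 3 19 19 19 2 19 3 19 19 3 3 4 24 22) (@D3.rec (fun _ => Nat) 19 21 3 3 4 4 23 4 19 19 25 4 4 30 0 1 2 20) (@D3.rec (fun _ => Nat) 2 3 3 20 20 2 3 20 20 20 20 3 3 21 22 4 20 20) (@D3.rec (fun _ => Nat) 4 4 4 5 19 19 19 26 19 19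 19 1 2 19 19 19 2 3) (@D3.rec (fun _ => Nat) 3 19 19 19 20 19 19 3 19 3 3 4 4 19 19 4 21 21) (@D3.rec (fun _ => Nat) 21 21 0 21 21 21 21 0 21 21 1 2 21 21 21 0 1 2) (@D3.rec (fun _ => Nat) 21 21 2 3 3 21 21 21 21 21 26 21 21 1 2 21 21 21) (@D3.rec (fun _ => Nat) 1 2 21 21 21 2 3 3 21 21 21 2 3 3 21 21 21 3) (@D3.rec (fun _ => Nat) 3 4 4 4 4 21 21 21 21 3 3 4 4 4 4 21 21 21) (@D3.rec (fun _ => Nat) 21 4 4 4 5 5 5 5 21 21 21 20 22 20 20 20 2 3)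
def lv_a_4 : D2 → D3 → Nat := @D2.rec (fun _ => D3 → Nat) (@D3.rec (fun _ => Nat) 3 20 20 20 2 3 3 20 20 20 3 3 4 4 23 4 20 20) (@D3.rec (fun _ => Nat) 20 27 3 21 23 23 24 4 23 24 26 4 4 4 5 23 5 21) (@D3.rec (fun _ => Nat) 20 25 27 1 2 3 3 3 4 4 4 21 21 3 21 22 27 21) (@D3.rec (fun _ => Nat) 4 26 22 5 20 20 20 20 26 24 20 20 20 2 3 29 20 20) (@D3.rec (fun _ => Nat) 20 3 3 4 20 20 20 20 4 4 5 20 0 22 22 31 22 22) (@D3.rec (fun _ => Nat) 1 2 22 22 22 0 22 1 2 22 22 2 3 3 22 22 22 1) (@D3.rec (fun _ => Nat) 2 3 3 22 3 3 4 4 4 4 22 22 22 22 22 22 24 22) (@D3.rec (fun _ => Nat) 22 22 2 3 3 22 22 22 2 3 3 22 22 22 3 3 4 4) (@D3.rec (fun _ => Nat) 4 4 22 22 22 22 3 3 21 4 25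 24 22 22 22 22 4 4) (@D3.rec (fun _ => Nat) 4 4 25 27 5 22 5 27 22 22 4 4 4 4 5 5 5 5) (@D3.rec (fun _ => Nat) 5 5 22 22 22 22 5 5 5 5 6 6 22 22 21 24 22 21) (@D3.rec (fun _ => Nat) 21 3 3 4 4 4 4 21 21 21 27 3 3 4 4 27 21 21) (@D3.rec (fun _ => Nat) 21 21 28 4 4 4 5 25 27 25 24 28 21 21 25 22 5 5) (@D3.rec (fun _ => Nat) 6 23 25 22 29 32 3 25 4 4 4 25 21 21 21 28 27 29) (@D3.rec (fun _ => Nat) 25 21 21 21 3 25 21 21 21 4 21 21 5 1 2 23 23 23)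
def lv_a_5 : D2 → D3 → Nat := @D2.rec (fun _ => D3 → Nat) (@D3.rec (fun _ => Nat) 28 23 23 2 3 3 23 23 23 1 2 23 2 3 3 23 23 3) (@D3.rec (fun _ => Nat) 3 4 4 4 4 23 23 23 23 3 3 26 4 23 4 4 4 4) (@D3.rec (fun _ => Nat) 5 28 5 5 5 28 23 23 23 23 23 23 23 24 22 23 23 23) (@D3.rec (fun _ => Nat) 3 3 4 4 4 4 23 23 23 23 3 3 4 4 4 25 23 23) (@D3.rec (fun _ => Nat) 23 23 4 4 4 4 5 5 5 5 5 5 23 23 23 23 4 23) (@D3.rec (fun _ => Nat) 5 24 26 23 23 5 5 25 29 24 6 23 5 5 5 5 5 5) (@D3.rec (fun _ => Nat) 6 6 6 25 6 6 6 6 6 23 23 23 23 6 6 7 23 0) (@D3.rec (fun _ => Nat) 24 22 26 22 22 4 4 4 4 5 5 5 5 5 26 22 25 22) (@D3.rec (fun _ => Nat) 28 4 4 5 33 26 25 26 5 29 27 27 25 23 25 26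 6 24) (@D3.rec (fun _ => Nat) 23 25 26 22 22 28 23 24 23 2 3 3 24 24 24 26 25 24) (@D3.rec (fun _ => Nat) 24 3 3 4 4 4 4 24 24 24 24 2 3 24 3 3 4 4) (@D3.rec (fun _ => Nat) 4 24 24 24 4 4 4 4 5 5 5 5 5 5 24 24 24 24) (@D3.rec (fun _ => Nat) 4 26 5 5 5 5 5 6 6 6 28 26 24 24 24 24 24 26) (@D3.rec (fun _ => Nat) 25 26 23 24 24 24 24 4 4 4 4 5 5 5 5 5 5 24) (@D3.rec (fun _ => Nat) 24 24 24 4 4 4 5 5 5 23 5 5 24 24 24 24 7 5)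
def lv_a_6 : D2 → D3 → Nat := @D2.rec (fun _ => D3 → Nat) (@D3.rec (fun _ => Nat) 5 5 5 5 5 6 6 6 27 6 6 6 6 6 24 24 24 24) (@D3.rec (fun _ => Nat) 24 5 23 26 31 6 24 31 7 24 6 6 6 6 6 6 6 6) (@D3.rec (fun _ => Nat) 7 7 7 26 7 27 27 7 7 7 7 24 24 24 7 8 0 1) (@D3.rec (fun _ => Nat) 28 24 23 32 5 5 5 5 5 6 6 6 31 27 5 26 28 31) (@D3.rec (fun _ => Nat) 29 25 27 29 27 24 24 26 26 3 3 4 4 4 4 25 25 25) (@D3.rec (fun _ => Nat) 25 26 27 26 25 25 25 4 4 4 4 5 5 5 5 5 5 25) (@D3.rec (fun _ => Nat) 25 25 25 3 4 4 25 4 4 4 5 5 5 5 5 25 25 7) (@D3.rec (fun _ => Nat) 5 5 5 5 5 5 6 6 6 6 6 6 6 6 6 25 25 25) (@D3.rec (fun _ => Nat) 25 25 5 37 6 6 6 7 30 7 25 25 25 25 25 25 28 26) (@D3.rec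 (fun _ => Nat) 24 25 24 26 25 25 25 25 7 5 5 5 5 5 5 6 6 6) (@D3.rec (fun _ => Nat) 6 6 6 6 6 6 25 25 25 25 25 30 5 5 5 5 5 6) (@D3.rec (fun _ => Nat) 30 6 28 6 27 6 27 6 25 25 25 25 8 6 6 6 6 6) (@D3.rec (fun _ => Nat) 6 6 6 31 32 7 7 29 7 27 27 32 7 7 7 7 25 25) (@D3.rec (fun _ => Nat) 25 7 28 30 8 0 7 7 7 7 7 7 7 7 8 8 8 26) (@D3.rec (fun _ => Nat) 8 25 25 27 27 8 8 8 29 25 8 0 1 24 26 32 6 6)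
def lv_a_7 : D2 → D3 → Nat := @D2.rec (fun _ => D3 → Nat) (@D3.rec (fun _ => Nat) 6 7 29 26 31 29 27 29 24 28 25 25 4 4 4 4 5 5) (@D3.rec (fun _ => Nat) 5 5 5 5 26 26 26 26 25 28 28 28 28 26 26 7 5 5) (@D3.rec (fun _ => Nat) 5 5 5 5 6 6 6 6 6 6 6 6 6 26 26 26 26 26) (@D3.rec (fun _ => Nat) 4 4 5 5 27 5 5 5 5 5 6 6 6 6 6 6 26 8) (@D3.rec (fun _ => Nat) 8 6 6 6 6 6 6 6 6 6 7 7 7 7 7 7 29 7) (@D3.rec (fun _ => Nat) 29 7 7 7 7 26 26 26 26 26 31 7 7 36 39 26 0 26) (@D3.rec (fun _ => Nat) 26 26 26 30 28 30 28 25 27 25 27 26 26 26 26 8 29 6) (@D3.rec (fun _ => Nat) 6 6 6 6 6 6 6 6 7 7 7 7 7 7 28 7 7 7) (@D3.rec (fun _ => Nat) 7 7 7 26 26 26 26 26 30 6 6 6 6 6 31 30 7 30) (@D3.rec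 (fun _ => Nat) 32 7 30 25 34 7 25 26 26 9 28 7 7 7 7 7 7 7) (@D3.rec (fun _ => Nat) 31 30 33 8 8 29 8 31 31 29 29 8 8 8 0 26 8 28) (@D3.rec (fun _ => Nat) 26 37 0 1 8 8 8 8 8 8 8 9 9 9 28 9 26 26) (@D3.rec (fun _ => Nat) 27 28 30 29 35 9 30 0 1 7 31 34 26 30 31 31 29 24) (@D3.rec (fun _ => Nat) 31 19 5 5 5 5 5 5 6 6 6 6 6 6 27 27 27 27) (@D3.rec (fun _ => Nat) 23 28 28 28 26 28 27 27 8 8 6 6 6 6 6 6 6 6)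
def lv_a_8 : D2 → D3 → Nat := @D2.rec (fun _ => D3 → Nat) (@D3.rec (fun _ => Nat) 6 7 7 7 7 7 7 7 7 7 7 7 7 7 27 27 27 27) (@D3.rec (fun _ => Nat) 27 30 5 5 6 6 25 27 6 6 6 6 6 6 31 7 7 7) (@D3.rec (fun _ => Nat) 30 7 7 9 9 9 9 7 7 7 7 7 7 7 7 7 7 7) (@D3.rec (fun _ => Nat) 35 8 36 8 8 8 8 8 8 8 29 29 8 29 35 8 8 8) (@D3.rec (fun _ => Nat) 27 27 27 0 27 27 30 0 30 1 27 27 27 27 30 28 30 28) (@D3.rec (fun _ => Nat) 30 26 26 26 27 27 27 27 27 9 27 29 7 7 7 7 7 7) (@D3.rec (fun _ => Nat) 7 7 7 7 7 7 33 8 8 8 8 8 32 8 8 8 26 28) (@D3.rec (fun _ => Nat) 8 8 8 8 8 27 27 0 27 27 7 7 7 32 32 8 8 29) (@D3.rec (fun _ => Nat) 32 28 28 29 33 31 8 8 8 8 8 8 33 33 33 32 9 31) (@D3.rec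 (fun _ => Nat) 9 29 29 27 31 34 29 38 9 1 2 0 37 30 0 1 9 9) (@D3.rec (fun _ => Nat) 9 9 34 9 27 10 35 27 10 27 27 10 31 27 27 30 35 1) (@D3.rec (fun _ => Nat) 33 24 31 31 24 34 20 6 6 6 6 6 6 7 7 7 7 7) (@D3.rec (fun _ => Nat) 7 7 28 28 28 28 25 28 30 30 30 28 28 28 9 9 9 31) (@D3.rec (fun _ => Nat) 9 7 7 7 7 7 7 7 7 7 7 7 7 7 8 8 8 8) (@D3.rec (fun _ => Nat) 8 8 33 8 8 8 8 8 8 8 32 8 8 8 28 28 28 28)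
def lv_a_9 : D2 → D3 → Nat := @D2.rec (fun _ => D3 → Nat) (@D3.rec (fun _ => Nat) 0 28 28 30 6 6 36 7 25 27 29 7 7 7 7 7 33 8) (@D3.rec (fun _ => Nat) 8 8 8 32 32 8 29 10 10 10 10 8 8 8 8 8 8 8) (@D3.rec (fun _ => Nat) 8 8 8 8 8 9 9 38 9 9 9 9 9 9 9 31 9 9) (@D3.rec (fun _ => Nat) 36 31 31 29 29 0 9 32 28 1 2 31 1 28 28 28 28 32) (@D3.rec (fun _ => Nat) 30 32 32 30 27 27 29 29 28 0 28 28 33 33 8 8 8 8) (@D3.rec (fun _ => Nat) 8 8 8 8 8 8 8 8 8 9 9 9 9 9 9 9 9 32) (@D3.rec (fun _ => Nat) 26 9 33 28 9 9 9 0 9 9 28 1 2 28 8 8 34 34) (@D3.rec (fun _ => Nat) 32 32 34 34 9 32 34 35 9 9 36 9 36 33 33 31 35 0) (@D3.rec (fun _ => Nat) 35 10 29 33 10 30 31 33 29 36 34 2 1 0 39 1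 10 34) (@D3.rec (fun _ => Nat) 10 10 34 34 28 11 35 37 29 30 11 29 30 32 26 33 21 21) (@D3.rec (fun _ => Nat) 7 7 7 7 7 7 7 33 8 8 8 8 32 8 29 29 0 29) (@D3.rec (fun _ => Nat) 29 25 28 28 30 30 30 28 28 29 10 10 10 31 10 37 31 8) (@D3.rec (fun _ => Nat) 8 8 8 8 8 8 8 8 8 8 8 8 8 8 8 9 9 9) (@D3.rec (fun _ => Nat) 9 9 9 9 9 9 33 9 9 9 38 9 9 33 9 34 0 9) (@D3.rec (fun _ => Nat) 9 29 29 37 29 29 1 2 29 33 20 7 34 32 8 25 27 8)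
def lv_a_10 : D2 → D3 → Nat := @D2.rec (fun _ => D3 → Nat) (@D3.rec (fun _ => Nat) 8 8 8 8 32 33 9 9 34 9 9 39 32 32 29 11 11 11) (@D3.rec (fun _ => Nat) 11 9 9 9 9 9 9 9 9 9 9 9 9 10 10 37 38 10) (@D3.rec (fun _ => Nat) 10 0 10 10 29 10 10 10 10 10 34 31 10 36 31 1 2 33) (@D3.rec (fun _ => Nat) 2 29 36 29 29 32 31 30 30 34 32 28 34 28 28 29 1 2) (@D3.rec (fun _ => Nat) 29 35 29 9 9 9 9 9 9 9 9 9 9 9 9 9 9 10) (@D3.rec (fun _ => Nat) 10 10 10 10 10 0 10 10 29 10 10 38 35 35 10 10 1 2) (@D3.rec (fun _ => Nat) 10 2 3 9 33 34 36 33 36 10 35 10 10 36 0 38 39 29) (@D3.rec (fun _ => Nat) 33 35 30 31 34 1 33 2 29 33 11 29 33 30 35 1 2 11) (@D3.rec (fun _ => Nat) 37 11 36 29 35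 35 37 29 29 29 31 22 22 22 8 8 8 8) (@D3.rec (fun _ => Nat) 8 34 33 9 35 9 9 38 34 9 33 30 30 1 2 30 30 30) (@D3.rec (fun _ => Nat) 30 30 30 32 32 30 30 11 11 11 11 33 33 33 33 9 9 9) (@D3.rec (fun _ => Nat) 9 9 9 9 9 9 9 9 9 9 9 9 9 9 10 10 10 10) (@D3.rec (fun _ => Nat) 10 10 10 10 0 10 10 10 10 35 33 10 10 38 10 35 34 1) (@D3.rec (fun _ => Nat) 2 10 30 30 35 30 2 3 21 8 34 34 30 34 9 9 9 9) (@D3.rec (fun _ => Nat) 35 36 32 10 10 34 10 35 34 31 31 12 12 12 12 10 10 10)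
def lv_a_11 : D2 → D3 → Nat := @D2.rec (fun _ => D3 → Nat) (@D3.rec (fun _ => Nat) 10 10 10 10 10 10 10 10 10 31 11 11 37 38 11 11 11 1) (@D3.rec (fun _ => Nat) 39 2 31 11 11 34 31 11 36 11 11 36 33 11 38 2 30 39) (@D3.rec (fun _ => Nat) 30 34 32 32 34 34 29 34 31 2 3 35 10 10 10 10 10 10) (@D3.rec (fun _ => Nat) 10 10 10 10 10 10 10 42 11 11 32 11 11 11 1 31 2 33) (@D3.rec (fun _ => Nat) 11 11 38 31 11 35 11 2 3 11 3 10 36 34 36 43 36 37) (@D3.rec (fun _ => Nat) 11 1 35 2 31 37 35 31 35 32 33 2 32 35 3 31 35 31) (@D3.rec (fun _ => Nat) 2 39 40 37 37 31 32 23 23 23 9 9 9 9 34 41 38 10) (@D3.rec (fun _ => Nat) 10 35 34 35 31 2 3 31 30 30 30 30 30 30 30 32 30 12) (@D3.rec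 (fun _ => Nat) 12 12 33 12 35 33 33 10 10 10 10 10 10 10 10 10 10 10) (@D3.rec (fun _ => Nat) 10 10 10 10 10 11 34 11 33 11 11 34 11 11 1 2 11 33) (@D3.rec (fun _ => Nat) 11 11 35 11 11 38 35 2 3 11 31 37 3 22 36 34 30 10) (@D3.rec (fun _ => Nat) 10 10 37 44 34 11 36 11 36 31 13 13 13 11 11 11 11 11) (@D3.rec (fun _ => Nat) 11 11 11 11 11 11 34 31 12 36 36 33 12 12 2 33 35 3) (@D3.rec (fun _ => Nat) 32 31 12 34 31 12 36 12 12 36 33 12 39 31 34 32 34 34) (@D3.rec (fun _ => Nat) 36 30 3 37 11 11 11 11 11 11 11 11 11 11 34 12 34 12)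
def lv_a_12 : D2 → D3 → Nat := @D2.rec (fun _ => D3 → Nat) (@D3.rec (fun _ => Nat) 12 2 33 3 35 12 12 38 31 38 3 40 46 45 39 2 35 3) (@D3.rec (fun _ => Nat) 31 38 31 32 3 34 35 31 35 37 41 31 24 24 10 10 36 40) (@D3.rec (fun _ => Nat) 11 35 40 41 32 3 36 32 32 32 32 32 32 32 34 32 13 13) (@D3.rec (fun _ => Nat) 33 13 35 11 11 11 11 11 11 11 11 11 11 11 11 12 36 12) (@D3.rec (fun _ => Nat) 33 12 34 12 2 3 12 33 12 12 35 12 39 3 38 40 36 32) (@D3.rec (fun _ => Nat) 11 11 42 34 12 36 39 33 14 14 12 12 12 12 12 12 12 12) (@D3.rec (fun _ => Nat) 36 33 13 37 33 13 13 3 35 37 32 33 13 36 33 13 38 43) (@D3.rec (fun _ => Nat) 48 35 44 43 36 36 47 12 12 12 12 12 36 13 34 38 3 42)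 (@D3.rec (fun _ => Nat) 38 35 13 46 38 38 3 37 33 38 34 39 33 41 48 25 25 11) (@D3.rec (fun _ => Nat) 46 35 37 32 32 32 32 32 34 44 14 14 35 37 12 12 12 12) (@D3.rec (fun _ => Nat) 12 12 12 12 40 13 35 13 36 3 4 47 35 13 41 44 41 42) (@D3.rec (fun _ => Nat) 42 12 39 36 41 15 13 13 13 13 13 36 33 14 39 42 42 45) (@D3.rec (fun _ => Nat) 41 47 34 33 14 33 46 45 42 42 13 13 42 36 42 39 43 33) (@D3.rec (fun _ => Nat) 44 46 34 34 34 45 34 41 15 35 13 13 13 46 40 35 43 36) (@D3.rec (fun _ => Nat) 4 44 40 43 14 14 35 43 44 47 41 35 47 44 34 43 34 46)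
def lv_a : Pt → Nat := @Pt.rec (fun _ => Nat) (@D1.rec (fun _ => D2 → D3 → Nat) lv_a_0 lv_a_1 lv_a_2 lv_a_3 lv_a_4 lv_a_5 lv_a_6 lv_a_7 lv_a_8 lv_a_9 lv_a_10 lv_a_11 lv_a_12)
abbrev lc_a_Cert_tree : Cert rels S Gen.a := Cert.tree
abbrev lc_a_rc_0_0 : Cert rels S Gen.a := rc_0_0
abbrev lc_a_rc_0_1 : Cert rels S Gen.a := rc_0_1
abbrev lc_a_rc_1_0 : Cert rels S Gen.a := rc_1_0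
abbrev lc_a_rc_1_2 : Cert rels S Gen.a := rc_1_2
abbrev lc_a_rc_1_4 : Cert rels S Gen.a := rc_1_4
abbrev lc_a_rc_2_0 : Cert rels S Gen.a := rc_2_0
abbrev lc_a_rc_2_2 : Cert rels S Gen.a := rc_2_2
abbrev lc_a_rc_3_0 : Cert rels S Gen.a := rc_3_0
abbrev lc_a_rc_3_2 : Cert rels S Gen.a := rc_3_2
abbrev lc_a_rc_4_0 : Cert rels S Gen.a := rc_4_0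
abbrev lc_a_rc_4_2 : Cert rels S Gen.a := rc_4_2
abbrev lc_a_rc_5_0 : Cert rels S Gen.a := rc_5_0
abbrev lc_a_rc_5_2 : Cert rels S Gen.a := rc_5_2
abbrev lc_a_rc_6_0 : Cert rels S Gen.a := rc_6_0
abbrev lc_a_rc_6_2 : Cert rels S Gen.a := rc_6_2
abbrev lc_a_rc_7_0 : Cert rels S Gen.a := rc_7_0
abbrev lc_a_rc_7_2 : Cert rels S Gen.a := rc_7_2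
abbrev lc_a_rc_8_0 : Cert rels S Gen.a := rc_8_0
abbrev lc_a_rc_8_2 : Cert rels S Gen.a := rc_8_2
abbrev lc_a_rc_46_14 : Cert rels S Gen.a := rc_46_14
abbrev lc_a_rc_46_21 : Cert rels S Gen.a := rc_46_21
abbrev lc_a_rc_46_28 : Cert rels S Gen.a := rc_46_28
abbrev lc_a_rc_46_35 : Cert rels S Gen.a := rc_46_35
abbrev lc_a_rc_46_42 : Cert rels S Gen.a := rc_46_42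
abbrev lc_a_rc_46_49 : Cert rels S Gen.a := rc_46_49
abbrev lc_a_rc_46_56 : Cert rels S Gen.a := rc_46_56
abbrev lc_a_sc_0_0 : Cert rels S Gen.a := sc_0_0
def ce_a_0 : D2 → D3 → (Cert rels S Gen.a) := @D2.rec (fun _ => D3 → (Cert rels S Gen.a)) (@D3.rec (fun _ => (Cert rels S Gen.a)) lc_a_sc_0_0 lc_a_Cert_tree lc_a_rc_0_0 lc_a_rc_2_2 lc_a_rc_2_2 lc_a_rc_3_2 lc_a_rc_1_2 lc_a_rc_3_2 lc_a_rc_4_2 lc_a_rc_5_2 lc_a_rc_1_2 lc_a_rc_4_2 lc_a_rc_5_2 lc_a_rc_6_2 lc_a_rc_5_2 lc_a_rc_8_2 lc_a_rc_2_2 lc_a_rc_1_2) (@D3.rec (fun _ => (Cert rels S Gen.a)) lc_a_rc_1_2 lc_a_rc_6_2 lc_a_rc_5_2 lc_a_rc_8_2 lc_a_rc_7_2 lc_a_rc_6_2 lc_a_rc_3_2 lc_a_rc_8_2 lc_a_rc_2_2 lc_a_rc_2_2 lc_a_rc_1_2 lc_a_rc_1_2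 lc_a_rc_1_2 lc_a_rc_7_2 lc_a_rc_6_2 lc_a_rc_3_2 lc_a_rc_8_2 lc_a_rc_7_2) (@D3.rec (fun _ => (Cert rels S Gen.a)) lc_a_rc_3_2 lc_a_rc_8_2 lc_a_rc_2_2 lc_a_rc_3_2 lc_a_rc_3_2 lc_a_rc_2_2 lc_a_rc_2_2 lc_a_rc_3_2 lc_a_rc_2_2 lc_a_rc_1_2 lc_a_rc_1_2 lc_a_rc_3_2 lc_a_rc_1_2 lc_a_rc_7_2 lc_a_rc_3_2 lc_a_rc_8_2 lc_a_rc_2_2 lc_a_rc_3_2) (@D3.rec (fun _ => (Cert rels S Gen.a)) lc_a_rc_3_2 lc_a_rc_8_2 lc_a_rc_2_2 lc_a_rc_4_2 lc_a_rc_3_2 lc_a_rc_1_4 lc_a_rc_2_2 lc_a_rc_5_2 lc_a_rc_3_2 lc_a_rc_2_2 lc_a_rc_2_2 lc_a_rc_2_2 lc_a_rc_3_2 lc_a_rc_1_2 lc_a_rc_3_2 lc_a_rc_1_2 lc_a_rc_3_2 lc_a_rc_3_2) (@D3.rec (fun _ => (Cert rels S Gen.a)) lc_a_rc_8_2 lc_a_rc_2_2 lc_a_rc_4_2 lc_a_rc_3_2 lc_a_rc_2_2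 lc_a_rc_5_2 lc_a_rc_2_2 lc_a_rc_4_2 lc_a_rc_3_2 lc_a_rc_1_4 lc_a_rc_2_2 lc_a_rc_2_2 lc_a_rc_4_2 lc_a_rc_5_2 lc_a_rc_1_4 lc_a_rc_2_2 lc_a_rc_4_2 lc_a_rc_3_2) (@D3.rec (fun _ => (Cert rels S Gen.a)) lc_a_rc_2_2 lc_a_rc_2_2 lc_a_rc_5_2 lc_a_rc_3_2 lc_a_rc_1_2 lc_a_rc_4_2 lc_a_rc_3_2 lc_a_rc_5_2 lc_a_rc_2_2 lc_a_rc_4_2 lc_a_rc_3_2 lc_a_rc_2_2 lc_a_rc_2_2 lc_a_rc_4_2 lc_a_rc_5_2 lc_a_rc_2_2 lc_a_rc_1_4 lc_a_rc_2_2) (@D3.rec (fun _ => (Cert rels S Gen.a)) lc_a_rc_2_2 lc_a_rc_6_2 lc_a_rc_4_2 lc_a_rc_5_2 lc_a_rc_46_35 lc_a_rc_1_4 lc_a_rc_3_2 lc_a_rc_2_2 lc_a_rc_2_2 lc_a_rc_5_2 lc_a_rc_1_4 lc_a_rc_3_2 lc_a_rc_4_2 lc_a_rc_2_2 lc_a_rc_4_2 lc_a_rc_3_2 lc_a_rc_4_2 lc_a_rc_5_2) (@D3.rec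 (fun _ => (Cert rels S Gen.a)) lc_a_rc_2_2 lc_a_rc_2_2 lc_a_rc_6_2 lc_a_rc_4_2 lc_a_rc_5_2 lc_a_rc_3_2 lc_a_rc_2_2 lc_a_rc_2_2 lc_a_rc_5_2 lc_a_rc_3_2 lc_a_rc_1_4 lc_a_rc_1_4 lc_a_rc_3_2 lc_a_rc_2_2 lc_a_rc_2_2 lc_a_rc_2_2 lc_a_rc_6_2 lc_a_rc_5_2) (@D3.rec (fun _ => (Cert rels S Gen.a)) lc_a_rc_3_2 lc_a_rc_1_4 lc_a_rc_1_4 lc_a_rc_5_2 lc_a_rc_3_2 lc_a_rc_2_2 lc_a_rc_3_2 lc_a_rc_3_2 lc_a_rc_3_2 lc_a_rc_4_2 lc_a_rc_6_2 lc_a_rc_6_2 lc_a_rc_4_2 lc_a_rc_5_2 lc_a_rc_5_2 lc_a_rc_3_2 lc_a_rc_2_2 lc_a_rc_2_2) (@D3.rec (fun _ => (Cert rels S Gen.a)) lc_a_rc_2_2 lc_a_rc_6_2 lc_a_rc_5_2 lc_a_rc_5_2 lc_a_rc_3_2 lc_a_rc_2_2 lc_a_rc_3_2 lc_a_rc_3_2 lc_a_rc_4_2 lc_a_rc_3_2 lc_a_rc_1_4 lc_a_rc_1_4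 lc_a_rc_1_4 lc_a_rc_3_2 lc_a_rc_5_2 lc_a_rc_3_2 lc_a_rc_2_2 lc_a_rc_2_2) (@D3.rec (fun _ => (Cert rels S Gen.a)) lc_a_rc_3_2 lc_a_rc_5_2 lc_a_rc_3_2 lc_a_rc_2_2 lc_a_rc_5_2 lc_a_rc_3_2 lc_a_rc_1_4 lc_a_rc_3_2 lc_a_rc_8_2 lc_a_rc_5_2 lc_a_rc_3_2 lc_a_rc_4_2 lc_a_rc_2_2 lc_a_rc_2_2 lc_a_rc_4_2 lc_a_rc_6_2 lc_a_rc_6_2 lc_a_rc_5_2) (@D3.rec (fun _ => (Cert rels S Gen.a)) lc_a_rc_3_2 lc_a_rc_3_2 lc_a_rc_5_2 lc_a_rc_3_2 lc_a_rc_2_2 lc_a_rc_2_2 lc_a_rc_3_2 lc_a_rc_5_2 lc_a_rc_3_2 lc_a_rc_8_2 lc_a_rc_5_2 lc_a_rc_3_2 lc_a_rc_4_2 lc_a_rc_2_2 lc_a_rc_6_2 lc_a_rc_46_49 lc_a_rc_3_2 lc_a_rc_5_2) (@D3.rec (fun _ => (Cert rels S Gen.a)) lc_a_rc_3_2 lc_a_rc_1_4 lc_a_rc_1_4 lc_a_rc_3_2 lc_a_rc_4_2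 lc_a_rc_5_2 lc_a_rc_3_2 lc_a_rc_8_2 lc_a_rc_5_2 lc_a_rc_5_2 lc_a_rc_3_2 lc_a_rc_4_2 lc_a_rc_3_2 lc_a_rc_2_2 lc_a_rc_46_35 lc_a_rc_2_2 lc_a_rc_8_2 lc_a_rc_5_2) (@D3.rec (fun _ => (Cert rels S Gen.a)) lc_a_rc_3_2 lc_a_rc_2_2 lc_a_rc_4_2 lc_a_rc_8_2 lc_a_rc_5_2 lc_a_rc_2_2 lc_a_rc_4_2 lc_a_rc_6_2 lc_a_Cert_tree lc_a_rc_2_2 lc_a_rc_6_2 lc_a_rc_7_2 lc_a_rc_5_2 lc_a_rc_3_2 lc_a_rc_2_2 lc_a_rc_4_2 lc_a_rc_5_2 lc_a_rc_3_2) (@D3.rec (fun _ => (Cert rels S Gen.a)) lc_a_rc_8_2 lc_a_rc_5_2 lc_a_rc_5_2 lc_a_rc_3_2 lc_a_rc_4_2 lc_a_rc_3_2 lc_a_rc_2_2 lc_a_rc_8_2 lc_a_rc_5_2 lc_a_rc_2_2 lc_a_rc_4_2 lc_a_rc_6_2 lc_a_Cert_tree lc_a_rc_7_2 lc_a_rc_2_2 lc_a_rc_2_2 lc_a_rc_2_2 lc_a_rc_4_2)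
def ce_a_1 : D2 → D3 → (Cert rels S Gen.a) := @D2.rec (fun _ => D3 → (Cert rels S Gen.a)) (@D3.rec (fun _ => (Cert rels S Gen.a)) lc_a_rc_5_2 lc_a_rc_3_2 lc_a_rc_8_2 lc_a_rc_5_2 lc_a_rc_1_4 lc_a_rc_3_2 lc_a_rc_2_2 lc_a_rc_4_2 lc_a_rc_5_2 lc_a_rc_4_2 lc_a_rc_8_2 lc_a_rc_5_2 lc_a_rc_8_2 lc_a_rc_5_2 lc_a_rc_3_2 lc_a_rc_2_2 lc_a_rc_4_2 lc_a_rc_6_2) (@D3.rec (fun _ => (Cert rels S Gen.a)) lc_a_rc_2_2 lc_a_rc_4_2 lc_a_Cert_tree lc_a_rc_3_2 lc_a_rc_2_2 lc_a_rc_2_2 lc_a_rc_8_2 lc_a_rc_5_2 lc_a_rc_2_2 lc_a_rc_4_2 lc_a_rc_2_2 lc_a_rc_6_2 lc_a_rc_8_2 lc_a_rc_2_2 lc_a_rc_5_2 lc_a_Cert_tree lc_a_rc_2_2 lc_a_rc_6_2) (@D3.rec (fun _ => (Cert rels S Gen.a)) lc_a_rc_7_2 lc_a_rc_0_0 lc_a_rc_3_2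 lc_a_rc_2_2 lc_a_rc_7_2 lc_a_rc_3_2 lc_a_rc_2_2 lc_a_Cert_tree lc_a_rc_5_2 lc_a_rc_4_2 lc_a_rc_8_2 lc_a_rc_5_2 lc_a_rc_8_2 lc_a_rc_5_2 lc_a_rc_3_2 lc_a_rc_2_2 lc_a_rc_4_2 lc_a_rc_6_2) (@D3.rec (fun _ => (Cert rels S Gen.a)) lc_a_rc_2_2 lc_a_rc_4_2 lc_a_Cert_tree lc_a_rc_8_2 lc_a_rc_2_2 lc_a_rc_5_2 lc_a_Cert_tree lc_a_rc_2_2 lc_a_rc_6_2 lc_a_rc_7_2 lc_a_rc_0_0 lc_a_rc_2_2 lc_a_rc_2_2 lc_a_rc_2_2 lc_a_rc_3_2 lc_a_rc_2_2 lc_a_rc_2_2 lc_a_rc_5_2) (@D3.rec (fun _ => (Cert rels S Gen.a)) lc_a_rc_4_2 lc_a_rc_8_2 lc_a_rc_5_2 lc_a_rc_8_2 lc_a_rc_5_2 lc_a_rc_3_2 lc_a_rc_2_2 lc_a_rc_4_2 lc_a_rc_2_2 lc_a_rc_6_2 lc_a_rc_3_2 lc_a_rc_8_2 lc_a_rc_5_2 lc_a_rc_8_2 lc_a_rc_3_2 lc_a_rc_8_2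 lc_a_rc_2_2 lc_a_rc_5_2) (@D3.rec (fun _ => (Cert rels S Gen.a)) lc_a_rc_2_2 lc_a_rc_4_2 lc_a_Cert_tree lc_a_rc_2_2 lc_a_rc_6_2 lc_a_rc_7_2 lc_a_Cert_tree lc_a_rc_2_2 lc_a_rc_0_0 lc_a_rc_4_2 lc_a_rc_3_2 lc_a_rc_2_2 lc_a_rc_3_2 lc_a_rc_8_2 lc_a_rc_2_2 lc_a_rc_5_2 lc_a_Cert_tree lc_a_rc_2_2) (@D3.rec (fun _ => (Cert rels S Gen.a)) lc_a_rc_6_2 lc_a_rc_3_2 lc_a_rc_2_2 lc_a_rc_7_2 lc_a_rc_2_2 lc_a_rc_8_2 lc_a_Cert_tree lc_a_rc_2_2 lc_a_rc_6_2 lc_a_rc_0_0 lc_a_rc_4_2 lc_a_rc_2_2 lc_a_rc_7_2 lc_a_rc_3_2 lc_a_rc_5_2 lc_a_rc_2_2 lc_a_rc_2_2 lc_a_rc_4_2) (@D3.rec (fun _ => (Cert rels S Gen.a)) lc_a_Cert_tree lc_a_rc_0_0 lc_a_rc_3_2 lc_a_rc_8_2 lc_a_rc_5_2 lc_a_rc_8_2 lc_a_rc_3_2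 lc_a_rc_8_2 lc_a_rc_2_2 lc_a_rc_5_2 lc_a_rc_2_2 lc_a_rc_4_2 lc_a_Cert_tree lc_a_rc_2_2 lc_a_rc_6_2 lc_a_rc_7_2 lc_a_Cert_tree lc_a_rc_2_2) (@D3.rec (fun _ => (Cert rels S Gen.a)) lc_a_rc_0_0 lc_a_rc_2_2 lc_a_rc_8_2 lc_a_Cert_tree lc_a_rc_2_2 lc_a_rc_6_2 lc_a_rc_0_0 lc_a_rc_4_2 lc_a_rc_2_2 lc_a_rc_7_2 lc_a_rc_3_2 lc_a_rc_2_2 lc_a_rc_2_2 lc_a_rc_3_2 lc_a_rc_2_2 lc_a_rc_2_2 lc_a_rc_4_2 lc_a_rc_3_2) (@D3.rec (fun _ => (Cert rels S Gen.a)) lc_a_rc_2_2 lc_a_rc_3_2 lc_a_rc_1_4 lc_a_rc_8_2 lc_a_rc_5_2 lc_a_rc_8_2 lc_a_rc_5_2 lc_a_rc_8_2 lc_a_rc_2_2 lc_a_rc_5_2 lc_a_rc_2_2 lc_a_rc_4_2 lc_a_Cert_tree lc_a_rc_2_2 lc_a_rc_6_2 lc_a_rc_3_2 lc_a_rc_2_2 lc_a_rc_7_2) (@D3.rec (fun _ =>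 (Cert rels S Gen.a)) lc_a_rc_2_2 lc_a_rc_3_2 lc_a_rc_8_2 lc_a_rc_3_2 lc_a_rc_3_2 lc_a_rc_2_2 lc_a_rc_4_2 lc_a_rc_2_2 lc_a_rc_8_2 lc_a_Cert_tree lc_a_rc_2_2 lc_a_rc_6_2 lc_a_Cert_tree lc_a_rc_2_2 lc_a_rc_4_2 lc_a_rc_0_0 lc_a_rc_4_2 lc_a_rc_2_2) (@D3.rec (fun _ => (Cert rels S Gen.a)) lc_a_rc_7_2 lc_a_rc_0_0 lc_a_rc_4_2 lc_a_rc_3_2 lc_a_rc_6_2 lc_a_rc_4_2 lc_a_rc_5_2 lc_a_rc_3_2 lc_a_rc_3_2 lc_a_rc_4_2 lc_a_rc_2_2 lc_a_rc_8_2 lc_a_Cert_tree lc_a_rc_2_2 lc_a_rc_6_2 lc_a_rc_0_0 lc_a_rc_4_2 lc_a_rc_3_2) (@D3.rec (fun _ => (Cert rels S Gen.a)) lc_a_rc_2_2 lc_a_rc_7_2 lc_a_rc_3_2 lc_a_rc_5_2 lc_a_rc_2_2 lc_a_Cert_tree lc_a_rc_2_2 lc_a_rc_8_2 lc_a_rc_0_0 lc_a_rc_4_2 lc_a_rc_3_2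 lc_a_rc_2_2 lc_a_rc_7_2 lc_a_rc_4_2 lc_a_rc_6_2 lc_a_rc_2_2 lc_a_rc_3_2 lc_a_Cert_tree) (@D3.rec (fun _ => (Cert rels S Gen.a)) lc_a_rc_2_2 lc_a_rc_0_0 lc_a_rc_2_2 lc_a_rc_3_2 lc_a_rc_8_2 lc_a_rc_3_2 lc_a_rc_3_2 lc_a_rc_2_2 lc_a_rc_4_2 lc_a_rc_2_2 lc_a_rc_8_2 lc_a_Cert_tree lc_a_rc_2_2 lc_a_rc_6_2 lc_a_Cert_tree lc_a_rc_2_2 lc_a_rc_4_2 lc_a_rc_0_0) (@D3.rec (fun _ => (Cert rels S Gen.a)) lc_a_rc_4_2 lc_a_rc_2_2 lc_a_rc_7_2 lc_a_rc_0_0 lc_a_rc_4_2 lc_a_rc_3_2 lc_a_Cert_tree lc_a_rc_2_2 lc_a_rc_8_2 lc_a_rc_0_0 lc_a_rc_4_2 lc_a_rc_3_2 lc_a_rc_2_2 lc_a_rc_7_2 lc_a_rc_4_2 lc_a_rc_6_2 lc_a_rc_2_2 lc_a_rc_3_2)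
def ce_a_2 : D2 → D3 → (Cert rels S Gen.a) := @D2.rec (fun _ => D3 → (Cert rels S Gen.a)) (@D3.rec (fun _ => (Cert rels S Gen.a)) lc_a_rc_2_2 lc_a_rc_2_2 lc_a_rc_3_2 lc_a_rc_2_2 lc_a_rc_3_2 lc_a_rc_4_2 lc_a_rc_5_2 lc_a_rc_3_2 lc_a_rc_3_2 lc_a_rc_4_2 lc_a_rc_3_2 lc_a_rc_8_2 lc_a_rc_3_2 lc_a_rc_8_2 lc_a_rc_2_2 lc_a_rc_5_2 lc_a_rc_2_2 lc_a_rc_8_2) (@D3.rec (fun _ => (Cert rels S Gen.a)) lc_a_Cert_tree lc_a_rc_2_2 lc_a_rc_6_2 lc_a_Cert_tree lc_a_rc_2_2 lc_a_rc_6_2 lc_a_rc_0_0 lc_a_rc_4_2 lc_a_rc_3_2 lc_a_rc_2_2 lc_a_rc_7_2 lc_a_rc_3_2 lc_a_rc_5_2 lc_a_rc_2_2 lc_a_rc_2_2 lc_a_rc_5_2 lc_a_rc_3_2 lc_a_rc_2_2) (@D3.rec (fun _ => (Cert rels S Gen.a)) lc_a_rc_4_2 lc_a_rc_2_2 lc_a_rc_4_2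 lc_a_Cert_tree lc_a_rc_2_2 lc_a_rc_4_2 lc_a_Cert_tree lc_a_rc_2_2 lc_a_rc_8_2 lc_a_rc_0_0 lc_a_rc_4_2 lc_a_rc_3_2 lc_a_rc_2_2 lc_a_rc_7_2 lc_a_rc_0_0 lc_a_rc_4_2 lc_a_rc_3_2 lc_a_rc_2_2) (@D3.rec (fun _ => (Cert rels S Gen.a)) lc_a_rc_4_2 lc_a_rc_4_2 lc_a_rc_6_2 lc_a_rc_2_2 lc_a_rc_4_2 lc_a_rc_3_2 lc_a_rc_5_2 lc_a_rc_5_2 lc_a_rc_3_2 lc_a_rc_4_2 lc_a_Cert_tree lc_a_rc_4_2 lc_a_rc_6_2 lc_a_Cert_tree lc_a_rc_2_2 lc_a_rc_8_2 lc_a_rc_0_0 lc_a_rc_4_2) (@D3.rec (fun _ => (Cert rels S Gen.a)) lc_a_rc_3_2 lc_a_rc_2_2 lc_a_rc_7_2 lc_a_rc_4_2 lc_a_rc_3_2 lc_a_rc_6_2 lc_a_rc_3_2 lc_a_rc_5_2 lc_a_rc_2_2 lc_a_rc_3_2 lc_a_rc_0_0 lc_a_rc_4_2 lc_a_rc_3_2 lc_a_rc_2_2 lc_a_rc_8_2 lc_a_rc_4_2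 lc_a_rc_8_2 lc_a_rc_1_4) (@D3.rec (fun _ => (Cert rels S Gen.a)) lc_a_rc_5_2 lc_a_rc_2_2 lc_a_rc_6_2 lc_a_rc_7_2 lc_a_rc_0_0 lc_a_rc_4_2 lc_a_rc_3_2 lc_a_rc_1_2 lc_a_rc_2_2 lc_a_rc_5_2 lc_a_rc_3_2 lc_a_rc_2_2 lc_a_rc_4_2 lc_a_rc_2_2 lc_a_rc_4_2 lc_a_Cert_tree lc_a_rc_2_2 lc_a_rc_4_2) (@D3.rec (fun _ => (Cert rels S Gen.a)) lc_a_Cert_tree lc_a_rc_2_2 lc_a_rc_8_2 lc_a_rc_0_0 lc_a_rc_4_2 lc_a_rc_3_2 lc_a_rc_2_2 lc_a_rc_7_2 lc_a_rc_0_0 lc_a_rc_4_2 lc_a_rc_3_2 lc_a_rc_2_2 lc_a_rc_4_2 lc_a_rc_4_2 lc_a_rc_6_2 lc_a_rc_2_2 lc_a_rc_4_2 lc_a_rc_3_2) (@D3.rec (fun _ => (Cert rels S Gen.a)) lc_a_rc_5_2 lc_a_rc_0_0 lc_a_rc_3_2 lc_a_rc_3_2 lc_a_rc_2_2 lc_a_rc_8_2 lc_a_rc_4_2 lc_a_rc_2_2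 lc_a_rc_6_2 lc_a_rc_7_2 lc_a_rc_5_2 lc_a_rc_2_2 lc_a_rc_3_2 lc_a_rc_5_2 lc_a_rc_3_2 lc_a_rc_3_2 lc_a_rc_4_2 lc_a_rc_5_2) (@D3.rec (fun _ => (Cert rels S Gen.a)) lc_a_rc_3_2 lc_a_rc_4_2 lc_a_Cert_tree lc_a_rc_4_2 lc_a_rc_6_2 lc_a_rc_5_2 lc_a_rc_3_2 lc_a_rc_2_2 lc_a_rc_3_2 lc_a_rc_2_2 lc_a_rc_8_2 lc_a_Cert_tree lc_a_rc_2_2 lc_a_rc_6_2 lc_a_Cert_tree lc_a_rc_2_2 lc_a_rc_8_2 lc_a_rc_0_0) (@D3.rec (fun _ => (Cert rels S Gen.a)) lc_a_rc_4_2 lc_a_rc_3_2 lc_a_rc_2_2 lc_a_rc_7_2 lc_a_rc_0_0 lc_a_rc_4_2 lc_a_rc_3_2 lc_a_rc_2_2 lc_a_rc_7_2 lc_a_rc_4_2 lc_a_rc_3_2 lc_a_rc_6_2 lc_a_rc_3_2 lc_a_rc_5_2 lc_a_rc_2_2 lc_a_rc_4_2 lc_a_rc_3_2 lc_a_rc_5_2) (@D3.rec (fun _ => (Cert rels S Gen.a))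 lc_a_rc_8_2 lc_a_rc_2_2 lc_a_rc_5_2 lc_a_rc_2_2 lc_a_rc_4_2 lc_a_Cert_tree lc_a_rc_2_2 lc_a_rc_6_2 lc_a_Cert_tree lc_a_rc_2_2 lc_a_rc_4_2 lc_a_rc_0_0 lc_a_rc_4_2 lc_a_rc_3_2 lc_a_rc_2_2 lc_a_rc_4_2 lc_a_rc_0_0 lc_a_rc_4_2) (@D3.rec (fun _ => (Cert rels S Gen.a)) lc_a_rc_3_2 lc_a_rc_2_2 lc_a_rc_8_2 lc_a_rc_4_2 lc_a_rc_3_2 lc_a_rc_6_2 lc_a_rc_3_2 lc_a_rc_2_2 lc_a_rc_4_2 lc_a_rc_3_2 lc_a_rc_6_2 lc_a_rc_3_2 lc_a_rc_5_2 lc_a_rc_2_2 lc_a_rc_6_2 lc_a_rc_7_2 lc_a_rc_3_2 lc_a_rc_2_2) (@D3.rec (fun _ => (Cert rels S Gen.a)) lc_a_rc_1_4 lc_a_rc_4_0 lc_a_rc_5_2 lc_a_Cert_tree lc_a_rc_4_2 lc_a_rc_0_0 lc_a_rc_4_2 lc_a_rc_4_2 lc_a_rc_6_2 lc_a_rc_0_0 lc_a_rc_4_2 lc_a_rc_3_2 lc_a_rc_2_2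 lc_a_rc_8_2 lc_a_rc_4_2 lc_a_rc_3_2 lc_a_rc_6_2 lc_a_rc_3_2) (@D3.rec (fun _ => (Cert rels S Gen.a)) lc_a_rc_5_2 lc_a_rc_2_2 lc_a_rc_3_2 lc_a_rc_6_2 lc_a_rc_3_2 lc_a_rc_5_2 lc_a_rc_7_2 lc_a_rc_3_2 lc_a_rc_4_2 lc_a_rc_4_0 lc_a_rc_8_0 lc_a_rc_1_2 lc_a_rc_2_2 lc_a_rc_7_2 lc_a_rc_7_2 lc_a_rc_7_2 lc_a_rc_4_2 lc_a_rc_4_0) (@D3.rec (fun _ => (Cert rels S Gen.a)) lc_a_rc_5_2 lc_a_rc_5_2 lc_a_rc_2_2 lc_a_rc_4_2 lc_a_rc_4_0 lc_a_rc_2_2 lc_a_rc_6_2 lc_a_Cert_tree lc_a_rc_2_2 lc_a_rc_4_2 lc_a_rc_0_0 lc_a_rc_4_2 lc_a_rc_3_2 lc_a_rc_2_2 lc_a_rc_4_2 lc_a_rc_0_0 lc_a_rc_7_2 lc_a_rc_3_2)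
def ce_a_3 : D2 → D3 → (Cert rels S Gen.a) := @D2.rec (fun _ => D3 → (Cert rels S Gen.a)) (@D3.rec (fun _ => (Cert rels S Gen.a)) lc_a_rc_2_2 lc_a_rc_8_2 lc_a_rc_4_2 lc_a_rc_1_4 lc_a_rc_6_2 lc_a_rc_3_2 lc_a_rc_2_2 lc_a_rc_4_2 lc_a_rc_3_2 lc_a_rc_6_2 lc_a_rc_3_2 lc_a_rc_5_2 lc_a_rc_2_2 lc_a_rc_6_2 lc_a_rc_7_2 lc_a_rc_3_2 lc_a_rc_7_2 lc_a_rc_5_2) (@D3.rec (fun _ => (Cert rels S Gen.a)) lc_a_rc_3_2 lc_a_rc_2_2 lc_a_rc_4_2 lc_a_rc_5_2 lc_a_rc_3_2 lc_a_rc_4_2 lc_a_Cert_tree lc_a_rc_4_2 lc_a_rc_6_2 lc_a_rc_5_2 lc_a_Cert_tree lc_a_rc_4_2 lc_a_rc_6_2 lc_a_rc_0_0 lc_a_rc_4_2 lc_a_rc_4_2 lc_a_rc_6_2 lc_a_rc_7_2) (@D3.rec (fun _ => (Cert rels S Gen.a)) lc_a_rc_5_2 lc_a_rc_2_2 lc_a_rc_3_2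 lc_a_Cert_tree lc_a_rc_2_2 lc_a_rc_3_2 lc_a_Cert_tree lc_a_rc_2_2 lc_a_rc_8_2 lc_a_rc_0_0 lc_a_rc_4_2 lc_a_rc_3_2 lc_a_rc_2_2 lc_a_rc_7_2 lc_a_rc_0_0 lc_a_rc_4_2 lc_a_rc_3_2 lc_a_rc_2_2) (@D3.rec (fun _ => (Cert rels S Gen.a)) lc_a_rc_8_2 lc_a_rc_4_2 lc_a_rc_3_2 lc_a_rc_6_2 lc_a_rc_3_2 lc_a_rc_5_2 lc_a_rc_2_2 lc_a_rc_4_2 lc_a_rc_3_2 lc_a_rc_6_2 lc_a_rc_3_2 lc_a_rc_5_2 lc_a_rc_2_2 lc_a_rc_3_2 lc_a_rc_6_2 lc_a_rc_3_2 lc_a_rc_5_2 lc_a_rc_7_2) (@D3.rec (fun _ => (Cert rels S Gen.a)) lc_a_rc_4_2 lc_a_rc_3_2 lc_a_rc_5_2 lc_a_rc_8_2 lc_a_rc_4_2 lc_a_rc_5_2 lc_a_rc_5_2 lc_a_rc_1_2 lc_a_rc_2_2 lc_a_rc_6_2 lc_a_rc_0_0 lc_a_rc_4_2 lc_a_rc_3_2 lc_a_rc_2_2 lc_a_rc_7_2 lc_a_rc_0_0 lc_a_rc_4_2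 lc_a_rc_3_2) (@D3.rec (fun _ => (Cert rels S Gen.a)) lc_a_rc_2_2 lc_a_rc_4_2 lc_a_rc_4_2 lc_a_rc_3_2 lc_a_rc_6_2 lc_a_rc_3_2 lc_a_rc_5_2 lc_a_rc_2_2 lc_a_rc_4_2 lc_a_rc_7_2 lc_a_rc_6_2 lc_a_rc_3_2 lc_a_rc_2_2 lc_a_rc_3_2 lc_a_rc_6_2 lc_a_rc_2_2 lc_a_rc_6_2 lc_a_rc_5_2) (@D3.rec (fun _ => (Cert rels S Gen.a)) lc_a_rc_4_2 lc_a_rc_6_2 lc_a_rc_3_2 lc_a_rc_6_2 lc_a_rc_2_2 lc_a_rc_3_2 lc_a_rc_6_0 lc_a_rc_7_2 lc_a_rc_3_2 lc_a_rc_5_2 lc_a_rc_1_2 lc_a_rc_7_2 lc_a_rc_2_2 lc_a_rc_2_2 lc_a_Cert_tree lc_a_rc_0_0 lc_a_rc_4_2 lc_a_rc_4_2) (@D3.rec (fun _ => (Cert rels S Gen.a)) lc_a_rc_4_2 lc_a_rc_3_2 lc_a_rc_6_2 lc_a_rc_6_2 lc_a_rc_5_2 lc_a_rc_4_2 lc_a_rc_3_2 lc_a_rc_2_2 lc_a_rc_3_2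 lc_a_rc_5_2 lc_a_rc_2_2 lc_a_rc_3_2 lc_a_rc_6_2 lc_a_rc_3_2 lc_a_rc_3_2 lc_a_rc_5_2 lc_a_rc_2_2 lc_a_rc_3_2) (@D3.rec (fun _ => (Cert rels S Gen.a)) lc_a_rc_3_2 lc_a_rc_5_2 lc_a_rc_7_2 lc_a_rc_3_2 lc_a_rc_5_2 lc_a_rc_2_2 lc_a_rc_6_2 lc_a_rc_1_4 lc_a_rc_3_2 lc_a_rc_2_2 lc_a_rc_7_2 lc_a_rc_0_0 lc_a_rc_4_2 lc_a_rc_3_2 lc_a_rc_2_2 lc_a_rc_4_2 lc_a_rc_4_2 lc_a_rc_3_2) (@D3.rec (fun _ => (Cert rels S Gen.a)) lc_a_rc_6_2 lc_a_rc_3_2 lc_a_rc_5_2 lc_a_rc_2_2 lc_a_rc_6_2 lc_a_rc_3_2 lc_a_rc_2_2 lc_a_rc_6_2 lc_a_rc_4_2 lc_a_rc_3_2 lc_a_rc_6_2 lc_a_rc_3_2 lc_a_rc_7_2 lc_a_rc_3_2 lc_a_rc_5_2 lc_a_rc_7_2 lc_a_rc_2_2 lc_a_rc_5_2) (@D3.rec (fun _ => (Cert rels S Gen.a)) lc_a_rc_2_2 lc_a_rc_4_2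 lc_a_Cert_tree lc_a_rc_2_2 lc_a_rc_6_2 lc_a_rc_5_2 lc_a_rc_5_2 lc_a_Cert_tree lc_a_rc_4_2 lc_a_rc_6_2 lc_a_rc_0_0 lc_a_rc_4_2 lc_a_rc_4_2 lc_a_rc_6_2 lc_a_rc_7_2 lc_a_Cert_tree lc_a_rc_0_0 lc_a_rc_4_2) (@D3.rec (fun _ => (Cert rels S Gen.a)) lc_a_rc_4_2 lc_a_rc_6_2 lc_a_rc_4_2 lc_a_rc_3_2 lc_a_rc_6_2 lc_a_rc_6_2 lc_a_rc_5_2 lc_a_rc_7_2 lc_a_rc_2_2 lc_a_rc_5_2 lc_a_rc_2_2 lc_a_rc_2_2 lc_a_rc_3_2 lc_a_rc_0_0 lc_a_rc_4_2 lc_a_rc_2_2 lc_a_rc_2_2 lc_a_rc_3_2) (@D3.rec (fun _ => (Cert rels S Gen.a)) lc_a_rc_0_0 lc_a_rc_4_2 lc_a_rc_3_2 lc_a_rc_2_2 lc_a_rc_8_2 lc_a_rc_4_2 lc_a_rc_3_2 lc_a_rc_6_2 lc_a_rc_3_2 lc_a_rc_5_2 lc_a_rc_2_2 lc_a_rc_4_2 lc_a_rc_3_2 lc_a_rc_6_2 lc_a_rc_3_2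 lc_a_rc_5_2 lc_a_rc_2_2 lc_a_rc_3_2) (@D3.rec (fun _ => (Cert rels S Gen.a)) lc_a_rc_6_2 lc_a_rc_2_2 lc_a_rc_3_2 lc_a_rc_5_2 lc_a_rc_7_2 lc_a_rc_4_2 lc_a_rc_3_2 lc_a_rc_5_2 lc_a_rc_8_2 lc_a_rc_3_2 lc_a_rc_6_2 lc_a_rc_2_2 lc_a_rc_3_2 lc_a_rc_5_2 lc_a_rc_7_2 lc_a_rc_4_2 lc_a_rc_3_2 lc_a_rc_5_2) (@D3.rec (fun _ => (Cert rels S Gen.a)) lc_a_rc_8_2 lc_a_rc_3_2 lc_a_rc_5_2 lc_a_rc_7_2 lc_a_rc_4_2 lc_a_rc_3_2 lc_a_rc_5_2 lc_a_rc_8_2 lc_a_rc_4_2 lc_a_rc_5_2 lc_a_rc_3_2 lc_a_rc_6_2 lc_a_rc_6_0 lc_a_rc_3_2 lc_a_rc_2_2 lc_a_rc_7_2 lc_a_rc_4_2 lc_a_rc_3_2)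
def ce_a_4 : D2 → D3 → (Cert rels S Gen.a) := @D2.rec (fun _ => D3 → (Cert rels S Gen.a)) (@D3.rec (fun _ => (Cert rels S Gen.a)) lc_a_rc_6_2 lc_a_rc_3_2 lc_a_rc_5_2 lc_a_rc_2_2 lc_a_rc_4_2 lc_a_rc_3_2 lc_a_rc_6_2 lc_a_rc_3_2 lc_a_rc_5_2 lc_a_rc_2_2 lc_a_rc_3_2 lc_a_rc_6_2 lc_a_rc_2_2 lc_a_rc_3_2 lc_a_rc_6_0 lc_a_rc_7_2 lc_a_rc_3_2 lc_a_rc_3_2) (@D3.rec (fun _ => (Cert rels S Gen.a)) lc_a_rc_5_2 lc_a_rc_1_2 lc_a_rc_6_2 lc_a_rc_2_2 lc_a_rc_5_0 lc_a_rc_6_2 lc_a_rc_3_0 lc_a_rc_2_2 lc_a_rc_6_2 lc_a_rc_1_4 lc_a_rc_3_0 lc_a_rc_2_2 lc_a_rc_3_2 lc_a_rc_7_2 lc_a_rc_2_2 lc_a_rc_6_0 lc_a_rc_3_2 lc_a_rc_1_4) (@D3.rec (fun _ => (Cert rels S Gen.a)) lc_a_rc_5_2 lc_a_rc_1_2 lc_a_rc_3_2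 lc_a_rc_0_0 lc_a_rc_4_2 lc_a_rc_3_2 lc_a_rc_3_2 lc_a_rc_6_2 lc_a_rc_2_2 lc_a_rc_3_2 lc_a_rc_5_2 lc_a_rc_4_2 lc_a_rc_6_2 lc_a_rc_3_2 lc_a_rc_2_2 lc_a_rc_2_2 lc_a_rc_46_28 lc_a_rc_3_2) (@D3.rec (fun _ => (Cert rels S Gen.a)) lc_a_rc_5_2 lc_a_rc_46_35 lc_a_rc_2_2 lc_a_rc_3_2 lc_a_rc_6_2 lc_a_rc_3_2 lc_a_rc_2_2 lc_a_rc_7_2 lc_a_rc_1_4 lc_a_rc_1_4 lc_a_rc_3_2 lc_a_rc_5_2 lc_a_rc_2_2 lc_a_rc_4_2 lc_a_rc_3_2 lc_a_rc_3_0 lc_a_rc_3_2 lc_a_rc_5_2) (@D3.rec (fun _ => (Cert rels S Gen.a)) lc_a_rc_2_2 lc_a_rc_3_2 lc_a_rc_6_2 lc_a_rc_3_2 lc_a_rc_4_2 lc_a_rc_3_2 lc_a_rc_3_2 lc_a_rc_5_2 lc_a_rc_3_2 lc_a_rc_7_2 lc_a_rc_3_2 lc_a_rc_5_2 lc_a_Cert_tree lc_a_rc_2_2 lc_a_rc_6_2 lc_a_rc_3_2 lc_a_rc_2_2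 lc_a_rc_6_2) (@D3.rec (fun _ => (Cert rels S Gen.a)) lc_a_rc_0_0 lc_a_rc_4_2 lc_a_rc_2_2 lc_a_rc_2_2 lc_a_rc_7_2 lc_a_Cert_tree lc_a_rc_5_2 lc_a_rc_0_0 lc_a_rc_4_2 lc_a_rc_4_2 lc_a_rc_6_2 lc_a_rc_4_2 lc_a_rc_3_2 lc_a_rc_6_2 lc_a_rc_6_2 lc_a_rc_5_2 lc_a_rc_7_2 lc_a_rc_0_0) (@D3.rec (fun _ => (Cert rels S Gen.a)) lc_a_rc_4_2 lc_a_rc_3_2 lc_a_rc_6_2 lc_a_rc_6_2 lc_a_rc_3_2 lc_a_rc_6_2 lc_a_rc_2_2 lc_a_rc_3_2 lc_a_rc_5_2 lc_a_rc_7_2 lc_a_rc_6_2 lc_a_rc_7_2 lc_a_rc_6_2 lc_a_rc_8_2 lc_a_rc_2_2 lc_a_rc_5_2 lc_a_rc_6_0 lc_a_rc_2_2) (@D3.rec (fun _ => (Cert rels S Gen.a)) lc_a_rc_2_2 lc_a_rc_3_2 lc_a_rc_4_2 lc_a_rc_3_2 lc_a_rc_6_2 lc_a_rc_2_2 lc_a_rc_2_2 lc_a_rc_2_2 lc_a_rc_4_2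 lc_a_rc_3_2 lc_a_rc_6_2 lc_a_rc_3_2 lc_a_rc_5_2 lc_a_rc_2_2 lc_a_rc_3_2 lc_a_rc_6_2 lc_a_rc_2_2 lc_a_rc_3_2) (@D3.rec (fun _ => (Cert rels S Gen.a)) lc_a_rc_5_2 lc_a_rc_7_2 lc_a_rc_4_2 lc_a_rc_3_2 lc_a_rc_5_2 lc_a_rc_8_2 lc_a_rc_3_2 lc_a_rc_6_2 lc_a_rc_3_2 lc_a_rc_3_2 lc_a_rc_4_2 lc_a_rc_6_2 lc_a_rc_4_2 lc_a_rc_3_2 lc_a_rc_5_2 lc_a_rc_8_2 lc_a_rc_2_2 lc_a_rc_3_2) (@D3.rec (fun _ => (Cert rels S Gen.a)) lc_a_rc_5_2 lc_a_rc_7_2 lc_a_rc_6_2 lc_a_rc_7_2 lc_a_rc_4_2 lc_a_rc_6_2 lc_a_rc_5_2 lc_a_rc_5_2 lc_a_rc_4_2 lc_a_rc_5_2 lc_a_rc_2_2 lc_a_rc_3_2 lc_a_rc_5_2 lc_a_rc_7_2 lc_a_rc_2_2 lc_a_rc_2_2 lc_a_rc_4_2 lc_a_rc_3_2) (@D3.rec (fun _ => (Cert rels S Gen.a)) lc_a_rc_5_2 lc_a_rc_8_2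 lc_a_rc_4_2 lc_a_rc_5_2 lc_a_rc_5_2 lc_a_rc_8_2 lc_a_rc_4_2 lc_a_rc_3_2 lc_a_rc_5_2 lc_a_rc_8_2 lc_a_rc_4_2 lc_a_rc_5_2 lc_a_rc_3_2 lc_a_rc_2_2 lc_a_rc_7_2 lc_a_rc_7_0 lc_a_rc_4_0 lc_a_rc_3_2) (@D3.rec (fun _ => (Cert rels S Gen.a)) lc_a_rc_2_2 lc_a_rc_3_2 lc_a_rc_6_2 lc_a_rc_2_2 lc_a_rc_3_2 lc_a_rc_5_2 lc_a_rc_7_2 lc_a_rc_4_2 lc_a_rc_3_2 lc_a_rc_5_2 lc_a_rc_2_2 lc_a_rc_3_2 lc_a_rc_6_2 lc_a_rc_2_2 lc_a_rc_3_2 lc_a_rc_5_2 lc_a_rc_1_2 lc_a_rc_4_2) (@D3.rec (fun _ => (Cert rels S Gen.a)) lc_a_rc_3_2 lc_a_rc_5_2 lc_a_rc_2_0 lc_a_rc_2_2 lc_a_rc_3_2 lc_a_rc_7_2 lc_a_rc_2_2 lc_a_rc_2_2 lc_a_rc_1_4 lc_a_rc_1_4 lc_a_rc_7_0 lc_a_rc_2_0 lc_a_rc_5_2 lc_a_rc_5_2 lc_a_rc_1_2 lc_a_rc_2_2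 lc_a_rc_2_2 lc_a_rc_3_2) (@D3.rec (fun _ => (Cert rels S Gen.a)) lc_a_rc_2_2 lc_a_rc_4_2 lc_a_rc_7_2 lc_a_rc_1_4 lc_a_rc_1_2 lc_a_rc_4_2 lc_a_rc_3_2 lc_a_rc_46_21 lc_a_rc_2_2 lc_a_rc_3_2 lc_a_rc_5_2 lc_a_rc_46_14 lc_a_rc_7_2 lc_a_rc_3_2 lc_a_rc_2_2 lc_a_rc_2_2 lc_a_rc_1_4 lc_a_rc_3_0) (@D3.rec (fun _ => (Cert rels S Gen.a)) lc_a_rc_1_4 lc_a_rc_4_2 lc_a_rc_3_2 lc_a_rc_5_2 lc_a_rc_3_2 lc_a_rc_2_0 lc_a_rc_4_2 lc_a_rc_3_2 lc_a_rc_5_2 lc_a_rc_3_2 lc_a_rc_5_2 lc_a_rc_5_2 lc_a_rc_3_2 lc_a_rc_0_0 lc_a_rc_4_2 lc_a_rc_3_2 lc_a_rc_2_2 lc_a_rc_7_2)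
def ce_a_5 : D2 → D3 → (Cert rels S Gen.a) := @D2.rec (fun _ => D3 → (Cert rels S Gen.a)) (@D3.rec (fun _ => (Cert rels S Gen.a)) lc_a_rc_4_2 lc_a_rc_2_2 lc_a_rc_2_2 lc_a_rc_4_2 lc_a_rc_3_2 lc_a_rc_6_2 lc_a_rc_2_2 lc_a_rc_2_2 lc_a_rc_2_2 lc_a_rc_0_0 lc_a_rc_4_2 lc_a_rc_3_2 lc_a_rc_4_2 lc_a_rc_3_2 lc_a_rc_6_2 lc_a_rc_6_2 lc_a_rc_5_2 lc_a_rc_3_2) (@D3.rec (fun _ => (Cert rels S Gen.a)) lc_a_rc_6_2 lc_a_rc_2_2 lc_a_rc_3_2 lc_a_rc_5_2 lc_a_rc_7_2 lc_a_rc_6_2 lc_a_rc_7_2 lc_a_rc_6_2 lc_a_rc_8_2 lc_a_rc_3_2 lc_a_rc_6_2 lc_a_rc_4_2 lc_a_rc_3_2 lc_a_rc_6_2 lc_a_rc_2_2 lc_a_rc_3_2 lc_a_rc_5_2 lc_a_rc_7_2) (@D3.rec (fun _ => (Cert rels S Gen.a)) lc_a_rc_2_2 lc_a_rc_5_2 lc_a_rc_4_2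 lc_a_rc_3_2 lc_a_rc_5_2 lc_a_rc_7_0 lc_a_rc_7_2 lc_a_rc_6_2 lc_a_rc_7_2 lc_a_rc_8_2 lc_a_rc_3_2 lc_a_rc_2_2 lc_a_rc_5_2 lc_a_rc_6_0 lc_a_rc_2_2 lc_a_rc_2_2 lc_a_rc_2_2 lc_a_rc_2_2) (@D3.rec (fun _ => (Cert rels S Gen.a)) lc_a_rc_3_2 lc_a_rc_6_2 lc_a_rc_2_2 lc_a_rc_3_2 lc_a_rc_5_2 lc_a_rc_7_2 lc_a_rc_2_2 lc_a_rc_2_2 lc_a_rc_2_2 lc_a_rc_2_2 lc_a_rc_3_2 lc_a_rc_6_2 lc_a_rc_2_2 lc_a_rc_3_2 lc_a_rc_5_2 lc_a_rc_2_2 lc_a_rc_4_2 lc_a_rc_3_2) (@D3.rec (fun _ => (Cert rels S Gen.a)) lc_a_rc_5_2 lc_a_rc_8_2 lc_a_rc_2_2 lc_a_rc_3_2 lc_a_rc_5_2 lc_a_rc_7_2 lc_a_rc_2_2 lc_a_rc_2_2 lc_a_rc_4_2 lc_a_rc_3_2 lc_a_rc_5_2 lc_a_rc_8_2 lc_a_rc_4_2 lc_a_rc_5_2 lc_a_rc_5_2 lc_a_rc_8_2 lc_a_rc_3_2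 lc_a_rc_6_2) (@D3.rec (fun _ => (Cert rels S Gen.a)) lc_a_rc_4_2 lc_a_rc_6_2 lc_a_rc_5_2 lc_a_rc_4_2 lc_a_rc_5_2 lc_a_rc_4_2 lc_a_rc_5_2 lc_a_rc_4_2 lc_a_rc_0_1 lc_a_rc_4_2 lc_a_rc_5_2 lc_a_rc_3_2 lc_a_rc_2_2 lc_a_rc_2_2 lc_a_rc_4_2 lc_a_rc_3_2 lc_a_rc_5_2 lc_a_rc_8_2) (@D3.rec (fun _ => (Cert rels S Gen.a)) lc_a_rc_2_2 lc_a_rc_2_2 lc_a_rc_2_2 lc_a_rc_6_0 lc_a_rc_2_2 lc_a_rc_4_2 lc_a_rc_5_2 lc_a_rc_5_2 lc_a_rc_8_2 lc_a_rc_5_2 lc_a_rc_3_2 lc_a_rc_8_2 lc_a_rc_8_2 lc_a_rc_4_2 lc_a_rc_5_2 lc_a_rc_3_2 lc_a_rc_2_2 lc_a_Cert_tree) (@D3.rec (fun _ => (Cert rels S Gen.a)) lc_a_rc_2_2 lc_a_rc_3_2 lc_a_rc_3_0 lc_a_rc_4_2 lc_a_rc_3_2 lc_a_rc_2_2 lc_a_rc_3_2 lc_a_rc_5_2 lc_a_rc_7_2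 lc_a_rc_2_2 lc_a_rc_2_2 lc_a_rc_4_2 lc_a_rc_3_2 lc_a_rc_5_2 lc_a_rc_5_2 lc_a_rc_4_2 lc_a_rc_0_1 lc_a_rc_5_2) (@D3.rec (fun _ => (Cert rels S Gen.a)) lc_a_rc_2_2 lc_a_rc_2_2 lc_a_rc_3_2 lc_a_rc_2_2 lc_a_rc_5_2 lc_a_rc_6_0 lc_a_rc_3_2 lc_a_rc_46_49 lc_a_rc_2_2 lc_a_rc_6_2 lc_a_rc_6_2 lc_a_rc_7_0 lc_a_rc_2_2 lc_a_rc_4_2 lc_a_rc_1_4 lc_a_rc_3_2 lc_a_rc_2_2 lc_a_rc_4_2) (@D3.rec (fun _ => (Cert rels S Gen.a)) lc_a_rc_3_2 lc_a_rc_4_2 lc_a_rc_0_1 lc_a_rc_4_2 lc_a_rc_3_2 lc_a_rc_1_4 lc_a_rc_6_0 lc_a_rc_46_21 lc_a_rc_0_0 lc_a_rc_4_2 lc_a_rc_3_2 lc_a_rc_6_2 lc_a_rc_3_2 lc_a_rc_3_2 lc_a_rc_2_2 lc_a_rc_4_2 lc_a_rc_46_28 lc_a_rc_2_2) (@D3.rec (fun _ => (Cert rels S Gen.a)) lc_a_rc_2_2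 lc_a_rc_3_2 lc_a_rc_6_2 lc_a_rc_2_2 lc_a_rc_3_2 lc_a_rc_5_2 lc_a_rc_7_2 lc_a_rc_2_2 lc_a_rc_2_2 lc_a_rc_2_2 lc_a_rc_2_2 lc_a_rc_4_2 lc_a_rc_3_2 lc_a_rc_3_2 lc_a_rc_3_2 lc_a_rc_6_2 lc_a_rc_2_2 lc_a_rc_3_2) (@D3.rec (fun _ => (Cert rels S Gen.a)) lc_a_rc_5_2 lc_a_rc_6_2 lc_a_rc_6_2 lc_a_rc_8_2 lc_a_rc_2_2 lc_a_rc_3_2 lc_a_rc_5_2 lc_a_rc_7_2 lc_a_rc_2_2 lc_a_rc_2_2 lc_a_rc_4_2 lc_a_rc_3_2 lc_a_rc_5_2 lc_a_rc_8_2 lc_a_rc_7_2 lc_a_rc_6_2 lc_a_rc_7_2 lc_a_rc_8_2) (@D3.rec (fun _ => (Cert rels S Gen.a)) lc_a_rc_3_2 lc_a_rc_6_2 lc_a_rc_4_2 lc_a_rc_2_2 lc_a_rc_4_2 lc_a_rc_3_2 lc_a_rc_5_2 lc_a_rc_2_2 lc_a_rc_4_2 lc_a_rc_5_2 lc_a_rc_7_2 lc_a_rc_3_0 lc_a_rc_7_2 lc_a_rc_3_2 lc_a_rc_3_2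 lc_a_rc_3_2 lc_a_rc_2_2 lc_a_rc_2_2) (@D3.rec (fun _ => (Cert rels S Gen.a)) lc_a_rc_7_0 lc_a_rc_7_0 lc_a_rc_2_2 lc_a_rc_2_2 lc_a_rc_2_2 lc_a_rc_2_2 lc_a_rc_2_2 lc_a_rc_2_2 lc_a_rc_3_2 lc_a_rc_5_2 lc_a_rc_7_2 lc_a_rc_2_2 lc_a_rc_2_2 lc_a_rc_4_2 lc_a_rc_3_2 lc_a_rc_5_2 lc_a_rc_8_2 lc_a_rc_2_2) (@D3.rec (fun _ => (Cert rels S Gen.a)) lc_a_rc_2_2 lc_a_rc_2_2 lc_a_rc_2_2 lc_a_rc_2_2 lc_a_rc_3_2 lc_a_rc_5_2 lc_a_rc_2_2 lc_a_rc_2_2 lc_a_rc_4_2 lc_a_rc_3_2 lc_a_rc_5_2 lc_a_rc_8_2 lc_a_rc_4_2 lc_a_rc_5_2 lc_a_rc_5_2 lc_a_rc_8_2 lc_a_rc_1_2 lc_a_rc_2_2)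
def ce_a_6 : D2 → D3 → (Cert rels S Gen.a) := @D2.rec (fun _ => D3 → (Cert rels S Gen.a)) (@D3.rec (fun _ => (Cert rels S Gen.a)) lc_a_rc_2_2 lc_a_rc_4_2 lc_a_rc_3_2 lc_a_rc_5_2 lc_a_rc_8_2 lc_a_rc_2_2 lc_a_rc_2_2 lc_a_rc_2_2 lc_a_rc_2_2 lc_a_rc_2_2 lc_a_rc_4_2 lc_a_rc_5_2 lc_a_rc_5_2 lc_a_rc_8_2 lc_a_rc_6_2 lc_a_rc_5_2 lc_a_rc_3_2 lc_a_rc_8_2) (@D3.rec (fun _ => (Cert rels S Gen.a)) lc_a_rc_8_2 lc_a_rc_4_2 lc_a_rc_4_2 lc_a_rc_4_2 lc_a_rc_2_2 lc_a_rc_5_2 lc_a_rc_4_2 lc_a_rc_4_2 lc_a_rc_3_2 lc_a_rc_2_2 lc_a_rc_2_2 lc_a_rc_2_2 lc_a_rc_2_2 lc_a_rc_2_2 lc_a_rc_4_2 lc_a_rc_5_2 lc_a_rc_5_2 lc_a_rc_8_2) (@D3.rec (fun _ => (Cert rels S Gen.a)) lc_a_rc_2_2 lc_a_rc_2_2 lc_a_rc_2_2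 lc_a_rc_7_0 lc_a_rc_2_2 lc_a_rc_4_2 lc_a_rc_8_2 lc_a_rc_5_2 lc_a_rc_3_2 lc_a_rc_8_2 lc_a_rc_8_2 lc_a_rc_8_2 lc_a_rc_2_2 lc_a_rc_3_2 lc_a_rc_3_2 lc_a_rc_2_2 lc_a_Cert_tree lc_a_rc_0_0) (@D3.rec (fun _ => (Cert rels S Gen.a)) lc_a_rc_7_0 lc_a_rc_6_0 lc_a_rc_3_2 lc_a_rc_5_2 lc_a_rc_2_2 lc_a_rc_2_2 lc_a_rc_4_2 lc_a_rc_3_2 lc_a_rc_5_2 lc_a_rc_2_2 lc_a_rc_2_2 lc_a_rc_2_2 lc_a_rc_6_0 lc_a_rc_0_0 lc_a_rc_2_2 lc_a_rc_2_2 lc_a_rc_2_2 lc_a_rc_2_2) (@D3.rec (fun _ => (Cert rels S Gen.a)) lc_a_rc_3_2 lc_a_rc_2_2 lc_a_rc_6_2 lc_a_rc_7_0 lc_a_rc_4_2 lc_a_rc_5_2 lc_a_rc_3_2 lc_a_rc_7_0 lc_a_rc_3_2 lc_a_rc_3_2 lc_a_rc_6_2 lc_a_rc_2_2 lc_a_rc_3_2 lc_a_rc_5_2 lc_a_rc_7_2 lc_a_rc_4_2 lc_a_rc_3_2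 lc_a_rc_3_2) (@D3.rec (fun _ => (Cert rels S Gen.a)) lc_a_rc_3_2 lc_a_rc_4_2 lc_a_rc_3_2 lc_a_rc_4_2 lc_a_rc_2_2 lc_a_rc_2_2 lc_a_rc_2_2 lc_a_rc_2_2 lc_a_rc_3_2 lc_a_rc_5_2 lc_a_rc_7_2 lc_a_rc_2_2 lc_a_rc_2_2 lc_a_rc_4_2 lc_a_rc_3_2 lc_a_rc_5_2 lc_a_rc_8_2 lc_a_rc_2_2) (@D3.rec (fun _ => (Cert rels S Gen.a)) lc_a_rc_2_2 lc_a_rc_2_2 lc_a_rc_2_2 lc_a_rc_3_2 lc_a_rc_2_2 lc_a_rc_5_2 lc_a_rc_3_2 lc_a_rc_2_2 lc_a_rc_3_2 lc_a_rc_5_2 lc_a_rc_2_2 lc_a_rc_2_2 lc_a_rc_4_2 lc_a_rc_5_2 lc_a_rc_8_2 lc_a_rc_6_2 lc_a_rc_8_2 lc_a_rc_1_2) (@D3.rec (fun _ => (Cert rels S Gen.a)) lc_a_rc_2_2 lc_a_rc_2_2 lc_a_rc_4_2 lc_a_rc_3_2 lc_a_rc_5_2 lc_a_rc_8_2 lc_a_rc_2_2 lc_a_rc_2_2 lc_a_rc_2_2 lc_a_rc_3_2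 lc_a_rc_2_2 lc_a_rc_4_2 lc_a_rc_5_2 lc_a_rc_5_2 lc_a_rc_8_2 lc_a_rc_7_2 lc_a_rc_7_2 lc_a_rc_3_2) (@D3.rec (fun _ => (Cert rels S Gen.a)) lc_a_rc_8_2 lc_a_rc_8_2 lc_a_rc_4_2 lc_a_rc_3_0 lc_a_rc_2_2 lc_a_rc_4_2 lc_a_rc_5_2 lc_a_rc_3_2 lc_a_rc_4_2 lc_a_rc_3_2 lc_a_rc_3_2 lc_a_rc_2_2 lc_a_rc_4_2 lc_a_rc_3_2 lc_a_rc_3_2 lc_a_rc_3_2 lc_a_rc_7_0 lc_a_rc_2_2) (@D3.rec (fun _ => (Cert rels S Gen.a)) lc_a_rc_4_2 lc_a_rc_6_0 lc_a_rc_5_2 lc_a_rc_8_2 lc_a_rc_2_2 lc_a_rc_2_2 lc_a_rc_2_2 lc_a_rc_2_2 lc_a_rc_1_2 lc_a_rc_2_2 lc_a_rc_2_2 lc_a_rc_4_2 lc_a_rc_3_2 lc_a_rc_5_2 lc_a_rc_8_2 lc_a_rc_2_2 lc_a_rc_2_2 lc_a_rc_2_2) (@D3.rec (fun _ => (Cert rels S Gen.a)) lc_a_rc_3_2 lc_a_rc_2_2 lc_a_rc_4_2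 lc_a_rc_5_2 lc_a_rc_5_2 lc_a_rc_8_2 lc_a_rc_2_2 lc_a_rc_2_2 lc_a_rc_3_2 lc_a_rc_2_2 lc_a_rc_2_2 lc_a_rc_6_0 lc_a_rc_2_2 lc_a_rc_2_2 lc_a_rc_4_2 lc_a_rc_5_2 lc_a_rc_8_2 lc_a_rc_2_2) (@D3.rec (fun _ => (Cert rels S Gen.a)) lc_a_rc_6_0 lc_a_rc_2_2 lc_a_rc_1_2 lc_a_rc_2_2 lc_a_rc_4_2 lc_a_rc_5_2 lc_a_rc_5_2 lc_a_rc_8_2 lc_a_rc_5_2 lc_a_rc_3_2 lc_a_rc_8_2 lc_a_rc_8_2 lc_a_rc_1_2 lc_a_rc_2_2 lc_a_rc_2_2 lc_a_rc_2_2 lc_a_rc_2_2 lc_a_rc_4_2) (@D3.rec (fun _ => (Cert rels S Gen.a)) lc_a_rc_5_2 lc_a_rc_5_2 lc_a_rc_8_2 lc_a_rc_0_1 lc_a_rc_0_1 lc_a_rc_2_2 lc_a_rc_2_2 lc_a_rc_7_0 lc_a_rc_2_2 lc_a_rc_4_2 lc_a_rc_2_2 lc_a_rc_2_0 lc_a_rc_5_2 lc_a_rc_3_2 lc_a_rc_8_2 lc_a_rc_8_2 lc_a_rc_8_2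 lc_a_rc_2_2) (@D3.rec (fun _ => (Cert rels S Gen.a)) lc_a_rc_3_2 lc_a_rc_3_2 lc_a_rc_5_2 lc_a_rc_5_0 lc_a_rc_2_2 lc_a_Cert_tree lc_a_rc_2_2 lc_a_rc_2_2 lc_a_rc_2_2 lc_a_rc_2_2 lc_a_rc_5_2 lc_a_rc_3_2 lc_a_rc_8_2 lc_a_rc_8_2 lc_a_rc_2_2 lc_a_rc_3_2 lc_a_rc_2_2 lc_a_rc_6_2) (@D3.rec (fun _ => (Cert rels S Gen.a)) lc_a_rc_2_2 lc_a_rc_5_2 lc_a_rc_8_2 lc_a_rc_4_0 lc_a_rc_4_2 lc_a_rc_8_2 lc_a_rc_2_2 lc_a_rc_3_2 lc_a_rc_5_2 lc_a_rc_2_2 lc_a_rc_2_2 lc_a_Cert_tree lc_a_rc_0_0 lc_a_rc_2_2 lc_a_rc_2_2 lc_a_rc_2_2 lc_a_rc_2_2 lc_a_rc_2_2)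
def ce_a_7 : D2 → D3 → (Cert rels S Gen.a) := @D2.rec (fun _ => D3 → (Cert rels S Gen.a)) (@D3.rec (fun _ => (Cert rels S Gen.a)) lc_a_rc_2_2 lc_a_rc_3_2 lc_a_rc_1_2 lc_a_rc_6_0 lc_a_rc_6_2 lc_a_rc_1_2 lc_a_rc_3_2 lc_a_rc_7_0 lc_a_rc_4_0 lc_a_rc_8_2 lc_a_rc_7_2 lc_a_rc_6_2 lc_a_rc_2_2 lc_a_rc_3_2 lc_a_rc_5_2 lc_a_rc_7_2 lc_a_rc_2_2 lc_a_rc_2_2) (@D3.rec (fun _ => (Cert rels S Gen.a)) lc_a_rc_4_2 lc_a_rc_3_2 lc_a_rc_5_2 lc_a_rc_8_2 lc_a_rc_4_2 lc_a_rc_4_2 lc_a_rc_3_2 lc_a_rc_3_2 lc_a_rc_4_0 lc_a_rc_4_2 lc_a_rc_46_28 lc_a_rc_4_0 lc_a_rc_4_2 lc_a_rc_2_2 lc_a_rc_2_2 lc_a_rc_1_2 lc_a_rc_2_2 lc_a_rc_2_2) (@D3.rec (fun _ => (Cert rels S Gen.a)) lc_a_rc_4_2 lc_a_rc_3_2 lc_a_rc_5_2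 lc_a_rc_8_2 lc_a_rc_2_2 lc_a_rc_2_2 lc_a_rc_2_2 lc_a_rc_3_2 lc_a_rc_2_2 lc_a_rc_4_2 lc_a_rc_5_2 lc_a_rc_5_2 lc_a_rc_8_2 lc_a_rc_2_2 lc_a_rc_2_2 lc_a_rc_3_2 lc_a_rc_2_2 lc_a_rc_2_2) (@D3.rec (fun _ => (Cert rels S Gen.a)) lc_a_rc_2_2 lc_a_rc_5_2 lc_a_rc_2_2 lc_a_rc_8_2 lc_a_rc_6_0 lc_a_rc_2_2 lc_a_rc_2_2 lc_a_rc_4_2 lc_a_rc_5_2 lc_a_rc_8_2 lc_a_rc_2_2 lc_a_rc_2_2 lc_a_rc_3_2 lc_a_rc_2_2 lc_a_rc_5_2 lc_a_rc_8_2 lc_a_rc_8_2 lc_a_rc_1_2) (@D3.rec (fun _ => (Cert rels S Gen.a)) lc_a_rc_1_2 lc_a_rc_2_2 lc_a_rc_2_2 lc_a_rc_2_2 lc_a_rc_3_2 lc_a_rc_2_2 lc_a_rc_4_2 lc_a_rc_5_2 lc_a_rc_5_2 lc_a_rc_8_2 lc_a_rc_3_2 lc_a_rc_2_2 lc_a_rc_2_2 lc_a_rc_2_2 lc_a_rc_3_2 lc_a_rc_2_2 lc_a_rc_3_2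 lc_a_rc_3_2) (@D3.rec (fun _ => (Cert rels S Gen.a)) lc_a_rc_5_0 lc_a_rc_5_2 lc_a_rc_3_2 lc_a_rc_8_2 lc_a_rc_8_2 lc_a_rc_5_2 lc_a_rc_3_2 lc_a_rc_8_2 lc_a_rc_2_2 lc_a_rc_3_2 lc_a_rc_2_0 lc_a_rc_3_2 lc_a_rc_3_2 lc_a_rc_4_2 lc_a_rc_46_28 lc_a_rc_2_2 lc_a_Cert_tree lc_a_rc_4_2) (@D3.rec (fun _ => (Cert rels S Gen.a)) lc_a_rc_4_2 lc_a_rc_3_2 lc_a_rc_3_2 lc_a_rc_0_0 lc_a_rc_6_0 lc_a_rc_7_0 lc_a_rc_2_2 lc_a_rc_4_2 lc_a_rc_7_0 lc_a_rc_5_2 lc_a_rc_8_2 lc_a_rc_2_2 lc_a_rc_3_2 lc_a_rc_2_2 lc_a_rc_2_2 lc_a_rc_1_2 lc_a_rc_1_2 lc_a_rc_2_2) (@D3.rec (fun _ => (Cert rels S Gen.a)) lc_a_rc_2_2 lc_a_rc_2_2 lc_a_rc_3_2 lc_a_rc_2_2 lc_a_rc_4_2 lc_a_rc_5_2 lc_a_rc_5_2 lc_a_rc_8_2 lc_a_rc_3_2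 lc_a_rc_2_2 lc_a_rc_2_2 lc_a_rc_2_2 lc_a_rc_3_2 lc_a_rc_2_2 lc_a_rc_6_0 lc_a_rc_3_2 lc_a_rc_6_2 lc_a_rc_5_2) (@D3.rec (fun _ => (Cert rels S Gen.a)) lc_a_rc_3_2 lc_a_rc_8_2 lc_a_rc_8_2 lc_a_rc_5_2 lc_a_rc_3_2 lc_a_rc_2_2 lc_a_rc_2_2 lc_a_rc_3_2 lc_a_rc_1_2 lc_a_rc_2_2 lc_a_rc_2_2 lc_a_rc_2_2 lc_a_rc_5_2 lc_a_rc_8_2 lc_a_rc_8_2 lc_a_rc_4_2 lc_a_rc_2_2 lc_a_rc_5_2) (@D3.rec (fun _ => (Cert rels S Gen.a)) lc_a_rc_1_2 lc_a_rc_2_2 lc_a_rc_1_2 lc_a_rc_5_2 lc_a_rc_2_0 lc_a_rc_8_2 lc_a_rc_8_2 lc_a_rc_8_2 lc_a_rc_3_2 lc_a_rc_1_2 lc_a_rc_1_2 lc_a_rc_2_2 lc_a_rc_2_2 lc_a_rc_2_2 lc_a_rc_5_2 lc_a_rc_3_2 lc_a_rc_8_2 lc_a_rc_8_2) (@D3.rec (fun _ => (Cert rels S Gen.a)) lc_a_rc_5_2 lc_a_rc_1_0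 lc_a_rc_1_4 lc_a_rc_3_2 lc_a_rc_2_2 lc_a_rc_6_2 lc_a_rc_2_2 lc_a_rc_0_1 lc_a_rc_8_2 lc_a_rc_4_0 lc_a_rc_4_2 lc_a_rc_8_2 lc_a_rc_2_2 lc_a_rc_3_2 lc_a_Cert_tree lc_a_rc_2_2 lc_a_rc_2_2 lc_a_rc_3_2) (@D3.rec (fun _ => (Cert rels S Gen.a)) lc_a_rc_8_2 lc_a_rc_4_2 lc_a_Cert_tree lc_a_rc_0_0 lc_a_rc_2_2 lc_a_rc_3_2 lc_a_rc_2_2 lc_a_rc_2_2 lc_a_rc_8_2 lc_a_rc_2_2 lc_a_rc_3_2 lc_a_rc_3_2 lc_a_rc_2_2 lc_a_rc_2_2 lc_a_rc_3_2 lc_a_rc_3_2 lc_a_rc_5_2 lc_a_rc_8_2) (@D3.rec (fun _ => (Cert rels S Gen.a)) lc_a_rc_0_1 lc_a_rc_8_2 lc_a_rc_5_0 lc_a_rc_4_0 lc_a_rc_46_35 lc_a_rc_2_2 lc_a_rc_7_2 lc_a_Cert_tree lc_a_rc_0_0 lc_a_rc_3_2 lc_a_rc_1_4 lc_a_rc_2_2 lc_a_rc_4_0 lc_a_rc_0_1 lc_a_rc_8_2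 lc_a_rc_3_2 lc_a_rc_0_1 lc_a_rc_0_1) (@D3.rec (fun _ => (Cert rels S Gen.a)) lc_a_rc_0_1 lc_a_rc_1_2 lc_a_rc_2_2 lc_a_rc_2_2 lc_a_rc_4_2 lc_a_rc_3_2 lc_a_rc_5_2 lc_a_rc_8_2 lc_a_rc_2_2 lc_a_rc_3_2 lc_a_rc_2_2 lc_a_rc_5_2 lc_a_rc_5_2 lc_a_rc_8_2 lc_a_rc_4_2 lc_a_rc_4_2 lc_a_rc_4_2 lc_a_rc_3_2) (@D3.rec (fun _ => (Cert rels S Gen.a)) lc_a_rc_46_28 lc_a_rc_4_0 lc_a_rc_3_2 lc_a_rc_4_2 lc_a_rc_6_2 lc_a_rc_4_0 lc_a_rc_3_2 lc_a_rc_2_2 lc_a_rc_1_2 lc_a_rc_1_2 lc_a_rc_2_2 lc_a_rc_2_2 lc_a_rc_2_2 lc_a_rc_3_2 lc_a_rc_2_2 lc_a_rc_4_2 lc_a_rc_5_2 lc_a_rc_5_2)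
def ce_a_8 : D2 → D3 → (Cert rels S Gen.a) := @D2.rec (fun _ => D3 → (Cert rels S Gen.a)) (@D3.rec (fun _ => (Cert rels S Gen.a)) lc_a_rc_8_2 lc_a_rc_3_2 lc_a_rc_2_2 lc_a_rc_2_2 lc_a_rc_2_2 lc_a_rc_3_2 lc_a_rc_2_2 lc_a_rc_4_2 lc_a_rc_3_2 lc_a_rc_6_2 lc_a_rc_5_2 lc_a_rc_3_2 lc_a_rc_8_2 lc_a_rc_8_2 lc_a_rc_5_2 lc_a_rc_3_2 lc_a_rc_2_2 lc_a_rc_2_2) (@D3.rec (fun _ => (Cert rels S Gen.a)) lc_a_rc_3_2 lc_a_rc_46_49 lc_a_rc_2_2 lc_a_rc_8_2 lc_a_rc_3_2 lc_a_rc_2_2 lc_a_rc_4_0 lc_a_rc_6_0 lc_a_rc_2_2 lc_a_rc_2_2 lc_a_rc_3_2 lc_a_rc_2_2 lc_a_rc_5_2 lc_a_rc_8_2 lc_a_rc_1_0 lc_a_rc_2_2 lc_a_rc_3_2 lc_a_rc_2_2) (@D3.rec (fun _ => (Cert rels S Gen.a)) lc_a_rc_3_2 lc_a_rc_3_2 lc_a_rc_8_2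 lc_a_rc_1_2 lc_a_rc_1_2 lc_a_rc_1_2 lc_a_rc_1_2 lc_a_rc_3_2 lc_a_rc_2_2 lc_a_rc_2_2 lc_a_rc_2_2 lc_a_rc_3_2 lc_a_rc_2_2 lc_a_rc_3_2 lc_a_rc_5_2 lc_a_rc_3_2 lc_a_rc_8_2 lc_a_rc_8_2) (@D3.rec (fun _ => (Cert rels S Gen.a)) lc_a_rc_46_21 lc_a_rc_5_2 lc_a_rc_3_2 lc_a_rc_2_2 lc_a_rc_3_2 lc_a_rc_2_2 lc_a_rc_3_2 lc_a_rc_2_2 lc_a_rc_4_2 lc_a_rc_3_2 lc_a_rc_3_2 lc_a_rc_3_2 lc_a_rc_5_2 lc_a_rc_3_2 lc_a_rc_3_2 lc_a_rc_8_2 lc_a_rc_2_2 lc_a_rc_3_2) (@D3.rec (fun _ => (Cert rels S Gen.a)) lc_a_rc_6_2 lc_a_rc_2_2 lc_a_rc_3_2 lc_a_Cert_tree lc_a_rc_2_2 lc_a_rc_3_2 lc_a_rc_6_2 lc_a_Cert_tree lc_a_rc_46_28 lc_a_rc_0_0 lc_a_rc_4_2 lc_a_rc_4_2 lc_a_rc_4_2 lc_a_rc_3_2 lc_a_rc_3_2 lc_a_rc_4_2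 lc_a_rc_7_0 lc_a_rc_5_2) (@D3.rec (fun _ => (Cert rels S Gen.a)) lc_a_rc_8_2 lc_a_rc_7_2 lc_a_rc_3_2 lc_a_rc_8_2 lc_a_rc_8_2 lc_a_rc_3_2 lc_a_rc_2_2 lc_a_rc_2_2 lc_a_rc_3_2 lc_a_rc_1_2 lc_a_rc_1_2 lc_a_rc_1_2 lc_a_rc_3_2 lc_a_rc_2_2 lc_a_rc_2_2 lc_a_rc_2_2 lc_a_rc_3_2 lc_a_rc_2_2) (@D3.rec (fun _ => (Cert rels S Gen.a)) lc_a_rc_3_2 lc_a_rc_6_2 lc_a_rc_5_2 lc_a_rc_3_2 lc_a_rc_8_2 lc_a_rc_8_2 lc_a_rc_1_2 lc_a_rc_5_2 lc_a_rc_2_2 lc_a_rc_2_2 lc_a_rc_3_2 lc_a_rc_2_2 lc_a_rc_1_2 lc_a_rc_2_2 lc_a_rc_4_2 lc_a_rc_3_2 lc_a_rc_5_2 lc_a_rc_8_2) (@D3.rec (fun _ => (Cert rels S Gen.a)) lc_a_rc_6_2 lc_a_rc_3_2 lc_a_rc_8_2 lc_a_rc_2_2 lc_a_rc_3_2 lc_a_rc_6_2 lc_a_rc_3_2 lc_a_Cert_tree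 lc_a_rc_2_2 lc_a_rc_5_2 lc_a_rc_2_2 lc_a_rc_2_2 lc_a_rc_8_2 lc_a_rc_1_0 lc_a_rc_0_0 lc_a_rc_3_2 lc_a_rc_2_2 lc_a_rc_46_49) (@D3.rec (fun _ => (Cert rels S Gen.a)) lc_a_rc_8_2 lc_a_rc_1_2 lc_a_rc_1_2 lc_a_rc_8_2 lc_a_rc_3_0 lc_a_rc_6_2 lc_a_rc_3_2 lc_a_rc_2_2 lc_a_rc_2_2 lc_a_rc_8_2 lc_a_rc_2_2 lc_a_rc_3_2 lc_a_rc_3_2 lc_a_rc_0_1 lc_a_rc_3_2 lc_a_rc_1_4 lc_a_rc_2_2 lc_a_rc_3_2) (@D3.rec (fun _ => (Cert rels S Gen.a)) lc_a_rc_3_2 lc_a_rc_5_2 lc_a_rc_8_2 lc_a_rc_2_2 lc_a_rc_8_2 lc_a_rc_7_2 lc_a_rc_4_0 lc_a_rc_46_35 lc_a_rc_2_2 lc_a_rc_0_0 lc_a_rc_8_2 lc_a_Cert_tree lc_a_rc_5_2 lc_a_rc_3_2 lc_a_Cert_tree lc_a_rc_0_0 lc_a_rc_3_2 lc_a_rc_2_2) (@D3.rec (fun _ => (Cert rels S Gen.a))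 lc_a_rc_2_2 lc_a_rc_3_2 lc_a_rc_6_2 lc_a_rc_2_2 lc_a_rc_3_2 lc_a_rc_3_2 lc_a_rc_4_0 lc_a_rc_2_2 lc_a_rc_2_2 lc_a_rc_3_2 lc_a_rc_3_2 lc_a_rc_5_2 lc_a_rc_5_2 lc_a_rc_8_2 lc_a_rc_8_2 lc_a_rc_7_2 lc_a_rc_8_2 lc_a_rc_0_0) (@D3.rec (fun _ => (Cert rels S Gen.a)) lc_a_rc_1_4 lc_a_rc_1_2 lc_a_rc_5_2 lc_a_rc_1_2 lc_a_rc_3_2 lc_a_rc_46_28 lc_a_rc_1_2 lc_a_rc_2_2 lc_a_rc_3_2 lc_a_rc_2_2 lc_a_rc_5_2 lc_a_rc_5_2 lc_a_rc_8_2 lc_a_rc_3_2 lc_a_rc_2_2 lc_a_rc_4_2 lc_a_rc_3_2 lc_a_rc_3_2) (@D3.rec (fun _ => (Cert rels S Gen.a)) lc_a_rc_8_2 lc_a_rc_8_2 lc_a_rc_4_2 lc_a_rc_4_2 lc_a_rc_2_2 lc_a_rc_4_2 lc_a_rc_3_2 lc_a_rc_2_2 lc_a_rc_3_2 lc_a_rc_4_0 lc_a_rc_3_2 lc_a_rc_3_2 lc_a_rc_0_0 lc_a_rc_3_2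 lc_a_rc_1_2 lc_a_rc_1_2 lc_a_rc_1_2 lc_a_rc_3_2) (@D3.rec (fun _ => (Cert rels S Gen.a)) lc_a_rc_1_2 lc_a_rc_3_2 lc_a_rc_2_2 lc_a_rc_2_2 lc_a_rc_2_2 lc_a_rc_3_2 lc_a_rc_2_2 lc_a_rc_4_2 lc_a_rc_3_2 lc_a_rc_6_2 lc_a_rc_5_2 lc_a_rc_3_2 lc_a_rc_8_2 lc_a_rc_8_2 lc_a_rc_3_2 lc_a_rc_5_2 lc_a_rc_2_2 lc_a_rc_2_2) (@D3.rec (fun _ => (Cert rels S Gen.a)) lc_a_rc_3_2 lc_a_rc_2_2 lc_a_rc_5_2 lc_a_rc_2_2 lc_a_rc_4_2 lc_a_rc_3_2 lc_a_rc_6_2 lc_a_rc_4_2 lc_a_rc_5_2 lc_a_rc_6_2 lc_a_rc_3_2 lc_a_rc_8_2 lc_a_rc_2_2 lc_a_rc_3_2 lc_a_rc_6_2 lc_a_rc_6_2 lc_a_rc_2_2 lc_a_rc_3_2)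
def ce_a_9 : D2 → D3 → (Cert rels S Gen.a) := @D2.rec (fun _ => D3 → (Cert rels S Gen.a)) (@D3.rec (fun _ => (Cert rels S Gen.a)) lc_a_Cert_tree lc_a_rc_2_2 lc_a_rc_5_2 lc_a_rc_46_28 lc_a_rc_3_2 lc_a_rc_2_2 lc_a_rc_46_42 lc_a_rc_3_2 lc_a_rc_1_2 lc_a_rc_5_2 lc_a_rc_8_2 lc_a_rc_2_2 lc_a_rc_3_2 lc_a_rc_2_2 lc_a_rc_3_2 lc_a_rc_8_2 lc_a_rc_1_0 lc_a_rc_3_2) (@D3.rec (fun _ => (Cert rels S Gen.a)) lc_a_rc_2_2 lc_a_rc_4_2 lc_a_rc_3_2 lc_a_rc_3_2 lc_a_rc_3_2 lc_a_rc_5_2 lc_a_rc_46_28 lc_a_rc_1_2 lc_a_rc_1_2 lc_a_rc_1_2 lc_a_rc_1_2 lc_a_rc_5_2 lc_a_rc_2_2 lc_a_rc_3_2 lc_a_rc_2_2 lc_a_rc_3_2 lc_a_rc_2_2 lc_a_rc_4_2) (@D3.rec (fun _ => (Cert rels S Gen.a)) lc_a_rc_3_2 lc_a_rc_5_2 lc_a_rc_8_2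 lc_a_rc_2_2 lc_a_rc_3_2 lc_a_rc_5_2 lc_a_rc_8_2 lc_a_rc_5_2 lc_a_rc_3_2 lc_a_rc_2_2 lc_a_rc_2_2 lc_a_rc_4_2 lc_a_rc_3_2 lc_a_rc_4_2 lc_a_rc_3_2 lc_a_rc_3_0 lc_a_rc_4_2 lc_a_rc_5_2) (@D3.rec (fun _ => (Cert rels S Gen.a)) lc_a_rc_4_0 lc_a_rc_3_2 lc_a_rc_3_0 lc_a_rc_3_2 lc_a_rc_6_0 lc_a_Cert_tree lc_a_rc_2_2 lc_a_rc_5_2 lc_a_rc_2_2 lc_a_rc_0_0 lc_a_rc_8_2 lc_a_rc_6_0 lc_a_rc_0_0 lc_a_rc_4_2 lc_a_rc_4_2 lc_a_rc_2_2 lc_a_rc_4_2 lc_a_rc_5_2) (@D3.rec (fun _ => (Cert rels S Gen.a)) lc_a_rc_0_0 lc_a_rc_3_2 lc_a_rc_0_0 lc_a_rc_8_2 lc_a_rc_3_2 lc_a_rc_8_2 lc_a_rc_2_2 lc_a_rc_3_2 lc_a_rc_3_2 lc_a_Cert_tree lc_a_rc_2_2 lc_a_rc_5_2 lc_a_rc_1_2 lc_a_rc_1_2 lc_a_rc_5_2 lc_a_rc_2_2 lc_a_rc_2_2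 lc_a_rc_3_2) (@D3.rec (fun _ => (Cert rels S Gen.a)) lc_a_rc_2_2 lc_a_rc_2_2 lc_a_rc_4_2 lc_a_rc_3_2 lc_a_rc_6_2 lc_a_rc_3_2 lc_a_rc_8_2 lc_a_rc_2_2 lc_a_rc_3_2 lc_a_rc_5_2 lc_a_rc_8_2 lc_a_rc_2_2 lc_a_rc_3_2 lc_a_rc_2_2 lc_a_rc_2_2 lc_a_rc_4_2 lc_a_rc_3_2 lc_a_rc_1_2) (@D3.rec (fun _ => (Cert rels S Gen.a)) lc_a_rc_5_2 lc_a_rc_4_2 lc_a_rc_5_0 lc_a_rc_8_2 lc_a_rc_8_2 lc_a_rc_2_2 lc_a_rc_3_2 lc_a_Cert_tree lc_a_rc_2_2 lc_a_rc_5_2 lc_a_rc_5_2 lc_a_rc_0_0 lc_a_rc_8_2 lc_a_rc_2_2 lc_a_rc_3_2 lc_a_rc_2_2 lc_a_rc_2_0 lc_a_rc_1_0) (@D3.rec (fun _ => (Cert rels S Gen.a)) lc_a_rc_3_2 lc_a_rc_8_2 lc_a_rc_3_2 lc_a_rc_1_2 lc_a_rc_3_2 lc_a_rc_1_2 lc_a_rc_1_2 lc_a_rc_6_2 lc_a_rc_2_2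 lc_a_rc_3_2 lc_a_rc_46_49 lc_a_rc_2_2 lc_a_rc_46_35 lc_a_rc_5_2 lc_a_rc_3_2 lc_a_rc_3_2 lc_a_rc_3_2 lc_a_Cert_tree) (@D3.rec (fun _ => (Cert rels S Gen.a)) lc_a_rc_1_0 lc_a_rc_2_2 lc_a_rc_3_2 lc_a_rc_3_2 lc_a_rc_5_2 lc_a_rc_1_2 lc_a_rc_0_1 lc_a_rc_7_2 lc_a_rc_2_2 lc_a_rc_0_0 lc_a_rc_8_2 lc_a_rc_8_2 lc_a_rc_0_0 lc_a_Cert_tree lc_a_rc_8_2 lc_a_rc_0_0 lc_a_rc_3_2 lc_a_rc_46_35) (@D3.rec (fun _ => (Cert rels S Gen.a)) lc_a_rc_2_2 lc_a_rc_5_2 lc_a_rc_8_2 lc_a_rc_6_2 lc_a_rc_3_2 lc_a_rc_5_2 lc_a_rc_3_0 lc_a_rc_8_2 lc_a_rc_2_2 lc_a_rc_2_2 lc_a_rc_2_2 lc_a_rc_3_2 lc_a_rc_5_2 lc_a_rc_7_0 lc_a_rc_5_2 lc_a_rc_5_0 lc_a_rc_1_2 lc_a_rc_1_2) (@D3.rec (fun _ => (Cert rels S Gen.a)) lc_a_rc_3_2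 lc_a_rc_2_2 lc_a_rc_4_2 lc_a_rc_3_2 lc_a_rc_3_2 lc_a_rc_8_2 lc_a_rc_8_2 lc_a_rc_3_2 lc_a_rc_3_2 lc_a_rc_6_2 lc_a_rc_4_2 lc_a_rc_5_2 lc_a_rc_3_2 lc_a_rc_3_2 lc_a_rc_2_2 lc_a_rc_4_2 lc_a_Cert_tree lc_a_rc_2_2) (@D3.rec (fun _ => (Cert rels S Gen.a)) lc_a_rc_5_2 lc_a_rc_5_2 lc_a_rc_3_2 lc_a_rc_2_2 lc_a_rc_3_0 lc_a_rc_3_2 lc_a_rc_3_2 lc_a_rc_2_2 lc_a_rc_3_2 lc_a_rc_5_2 lc_a_rc_1_2 lc_a_rc_1_2 lc_a_rc_1_2 lc_a_rc_3_2 lc_a_rc_1_2 lc_a_rc_46_42 lc_a_rc_3_2 lc_a_rc_3_2) (@D3.rec (fun _ => (Cert rels S Gen.a)) lc_a_rc_5_2 lc_a_rc_2_2 lc_a_rc_2_2 lc_a_rc_3_2 lc_a_rc_2_2 lc_a_rc_2_2 lc_a_rc_4_2 lc_a_rc_3_2 lc_a_rc_6_2 lc_a_rc_4_2 lc_a_rc_5_2 lc_a_rc_6_2 lc_a_rc_8_2 lc_a_rc_2_2 lc_a_rc_3_2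 lc_a_rc_5_2 lc_a_rc_5_2 lc_a_rc_8_2) (@D3.rec (fun _ => (Cert rels S Gen.a)) lc_a_rc_2_2 lc_a_rc_3_2 lc_a_rc_2_2 lc_a_rc_2_2 lc_a_rc_4_2 lc_a_rc_3_2 lc_a_rc_8_2 lc_a_rc_6_2 lc_a_rc_4_2 lc_a_rc_5_2 lc_a_rc_46_49 lc_a_rc_6_2 lc_a_rc_5_2 lc_a_rc_46_35 lc_a_rc_8_2 lc_a_rc_8_2 lc_a_Cert_tree lc_a_rc_2_2) (@D3.rec (fun _ => (Cert rels S Gen.a)) lc_a_rc_5_2 lc_a_rc_4_2 lc_a_rc_6_2 lc_a_rc_46_14 lc_a_rc_2_2 lc_a_rc_5_2 lc_a_rc_0_0 lc_a_rc_8_2 lc_a_rc_2_2 lc_a_rc_46_28 lc_a_rc_1_2 lc_a_rc_3_2 lc_a_rc_46_28 lc_a_rc_2_2 lc_a_rc_5_2 lc_a_rc_5_2 lc_a_rc_8_2 lc_a_rc_3_2)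
def ce_a_10 : D2 → D3 → (Cert rels S Gen.a) := @D2.rec (fun _ => D3 → (Cert rels S Gen.a)) (@D3.rec (fun _ => (Cert rels S Gen.a)) lc_a_rc_2_2 lc_a_rc_4_2 lc_a_rc_3_2 lc_a_rc_5_2 lc_a_rc_2_2 lc_a_rc_6_2 lc_a_rc_4_2 lc_a_rc_3_2 lc_a_rc_3_0 lc_a_rc_4_2 lc_a_rc_5_2 lc_a_rc_0_1 lc_a_rc_3_2 lc_a_rc_5_2 lc_a_rc_1_2 lc_a_rc_1_2 lc_a_rc_1_2 lc_a_rc_1_2) (@D3.rec (fun _ => (Cert rels S Gen.a)) lc_a_rc_1_2 lc_a_rc_5_2 lc_a_rc_8_2 lc_a_rc_3_2 lc_a_rc_2_2 lc_a_rc_2_2 lc_a_rc_4_2 lc_a_rc_3_2 lc_a_rc_4_2 lc_a_rc_3_2 lc_a_rc_4_2 lc_a_rc_5_2 lc_a_rc_2_2 lc_a_rc_5_2 lc_a_rc_8_2 lc_a_rc_46_35 lc_a_rc_8_2 lc_a_rc_4_2) (@D3.rec (fun _ => (Cert rels S Gen.a)) lc_a_rc_3_2 lc_a_Cert_tree lc_a_rc_2_2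 lc_a_rc_2_2 lc_a_rc_4_2 lc_a_rc_4_2 lc_a_rc_5_2 lc_a_rc_6_2 lc_a_rc_4_2 lc_a_rc_5_2 lc_a_rc_3_0 lc_a_rc_3_0 lc_a_rc_5_2 lc_a_rc_8_2 lc_a_rc_3_0 lc_a_rc_0_0 lc_a_rc_8_2 lc_a_rc_7_2) (@D3.rec (fun _ => (Cert rels S Gen.a)) lc_a_rc_8_2 lc_a_rc_4_2 lc_a_rc_46_35 lc_a_rc_2_2 lc_a_rc_5_2 lc_a_rc_5_2 lc_a_rc_5_2 lc_a_rc_3_2 lc_a_rc_8_2 lc_a_rc_1_0 lc_a_rc_3_2 lc_a_rc_3_2 lc_a_rc_3_0 lc_a_rc_2_2 lc_a_rc_5_2 lc_a_rc_5_2 lc_a_rc_0_0 lc_a_rc_8_2) (@D3.rec (fun _ => (Cert rels S Gen.a)) lc_a_rc_2_2 lc_a_rc_1_2 lc_a_rc_1_2 lc_a_rc_5_2 lc_a_rc_8_2 lc_a_rc_2_2 lc_a_rc_3_2 lc_a_rc_2_2 lc_a_rc_2_2 lc_a_rc_4_2 lc_a_rc_3_2 lc_a_rc_4_2 lc_a_rc_8_2 lc_a_rc_2_2 lc_a_rc_3_2 lc_a_rc_2_2 lc_a_rc_5_2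 lc_a_rc_2_2) (@D3.rec (fun _ => (Cert rels S Gen.a)) lc_a_rc_8_2 lc_a_rc_3_2 lc_a_rc_2_2 lc_a_rc_2_2 lc_a_rc_3_2 lc_a_Cert_tree lc_a_rc_2_2 lc_a_rc_2_2 lc_a_rc_1_2 lc_a_rc_4_2 lc_a_rc_5_2 lc_a_rc_46_49 lc_a_rc_5_2 lc_a_rc_8_2 lc_a_rc_2_2 lc_a_rc_5_2 lc_a_rc_0_0 lc_a_rc_8_2) (@D3.rec (fun _ => (Cert rels S Gen.a)) lc_a_rc_2_2 lc_a_rc_8_2 lc_a_rc_5_2 lc_a_rc_3_2 lc_a_rc_3_2 lc_a_rc_3_2 lc_a_rc_3_2 lc_a_rc_8_2 lc_a_rc_1_2 lc_a_rc_5_2 lc_a_rc_46_35 lc_a_rc_2_2 lc_a_rc_5_2 lc_a_rc_1_4 lc_a_Cert_tree lc_a_rc_46_42 lc_a_rc_1_0 lc_a_rc_5_2) (@D3.rec (fun _ => (Cert rels S Gen.a)) lc_a_rc_8_2 lc_a_rc_5_2 lc_a_rc_3_2 lc_a_rc_3_2 lc_a_rc_5_2 lc_a_rc_0_0 lc_a_rc_46_35 lc_a_rc_8_2 lc_a_rc_2_2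 lc_a_rc_2_2 lc_a_rc_2_2 lc_a_rc_3_2 lc_a_rc_5_2 lc_a_rc_1_2 lc_a_rc_0_0 lc_a_rc_0_0 lc_a_rc_8_2 lc_a_rc_5_2) (@D3.rec (fun _ => (Cert rels S Gen.a)) lc_a_rc_1_4 lc_a_rc_2_2 lc_a_rc_0_1 lc_a_rc_5_2 lc_a_rc_6_2 lc_a_rc_8_2 lc_a_rc_5_2 lc_a_rc_2_2 lc_a_rc_2_2 lc_a_rc_5_2 lc_a_rc_5_0 lc_a_rc_2_2 lc_a_rc_1_2 lc_a_rc_1_2 lc_a_rc_3_2 lc_a_rc_6_2 lc_a_rc_4_2 lc_a_rc_5_2) (@D3.rec (fun _ => (Cert rels S Gen.a)) lc_a_rc_3_2 lc_a_rc_0_0 lc_a_rc_8_2 lc_a_rc_5_2 lc_a_rc_46_42 lc_a_rc_6_2 lc_a_rc_5_2 lc_a_rc_46_56 lc_a_rc_8_2 lc_a_rc_5_2 lc_a_rc_46_28 lc_a_rc_2_2 lc_a_rc_5_2 lc_a_rc_0_0 lc_a_rc_8_2 lc_a_rc_2_2 lc_a_rc_5_2 lc_a_rc_5_2) (@D3.rec (fun _ => (Cert rels S Gen.a)) lc_a_rc_2_2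 lc_a_rc_4_2 lc_a_rc_3_2 lc_a_rc_3_0 lc_a_rc_3_2 lc_a_rc_2_2 lc_a_rc_5_2 lc_a_rc_1_2 lc_a_rc_1_2 lc_a_rc_1_2 lc_a_rc_1_2 lc_a_rc_3_0 lc_a_rc_3_2 lc_a_rc_2_2 lc_a_rc_5_2 lc_a_rc_5_2 lc_a_rc_5_2 lc_a_rc_8_2) (@D3.rec (fun _ => (Cert rels S Gen.a)) lc_a_rc_2_2 lc_a_rc_3_2 lc_a_rc_2_2 lc_a_rc_2_2 lc_a_rc_4_2 lc_a_rc_3_2 lc_a_rc_6_2 lc_a_rc_4_2 lc_a_rc_5_2 lc_a_rc_6_2 lc_a_rc_5_2 lc_a_rc_8_2 lc_a_rc_2_2 lc_a_rc_5_2 lc_a_rc_5_2 lc_a_rc_8_2 lc_a_rc_2_2 lc_a_rc_5_2) (@D3.rec (fun _ => (Cert rels S Gen.a)) lc_a_rc_8_2 lc_a_rc_3_2 lc_a_rc_2_2 lc_a_rc_3_2 lc_a_Cert_tree lc_a_rc_2_2 lc_a_rc_6_2 lc_a_rc_4_2 lc_a_rc_5_2 lc_a_rc_5_2 lc_a_rc_3_0 lc_a_rc_6_2 lc_a_rc_5_2 lc_a_rc_1_2 lc_a_rc_6_2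 lc_a_rc_8_2 lc_a_rc_5_2 lc_a_rc_0_0) (@D3.rec (fun _ => (Cert rels S Gen.a)) lc_a_rc_8_2 lc_a_rc_2_2 lc_a_rc_4_2 lc_a_rc_6_2 lc_a_rc_8_2 lc_a_rc_2_2 lc_a_rc_8_2 lc_a_rc_5_2 lc_a_rc_1_2 lc_a_rc_5_2 lc_a_rc_2_2 lc_a_rc_2_2 lc_a_rc_1_2 lc_a_rc_5_2 lc_a_rc_4_2 lc_a_rc_3_2 lc_a_rc_4_2 lc_a_rc_5_2) (@D3.rec (fun _ => (Cert rels S Gen.a)) lc_a_rc_2_2 lc_a_rc_6_2 lc_a_rc_1_2 lc_a_rc_4_2 lc_a_rc_5_2 lc_a_rc_3_0 lc_a_rc_5_2 lc_a_rc_1_2 lc_a_rc_5_2 lc_a_rc_3_2 lc_a_rc_1_2 lc_a_rc_1_2 lc_a_rc_1_2 lc_a_rc_2_2 lc_a_rc_1_2 lc_a_rc_5_2 lc_a_rc_8_2 lc_a_rc_4_2)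
def ce_a_11 : D2 → D3 → (Cert rels S Gen.a) := @D2.rec (fun _ => D3 → (Cert rels S Gen.a)) (@D3.rec (fun _ => (Cert rels S Gen.a)) lc_a_rc_3_2 lc_a_rc_2_2 lc_a_rc_2_2 lc_a_rc_4_2 lc_a_rc_5_2 lc_a_rc_6_2 lc_a_rc_4_2 lc_a_rc_5_2 lc_a_rc_5_2 lc_a_rc_5_2 lc_a_rc_8_2 lc_a_rc_8_2 lc_a_rc_46_42 lc_a_rc_1_0 lc_a_rc_6_2 lc_a_rc_4_2 lc_a_rc_5_2 lc_a_rc_0_0) (@D3.rec (fun _ => (Cert rels S Gen.a)) lc_a_rc_46_56 lc_a_rc_8_2 lc_a_rc_2_2 lc_a_rc_2_2 lc_a_rc_2_2 lc_a_rc_0_0 lc_a_rc_4_2 lc_a_rc_5_2 lc_a_rc_6_2 lc_a_rc_6_2 lc_a_rc_5_2 lc_a_rc_8_2 lc_a_rc_4_2 lc_a_rc_3_2 lc_a_rc_5_2 lc_a_rc_8_2 lc_a_rc_5_2 lc_a_rc_2_2) (@D3.rec (fun _ => (Cert rels S Gen.a)) lc_a_rc_2_2 lc_a_rc_8_2 lc_a_rc_3_2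 lc_a_rc_46_28 lc_a_rc_2_2 lc_a_rc_5_2 lc_a_rc_5_2 lc_a_rc_8_2 lc_a_rc_2_2 lc_a_rc_8_2 lc_a_rc_5_2 lc_a_rc_1_2 lc_a_rc_2_2 lc_a_rc_8_2 lc_a_rc_3_2 lc_a_rc_2_2 lc_a_rc_2_2 lc_a_rc_3_2) (@D3.rec (fun _ => (Cert rels S Gen.a)) lc_a_rc_2_2 lc_a_rc_2_2 lc_a_rc_4_2 lc_a_rc_5_2 lc_a_rc_2_2 lc_a_rc_5_2 lc_a_rc_2_2 lc_a_rc_46_35 lc_a_rc_2_2 lc_a_rc_8_2 lc_a_rc_4_2 lc_a_rc_3_2 lc_a_rc_2_2 lc_a_rc_5_2 lc_a_rc_0_0 lc_a_rc_46_42 lc_a_rc_8_2 lc_a_rc_4_2) (@D3.rec (fun _ => (Cert rels S Gen.a)) lc_a_rc_2_2 lc_a_rc_2_2 lc_a_rc_46_35 lc_a_rc_1_2 lc_a_rc_5_2 lc_a_rc_1_2 lc_a_rc_2_2 lc_a_rc_8_2 lc_a_rc_5_2 lc_a_rc_3_2 lc_a_rc_5_2 lc_a_rc_5_2 lc_a_rc_5_2 lc_a_rc_5_2 lc_a_rc_8_2 lc_a_rc_4_0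 lc_a_rc_1_2 lc_a_rc_1_4) (@D3.rec (fun _ => (Cert rels S Gen.a)) lc_a_rc_2_2 lc_a_rc_0_0 lc_a_rc_5_2 lc_a_rc_8_2 lc_a_rc_2_2 lc_a_rc_1_0 lc_a_rc_2_2 lc_a_rc_8_2 lc_a_rc_8_2 lc_a_rc_3_2 lc_a_rc_5_2 lc_a_rc_8_2 lc_a_rc_5_0 lc_a_rc_8_2 lc_a_rc_5_2 lc_a_rc_2_2 lc_a_rc_2_2 lc_a_rc_5_2) (@D3.rec (fun _ => (Cert rels S Gen.a)) lc_a_rc_8_2 lc_a_rc_5_2 lc_a_rc_3_0 lc_a_rc_8_2 lc_a_rc_5_2 lc_a_rc_2_2 lc_a_rc_3_2 lc_a_rc_2_2 lc_a_rc_1_2 lc_a_rc_1_2 lc_a_rc_5_2 lc_a_rc_6_2 lc_a_rc_5_2 lc_a_rc_5_2 lc_a_rc_8_2 lc_a_rc_4_2 lc_a_rc_2_2 lc_a_rc_6_2) (@D3.rec (fun _ => (Cert rels S Gen.a)) lc_a_rc_3_2 lc_a_rc_1_2 lc_a_rc_5_2 lc_a_rc_2_2 lc_a_rc_2_2 lc_a_rc_8_2 lc_a_rc_5_2 lc_a_rc_3_2 lc_a_rc_2_2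 lc_a_rc_5_2 lc_a_rc_8_2 lc_a_rc_2_2 lc_a_rc_2_2 lc_a_rc_4_2 lc_a_rc_5_2 lc_a_rc_4_2 lc_a_rc_2_2 lc_a_rc_1_2) (@D3.rec (fun _ => (Cert rels S Gen.a)) lc_a_rc_1_2 lc_a_rc_2_2 lc_a_rc_1_2 lc_a_rc_1_2 lc_a_rc_3_0 lc_a_rc_5_2 lc_a_rc_2_2 lc_a_rc_5_2 lc_a_rc_8_2 lc_a_rc_2_2 lc_a_rc_5_2 lc_a_rc_8_2 lc_a_rc_3_2 lc_a_rc_2_2 lc_a_rc_3_2 lc_a_rc_2_2 lc_a_rc_6_2 lc_a_rc_4_2) (@D3.rec (fun _ => (Cert rels S Gen.a)) lc_a_rc_5_2 lc_a_rc_6_2 lc_a_rc_5_2 lc_a_rc_6_2 lc_a_rc_2_2 lc_a_rc_8_2 lc_a_rc_6_0 lc_a_rc_2_2 lc_a_rc_4_2 lc_a_rc_8_2 lc_a_rc_8_2 lc_a_rc_4_2 lc_a_rc_3_2 lc_a_rc_5_2 lc_a_rc_0_0 lc_a_rc_8_2 lc_a_rc_2_2 lc_a_rc_0_0) (@D3.rec (fun _ => (Cert rels S Gen.a)) lc_a_rc_6_2 lc_a_rc_5_2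 lc_a_rc_8_2 lc_a_rc_6_2 lc_a_rc_3_2 lc_a_rc_5_2 lc_a_rc_5_2 lc_a_rc_8_2 lc_a_rc_5_2 lc_a_rc_3_2 lc_a_rc_4_2 lc_a_rc_5_2 lc_a_rc_5_2 lc_a_rc_1_2 lc_a_rc_5_2 lc_a_rc_3_2 lc_a_rc_1_2 lc_a_rc_4_2) (@D3.rec (fun _ => (Cert rels S Gen.a)) lc_a_rc_5_2 lc_a_rc_5_2 lc_a_rc_8_2 lc_a_rc_2_2 lc_a_rc_1_2 lc_a_rc_5_2 lc_a_rc_5_2 lc_a_rc_3_2 lc_a_rc_5_2 lc_a_rc_3_2 lc_a_rc_1_2 lc_a_rc_2_2 lc_a_rc_1_2 lc_a_rc_8_2 lc_a_rc_8_2 lc_a_rc_6_2 lc_a_rc_4_2 lc_a_rc_5_2) (@D3.rec (fun _ => (Cert rels S Gen.a)) lc_a_rc_2_2 lc_a_rc_2_2 lc_a_rc_5_2 lc_a_rc_6_2 lc_a_rc_5_2 lc_a_rc_3_2 lc_a_rc_5_2 lc_a_rc_8_2 lc_a_rc_8_2 lc_a_rc_1_0 lc_a_rc_2_2 lc_a_rc_5_2 lc_a_rc_6_2 lc_a_rc_5_2 lc_a_rc_8_2 lc_a_rc_5_0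 lc_a_rc_8_2 lc_a_rc_5_2) (@D3.rec (fun _ => (Cert rels S Gen.a)) lc_a_rc_0_0 lc_a_rc_2_2 lc_a_rc_2_2 lc_a_rc_8_2 lc_a_rc_5_2 lc_a_rc_3_2 lc_a_rc_8_2 lc_a_rc_6_2 lc_a_rc_3_2 lc_a_rc_5_2 lc_a_rc_5_0 lc_a_rc_2_2 lc_a_rc_5_2 lc_a_rc_3_2 lc_a_rc_8_2 lc_a_rc_5_2 lc_a_rc_8_2 lc_a_rc_2_2) (@D3.rec (fun _ => (Cert rels S Gen.a)) lc_a_rc_5_2 lc_a_rc_3_2 lc_a_rc_5_2 lc_a_rc_1_2 lc_a_rc_2_2 lc_a_rc_8_2 lc_a_rc_3_2 lc_a_rc_2_2 lc_a_rc_5_2 lc_a_rc_2_2 lc_a_rc_2_2 lc_a_rc_5_2 lc_a_rc_2_2 lc_a_rc_3_2 lc_a_rc_8_2 lc_a_rc_2_2 lc_a_rc_4_2 lc_a_rc_5_2)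
def ce_a_12 : D2 → D3 → (Cert rels S Gen.a) := @D2.rec (fun _ => D3 → (Cert rels S Gen.a)) (@D3.rec (fun _ => (Cert rels S Gen.a)) lc_a_rc_2_2 lc_a_rc_8_2 lc_a_rc_8_2 lc_a_rc_5_2 lc_a_rc_4_2 lc_a_rc_2_2 lc_a_rc_3_2 lc_a_rc_1_2 lc_a_rc_1_2 lc_a_rc_2_2 lc_a_rc_5_2 lc_a_rc_2_2 lc_a_rc_46_49 lc_a_rc_4_2 lc_a_rc_2_2 lc_a_rc_8_2 lc_a_rc_8_2 lc_a_rc_5_2) (@D3.rec (fun _ => (Cert rels S Gen.a)) lc_a_rc_2_2 lc_a_rc_2_2 lc_a_rc_8_2 lc_a_rc_5_2 lc_a_rc_5_2 lc_a_rc_8_2 lc_a_rc_5_2 lc_a_rc_2_2 lc_a_rc_3_2 lc_a_rc_5_2 lc_a_rc_8_2 lc_a_rc_3_2 lc_a_rc_2_2 lc_a_rc_1_2 lc_a_rc_6_2 lc_a_rc_3_2 lc_a_rc_5_2 lc_a_rc_5_2) (@D3.rec (fun _ => (Cert rels S Gen.a)) lc_a_rc_3_2 lc_a_rc_3_2 lc_a_rc_2_2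 lc_a_rc_4_2 lc_a_rc_3_2 lc_a_rc_5_2 lc_a_rc_4_2 lc_a_rc_4_2 lc_a_rc_2_2 lc_a_rc_8_2 lc_a_rc_8_2 lc_a_rc_2_2 lc_a_rc_2_2 lc_a_rc_5_2 lc_a_rc_5_0 lc_a_rc_3_2 lc_a_rc_1_2 lc_a_rc_2_2) (@D3.rec (fun _ => (Cert rels S Gen.a)) lc_a_rc_1_2 lc_a_rc_1_2 lc_a_rc_5_2 lc_a_rc_8_2 lc_a_rc_2_2 lc_a_rc_8_2 lc_a_rc_8_2 lc_a_rc_3_2 lc_a_rc_5_2 lc_a_rc_2_2 lc_a_rc_6_2 lc_a_rc_5_2 lc_a_rc_6_2 lc_a_rc_3_2 lc_a_rc_3_2 lc_a_rc_8_2 lc_a_rc_0_0 lc_a_rc_2_2) (@D3.rec (fun _ => (Cert rels S Gen.a)) lc_a_rc_4_2 lc_a_rc_8_2 lc_a_rc_4_2 lc_a_rc_5_2 lc_a_rc_8_2 lc_a_rc_5_2 lc_a_rc_3_2 lc_a_rc_8_2 lc_a_rc_6_2 lc_a_rc_3_2 lc_a_rc_5_2 lc_a_rc_3_2 lc_a_rc_5_0 lc_a_rc_5_2 lc_a_rc_3_2 lc_a_rc_5_0 lc_a_rc_6_2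 lc_a_rc_1_2) (@D3.rec (fun _ => (Cert rels S Gen.a)) lc_a_rc_5_2 lc_a_rc_3_2 lc_a_rc_2_2 lc_a_rc_1_2 lc_a_rc_3_2 lc_a_rc_5_0 lc_a_rc_5_0 lc_a_rc_5_2 lc_a_rc_1_2 lc_a_rc_2_2 lc_a_rc_8_2 lc_a_rc_6_2 lc_a_rc_5_2 lc_a_rc_2_2 lc_a_rc_3_2 lc_a_rc_6_2 lc_a_rc_3_2 lc_a_rc_2_2) (@D3.rec (fun _ => (Cert rels S Gen.a)) lc_a_rc_8_2 lc_a_rc_8_2 lc_a_rc_3_2 lc_a_rc_2_2 lc_a_rc_8_2 lc_a_rc_6_2 lc_a_rc_3_2 lc_a_rc_5_2 lc_a_rc_0_0 lc_a_rc_5_2 lc_a_rc_8_2 lc_a_rc_2_2 lc_a_rc_3_2 lc_a_rc_5_2 lc_a_rc_3_2 lc_a_rc_2_2 lc_a_rc_5_2 lc_a_rc_0_1) (@D3.rec (fun _ => (Cert rels S Gen.a)) lc_a_rc_46_42 lc_a_rc_2_2 lc_a_rc_46_28 lc_a_rc_46_14 lc_a_rc_2_2 lc_a_rc_3_2 lc_a_rc_1_4 lc_a_rc_2_2 lc_a_rc_5_2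 lc_a_rc_2_2 lc_a_rc_2_2 lc_a_rc_3_2 lc_a_rc_5_2 lc_a_rc_3_2 lc_a_rc_5_2 lc_a_rc_2_2 lc_a_rc_5_2 lc_a_rc_3_0) (@D3.rec (fun _ => (Cert rels S Gen.a)) lc_a_rc_3_2 lc_a_rc_5_2 lc_a_rc_3_2 lc_a_rc_46_14 lc_a_rc_2_0 lc_a_rc_2_0 lc_a_rc_5_2 lc_a_rc_5_2 lc_a_rc_2_2 lc_a_rc_3_2 lc_a_rc_5_2 lc_a_rc_4_2 lc_a_rc_3_2 lc_a_rc_6_2 lc_a_rc_46_42 lc_a_rc_3_2 lc_a_rc_1_2 lc_a_rc_3_2) (@D3.rec (fun _ => (Cert rels S Gen.a)) lc_a_rc_46_14 lc_a_rc_6_2 lc_a_rc_5_0 lc_a_rc_2_2 lc_a_rc_8_2 lc_a_rc_2_2 lc_a_rc_3_2 lc_a_rc_3_2 lc_a_rc_2_2 lc_a_rc_46_56 lc_a_rc_1_2 lc_a_rc_2_2 lc_a_rc_1_2 lc_a_rc_5_0 lc_a_rc_8_2 lc_a_rc_2_2 lc_a_rc_8_2 lc_a_rc_5_2) (@D3.rec (fun _ => (Cert rels S Gen.a)) lc_a_rc_3_2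 lc_a_rc_6_2 lc_a_rc_3_2 lc_a_rc_3_2 lc_a_rc_4_2 lc_a_rc_3_2 lc_a_rc_5_2 lc_a_rc_3_2 lc_a_rc_5_2 lc_a_rc_5_2 lc_a_rc_3_2 lc_a_rc_46_28 lc_a_rc_2_0 lc_a_rc_3_2 lc_a_rc_5_2 lc_a_rc_1_2 lc_a_rc_6_2 lc_a_rc_46_28) (@D3.rec (fun _ => (Cert rels S Gen.a)) lc_a_rc_8_0 lc_a_rc_3_2 lc_a_rc_5_0 lc_a_rc_3_2 lc_a_rc_2_2 lc_a_rc_3_2 lc_a_rc_3_2 lc_a_rc_6_2 lc_a_rc_3_2 lc_a_rc_3_2 lc_a_rc_2_2 lc_a_rc_5_2 lc_a_rc_3_2 lc_a_rc_2_2 lc_a_rc_3_2 lc_a_rc_4_2 lc_a_rc_46_28 lc_a_rc_46_14) (@D3.rec (fun _ => (Cert rels S Gen.a)) lc_a_rc_1_4 lc_a_rc_0_1 lc_a_rc_5_2 lc_a_rc_3_2 lc_a_rc_2_2 lc_a_rc_2_2 lc_a_rc_46_56 lc_a_rc_46_28 lc_a_rc_0_1 lc_a_rc_46_42 lc_a_rc_3_2 lc_a_rc_3_2 lc_a_rc_3_2 lc_a_rc_3_2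 lc_a_rc_5_2 lc_a_rc_2_2 lc_a_rc_46_28 lc_a_rc_3_2) (@D3.rec (fun _ => (Cert rels S Gen.a)) lc_a_rc_46_14 lc_a_rc_46_35 lc_a_rc_3_2 lc_a_rc_3_2 lc_a_rc_3_2 lc_a_rc_46_14 lc_a_rc_2_2 lc_a_rc_46_28 lc_a_rc_3_2 lc_a_rc_3_2 lc_a_rc_3_2 lc_a_rc_3_2 lc_a_rc_3_2 lc_a_rc_46_42 lc_a_rc_8_2 lc_a_rc_3_2 lc_a_rc_5_0 lc_a_rc_3_2) (@D3.rec (fun _ => (Cert rels S Gen.a)) lc_a_rc_3_2 lc_a_rc_46_42 lc_a_rc_6_2 lc_a_rc_46_21 lc_a_rc_2_2 lc_a_rc_2_2 lc_a_rc_2_2 lc_a_rc_46_35 lc_a_rc_46_28 lc_a_rc_0_1 lc_a_rc_1_2 lc_a_rc_4_2 lc_a_rc_46_21 lc_a_rc_46_21 lc_a_rc_2_2 lc_a_rc_46_49 lc_a_rc_4_2 lc_a_rc_46_14)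
def ce_a : Pt → (Cert rels S Gen.a) := @Pt.rec (fun _ => (Cert rels S Gen.a)) (@D1.rec (fun _ => D2 → D3 → (Cert rels S Gen.a)) ce_a_0 ce_a_1 ce_a_2 ce_a_3 ce_a_4 ce_a_5 ce_a_6 ce_a_7 ce_a_8 ce_a_9 ce_a_10 ce_a_11 ce_a_12)

end

end Cfsg.Agent.Helper28.S1687
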