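import Cfsg.Agent.Lib.Helper28.S1687.Model

set_option autoImplicit false
set_option maxRecDepth 100000

namespace Cfsg.Agent.Helper28.S1687

open Cfsg.Agent.Helper28
open Cfsg.Spor.Fi22 (Gen)

theorem relchk_4 : chkWordF allPts beqPt relF_4 = true := by decide +kernel
theorem relchk_7 : chkWordF allPts beqPt relF_7 = true := by decide +kernel
theorem relchk_12 : chkWordF allPts beqPt relF_12 = true := by decide +kernel
theorem relchk_15 : chkWordF allPts beqPt relF_15 = true := by decide +kernel
theorem relchk_17 : chkWordF allPts beqPt relF_17 = true := by decide +kernel
theorem relchk_20 : chkWordF allPts beqPt relF_20 = true := by decide +kernel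
theorem relchk_23 : chkWordF allPts beqPt relF_23 = true := by decide +kernel
theorem relchk_29 : chkWordF allPts beqPt relF_29 = true := by decide +kernel
theorem relchk_34 : chkWordF allPts beqPt relF_34 = true := by decide +kernel
theorem relchk_35 : chkWordF allPts beqPt relF_35 = true := by decide +kernel
theorem relchk_41 : chkWordF allPts beqPt relF_41 = true := by decide +kernel
theorem relchk_44 : chkWordF allPts beqPt relF_44 = true := by decide +kernel
theorem relchk_45 : chkWordF allPts beqPt relF_45 = true := by decide +kernel

end Cfsg.Agent.Helper28.S1687
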